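import Cfsg.Agent.Omega.NatPair.Mod
import Mathlib

section


/-!
# Quadratic offenders acting semilinearly on `F²`, abstract form

`A` acts on `F²` by additive semilinear maps, quadratically and not trivially, `|F² : Fix| ≤ |A : K|` (`K` the
kernel, `Fix` the fixed vectors): then `A` induces exactly the transvections with axis a line `F w`, and
`Fix = F w`, `|A : K| = |F|`.
-/

set_option autoImplicit false

namespace Cfsg.Agent.Omega.HOne.QuadAbs

open Subgroup Cfsg.Agent.Lib.SL2Mat Cfsg.Agent.Omega.NatPair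

variable {A : Type*} [Group A] {F : Type*} [Field F]

/-- An action of `A` on `F²` by additive semilinear maps. -/
structure Act (act : A → (Fin 2 → F) → (Fin 2 → F)) : Prop where
  mul : ∀ a b x, act (a * b) x = act a (act b x)
  one : ∀ x, act 1 x = x
  add : ∀ a x y, act a (x + y) = act a x + act a y
  semi : ∀ a, ∃ s : F ≃+* F, ∀ (c : F) x, act a (c • x) = s c • act a x

namespace Act

variable {act : A → (Fin 2 → F) → (Fin 2 → F)} (h : Act act)
include h

theorem inv_act (a : A) (x : Fin 2 → F) : act a⁻¹ (act a x) = x := by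
  rw [← h.mul, inv_mul_cancel, h.one]

theorem act_inv (a : A) (x : Fin 2 → F) : act a (act a⁻¹ x) = x := by
  rw [← h.mul, mul_inv_cancel, h.one]

theorem zero (a : A) : act a 0 = 0 := by
  have := h.add a 0 0
  rw [add_zero] at this
  exact left_eq_add.1 this

theorem sub (a : A) (x y : Fin 2 → F) : act a (x - y) = act a x - act a y := by
  have := h.add a (x - y) y
  rw [sub_add_cancel] at this
  rw [this, add_sub_cancel_right]

theorem ne_zero {a : A} {x : Fin 2 → F} (hx : x ≠ 0) : act a x ≠ 0 := by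
  intro h0
  apply hx
  rw [← h.inv_act a x, h0, h.zero]

/-- the kernel -/
def ker (h : Act act) : Subgroup A where
  carrier := {a | ∀ x, act a x = x}
  mul_mem' := by
    intro a b ha hb x
    rw [h.mul, hb, ha]
  one_mem' := h.one
  inv_mem' := by
    intro a ha x
    nth_rewrite 1 [← ha x]
    exact h.inv_act a x

theorem mem_ker {a : A} : a ∈ h.ker ↔ ∀ x, act a x = x := Iff.rfl

/-- the field automorphism of `a` -/
noncomputable def sg (h : Act act) (a : A) : F ≃+* F := (h.semi a).choose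

theorem sg_spec (a : A) (c : F) (x : Fin 2 → F) : act a (c • x) = h.sg a c • act a x :=
  (h.semi a).choose_spec c x

theorem sg_eq {a : A} {s : F ≃+* F} (hs : ∀ (c : F) x, act a (c • x) = s c • act a x) : h.sg a = s := by
  ext c
  have hw : (![1, 0] : Fin 2 → F) ≠ 0 := by
    intro h
    have := congrFun h 0
    simp at this
  have h1 := h.sg_spec a c ![1, 0]
  rw [hs] at h1
  exact (smul_left_injective F (h.ne_zero (a := a) hw) h1).symm

/-- the homomorphism `A → Aut F` -/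
noncomputable def sgHom (h : Act act) : A →* RingAut F where
  toFun := h.sg
  map_one' := by
    apply h.sg_eq
    intro c x
    show act 1 (c • x) = c • act 1 x
    rw [h.one, h.one]
  map_mul' a b := by
    apply h.sg_eq
    intro c x
    show act (a * b) (c • x) = h.sg a (h.sg b c) • act (a * b) x
    rw [h.mul, h.mul, h.sg_spec, h.sg_spec]

/-- an element with nontrivial field automorphism fixes at most `q` vectors -/
theorem card_fix_le [Finite F] {a : A} {s : F ≃+* F}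
    (hs : ∀ (c : F) x, act a (c • x) = s c • act a x) {c : F} (hc : s c ≠ c) {X : Set (Fin 2 → F)}
    (hX : ∀ x ∈ X, act a x = x) : Nat.card X ≤ Nat.card F := by
  have hinj : Function.Injective (fun p : X × X => (p.1.1 + c • p.2.1 : Fin 2 → F)) := by
    rintro ⟨⟨x, hx⟩, ⟨y, hy⟩⟩ ⟨⟨x', hx'⟩, ⟨y', hy'⟩⟩ he
    have h1 : x + c • y = x' + c • y' := he
    have h2 := congrArg (act a) h1
    rw [h.add, h.add, hs, hs, hX x hx, hX y hy, hX x' hx', hX y' hy'] at h2
    have h3 : (s c - c) • (y - y') = 0 := by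
      have e1 : x = x' + c • y' - c • y := by rw [← h1]; abel
      rw [e1] at h2
      have e2 : c • y' - c • y + s c • y = s c • y' := by
        have : x' + (c • y' - c • y + s c • y) = x' + s c • y' := by rw [← h2]; abel
        exact add_left_cancel this
      rw [sub_smul, smul_sub, smul_sub]
      have e3 : s c • y - c • y = s c • y' - c • y' := by
        rw [← e2]; abel
      have e4 : s c • y - s c • y' - (c • y - c • y') = (s c • y - c • y) - (s c • y' - c • y') := by abel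
      rw [e4, e3, sub_self]
    rcases smul_eq_zero.1 h3 with h4 | h4
    · exact absurd (sub_eq_zero.1 h4) hc
    · have h5 : y = y' := sub_eq_zero.1 h4
      subst h5
      have h6 : x = x' := add_right_cancel h1
      subst h6
      rfl
  have h1 := Nat.card_le_card_of_injective _ hinj
  rw [Nat.card_prod] at h1
  have h2 : Nat.card (Fin 2 → F) = Nat.card F * Nat.card F := by simp [Nat.card_fun, pow_two]
  rw [h2] at h1
  by_contra hcon
  push Not at hcon
  have := Nat.mul_lt_mul_of_lt_of_le hcon hcon.le (lt_of_le_of_lt (Nat.zero_le _) hcon)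
  omega

end Act

/-- The conclusion: `A` induces exactly the transvections with axis `F w`. -/
structure Quad (act : A → (Fin 2 → F) → (Fin 2 → F)) (K : Subgroup A) (w : Fin 2 → F) : Prop where
  ne : w ≠ 0
  lin : ∀ a, ∃ B, ap B w = w ∧ ∀ x, act a x = ap B x
  full : ∀ B, ap B w = w → ∃ a, ∀ x, act a x = ap B x
  fix : ∀ x, (∀ a, act a x = x) ↔ ∃ c : F, x = c • w
  comm : ∀ a x, ∃ c : F, act a x - x = c • w
  comm' : ∀ c : F, ∃ a x, act a x - x = c • w
  index : K.index = Nat.card F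
  reg : ∀ a, a ∉ K → ∀ x, act a x = x → ∃ c : F, x = c • w

/-- **quadratic offenders on `F²`** -/
theorem quad [Finite A] [Finite F] [CharP F 2] {act : A → (Fin 2 → F) → (Fin 2 → F)} (h : Act act)
    (hne : ∃ a x, act a x ≠ x) (hq : ∀ a b x, act b (act a x - x) = act a x - x)
    (hoff : Nat.card F ^ 2 ≤ h.ker.index * Nat.card {x : Fin 2 → F // ∀ a, act a x = x}) :
    ∃ w, Quad act h.ker w := by
  have hcardpos : 0 < Nat.card F := Nat.card_pos
  by_cases hlin : ∃ a, (∃ x, act a x ≠ x) ∧ ∀ (c : F) x, act a (c • x) = c • act a x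
  · obtain ⟨a, ⟨y, hy⟩, hal⟩ := hlin
    set w := act a y - y with hw
    have hw0 : w ≠ 0 := fun h => hy (sub_eq_zero.1 h)
    have hline : ∀ (c : F), ∀ b, act b (c • w) = c • w := by
      intro c b
      have h1 := hq a b (c • y)
      rwa [hal, ← smul_sub, ← hw] at h1
    have hfix1 : ∀ b, act b w = w := by
      intro b
      have := hline 1 b
      rwa [one_smul] at this
    have hbl : ∀ b, ∀ (c : F) x, act b (c • x) = c • act b x := by
      intro b c x
      obtain ⟨s, hs⟩ := h.semi b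
      have h1 : ∀ d : F, s d = d := by
        intro d
        have h2 := hline d b
        rw [hs, hfix1 b] at h2
        exact smul_left_injective F hw0 h2
      rw [hs, h1]
    have hfixa : ∀ x, act a x = x → ∃ c : F, x = c • w := by
      intro x hx
      by_contra hcon
      have h1 : dt w x ≠ 0 := fun h => hcon (exists_smul_of_dt hw0 h)
      exact hy (fix_all h1 (act a) (h.add a) hal (hfix1 a) hx y)
    have hcoord0 : ∀ b z, ∃ c : F, act b z - z = c • w := fun b z => hfixa (act b z - z) (hq b a z)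
    have hlin : ∀ b, ∃ B, ap B w = w ∧ ∀ x, act b x = ap B x := by
      intro b
      obtain ⟨B, hB⟩ := exists_of_fix hw0 (act b) (h.add b) (hbl b) (hfix1 b) (hcoord0 b)
      exact ⟨B, by rw [← hB, hfix1 b], hB⟩
    -- the fixed points
    have hfix : ∀ x, (∀ b, act b x = x) ↔ ∃ c : F, x = c • w := by
      intro x
      constructor
      · intro h
        exact hfixa x (h a)
      · rintro ⟨c, rfl⟩ b
        exact hline c b
    have hfc : Nat.card {x : Fin 2 → F // ∀ b, act b x = x} = Nat.card F := by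
      refine (Nat.card_congr (Equiv.ofBijective (fun c : F => (⟨c • w, (hfix _).2 ⟨c, rfl⟩⟩ :
        {x : Fin 2 → F // ∀ b, act b x = x})) ⟨?_, ?_⟩)).symm
      · intro c d hcd
        exact smul_left_injective F hw0 (congrArg Subtype.val hcd)
      · rintro ⟨x, hx⟩
        obtain ⟨c, rfl⟩ := (hfix x).1 hx
        exact ⟨c, rfl⟩
    -- the transvections
    choose τ hτ1 hτ2 using hlin
    obtain ⟨D, hD⟩ := exists_ap_e hw0
    let y₀ : Fin 2 → F := ap D ![0, 1]
    have hy₀ : dt w y₀ ≠ 0 := by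
      have h1 := det_eq D
      rw [← hD]
      show dt (ap D ![1, 0]) (ap D ![0, 1]) ≠ 0
      unfold dt
      rw [ap_zero', ap_zero', ap_one', ap_one']
      simp only [Matrix.cons_val_zero, Matrix.cons_val_one, mul_one, mul_zero, add_zero, zero_add]
      intro h2
      rw [show ent D 0 0 * ent D 1 1 - ent D 1 0 * ent D 0 1 = ent D 0 0 * ent D 1 1 - ent D 0 1 * ent D 1 0 by ring,
        h1] at h2
      exact one_ne_zero h2
    have hmove : ∀ B, ap B w = w → ∃ c : F, ap B y₀ - y₀ = c • w := by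
      intro B hB
      have h1 : dt w (ap B y₀ - y₀) = 0 := by
        have h2 : dt (ap B w) (ap B y₀) = dt w y₀ := by
          unfold dt
          rw [ap_zero', ap_zero', ap_one', ap_one']
          linear_combination (w 0 * y₀ 1 - w 1 * y₀ 0) * det_eq B
        rw [hB] at h2
        unfold dt at h2 ⊢
        rw [Pi.sub_apply, Pi.sub_apply]
        linear_combination h2
      exact exists_smul_of_dt hw0 h1
    have hdet : ∀ B B', ap B w = w → ap B' w = w → ap B y₀ = ap B' y₀ → B = B' := by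
      intro B B' h1 h2 h3
      apply ap_inj
      intro x
      obtain ⟨α, β, rfl⟩ := exists_comb hy₀ x
      rw [ap_add, ap_add, ap_smul, ap_smul, ap_smul, ap_smul, h1, h2, h3]
    have hcv : ∀ b, b ∈ h.ker ↔ act b y₀ = y₀ := by
      intro b
      rw [h.mem_ker]
      constructor
      · intro h
        exact h _
      · intro h0 x
        exact fix_all hy₀ (act b) (h.add b) (hbl b) (hfix1 b) h0 x
    -- the map `A → F`
    have hcoord : ∀ b, ∃ c : F, act b y₀ - y₀ = c • w := fun b => hcoord0 b y₀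
    choose κ hκ using hcoord
    have hKiff : ∀ b b' : A, (QuotientGroup.mk b : A ⧸ h.ker) = QuotientGroup.mk b' ↔ κ b = κ b' := by
      intro b b'
      rw [QuotientGroup.eq, hcv, h.mul]
      have h2 : act b⁻¹ (act b' y₀) = y₀ ↔ act b' y₀ = act b y₀ := by
        constructor
        · intro h0
          have := h.act_inv b (act b' y₀)
          rw [h0] at this
          exact this.symm
        · intro h0
          rw [h0, h.inv_act]
      rw [h2]
      constructor
      · intro h0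
        have e1 := hκ b
        rw [← h0, hκ b'] at e1
        exact (smul_left_injective F hw0 e1).symm
      · intro h0
        have e1 := hκ b
        rw [h0, ← hκ b'] at e1
        exact (sub_left_injective e1).symm
    let κ' : A ⧸ h.ker → F := fun q => κ q.out
    have hκ' : ∀ b : A, κ' (QuotientGroup.mk b) = κ b := by
      intro b
      exact (hKiff _ _).1 (QuotientGroup.out_eq' _)
    have hκinj : Function.Injective κ' := by
      intro q q' h0
      have h1 := (hKiff q.out q'.out).2 h0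
      rwa [QuotientGroup.out_eq', QuotientGroup.out_eq'] at h1
    have hcle : h.ker.index ≤ Nat.card F := Nat.card_le_card_of_injective _ hκinj
    have hceq : h.ker.index = Nat.card F := by
      rw [hfc, pow_two] at hoff
      exact le_antisymm hcle (Nat.le_of_mul_le_mul_right hoff hcardpos)
    have hκbij : Function.Bijective κ' := by
      have : Nat.card (A ⧸ h.ker) = Nat.card F := hceq
      exact (Nat.bijective_iff_injective_and_card _).2 ⟨hκinj, this⟩
    have hsurj : ∀ c : F, ∃ b, act b y₀ - y₀ = c • w := by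
      intro c
      obtain ⟨q, hq'⟩ := hκbij.2 c
      refine ⟨q.out, ?_⟩
      rw [← hq', hκ]
    refine ⟨w, hw0, fun b => ⟨τ b, hτ1 b, hτ2 b⟩, ?_, hfix, hcoord0, ?_, hceq, ?_⟩
    · intro B hB
      obtain ⟨c, hc⟩ := hmove B hB
      obtain ⟨b, hb'⟩ := hsurj c
      refine ⟨b, ?_⟩
      have h1 : τ b = B := by
        apply hdet _ _ (hτ1 b) hB
        rw [← hτ2 b]
        have h2 : act b y₀ - y₀ = ap B y₀ - y₀ := by rw [hb', hc]
        exact sub_left_injective h2
      rw [← h1]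
      exact hτ2 b
    · intro c
      obtain ⟨b, hb'⟩ := hsurj c
      exact ⟨b, y₀, hb'⟩
    · intro b hb x hx
      by_contra hcon
      have h1 : dt w x ≠ 0 := fun h => hcon (exists_smul_of_dt hw0 h)
      exact hb (h.mem_ker.2 (fix_all h1 (act b) (h.add b) (hbl b) (hfix1 b) hx))
  · -- no nontrivial linear element
    exfalso
    push Not at hlin
    obtain ⟨a, x, hax⟩ := hne
    have hfield : ∀ b, ∀ s : F ≃+* F, (∀ (c : F) x, act b (c • x) = s c • act b x) → (∃ x, act b x ≠ x) →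
        ∃ c : F, s c ≠ c := by
      intro b s hs hbx
      by_contra hcon
      push Not at hcon
      obtain ⟨c, x, hcx⟩ := hlin b hbx
      apply hcx
      rw [hs, hcon]
    obtain ⟨s, hs⟩ := h.semi a
    obtain ⟨c, hc⟩ := hfield a s hs ⟨x, hax⟩
    have h2 : Nat.card {x : Fin 2 → F // ∀ a, act a x = x} ≤ Nat.card F := by
      refine h.card_fix_le hs hc (X := {x | ∀ a, act a x = x}) ?_
      intro x hx
      exact hx a
    have h3 : Nat.card F ≤ h.ker.index := by
      by_contra hcon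
      push Not at hcon
      have : h.ker.index * Nat.card {x : Fin 2 → F // ∀ a, act a x = x} < Nat.card F * Nat.card F := by
        calc _ ≤ h.ker.index * Nat.card F := Nat.mul_le_mul_left _ h2
          _ < _ := Nat.mul_lt_mul_of_pos_right hcon hcardpos
      rw [← pow_two] at this
      omega
    have hker : h.sgHom.ker ≤ h.ker := by
      intro b hb
      rw [h.mem_ker]
      intro x
      by_contra hcon
      have hb1 : h.sg b = 1 := hb
      obtain ⟨c, hc⟩ := hfield b (h.sg b) (fun c x => h.sg_spec b c x) ⟨x, hcon⟩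
      apply hc
      rw [hb1]; rfl
    have h4 : h.ker.index ≤ Nat.card (F ≃+* F) := by
      have h5 : h.ker.index ∣ h.sgHom.ker.index := Subgroup.index_dvd_of_le hker
      have h6 : h.sgHom.ker.index ≤ Nat.card (RingAut F) := by
        rw [Subgroup.index_ker]
        have : Finite (RingAut F) := Finite.of_injective (fun e : F ≃+* F => (e : F → F)) DFunLike.coe_injective
        exact Nat.card_le_card_of_injective _ (Subtype.val_injective (p := fun x => x ∈ h.sgHom.range))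
      have h7 : 0 < h.sgHom.ker.index := Nat.pos_of_ne_zero Subgroup.index_ne_zero_of_finite
      exact (Nat.le_of_dvd h7 h5).trans h6
    have h5 := card_ringAut_lt F
    omega

end Cfsg.Agent.Omega.HOne.QuadAbs

end

section


/-!
# II.0h1, `q = 2`, case (beta): the transvection statement (#15959), the setting (H)

`r = r_1`, `t = r_2`, `V = {1, r, t, r t}`; `Q s`, `N s` are equivariant families of subgroups of `G`
(`Q s = O_2(C(s))`, `N s = ⟨z^g : r^g = s⟩`), `ZC Q s = C_G(Q s) = Z(Q s)` for the points `s`;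
`Om M r = r^M` the points, `UU M r = ⟨Om⟩ = U`, `Adj M r t s s'` : `s, s'` are two different points of
a line (the pair is `M`-conjugate to `(r, t)`); the line is `{1, s, s', s s'}`.

`TvH` : the hypotheses at the base pair `(r, t)`.  Below everything is transported to all points / pairs.
-/

set_option autoImplicit false
set_option linter.unusedSectionVars false

namespace Cfsg.Agent.Omega.HOne.TvDef

open Subgroup

variable {G : Type*} [Group G]

/-- `C_G(Q s)` -/
abbrev ZC (Q : G → Subgroup G) (s : G) : Subgroup G := Subgroup.centralizer (Q s : Set G)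

/-- the points `r^M` -/
def Om (M : Subgroup G) (r : G) : Set G := {s | ∃ m ∈ M, m * r * m⁻¹ = s}

/-- `U = ⟨r^M⟩` -/
def UU (M : Subgroup G) (r : G) : Subgroup G := Subgroup.closure (Om M r)

/-- two points of a line -/
def Adj (M : Subgroup G) (r t s s' : G) : Prop := ∃ m ∈ M, m * r * m⁻¹ = s ∧ m * t * m⁻¹ = s'

/-- the hypotheses (H), without (3) -/
structure TvH0 (M : Subgroup G) (r t : G) (Q N : G → Subgroup G) : Prop where
  Qc : ∀ g s x, x ∈ Q s → g * x * g⁻¹ ∈ Q (g * s * g⁻¹)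
  Nc : ∀ g s x, x ∈ N s → g * x * g⁻¹ ∈ N (g * s * g⁻¹)
  r_sq : r * r = 1
  r_ne : r ≠ 1
  t_ne : t ≠ 1
  t_ne_r : t ≠ r
  Q_le : Q r ≤ M
  r_mem : r ∈ Q r
  t_mem : t ∈ Q r
  Q_comm : ∀ x ∈ Q r, ∀ y ∈ Q r, x * y * x⁻¹ * y⁻¹ = 1 ∨ x * y * x⁻¹ * y⁻¹ = r
  Q_sq : ∀ x ∈ Q r, x * x = 1 ∨ x * x = r
  ZC_le : ZC Q r ≤ Q r
  N_le : N r ≤ ZC Q r
  q12 : ∃ q ∈ Q r, q * t * q⁻¹ = r * t
  q21 : ∃ q ∈ Q t, q * r * q⁻¹ = r * t
  /-- `M` is generated by `M ∩ C(r)`, `Q r`, `Q t` -/
  gen : ∀ T : Subgroup G, (∀ m ∈ M, m * r = r * m → m ∈ T) → Q r ≤ T → Q t ≤ T → M ≤ T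
  Qt_le : Q t ≤ M
  /-- `U` is abelian -/
  ab : ∀ m ∈ M, m * r * m⁻¹ * r = r * (m * r * m⁻¹)
  /-- `C_U(N r) ≤ Q r` -/
  UN : ∀ u ∈ UU M r, (∀ n ∈ N r, u * n = n * u) → u ∈ Q r
  /-- `Z r ∩ Q t = R × C_V` -/
  ZQ : ∀ b ∈ ZC Q r, b ∈ Q t → b ∈ ZC Q t ∨ r * b ∈ ZC Q t
  /-- 2-reduced -/
  red : ∀ u ∈ UU M r, (∀ n ∈ N r, u * n * u⁻¹ * n⁻¹ = 1 ∨ u * n * u⁻¹ * n⁻¹ = r) →
    ∀ n ∈ N r, u * n = n * u
  /-- case (beta) -/
  beta : ∃ u ∈ UU M r, u ∉ Q r

/-- the hypotheses (H) -/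
structure TvH (M : Subgroup G) (r t : G) (Q N : G → Subgroup G) : Prop extends TvH0 M r t Q N where
  /-- no parallels, (3) -/
  noPar : ∀ a b, Adj M r t r a → Adj M r t r b → a * b ∈ ZC Q r → b = a ∨ b = r * a

/-! ### the joints -/

/-- the line `⟨s,b⟩` is opposite to the line `⟨s,a⟩` : `N a` moves `b` -/
def Opp (M : Subgroup G) (r t : G) (N : G → Subgroup G) (s a b : G) : Prop :=
  Adj M r t s a ∧ Adj M r t s b ∧ ∃ n ∈ N a, n * b * n⁻¹ ≠ b

/-- JOINT (4), (5): `n b n⁻¹ = a b c`, `c = c(L, L') = c(L', L)` in `C_L ∩ C_L' ∩ C_third`, `c ≠ 1` -/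
def JOpp (M : Subgroup G) (r t : G) (Q N : G → Subgroup G) : Prop :=
  ∀ s a b, Opp M r t N s a b → Opp M r t N s b a ∧ Opp M r t N s (s * a) b ∧ Opp M r t N s a (s * b) ∧
    b ≠ a ∧ b ≠ s * a ∧
    ∃ c, c ≠ 1 ∧ c ∈ UU M r ∧ c ∈ ZC Q s ∧ c ∈ ZC Q a ∧ c ∈ ZC Q b ∧ c ∈ ZC Q (a * b * c) ∧
      Adj M r t s (a * b * c) ∧
      (∀ n ∈ N a, n * b * n⁻¹ = b ∨ n * b * n⁻¹ = a * b * c) ∧
      (∀ n ∈ N b, n * a * n⁻¹ = a ∨ n * a * n⁻¹ = a * b * c)

/-- JOINT (6): different lines on `s` which are not opposite span a totally collinear plane -/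
def JNon (M : Subgroup G) (r t : G) (N : G → Subgroup G) : Prop :=
  ∀ s a b, Adj M r t s a → Adj M r t s b → b ≠ a → b ≠ s * a → ¬ Opp M r t N s a b →
    Adj M r t s (a * b) ∧ Adj M r t a b

/-- all pairs of different lines on a point are opposite -/
def AllOpp (M : Subgroup G) (r t : G) (N : G → Subgroup G) : Prop :=
  ∀ s a b, Adj M r t s a → Adj M r t s b → b ≠ a → b ≠ s * a → Opp M r t N s a b

/-- `e = 1` : `N a` acts on the lines on `s` as a group of order 2 -/
def E1 (M : Subgroup G) (r t : G) (N : G → Subgroup G) : Prop :=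
  ∀ s a b c, Opp M r t N s a b → Opp M r t N s a c → ∀ n ∈ N a, (n * b = b * n ↔ n * c = c * n)

/-- JOINT (7) -/
def JDich (M : Subgroup G) (r t : G) (N : G → Subgroup G) : Prop := AllOpp M r t N ∨ E1 M r t N

/-- JOINT (11): `AllOpp` implies that there are exactly three lines on a point (so `E1`) -/
def JEleven (M : Subgroup G) (r t : G) (Q N : G → Subgroup G) : Prop :=
  AllOpp M r t N → ∀ s a b c, Opp M r t N s a b → Adj M r t s c →
    c = a ∨ c = s * a ∨ c = b ∨ c = s * b ∨ a * b * c ∈ ZC Q s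

/-- JOINT (8): the constant `c_0` -/
def JConst (M : Subgroup G) (r t : G) (Q N : G → Subgroup G) (c : G) : Prop :=
  c ≠ 1 ∧ c ∈ UU M r ∧ (∀ s ∈ Om M r, c ∈ ZC Q s) ∧ (∀ m ∈ M, m * c = c * m) ∧
    ∀ s a b, Opp M r t N s a b → Adj M r t s (a * b * c) ∧
      ∀ n ∈ N a, n * b * n⁻¹ = b ∨ n * b * n⁻¹ = a * b * c

/-- CONCLUSION (14) for the constant `c` : `[U, N r] ≤ ⟨r c⟩`, `|U : U ∩ Q r| = 2`, `|N r : C_{N r}(U)| = 2` -/
def JEnd (M : Subgroup G) (r : G) (Q N : G → Subgroup G) (c : G) : Prop :=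
  (∀ u ∈ UU M r, ∀ n ∈ N r, u * n * u⁻¹ * n⁻¹ = 1 ∨ u * n * u⁻¹ * n⁻¹ = r * c) ∧
  (∀ u ∈ UU M r, ∀ v ∈ UU M r, u ∉ Q r → v ∉ Q r → u * v ∈ Q r) ∧
  (∀ m ∈ N r, ∀ n ∈ N r, (∃ u ∈ UU M r, u * m ≠ m * u) → (∃ u ∈ UU M r, u * n ≠ n * u) →
    ∀ u ∈ UU M r, u * (m * n) = m * n * u)

/-- H-SIDE of (13) (Baer-Suzuki): two transvections of `NN` with the same axis `N0` and different centres
`c, z` fixed by the Sylow group `S` do not exist -/
def HSide (S H NN : Subgroup G) : Prop :=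
  ∀ (N0 : Subgroup G) (n1 u0 u1 c z : G), N0 ≤ NN → n1 ∈ NN → (∀ n ∈ NN, n ∈ N0 ∨ n1 * n ∈ N0) →
    u0 ∈ H → u1 ∈ H → (∀ n ∈ N0, u0 * n = n * u0) → (∀ n ∈ N0, u1 * n = n * u1) →
    u0 * n1 * u0⁻¹ = n1 * c → u1 * n1 * u1⁻¹ = n1 * z → c ∈ N0 → z ∈ N0 →
    (∀ x ∈ S, x * c = c * x) → (∀ x ∈ S, x * z = z * x) → c ≠ 1 → z ≠ 1 → z ≠ c → False

/-- the hypotheses on the Sylow group `S` (only used in (13)) -/
structure TvS (M S : Subgroup G) (r t : G) (N : G → Subgroup G) : Prop where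
  S_le : S ≤ M
  S_p : IsPGroup 2 S
  S_r : ∀ x ∈ S, x * r = r * x
  S_t : ∀ x ∈ S, x * t * x⁻¹ = t ∨ x * t * x⁻¹ = r * t
  N_S : N t ≤ S
  hside : HSide S (Subgroup.centralizer {r}) (N r)

section basic

variable {M : Subgroup G} {r t : G} {Q N : G → Subgroup G}

theorem Om_base : r ∈ Om M r := ⟨1, M.one_mem, by simp⟩

theorem Adj_base : Adj M r t r t := ⟨1, M.one_mem, by simp, by simp⟩

theorem Adj.left {s s' : G} (h : Adj M r t s s') : s ∈ Om M r := by
  obtain ⟨m, hm, h1, -⟩ := h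
  exact ⟨m, hm, h1⟩

theorem Om_conj {m s : G} (hm : m ∈ M) (hs : s ∈ Om M r) : m * s * m⁻¹ ∈ Om M r := by
  obtain ⟨x, hx, rfl⟩ := hs
  exact ⟨m * x, M.mul_mem hm hx, by group⟩

theorem Adj.conj {m s s' : G} (hm : m ∈ M) (h : Adj M r t s s') :
    Adj M r t (m * s * m⁻¹) (m * s' * m⁻¹) := by
  obtain ⟨x, hx, rfl, rfl⟩ := h
  exact ⟨m * x, M.mul_mem hm hx, by group, by group⟩

theorem Om_le_UU {s : G} (hs : s ∈ Om M r) : s ∈ UU M r := Subgroup.subset_closure hs

theorem UU_conj {m u : G} (hm : m ∈ M) (hu : u ∈ UU M r) : m * u * m⁻¹ ∈ UU M r := by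
  unfold UU at hu ⊢
  induction hu using Subgroup.closure_induction with
  | mem x hx => exact Subgroup.subset_closure (Om_conj hm hx)
  | one => simp
  | mul x y _ _ hx hy =>
    have : m * (x * y) * m⁻¹ = (m * x * m⁻¹) * (m * y * m⁻¹) := by group
    rw [this]; exact mul_mem hx hy
  | inv x _ hx =>
    have : m * x⁻¹ * m⁻¹ = (m * x * m⁻¹)⁻¹ := by group
    rw [this]; exact inv_mem hx

theorem UU_comm_mem {m u : G} (hm : m ∈ M) (hu : u ∈ UU M r) : m * u * m⁻¹ * u⁻¹ ∈ UU M r :=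
  mul_mem (UU_conj hm hu) (inv_mem hu)

theorem UU_comm_mem' {m u : G} (hm : m ∈ M) (hu : u ∈ UU M r) : u * m * u⁻¹ * m⁻¹ ∈ UU M r := by
  have : u * m * u⁻¹ * m⁻¹ = u * (m * u⁻¹ * m⁻¹) := by group
  rw [this]; exact mul_mem hu (UU_conj hm (inv_mem hu))

end basic

namespace TvH0

variable {M : Subgroup G} {r t : G} {Q N : G → Subgroup G} (h : TvH0 M r t Q N)
include h

/-! ### the families -/

theorem Q_conj {g s x : G} : g * x * g⁻¹ ∈ Q (g * s * g⁻¹) ↔ x ∈ Q s := by
  refine ⟨fun hx => ?_, h.Qc g s x⟩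
  have := h.Qc g⁻¹ _ _ hx
  simpa [mul_assoc] using this

theorem N_conj {g s x : G} : g * x * g⁻¹ ∈ N (g * s * g⁻¹) ↔ x ∈ N s := by
  refine ⟨fun hx => ?_, h.Nc g s x⟩
  have := h.Nc g⁻¹ _ _ hx
  simpa [mul_assoc] using this

theorem ZC_conj {g s x : G} : g * x * g⁻¹ ∈ ZC Q (g * s * g⁻¹) ↔ x ∈ ZC Q s := by
  have key : ∀ g s x, x ∈ ZC Q s → g * x * g⁻¹ ∈ ZC Q (g * s * g⁻¹) := by
    intro g s x hx
    rw [Subgroup.mem_centralizer_iff] at hx ⊢
    intro q hq
    have h1 : g⁻¹ * q * g ∈ Q s := by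
      have := h.Qc g⁻¹ _ _ hq
      simpa [mul_assoc] using this
    have h2 := hx _ h1
    calc q * (g * x * g⁻¹) = g * ((g⁻¹ * q * g) * x) * g⁻¹ := by group
      _ = g * (x * (g⁻¹ * q * g)) * g⁻¹ := by rw [h2]
      _ = _ := by group
  refine ⟨fun hx => ?_, key g s x⟩
  have := key g⁻¹ _ _ hx
  simpa [mul_assoc] using this

/-- elements commuting with `s` normalise `Q s` -/
theorem Q_fix {g s x : G} (hg : g * s = s * g) : g * x * g⁻¹ ∈ Q s ↔ x ∈ Q s := by
  have e : g * s * g⁻¹ = s := by rw [hg]; group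
  have := h.Q_conj (g := g) (s := s) (x := x)
  rwa [e] at this

theorem N_fix {g s x : G} (hg : g * s = s * g) : g * x * g⁻¹ ∈ N s ↔ x ∈ N s := by
  have e : g * s * g⁻¹ = s := by rw [hg]; group
  have := h.N_conj (g := g) (s := s) (x := x)
  rwa [e] at this

theorem ZC_fix {g s x : G} (hg : g * s = s * g) : g * x * g⁻¹ ∈ ZC Q s ↔ x ∈ ZC Q s := by
  have e : g * s * g⁻¹ = s := by rw [hg]; group
  have := h.ZC_conj (g := g) (s := s) (x := x)
  rwa [e] at this

/-! ### U -/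

theorem Om_comm {s s' : G} (hs : s ∈ Om M r) (hs' : s' ∈ Om M r) : s * s' = s' * s := by
  obtain ⟨m, hm, rfl⟩ := hs
  obtain ⟨x, hx, rfl⟩ := hs'
  have h1 := h.ab (x⁻¹ * m) (M.mul_mem (M.inv_mem hx) hm)
  calc m * r * m⁻¹ * (x * r * x⁻¹) = x * ((x⁻¹ * m) * r * (x⁻¹ * m)⁻¹ * r) * x⁻¹ := by group
    _ = x * (r * ((x⁻¹ * m) * r * (x⁻¹ * m)⁻¹)) * x⁻¹ := by rw [h1]
    _ = _ := by group

theorem Om_sq {s : G} (hs : s ∈ Om M r) : s * s = 1 := by
  obtain ⟨m, hm, rfl⟩ := hs
  calc m * r * m⁻¹ * (m * r * m⁻¹) = m * (r * r) * m⁻¹ := by group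
    _ = 1 := by rw [h.r_sq]; group

theorem Om_ne {s : G} (hs : s ∈ Om M r) : s ≠ 1 := by
  obtain ⟨m, hm, rfl⟩ := hs
  intro e
  apply h.r_ne
  have : r = m⁻¹ * (m * r * m⁻¹) * m := by group
  rw [this, e]; group

theorem UU_comm {u v : G} (hu : u ∈ UU M r) (hv : v ∈ UU M r) : u * v = v * u := by
  have : UU M r ≤ Subgroup.centralizer (UU M r : Set G) := by
    unfold UU
    rw [Subgroup.closure_le]
    intro a ha
    rw [SetLike.mem_coe, Subgroup.mem_centralizer_iff]
    intro b hb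
    induction hb using Subgroup.closure_induction with
    | mem x hx => exact h.Om_comm hx ha
    | one => simp
    | mul x y _ _ hx hy => rw [mul_assoc, hy, ← mul_assoc, hx, mul_assoc]
    | inv x _ hx =>
      have : x⁻¹ * (x * a) * x⁻¹ = x⁻¹ * (a * x) * x⁻¹ := by rw [hx]
      have h2 : a * x⁻¹ = x⁻¹ * a := by simpa [mul_assoc] using this
      exact h2.symm
  exact (Subgroup.mem_centralizer_iff.1 (this hv) u hu)

theorem UU_sq {u : G} (hu : u ∈ UU M r) : u * u = 1 := by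
  have hu' := hu
  unfold UU at hu'
  induction hu' using Subgroup.closure_induction with
  | mem x hx => exact h.Om_sq hx
  | one => simp
  | mul x y hx' hy' hx hy =>
    have hx2 := hx hx'
    have hy2 := hy hy'
    have hc := h.UU_comm hx' hy'
    calc x * y * (x * y) = x * (y * x) * y := by group
      _ = x * (x * y) * y := by rw [hc]
      _ = (x * x) * (y * y) := by group
      _ = 1 := by rw [hx2, hy2, one_mul]
  | inv x hx' hx =>
    have := hx hx'
    calc x⁻¹ * x⁻¹ = (x * x)⁻¹ := by group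
      _ = 1 := by rw [this, inv_one]

theorem UU_inv {u : G} (hu : u ∈ UU M r) : u⁻¹ = u := inv_eq_of_mul_eq_one_left (h.UU_sq hu)

/-! ### everything at a point `s` -/

theorem Q_le_M {s : G} (hs : s ∈ Om M r) : Q s ≤ M := by
  obtain ⟨m, hm, rfl⟩ := hs
  intro x hx
  have h1 : m⁻¹ * x * m ∈ Q r := by
    have := h.Qc m⁻¹ _ _ hx
    simpa [mul_assoc] using this
  have : x = m * (m⁻¹ * x * m) * m⁻¹ := by group
  rw [this]
  exact M.mul_mem (M.mul_mem hm (h.Q_le h1)) (M.inv_mem hm)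

theorem mem_Q {s : G} (hs : s ∈ Om M r) : s ∈ Q s := by
  obtain ⟨m, hm, rfl⟩ := hs
  exact h.Qc m _ _ h.r_mem

theorem comm_Q {s : G} (hs : s ∈ Om M r) {x y : G} (hx : x ∈ Q s) (hy : y ∈ Q s) :
    x * y * x⁻¹ * y⁻¹ = 1 ∨ x * y * x⁻¹ * y⁻¹ = s := by
  obtain ⟨m, hm, rfl⟩ := hs
  have hx1 : m⁻¹ * x * m ∈ Q r := by
    have := h.Qc m⁻¹ _ _ hx
    simpa [mul_assoc] using this
  have hy1 : m⁻¹ * y * m ∈ Q r := by
    have := h.Qc m⁻¹ _ _ hy
    simpa [mul_assoc] using this
  have e : x * y * x⁻¹ * y⁻¹ = m * ((m⁻¹ * x * m) * (m⁻¹ * y * m) * (m⁻¹ * x * m)⁻¹ *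
    (m⁻¹ * y * m)⁻¹) * m⁻¹ := by group
  rcases h.Q_comm _ hx1 _ hy1 with h1 | h1
  · left; rw [e, h1]; group
  · right; rw [e, h1]

theorem sq_Q {s : G} (hs : s ∈ Om M r) {x : G} (hx : x ∈ Q s) : x * x = 1 ∨ x * x = s := by
  obtain ⟨m, hm, rfl⟩ := hs
  have hx1 : m⁻¹ * x * m ∈ Q r := by
    have := h.Qc m⁻¹ _ _ hx
    simpa [mul_assoc] using this
  have e : x * x = m * ((m⁻¹ * x * m) * (m⁻¹ * x * m)) * m⁻¹ := by group
  rcases h.Q_sq _ hx1 with h1 | h1
  · left; rw [e, h1]; group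
  · right; rw [e, h1]

/-- `s` commutes with `Q s` -/
theorem mem_ZC {s : G} (hs : s ∈ Om M r) : s ∈ ZC Q s := by
  rw [Subgroup.mem_centralizer_iff]
  intro x hx
  -- [x,s] ∈ {1,s}
  rcases h.comm_Q hs hx (h.mem_Q hs) with h1 | h1
  · have : x * s = s * x := by
      have h2 : x * s * x⁻¹ * s⁻¹ * (s * x) = 1 * (s * x) := by rw [h1]
      simpa [mul_assoc] using h2
    exact this
  · exfalso
    -- x s x⁻¹ = s * s = 1
    have h2 : x * s * x⁻¹ = s * s := by
      have h3 : x * s * x⁻¹ * s⁻¹ * s = s * s := by rw [h1]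
      simpa [mul_assoc] using h3
    rw [h.Om_sq hs] at h2
    apply h.Om_ne hs
    have : s = x⁻¹ * (x * s * x⁻¹) * x := by group
    rw [this, h2]; group

theorem ZC_le_Q {s : G} (hs : s ∈ Om M r) : ZC Q s ≤ Q s := by
  obtain ⟨m, hm, rfl⟩ := hs
  intro x hx
  have h1 : m⁻¹ * x * m ∈ ZC Q r := by
    have := (h.ZC_conj (g := m⁻¹) (s := m * r * m⁻¹) (x := x)).2 hx
    simpa [mul_assoc] using this
  have := h.Qc m _ _ (h.ZC_le h1)
  simpa [mul_assoc] using this

theorem N_le_ZC {s : G} (hs : s ∈ Om M r) : N s ≤ ZC Q s := by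
  obtain ⟨m, hm, rfl⟩ := hs
  intro x hx
  have h1 : m⁻¹ * x * m ∈ N r := by
    have := h.Nc m⁻¹ _ _ hx
    simpa [mul_assoc] using this
  have := (h.ZC_conj (g := m)).2 (h.N_le h1)
  simpa [mul_assoc] using this

theorem N_le_Q {s : G} (hs : s ∈ Om M r) : N s ≤ Q s := (h.N_le_ZC hs).trans (h.ZC_le_Q hs)

theorem N_le_M {s : G} (hs : s ∈ Om M r) : N s ≤ M := (h.N_le_Q hs).trans (h.Q_le_M hs)

theorem ZC_comm {s : G} {z q : G} (hz : z ∈ ZC Q s) (hq : q ∈ Q s) : z * q = q * z :=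
  (Subgroup.mem_centralizer_iff.1 hz q hq).symm

theorem UN_at {s : G} (hs : s ∈ Om M r) {u : G} (hu : u ∈ UU M r) (hc : ∀ n ∈ N s, u * n = n * u) :
    u ∈ Q s := by
  obtain ⟨m, hm, rfl⟩ := hs
  have h1 : m⁻¹ * u * m ∈ UU M r := by
    have := UU_conj (r := r) (M.inv_mem hm) hu
    simpa using this
  have h2 := h.UN _ h1 (by
    intro n hn
    have h3 := hc _ (h.Nc m _ _ hn)
    calc m⁻¹ * u * m * n = m⁻¹ * (u * (m * n * m⁻¹)) * m := by group
      _ = m⁻¹ * ((m * n * m⁻¹) * u) * m := by rw [h3]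
      _ = _ := by group)
  have := h.Qc m _ _ h2
  simpa [mul_assoc] using this

/-- `I_s = U ∩ Q s = C_U(N s)` -/
theorem mem_Q_iff {s : G} (hs : s ∈ Om M r) {u : G} (hu : u ∈ UU M r) :
    u ∈ Q s ↔ ∀ n ∈ N s, u * n = n * u :=
  ⟨fun h1 _ hn => (h.ZC_comm (h.N_le_ZC hs hn) h1).symm, h.UN_at hs hu⟩

theorem red_at {s : G} (hs : s ∈ Om M r) {u : G} (hu : u ∈ UU M r)
    (hc : ∀ n ∈ N s, u * n * u⁻¹ * n⁻¹ = 1 ∨ u * n * u⁻¹ * n⁻¹ = s) : ∀ n ∈ N s, u * n = n * u := by
  obtain ⟨m, hm, rfl⟩ := hs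
  have h1 : m⁻¹ * u * m ∈ UU M r := by
    have := UU_conj (r := r) (M.inv_mem hm) hu
    simpa using this
  have h2 := h.red _ h1 (by
    intro n hn
    have e : m⁻¹ * u * m * n * (m⁻¹ * u * m)⁻¹ * n⁻¹ =
      m⁻¹ * (u * (m * n * m⁻¹) * u⁻¹ * (m * n * m⁻¹)⁻¹) * m := by group
    rcases hc _ (h.Nc m _ _ hn) with h3 | h3
    · left; rw [e, h3]; group
    · right; rw [e, h3]; group)
  intro n hn
  have hn1 : m⁻¹ * n * m ∈ N r := by
    have := h.Nc m⁻¹ _ _ hn
    simpa [mul_assoc] using this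
  have h4 := h2 _ hn1
  calc u * n = m * ((m⁻¹ * u * m) * (m⁻¹ * n * m)) * m⁻¹ := by group
    _ = m * ((m⁻¹ * n * m) * (m⁻¹ * u * m)) * m⁻¹ := by rw [h4]
    _ = _ := by group

theorem beta_at {s : G} (hs : s ∈ Om M r) : ∃ u ∈ UU M r, u ∉ Q s := by
  obtain ⟨m, hm, rfl⟩ := hs
  obtain ⟨u, hu, hu'⟩ := h.beta
  exact ⟨m * u * m⁻¹, UU_conj hm hu, fun h1 => hu' (h.Q_conj.1 h1)⟩

/-! ### lines -/

theorem t_Om : t ∈ Om M r := by
  obtain ⟨q, hq, h1⟩ := h.q12
  obtain ⟨p, hp, h2⟩ := h.q21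
  -- p : r ↦ r t ; q : r ↦ r, t ↦ r t, r t ↦ t
  have hqr : q * r * q⁻¹ = r := by
    have := h.ZC_comm (h.mem_ZC Om_base) hq
    rw [← this]; group
  have hrt : q * (r * t) * q⁻¹ = t := by
    calc q * (r * t) * q⁻¹ = (q * r * q⁻¹) * (q * t * q⁻¹) := by group
      _ = r * (r * t) := by rw [hqr, h1]
      _ = (r * r) * t := by group
      _ = t := by rw [h.r_sq, one_mul]
  refine ⟨q * p, M.mul_mem (h.Q_le hq) (h.Qt_le hp), ?_⟩
  calc q * p * r * (q * p)⁻¹ = q * (p * r * p⁻¹) * q⁻¹ := by group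
    _ = t := by rw [h2, hrt]

theorem Adj_right {s s' : G} (a : Adj M r t s s') : s' ∈ Om M r := by
  obtain ⟨m, hm, -, rfl⟩ := a
  exact Om_conj hm h.t_Om

theorem Adj_comm {s s' : G} (a : Adj M r t s s') : s * s' = s' * s := h.Om_comm a.left (h.Adj_right a)

theorem Adj_swap : Adj M r t t r := by
  obtain ⟨q, hq, h1⟩ := h.q12
  obtain ⟨p, hp, h2⟩ := h.q21
  have hrt : r * t = t * r := h.Adj_comm Adj_base
  have hqr : q * r * q⁻¹ = r := by
    have := h.ZC_comm (h.mem_ZC Om_base) hq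
    rw [← this]; group
  have hqrt : q * (r * t) * q⁻¹ = t := by
    calc q * (r * t) * q⁻¹ = (q * r * q⁻¹) * (q * t * q⁻¹) := by group
      _ = r * (r * t) := by rw [hqr, h1]
      _ = (r * r) * t := by group
      _ = t := by rw [h.r_sq, one_mul]
  have hpt : p * t * p⁻¹ = t := by
    have := h.ZC_comm (h.mem_ZC h.t_Om) hp
    rw [← this]; group
  have htt : t * t = 1 := h.Om_sq h.t_Om
  have hprt : p * (r * t) * p⁻¹ = r := by
    calc p * (r * t) * p⁻¹ = (p * r * p⁻¹) * (p * t * p⁻¹) := by group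
      _ = r * t * t := by rw [hpt, h2]
      _ = r * (t * t) := by group
      _ = r := by rw [htt, mul_one]
  refine ⟨q * p * q, M.mul_mem (M.mul_mem (h.Q_le hq) (h.Qt_le hp)) (h.Q_le hq), ?_, ?_⟩
  · calc q * p * q * r * (q * p * q)⁻¹ = q * (p * (q * r * q⁻¹) * p⁻¹) * q⁻¹ := by group
      _ = t := by rw [hqr, h2, hqrt]
  · calc q * p * q * t * (q * p * q)⁻¹ = q * (p * (q * t * q⁻¹) * p⁻¹) * q⁻¹ := by group
      _ = r := by rw [h1, hprt, hqr]

theorem Adj_mul_base : Adj M r t r (r * t) := by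
  obtain ⟨q, hq, h1⟩ := h.q12
  have hqr : q * r * q⁻¹ = r := by
    have := h.ZC_comm (h.mem_ZC Om_base) hq
    rw [← this]; group
  exact ⟨q, h.Q_le hq, hqr, h1⟩

theorem Adj_symm {s s' : G} (a : Adj M r t s s') : Adj M r t s' s := by
  obtain ⟨m, hm, rfl, rfl⟩ := a
  exact h.Adj_swap.conj hm

theorem Adj_mul {s s' : G} (a : Adj M r t s s') : Adj M r t s (s * s') := by
  obtain ⟨m, hm, rfl, rfl⟩ := a
  have := h.Adj_mul_base.conj hm
  have e : m * r * m⁻¹ * (m * t * m⁻¹) = m * (r * t) * m⁻¹ := by group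
  rwa [e]

/-- `s' ~ s s'` -/
theorem Adj_mul' {s s' : G} (a : Adj M r t s s') : Adj M r t s' (s * s') := by
  have := h.Adj_mul (h.Adj_symm a)
  rwa [← h.Adj_comm a] at this

theorem Adj_ne {s s' : G} (a : Adj M r t s s') : s' ≠ s := by
  obtain ⟨m, hm, rfl, rfl⟩ := a
  intro e
  apply h.t_ne_r
  have : t = m⁻¹ * (m * t * m⁻¹) * m := by group
  rw [this, e]; group

theorem Adj_mul_ne {s s' : G} (a : Adj M r t s s') : s * s' ≠ 1 := fun e =>
  h.Om_ne (h.Adj_right (h.Adj_mul a)) e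

theorem mul_cancel {s : G} (hs : s ∈ Om M r) (x : G) : s * (s * x) = x := by
  rw [← mul_assoc, h.Om_sq hs, one_mul]

/-- `t ∈ Q s` on a line -/
theorem Adj_mem {s s' : G} (a : Adj M r t s s') : s' ∈ Q s := by
  obtain ⟨m, hm, rfl, rfl⟩ := a
  exact h.Qc m _ _ h.t_mem

theorem Adj_q {s s' : G} (a : Adj M r t s s') : ∃ q ∈ Q s, q * s' * q⁻¹ = s * s' := by
  obtain ⟨m, hm, rfl, rfl⟩ := a
  obtain ⟨q, hq, h1⟩ := h.q12
  refine ⟨m * q * m⁻¹, h.Qc m _ _ hq, ?_⟩
  calc m * q * m⁻¹ * (m * t * m⁻¹) * (m * q * m⁻¹)⁻¹ = m * (q * t * q⁻¹) * m⁻¹ := by group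
    _ = _ := by rw [h1]; group

theorem Adj_not_mem {s s' : G} (a : Adj M r t s s') : s' ∉ ZC Q s := by
  intro h1
  obtain ⟨q, hq, h2⟩ := h.Adj_q a
  have h3 := h.ZC_comm h1 hq
  have h4 : q * s' * q⁻¹ = s' := by rw [← h3]; group
  rw [h4] at h2
  apply h.Om_ne a.left
  have : s = (s * s') * s'⁻¹ := by group
  rw [this, ← h2]; group

theorem Adj_ZQ {s s' : G} (a : Adj M r t s s') {b : G} (hb : b ∈ ZC Q s) (hb' : b ∈ Q s') :
    b ∈ ZC Q s' ∨ s * b ∈ ZC Q s' := by
  obtain ⟨m, hm, rfl, rfl⟩ := a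
  have h1 : m⁻¹ * b * m ∈ ZC Q r := by
    have := (h.ZC_conj (g := m⁻¹) (s := m * r * m⁻¹) (x := b)).2 hb
    simpa [mul_assoc] using this
  have h2 : m⁻¹ * b * m ∈ Q t := by
    have := h.Qc m⁻¹ _ _ hb'
    simpa [mul_assoc] using this
  rcases h.ZQ _ h1 h2 with h3 | h3
  · left
    have := (h.ZC_conj (g := m)).2 h3
    simpa [mul_assoc] using this
  · right
    have := (h.ZC_conj (g := m)).2 h3
    have e : m * (r * (m⁻¹ * b * m)) * m⁻¹ = m * r * m⁻¹ * b := by group
    rwa [e] at this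

/-- `C_V` centralises `Q (s s')` too -/
theorem Adj_CV {s s' : G} (a : Adj M r t s s') {b : G} (hb : b ∈ ZC Q s) (hb' : b ∈ ZC Q s') :
    b ∈ ZC Q (s * s') := by
  obtain ⟨q, hq, h1⟩ := h.Adj_q a
  have h2 := h.ZC_comm hb hq
  have h3 : q * b * q⁻¹ = b := by rw [← h2]; group
  have := (h.ZC_conj (g := q)).2 hb'
  rwa [h3, h1] at this

theorem Qs_le {s s' : G} (a : Adj M r t s s') : Q s' ≤ M := h.Q_le_M (h.Adj_right a)

/-! ### connectedness -/

/-- the graph of points is connected -/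
theorem conn {s : G} (hs : s ∈ Om M r) : Relation.ReflTransGen (Adj M r t) r s := by
  obtain ⟨m, hm, rfl⟩ := hs
  have cc : ∀ x ∈ M, ∀ a b, Relation.ReflTransGen (Adj M r t) a b →
      Relation.ReflTransGen (Adj M r t) (x * a * x⁻¹) (x * b * x⁻¹) := by
    intro x hx a b hab
    induction hab with
    | refl => exact Relation.ReflTransGen.refl
    | tail _ h1 ih => exact ih.tail (h1.conj hx)
  have sy : ∀ a b, Relation.ReflTransGen (Adj M r t) a b → Relation.ReflTransGen (Adj M r t) b a := by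
    intro a b hab
    induction hab with
    | refl => exact Relation.ReflTransGen.refl
    | tail _ h1 ih => exact Relation.ReflTransGen.head (h.Adj_symm h1) ih
  let T : Subgroup G :=
    { carrier := {x | x ∈ M ∧ Relation.ReflTransGen (Adj M r t) r (x * r * x⁻¹)}
      one_mem' := ⟨M.one_mem, by simpa using Relation.ReflTransGen.refl⟩
      mul_mem' := by
        rintro x y ⟨hx, hx'⟩ ⟨hy, hy'⟩
        refine ⟨M.mul_mem hx hy, hx'.trans ?_⟩
        have := cc x hx _ _ hy'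
        have e : x * y * r * (x * y)⁻¹ = x * (y * r * y⁻¹) * x⁻¹ := by group
        rwa [e]
      inv_mem' := by
        rintro x ⟨hx, hx'⟩
        refine ⟨M.inv_mem hx, ?_⟩
        have := sy _ _ (cc x⁻¹ (M.inv_mem hx) _ _ hx')
        have e : x⁻¹ * (x * r * x⁻¹) * x⁻¹⁻¹ = r := by group
        rw [e] at this
        simpa using this }
  have h1 : M ≤ T := by
    apply h.gen T
    · intro x hx hxr
      refine ⟨hx, ?_⟩
      have e : x * r * x⁻¹ = r := by rw [hxr]; group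
      rw [e]
    · intro x hx
      refine ⟨h.Q_le hx, ?_⟩
      have e : x * r * x⁻¹ = r := by
        have := h.ZC_comm (h.mem_ZC Om_base) hx
        rw [← this]; group
      rw [e]
    · intro x hx
      refine ⟨h.Qt_le hx, ?_⟩
      have ht : x * t * x⁻¹ = t := by
        have := h.ZC_comm (h.mem_ZC h.t_Om) hx
        rw [← this]; group
      have h2 : Adj M r t (x * t * x⁻¹) (x * r * x⁻¹) := h.Adj_swap.conj (h.Qt_le hx)
      rw [ht] at h2
      exact (Relation.ReflTransGen.single Adj_base).tail h2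
  exact (h1 hm).2

/-- induction along adjacency -/
theorem conn_ind {P : G → Prop} (h0 : P r) (h1 : ∀ s s', Adj M r t s s' → P s → P s') {s : G}
    (hs : s ∈ Om M r) : P s := by
  have := h.conn hs
  induction this with
  | refl => exact h0
  | tail hab hbc ih =>
    exact h1 _ _ hbc (ih hbc.left)

/-! ### (1), (2): the action of `N s'` -/

/-- `N s'` centralises `s` for `s ~ s'` -/
theorem N_comm {s s' : G} (a : Adj M r t s s') {n : G} (hn : n ∈ N s') : n * s = s * n :=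
  h.ZC_comm (h.N_le_ZC (h.Adj_right a) hn) (h.Adj_mem (h.Adj_symm a))

/-- `N s'` centralises `s'` -/
theorem N_self {s : G} (hs : s ∈ Om M r) {n : G} (hn : n ∈ N s) : n * s = s * n :=
  h.ZC_comm (h.N_le_ZC hs hn) (h.mem_Q hs)

/-- `N s'` acts on the lines on `s` -/
theorem Adj_N {s s' x : G} (a : Adj M r t s s') (b : Adj M r t s x) {n : G} (hn : n ∈ N s') :
    Adj M r t s (n * x * n⁻¹) := by
  have h1 := b.conj (h.N_le_M (h.Adj_right a) hn)
  have e : n * s * n⁻¹ = s := by rw [h.N_comm a hn]; group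
  rwa [e] at h1

/-- `[I_s, N s'] ≤ R_{s'} × C_L` -/
theorem comm_IN {s s' : G} (a : Adj M r t s s') {u n : G} (hu : u ∈ UU M r) (hus : u ∈ Q s)
    (hn : n ∈ N s') :
    u * n * u⁻¹ * n⁻¹ ∈ ZC Q s' ∧ u * n * u⁻¹ * n⁻¹ ∈ Q s ∧
    (u * n * u⁻¹ * n⁻¹ ∈ ZC Q s ∨ s' * (u * n * u⁻¹ * n⁻¹) ∈ ZC Q s) := by
  have hs' := h.Adj_right a
  have h1 : u * n * u⁻¹ * n⁻¹ ∈ ZC Q s' := by
    have hc : u * s' = s' * u := h.UU_comm hu (Om_le_UU hs')
    exact mul_mem ((h.ZC_fix hc).2 (h.N_le_ZC hs' hn)) (inv_mem (h.N_le_ZC hs' hn))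
  have h2 : u * n * u⁻¹ * n⁻¹ ∈ Q s := by
    have e : u * n * u⁻¹ * n⁻¹ = u * (n * u⁻¹ * n⁻¹) := by group
    rw [e]
    exact mul_mem hus ((h.Q_fix (h.N_comm a hn)).2 (inv_mem hus))
  exact ⟨h1, h2, h.Adj_ZQ (h.Adj_symm a) h1 h2⟩

/-- `[K_s, N s'] ≤ C_L` -/
theorem comm_KN {s s' : G} (a : Adj M r t s s') {u n : G} (hu : u ∈ UU M r) (hus : u ∈ ZC Q s)
    (hn : n ∈ N s') : u * n * u⁻¹ * n⁻¹ ∈ ZC Q s' ∧ u * n * u⁻¹ * n⁻¹ ∈ ZC Q s := by
  refine ⟨(h.comm_IN a hu (h.ZC_le_Q a.left hus) hn).1, ?_⟩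
  have e : u * n * u⁻¹ * n⁻¹ = u * (n * u⁻¹ * n⁻¹) := by group
  rw [e]
  exact mul_mem hus ((h.ZC_fix (h.N_comm a hn)).2 (inv_mem hus))

/-- `C_L` does not contain `s` -/
theorem not_both {s s' : G} (a : Adj M r t s s') : s ∉ ZC Q s' := h.Adj_not_mem (h.Adj_symm a)

end TvH0

namespace TvH

variable {M : Subgroup G} {r t : G} {Q N : G → Subgroup G} (h : TvH M r t Q N)
include h

theorem noPar_at {s a b : G} (ha : Adj M r t s a) (hb : Adj M r t s b) (hab : a * b ∈ ZC Q s) :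
    b = a ∨ b = s * a := by
  obtain ⟨m, hm, rfl, rfl⟩ := ha
  have h1 : Adj M r t r (m⁻¹ * b * m) := by
    have := hb.conj (M.inv_mem hm)
    simpa [mul_assoc] using this
  have h2 : t * (m⁻¹ * b * m) ∈ ZC Q r := by
    have := (h.ZC_conj (g := m⁻¹) (s := m * r * m⁻¹)).2 hab
    have e : m⁻¹ * (m * t * m⁻¹ * b) * m⁻¹⁻¹ = t * (m⁻¹ * b * m) := by group
    rw [e] at this
    simpa [mul_assoc] using this
  rcases h.noPar _ _ Adj_base h1 h2 with h3 | h3
  · left
    have : b = m * (m⁻¹ * b * m) * m⁻¹ := by group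
    rw [this, h3]
  · right
    have : b = m * (m⁻¹ * b * m) * m⁻¹ := by group
    rw [this, h3]; group

end TvH

end Cfsg.Agent.Omega.HOne.TvDef

end

section


/-!
# II.0h1, `q = 2`, case (beta): (8) of #15959, the constant `c_0`

`exists_opp` : there are opposite lines (first part of (7)).
`jconst` : `E1` implies that `c(s; a, b)` is one and the same element `c_0` for all opposite pairs.
-/

set_option autoImplicit false
set_option linter.unusedSectionVars false

namespace Cfsg.Agent.Omega.HOne.TvConst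

open Subgroup Cfsg.Agent.Omega.HOne.TvDef

variable {G : Type*} [Group G] {M : Subgroup G} {r t : G} {Q N : G → Subgroup G}

theorem Opp.conj (h : TvH M r t Q N) {m s a b : G} (hm : m ∈ M) (o : Opp M r t N s a b) :
    Opp M r t N (m * s * m⁻¹) (m * a * m⁻¹) (m * b * m⁻¹) := by
  obtain ⟨h1, h2, n, hn, h3⟩ := o
  refine ⟨h1.conj hm, h2.conj hm, m * n * m⁻¹, h.Nc m _ _ hn, ?_⟩
  intro e
  apply h3
  have : m * n * m⁻¹ * (m * b * m⁻¹) * (m * n * m⁻¹)⁻¹ = m * (n * b * n⁻¹) * m⁻¹ := by group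
  rw [this] at e
  have h4 : n * b * n⁻¹ = m⁻¹ * (m * (n * b * n⁻¹) * m⁻¹) * m := by group
  rw [h4, e]; group

/-- an element of `M` exchanging the points `s, s'` of a line and centralising `C_L` -/
theorem swap_elt (h : TvH M r t Q N) {s s' : G} (a : Adj M r t s s') :
    ∃ x ∈ M, x * s * x⁻¹ = s' ∧ x * s' * x⁻¹ = s ∧ ∀ b ∈ ZC Q s, b ∈ ZC Q s' → x * b = b * x := by
  obtain ⟨q, hq, h1⟩ := h.Adj_q a
  obtain ⟨p, hp, h2⟩ := h.Adj_q (h.Adj_symm a)
  have hs := a.left
  have hs' := h.Adj_right a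
  have hss : s * s' = s' * s := h.Adj_comm a
  have hqs : q * s * q⁻¹ = s := by
    have := h.ZC_comm (h.mem_ZC hs) hq
    rw [← this]; group
  have hps : p * s' * p⁻¹ = s' := by
    have := h.ZC_comm (h.mem_ZC hs') hp
    rw [← this]; group
  have hq2 : q * (s' * s) * q⁻¹ = s' := by
    calc q * (s' * s) * q⁻¹ = (q * s' * q⁻¹) * (q * s * q⁻¹) := by group
      _ = s * s' * s := by rw [h1, hqs]
      _ = s' * (s * s) := by rw [hss]; group
      _ = s' := by rw [h.Om_sq hs, mul_one]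
  have hp2 : p * (s * s') * p⁻¹ = s := by
    calc p * (s * s') * p⁻¹ = (p * s * p⁻¹) * (p * s' * p⁻¹) := by group
      _ = s' * s * s' := by rw [h2, hps]
      _ = s * (s' * s') := by rw [← hss]; group
      _ = s := by rw [h.Om_sq hs', mul_one]
  refine ⟨q * p * q, M.mul_mem (M.mul_mem (h.Q_le_M hs hq) (h.Q_le_M hs' hp)) (h.Q_le_M hs hq), ?_, ?_, ?_⟩
  · calc q * p * q * s * (q * p * q)⁻¹ = q * (p * (q * s * q⁻¹) * p⁻¹) * q⁻¹ := by group
      _ = s' := by rw [hqs, h2, hq2]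
  · calc q * p * q * s' * (q * p * q)⁻¹ = q * (p * (q * s' * q⁻¹) * p⁻¹) * q⁻¹ := by group
      _ = s := by rw [h1, hp2, hqs]
  · intro b hb hb'
    have e1 : b * q = q * b := h.ZC_comm hb hq
    have e2 : b * p = p * b := h.ZC_comm hb' hp
    calc q * p * q * b = q * p * (q * b) := by group
      _ = q * (p * b) * q := by rw [← e1]; group
      _ = (q * b) * p * q := by rw [← e2]; group
      _ = b * (q * p * q) := by rw [← e1]; group

/-- there are opposite lines on every point -/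
theorem exists_opp_r (h : TvH M r t Q N) : ∃ a b, Opp M r t N r a b := by
  by_contra hno
  push Not at hno
  -- all lines on `r` commute with `N a`
  have hc : ∀ a b, Adj M r t r a → Adj M r t r b → b ∈ Q a := by
    intro a b ha hb
    apply h.UN_at (h.Adj_right ha) (Om_le_UU (h.Adj_right hb))
    intro n hn
    by_contra hne
    apply hno a b
    refine ⟨ha, hb, n, hn, ?_⟩
    intro e
    apply hne
    calc b * n = (n * b * n⁻¹) * n := by rw [e]
      _ = n * b := by group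
  let T : Subgroup G := Subgroup.closure {b | Adj M r t r b}
  have hrT : r ∈ T := by
    have h1 : t ∈ T := Subgroup.subset_closure Adj_base
    have h2 : r * t ∈ T := Subgroup.subset_closure h.Adj_mul_base
    have : r = (r * t) * t⁻¹ := by group
    rw [this]; exact mul_mem h2 (inv_mem h1)
  have key : ∀ x : G, (∀ b, Adj M r t r b → x * b * x⁻¹ ∈ T) → ∀ y ∈ T, x * y * x⁻¹ ∈ T := by
    intro x hx y hy
    induction hy using Subgroup.closure_induction with
    | mem b hb => exact hx b hb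
    | one => simp
    | mul u v _ _ hu hv =>
      have : x * (u * v) * x⁻¹ = (x * u * x⁻¹) * (x * v * x⁻¹) := by group
      rw [this]; exact mul_mem hu hv
    | inv u _ hu =>
      have : x * u⁻¹ * x⁻¹ = (x * u * x⁻¹)⁻¹ := by group
      rw [this]; exact inv_mem hu
  -- `M` normalises `T`
  let W : Subgroup G :=
    { carrier := {x | (∀ y ∈ T, x * y * x⁻¹ ∈ T) ∧ ∀ y ∈ T, x⁻¹ * y * x ∈ T}
      one_mem' := ⟨fun y hy => by simpa using hy, fun y hy => by simpa using hy⟩
      mul_mem' := by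
        rintro x z ⟨hx, hx'⟩ ⟨hz, hz'⟩
        refine ⟨fun y hy => ?_, fun y hy => ?_⟩
        · have := hx _ (hz y hy)
          have e : x * z * y * (x * z)⁻¹ = x * (z * y * z⁻¹) * x⁻¹ := by group
          rwa [e]
        · have := hz' _ (hx' y hy)
          have e : (x * z)⁻¹ * y * (x * z) = z⁻¹ * (x⁻¹ * y * x) * z := by group
          rwa [e]
      inv_mem' := by
        rintro x ⟨hx, hx'⟩
        refine ⟨fun y hy => ?_, fun y hy => ?_⟩
        · simpa using hx' y hy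
        · simpa using hx y hy }
  have hW : M ≤ W := by
    apply h.gen W
    · intro m hm hmr
      have e1 : m * r * m⁻¹ = r := by rw [hmr]; group
      have e2 : m⁻¹ * r * m = r := by
        calc m⁻¹ * r * m = m⁻¹ * (r * m) := by group
          _ = r := by rw [← hmr]; group
      refine ⟨key m ?_, ?_⟩
      · intro b hb
        have := hb.conj hm
        rw [e1] at this
        exact Subgroup.subset_closure this
      · have := key m⁻¹ (by
          intro b hb
          have := hb.conj (M.inv_mem hm)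
          rw [inv_inv] at this
          rw [e2] at this
          rw [inv_inv]
          exact Subgroup.subset_closure this)
        intro y hy
        simpa using this y hy
    · intro m hm
      have hh : ∀ m ∈ Q r, ∀ b, Adj M r t r b → m * b * m⁻¹ ∈ T := by
        intro m hm b hb
        have hm' := h.Q_le hm
        have e1 : m * r * m⁻¹ = r := by
          have := h.ZC_comm (h.mem_ZC Om_base) hm
          rw [← this]; group
        have := hb.conj hm'
        rw [e1] at this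
        exact Subgroup.subset_closure this
      refine ⟨key m (hh m hm), ?_⟩
      have := key m⁻¹ (hh _ (inv_mem hm))
      intro y hy
      simpa using this y hy
    · intro m hm
      have hh : ∀ m ∈ Q t, ∀ b, Adj M r t r b → m * b * m⁻¹ ∈ T := by
        intro m hm b hb
        have hbt : b ∈ Q t := hc t b Adj_base hb
        have hbT : b ∈ T := Subgroup.subset_closure hb
        have htT : t ∈ T := Subgroup.subset_closure Adj_base
        rcases h.comm_Q h.t_Om hm hbt with h1 | h1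
        · have : m * b * m⁻¹ = (m * b * m⁻¹ * b⁻¹) * b := by group
          rw [this, h1, one_mul]; exact hbT
        · have : m * b * m⁻¹ = (m * b * m⁻¹ * b⁻¹) * b := by group
          rw [this, h1]; exact mul_mem htT hbT
      refine ⟨key m (hh m hm), ?_⟩
      have := key m⁻¹ (hh _ (inv_mem hm))
      intro y hy
      simpa using this y hy
  obtain ⟨u, hu, hu'⟩ := h.beta
  apply hu'
  have h1 : UU M r ≤ T := by
    unfold UU
    rw [Subgroup.closure_le]
    rintro s ⟨m, hm, rfl⟩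
    exact (hW hm).1 r hrT
  have h2 : T ≤ Q r := by
    rw [Subgroup.closure_le]
    intro b hb
    exact h.Adj_mem hb
  exact h2 (h1 hu)

/-- every line has an opposite line at each of its points -/
theorem exists_opp (h : TvH M r t Q N) {s a : G} (ha : Adj M r t s a) : ∃ b, Opp M r t N s a b := by
  obtain ⟨a0, b0, h0⟩ := exists_opp_r h
  obtain ⟨x, hx, hx1, hx2⟩ := h0.1
  obtain ⟨y, hy, hy1, hy2⟩ := ha
  refine ⟨(y * x⁻¹) * b0 * (y * x⁻¹)⁻¹, ?_⟩
  have := Opp.conj h (M.mul_mem hy (M.inv_mem hx)) h0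
  have e1 : y * x⁻¹ * r * (y * x⁻¹)⁻¹ = s := by
    rw [← hy1]
    calc y * x⁻¹ * r * (y * x⁻¹)⁻¹ = y * x⁻¹ * (x * r * x⁻¹) * (y * x⁻¹)⁻¹ := by rw [hx1]
      _ = _ := by group
  have e2 : y * x⁻¹ * a0 * (y * x⁻¹)⁻¹ = a := by
    rw [← hy2, ← hx2]; group
  rw [e1, e2] at this
  exact this

/-! ### the constant -/

/-- `c` is `c(s; a, b)` for all opposite pairs on `s` -/
def Is (M : Subgroup G) (r t : G) (Q N : G → Subgroup G) (s c : G) : Prop :=
  ∀ a b, Opp M r t N s a b → c ≠ 1 ∧ c ∈ UU M r ∧ c ∈ ZC Q s ∧ c ∈ ZC Q a ∧ Adj M r t s (a * b * c) ∧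
    ∀ n ∈ N a, n * b * n⁻¹ = b ∨ n * b * n⁻¹ = a * b * c

/-- local version: `c = c(s; a, b)` -/
def IsAt (M : Subgroup G) (r t : G) (Q N : G → Subgroup G) (s a b c : G) : Prop :=
  c ≠ 1 ∧ c ∈ UU M r ∧ c ∈ ZC Q s ∧ c ∈ ZC Q a ∧ c ∈ ZC Q b ∧ Adj M r t s (a * b * c) ∧
    (∀ n ∈ N a, n * b * n⁻¹ = b ∨ n * b * n⁻¹ = a * b * c) ∧
    (∀ n ∈ N b, n * a * n⁻¹ = a ∨ n * a * n⁻¹ = a * b * c)

theorem Opp.isAt (j : JOpp M r t Q N) {s a b : G} (o : Opp M r t N s a b) :
    ∃ c, IsAt M r t Q N s a b c := by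
  obtain ⟨-, -, -, -, -, c, h1, h2, h3, h4, h5, -, h7, h8, h9⟩ := j s a b o
  exact ⟨c, h1, h2, h3, h4, h5, h7, h8, h9⟩

theorem IsAt.unique {s a b c c' : G} (o : Opp M r t N s a b) (h1 : IsAt M r t Q N s a b c)
    (h2 : IsAt M r t Q N s a b c') : c = c' := by
  obtain ⟨-, -, n, hn, hne⟩ := o
  have e1 := (h1.2.2.2.2.2.2.1 n hn).resolve_left hne
  have e2 := (h2.2.2.2.2.2.2.1 n hn).resolve_left hne
  rw [e1] at e2
  exact mul_left_cancel e2

theorem IsAt.symm (h : TvH M r t Q N) {s a b c : G} (o : Opp M r t N s a b)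
    (h1 : IsAt M r t Q N s a b c) : IsAt M r t Q N s b a c := by
  obtain ⟨x1, x2, x3, x4, x5, x6, x7, x8⟩ := h1
  have e : b * a * c = a * b * c := by
    rw [h.Om_comm (h.Adj_right o.1) (h.Adj_right o.2.1)]
  exact ⟨x1, x2, x3, x5, x4, by rwa [e], by rwa [e], by rwa [e]⟩

/-- `c(s; a, s b) = c(s; a, b)` -/
theorem IsAt.mul (h : TvH M r t Q N) (j : JOpp M r t Q N) {s a b c : G} (o : Opp M r t N s a b)
    (h1 : IsAt M r t Q N s a b c) : IsAt M r t Q N s a (s * b) c := by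
  have o2 := (j s a b o).2.2.1
  obtain ⟨c', hc'⟩ := Opp.isAt j o2
  obtain ⟨-, -, n, hn, hne⟩ := o
  have ha := o2.1
  have hb : Adj M r t s b := by
    have := h.Adj_mul o2.2.1
    rwa [h.mul_cancel ha.left] at this
  have e1 := (h1.2.2.2.2.2.2.1 n hn).resolve_left hne
  have hns : n * s = s * n := h.N_comm ha hn
  have e2 : n * (s * b) * n⁻¹ = s * (n * b * n⁻¹) := by
    calc n * (s * b) * n⁻¹ = (n * s) * b * n⁻¹ := by group
      _ = s * n * b * n⁻¹ := by rw [hns]
      _ = _ := by group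
  have hne2 : n * (s * b) * n⁻¹ ≠ s * b := by
    rw [e2]; intro e; exact hne (mul_left_cancel e)
  have e3 := (hc'.2.2.2.2.2.2.1 n hn).resolve_left hne2
  rw [e2, e1] at e3
  have hsa : s * a = a * s := h.Adj_comm ha
  have : c = c' := by
    have e4 : s * (a * b * c) = s * (a * b * c') := by
      calc s * (a * b * c) = a * (s * b) * c' := e3
        _ = (a * s) * b * c' := by group
        _ = s * (a * b * c') := by rw [← hsa]; group
    exact mul_left_cancel (mul_left_cancel e4)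
  rw [this]; exact hc'

/-- case (ii): `b, b'` opposite to `a`, not opposite to each other -/
theorem IsAt.const2 (h : TvH M r t Q N) (jn : JNon M r t N) (e1 : E1 M r t N)
    {s a b b' c c' : G} (o : Opp M r t N s a b) (o' : Opp M r t N s a b')
    (hb1 : b' ≠ b) (hb2 : b' ≠ s * b) (hno : ¬ Opp M r t N s b b')
    (h1 : IsAt M r t Q N s a b c) (h2 : IsAt M r t Q N s a b' c') : c = c' := by
  have ha := o.1
  have hb := o.2.1
  have hb' := o'.2.1
  obtain ⟨n, hn, hne⟩ := o.2.2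
  have hne' : n * b' * n⁻¹ ≠ b' := by
    intro e
    have h3 : n * b' = b' * n := by
      calc n * b' = (n * b' * n⁻¹) * n := by group
        _ = b' * n := by rw [e]
    have h4 := (e1 s a b b' o o' n hn).2 h3
    apply hne
    rw [h4]; group
  have x1 := (h1.2.2.2.2.2.2.1 n hn).resolve_left hne
  have x2 := (h2.2.2.2.2.2.2.1 n hn).resolve_left hne'
  have hadj := (jn s b b' hb hb' hb1 hb2 hno).1
  have hs := ha.left
  have aU := Om_le_UU (h.Adj_right ha)
  have bU := Om_le_UU (h.Adj_right hb)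
  have b'U := Om_le_UU (h.Adj_right hb')
  have e3 : n * (b * b') * n⁻¹ = b * b' * (c * c') := by
    calc n * (b * b') * n⁻¹ = (n * b * n⁻¹) * (n * b' * n⁻¹) := by group
      _ = (a * b * c) * (a * b' * c') := by rw [x1, x2]
      _ = a * (b * c * a) * b' * c' := by group
      _ = a * (a * (b * c)) * b' * c' := by rw [h.UU_comm (mul_mem bU h1.2.1) aU]
      _ = (a * a) * b * (c * b') * c' := by group
      _ = b * (b' * c) * c' := by rw [h.Om_sq (h.Adj_right ha), one_mul, h.UU_comm h1.2.1 b'U]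
      _ = _ := by group
  have hadj2 := h.Adj_N ha hadj hn
  rw [e3] at hadj2
  have hbb : (b * b') * (b * b') = 1 := h.UU_sq (mul_mem bU b'U)
  have hcs : c * c' ∈ ZC Q s := mul_mem h1.2.2.1 h2.2.2.1
  have hca : c * c' ∈ ZC Q a := mul_mem h1.2.2.2.1 h2.2.2.2.1
  have hz : (b * b') * (b * b' * (c * c')) ∈ ZC Q s := by
    have : (b * b') * (b * b' * (c * c')) = c * c' := by
      rw [← mul_assoc, hbb, one_mul]
    rw [this]; exact hcs
  have hcc : c * c = 1 := h.UU_sq h1.2.1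
  rcases h.noPar_at hadj hadj2 hz with h5 | h5
  · have h6 : c * c' = 1 := by
      have : b * b' * (c * c') = b * b' * 1 := by rw [h5, mul_one]
      exact mul_left_cancel this
    calc c = c * (c * c') := by rw [h6, mul_one]
      _ = c' := by rw [← mul_assoc, hcc, one_mul]
  · exfalso
    have h6 : c * c' = s := by
      have h7 : b * b' * (c * c') = b * b' * s := by
        rw [h5, h.UU_comm (Om_le_UU hs) (mul_mem bU b'U)]
      exact mul_left_cancel h7
    exact h.not_both ha (h6 ▸ hca)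

/-- the third line: `c(s; b, b'') = c(s; b, b')` for `b'' = b b' d` -/
theorem IsAt.third (h : TvH M r t Q N) (j : JOpp M r t Q N) {s b b' d : G}
    (o : Opp M r t N s b b') (h1 : IsAt M r t Q N s b b' d) :
    Opp M r t N s b (b * b' * d) ∧ IsAt M r t Q N s b (b * b' * d) d := by
  have hb := o.1
  have hb' := o.2.1
  obtain ⟨n, hn, hne⟩ := o.2.2
  have x1 := (h1.2.2.2.2.2.2.1 n hn).resolve_left hne
  have bU := Om_le_UU (h.Adj_right hb)
  have b'U := Om_le_UU (h.Adj_right hb')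
  have hbb := h.Om_sq (h.Adj_right hb)
  have hdd : d * d = 1 := h.UU_sq h1.2.1
  have hnb : n * b * n⁻¹ = b := by rw [h.N_self (h.Adj_right hb) hn]; group
  have hnd : n * d * n⁻¹ = d := by
    have := h.ZC_comm h1.2.2.2.1 (h.N_le_Q (h.Adj_right hb) hn)
    rw [← this]; group
  have e3 : n * (b * b' * d) * n⁻¹ = b' := by
    calc n * (b * b' * d) * n⁻¹ = (n * b * n⁻¹) * (n * b' * n⁻¹) * (n * d * n⁻¹) := by group
      _ = b * (b * b' * d) * d := by rw [hnb, x1, hnd]
      _ = (b * b) * b' * (d * d) := by group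
      _ = b' := by rw [hbb, hdd, one_mul, mul_one]
  have hne2 : n * (b * b' * d) * n⁻¹ ≠ b * b' * d := by
    rw [e3]
    intro e
    -- b' = b b' d ⇒ d = b
    have h2 : b * d = 1 := by
      have : b' * (b * d) = b' * 1 := by
        calc b' * (b * d) = (b' * b) * d := by group
          _ = b * b' * d := by rw [h.UU_comm b'U bU]
          _ = b' * 1 := by rw [← e, mul_one]
      exact mul_left_cancel this
    have h3 : d = b := by
      calc d = (b * b) * d := by rw [hbb, one_mul]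
        _ = b * (b * d) := by group
        _ = b := by rw [h2, mul_one]
    exact h.Adj_not_mem hb (h3 ▸ h1.2.2.1)
  have o2 : Opp M r t N s b (b * b' * d) := ⟨hb, h1.2.2.2.2.2.1, n, hn, hne2⟩
  refine ⟨o2, ?_⟩
  obtain ⟨d', hd'⟩ := Opp.isAt j o2
  have x2 := (hd'.2.2.2.2.2.2.1 n hn).resolve_left hne2
  rw [e3] at x2
  have : d' = d := by
    have h4 : b' = b' * (d * d') := by
      calc b' = b * (b * b' * d) * d' := x2
        _ = (b * b) * b' * (d * d') := by group
        _ = b' * (d * d') := by rw [hbb, one_mul]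
    have h5 : d * d' = 1 := by
      have : b' * 1 = b' * (d * d') := by rw [← h4, mul_one]
      exact (mul_left_cancel this).symm
    calc d' = (d * d) * d' := by rw [hdd, one_mul]
      _ = d * (d * d') := by group
      _ = d := by rw [h5, mul_one]
  rw [this] at hd'
  exact hd'

/-- the third line of two lines opposite to `a` is `⟨s,a⟩` or not opposite to `a` -/
theorem third_not (h : TvH M r t Q N) (j : JOpp M r t Q N) (e1 : E1 M r t N) {s a b b' d : G}
    (o : Opp M r t N s a b) (o' : Opp M r t N s a b') (h1 : IsAt M r t Q N s b b' d) :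
    ¬ Opp M r t N s a (b * b' * d) := by
  intro o''
  have ha := o.1
  obtain ⟨c, hc⟩ := Opp.isAt j o
  obtain ⟨c', hc'⟩ := Opp.isAt j o'
  obtain ⟨c'', hc''⟩ := Opp.isAt j o''
  obtain ⟨n, hn, hne⟩ := o.2.2
  have mv : ∀ x, Opp M r t N s a x → n * x * n⁻¹ ≠ x := by
    intro x ox e
    have h3 : n * x = x * n := by
      calc n * x = (n * x * n⁻¹) * n := by group
        _ = x * n := by rw [e]
    have h4 := (e1 s a b x o ox n hn).2 h3
    apply hne
    rw [h4]; group
  have x1 := (hc.2.2.2.2.2.2.1 n hn).resolve_left hne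
  have x2 := (hc'.2.2.2.2.2.2.1 n hn).resolve_left (mv _ o')
  have x3 := (hc''.2.2.2.2.2.2.1 n hn).resolve_left (mv _ o'')
  have hns := h.N_comm ha hn
  have aU := Om_le_UU (h.Adj_right ha)
  have bU := Om_le_UU (h.Adj_right o.2.1)
  have b'U := Om_le_UU (h.Adj_right o'.2.1)
  have hdn : n * d * n⁻¹ ∈ ZC Q s := (h.ZC_fix hns).2 h1.2.2.1
  -- compare
  have e3 : n * (b * b' * d) * n⁻¹ = b * b' * (c * c' * (n * d * n⁻¹)) := by
    calc n * (b * b' * d) * n⁻¹ = (n * b * n⁻¹) * (n * b' * n⁻¹) * (n * d * n⁻¹) := by group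
      _ = (a * b * c) * (a * b' * c') * (n * d * n⁻¹) := by rw [x1, x2]
      _ = a * (b * c * a) * b' * c' * (n * d * n⁻¹) := by group
      _ = a * (a * (b * c)) * b' * c' * (n * d * n⁻¹) := by rw [h.UU_comm (mul_mem bU hc.2.1) aU]
      _ = (a * a) * b * (c * b') * c' * (n * d * n⁻¹) := by group
      _ = b * (b' * c) * c' * (n * d * n⁻¹) := by
          rw [h.Om_sq (h.Adj_right ha), one_mul, h.UU_comm hc.2.1 b'U]
      _ = _ := by group
  rw [e3] at x3
  have e4 : a * (b * b' * d) * c'' = b * b' * (a * d * c'') := by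
    calc a * (b * b' * d) * c'' = (a * (b * b')) * d * c'' := by group
      _ = ((b * b') * a) * d * c'' := by rw [h.UU_comm aU (mul_mem bU b'U)]
      _ = _ := by group
  rw [e4] at x3
  have e5 := mul_left_cancel x3
  have h6 : a ∈ ZC Q s := by
    have : a = (c * c' * (n * d * n⁻¹)) * (d * c'')⁻¹ := by
      rw [e5]; group
    rw [this]
    exact mul_mem (mul_mem (mul_mem hc.2.2.1 hc'.2.2.1) hdn)
      (inv_mem (mul_mem h1.2.2.1 hc''.2.2.1))
  exact h.Adj_not_mem ha h6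

/-- constant in the second argument -/
theorem IsAt.const (h : TvH M r t Q N) (j : JOpp M r t Q N) (jn : JNon M r t N) (e1 : E1 M r t N)
    {s a b b' c c' : G} (o : Opp M r t N s a b) (o' : Opp M r t N s a b')
    (h1 : IsAt M r t Q N s a b c) (h2 : IsAt M r t Q N s a b' c') : c = c' := by
  by_cases hb1 : b' = b
  · subst hb1; exact IsAt.unique o h1 h2
  by_cases hb2 : b' = s * b
  · subst hb2
    exact IsAt.unique o' (IsAt.mul h j o h1) h2
  by_cases hno : Opp M r t N s b b'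
  · -- case (iii)
    obtain ⟨d, hd⟩ := Opp.isAt j hno
    have key : ∀ b b' c : G, Opp M r t N s a b → Opp M r t N s a b' → Opp M r t N s b b' →
        IsAt M r t Q N s b b' d → IsAt M r t Q N s a b c → c = d := by
      intro b b' c o o' hno hd h1
      have ob : Opp M r t N s b a := (j s a b o).1
      have h1' := IsAt.symm h o h1
      obtain ⟨o3, h3⟩ := IsAt.third h j hno hd
      have hn := third_not h j e1 o o' hd
      by_cases k1 : b * b' * d = a
      · rw [k1] at h3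
        exact IsAt.unique ob h1' h3
      by_cases k2 : b * b' * d = s * a
      · rw [k2] at h3 o3
        have h4 := IsAt.mul h j ob h1'
        exact IsAt.unique o3 h4 h3
      · have hn' : ¬ Opp M r t N s a (b * b' * d) := hn
        exact IsAt.const2 h jn e1 ob o3 k1 k2 hn' h1' h3
    have k1 := key b b' c o o' hno hd h1
    have hd' := IsAt.symm h hno hd
    have k2 := key b' b c' o' o (j s b b' hno).1 hd' h2
    rw [k1, k2]
  · exact IsAt.const2 h jn e1 o o' hb1 hb2 hno h1 h2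

/-- common opposite -/
theorem common (h : TvH M r t Q N) (j : JOpp M r t Q N) (jn : JNon M r t N)
    {s a a' : G} (ha : Adj M r t s a) (ha' : Adj M r t s a') :
    ∃ b, Opp M r t N s a b ∧ Opp M r t N s a' b := by
  obtain ⟨b, ob⟩ := exists_opp h ha
  obtain ⟨b', ob'⟩ := exists_opp h ha'
  by_cases k1 : Opp M r t N s a' b
  · exact ⟨b, ob, k1⟩
  by_cases k2 : Opp M r t N s a b'
  · exact ⟨b', k2, ob'⟩
  have hb := ob.2.1
  have hb' := ob'.2.1
  -- elements of `N a'` fix `b`, elements of `N a` fix `b'`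
  have f1 : ∀ n ∈ N a', n * b * n⁻¹ = b := by
    intro n hn
    by_contra hne
    exact k1 ⟨ha', hb, n, hn, hne⟩
  have f2 : ∀ n ∈ N a, n * b' * n⁻¹ = b' := by
    intro n hn
    by_contra hne
    exact k2 ⟨ha, hb', n, hn, hne⟩
  have e1 : b' ≠ b := by rintro rfl; exact k2 ob
  have e2 : b' ≠ s * b := by rintro rfl; exact k2 (j s a b ob).2.2.1
  obtain ⟨n, hn, hne⟩ := ob.2.2
  obtain ⟨n', hn', hne'⟩ := ob'.2.2
  by_cases hno : Opp M r t N s b b'
  · obtain ⟨d, hd⟩ := Opp.isAt j hno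
    obtain ⟨c, hc⟩ := Opp.isAt j ob
    obtain ⟨c', hc'⟩ := Opp.isAt j ob'
    have x1 := (hc.2.2.2.2.2.2.1 n hn).resolve_left hne
    have x2 := (hc'.2.2.2.2.2.2.1 n' hn').resolve_left hne'
    have aU := Om_le_UU (h.Adj_right ha)
    have a'U := Om_le_UU (h.Adj_right ha')
    have bU := Om_le_UU (h.Adj_right hb)
    have b'U := Om_le_UU (h.Adj_right hb')
    refine ⟨b * b' * d, ⟨ha, hd.2.2.2.2.2.1, n, hn, ?_⟩, ⟨ha', hd.2.2.2.2.2.1, n', hn', ?_⟩⟩
    · intro e
      have e3 : n * (b * b' * d) * n⁻¹ = b * b' * (a * c * (n * d * n⁻¹)) := by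
        calc n * (b * b' * d) * n⁻¹ = (n * b * n⁻¹) * (n * b' * n⁻¹) * (n * d * n⁻¹) := by group
          _ = (a * b * c) * b' * (n * d * n⁻¹) := by rw [x1, f2 n hn]
          _ = (a * b) * (c * b') * (n * d * n⁻¹) := by group
          _ = (b * a) * (b' * c) * (n * d * n⁻¹) := by rw [h.UU_comm aU bU, h.UU_comm hc.2.1 b'U]
          _ = b * (a * b') * c * (n * d * n⁻¹) := by group
          _ = b * (b' * a) * c * (n * d * n⁻¹) := by rw [h.UU_comm aU b'U]
          _ = _ := by group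
      rw [e3] at e
      have e4 := mul_left_cancel e
      have : a = d * (n * d * n⁻¹)⁻¹ * c⁻¹ := by
        calc a = (a * c * (n * d * n⁻¹)) * (n * d * n⁻¹)⁻¹ * c⁻¹ := by group
          _ = _ := by rw [e4]
      apply h.Adj_not_mem ha
      rw [this]
      exact mul_mem (mul_mem hd.2.2.1 (inv_mem ((h.ZC_fix (h.N_comm ha hn)).2 hd.2.2.1)))
        (inv_mem hc.2.2.1)
    · intro e
      have e3 : n' * (b * b' * d) * n'⁻¹ = b * b' * (a' * c' * (n' * d * n'⁻¹)) := by
        calc n' * (b * b' * d) * n'⁻¹ = (n' * b * n'⁻¹) * (n' * b' * n'⁻¹) * (n' * d * n'⁻¹) := by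
              group
          _ = b * (a' * b' * c') * (n' * d * n'⁻¹) := by rw [x2, f1 n' hn']
          _ = b * (b' * a' * c') * (n' * d * n'⁻¹) := by rw [h.UU_comm a'U b'U]
          _ = _ := by group
      rw [e3] at e
      have e4 := mul_left_cancel e
      have : a' = d * (n' * d * n'⁻¹)⁻¹ * c'⁻¹ := by
        calc a' = (a' * c' * (n' * d * n'⁻¹)) * (n' * d * n'⁻¹)⁻¹ * c'⁻¹ := by group
          _ = _ := by rw [e4]
      apply h.Adj_not_mem ha'
      rw [this]
      exact mul_mem (mul_mem hd.2.2.1 (inv_mem ((h.ZC_fix (h.N_comm ha' hn')).2 hd.2.2.1)))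
        (inv_mem hc'.2.2.1)
  · have hadj := (jn s b b' hb hb' e1 e2 hno).1
    refine ⟨b * b', ⟨ha, hadj, n, hn, ?_⟩, ⟨ha', hadj, n', hn', ?_⟩⟩
    · intro e
      apply hne
      have e3 : n * (b * b') * n⁻¹ = (n * b * n⁻¹) * b' := by
        calc n * (b * b') * n⁻¹ = (n * b * n⁻¹) * (n * b' * n⁻¹) := by group
          _ = _ := by rw [f2 n hn]
      rw [e3] at e
      exact mul_right_cancel e
    · intro e
      apply hne'
      have e3 : n' * (b * b') * n'⁻¹ = b * (n' * b' * n'⁻¹) := by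
        calc n' * (b * b') * n'⁻¹ = (n' * b * n'⁻¹) * (n' * b' * n'⁻¹) := by group
          _ = _ := by rw [f1 n' hn']
      rw [e3] at e
      exact mul_left_cancel e

/-- constant at a point -/
theorem exists_is (h : TvH M r t Q N) (j : JOpp M r t Q N) (jn : JNon M r t N) (e1 : E1 M r t N)
    (s : G) (hs : s ∈ Om M r) : ∃ c, Is M r t Q N s c := by
  obtain ⟨m, hm, rfl⟩ := hs
  have hA : Adj M r t (m * r * m⁻¹) (m * t * m⁻¹) := ⟨m, hm, rfl, rfl⟩
  obtain ⟨b0, o0⟩ := exists_opp h hA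
  obtain ⟨c, hc⟩ := Opp.isAt j o0
  refine ⟨c, ?_⟩
  intro a b o
  obtain ⟨c', hc'⟩ := Opp.isAt j o
  obtain ⟨x, o1, o2⟩ := common h j jn hA o.1
  obtain ⟨c1, hc1⟩ := Opp.isAt j o1
  obtain ⟨c2, hc2⟩ := Opp.isAt j o2
  have k1 := IsAt.const h j jn e1 o0 o1 hc hc1
  have k2 := IsAt.const h j jn e1 (j _ _ _ o1).1 (j _ _ _ o2).1 (IsAt.symm h o1 hc1) (IsAt.symm h o2 hc2)
  have k3 := IsAt.const h j jn e1 o2 o hc2 hc'
  have : c = c' := by rw [k1, k2, k3]
  rw [← this] at hc'
  exact ⟨hc'.1, hc'.2.1, hc'.2.2.1, hc'.2.2.2.1, hc'.2.2.2.2.2.1, hc'.2.2.2.2.2.2.1⟩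

theorem Is.conj (h : TvH M r t Q N) {m s c : G} (hm : m ∈ M) (h1 : Is M r t Q N s c) :
    Is M r t Q N (m * s * m⁻¹) (m * c * m⁻¹) := by
  intro a b o
  have o' := Opp.conj h (M.inv_mem hm) o
  have e1 : m⁻¹ * (m * s * m⁻¹) * m⁻¹⁻¹ = s := by group
  rw [e1] at o'
  obtain ⟨x1, x2, x3, x4, x5, x6⟩ := h1 _ _ o'
  refine ⟨?_, UU_conj hm x2, h.ZC_conj.2 x3, ?_, ?_, ?_⟩
  · intro e
    apply x1
    have : c = m⁻¹ * (m * c * m⁻¹) * m := by group
    rw [this, e]; group
  · have := (h.ZC_conj (g := m)).2 x4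
    have e : m * (m⁻¹ * a * m⁻¹⁻¹) * m⁻¹ = a := by group
    rwa [e] at this
  · have := x5.conj hm
    have e : m * (m⁻¹ * a * m⁻¹⁻¹ * (m⁻¹ * b * m⁻¹⁻¹) * c) * m⁻¹ = a * b * (m * c * m⁻¹) := by group
    rwa [e] at this
  · intro n hn
    have hn' : m⁻¹ * n * m⁻¹⁻¹ ∈ N (m⁻¹ * a * m⁻¹⁻¹) := h.Nc _ _ _ hn
    rcases x6 _ hn' with h2 | h2
    · left
      have e : n * b * n⁻¹ = m * (m⁻¹ * n * m⁻¹⁻¹ * (m⁻¹ * b * m⁻¹⁻¹) * (m⁻¹ * n * m⁻¹⁻¹)⁻¹) * m⁻¹ := by
        group
      rw [e, h2]; group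
    · right
      have e : n * b * n⁻¹ = m * (m⁻¹ * n * m⁻¹⁻¹ * (m⁻¹ * b * m⁻¹⁻¹) * (m⁻¹ * n * m⁻¹⁻¹)⁻¹) * m⁻¹ := by
        group
      rw [e, h2]; group

theorem Is.unique (h : TvH M r t Q N) {s c c' : G} (hs : s ∈ Om M r) (h1 : Is M r t Q N s c)
    (h2 : Is M r t Q N s c') : c = c' := by
  obtain ⟨m, hm, rfl⟩ := hs
  have hA : Adj M r t (m * r * m⁻¹) (m * t * m⁻¹) := ⟨m, hm, rfl, rfl⟩
  obtain ⟨b, o⟩ := exists_opp h hA
  have x1 := h1 _ _ o
  have x2 := h2 _ _ o
  obtain ⟨-, -, n, hn, hne⟩ := o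
  have e1 := (x1.2.2.2.2.2 n hn).resolve_left hne
  have e2 := (x2.2.2.2.2.2 n hn).resolve_left hne
  rw [e1] at e2
  exact mul_left_cancel e2

/-- (8) -/
theorem jconst (h : TvH M r t Q N) (j : JOpp M r t Q N) (jn : JNon M r t N) (e1 : E1 M r t N) :
    ∃ c, JConst M r t Q N c := by
  obtain ⟨c, hc⟩ := exists_is h j jn e1 r Om_base
  have step : ∀ s s', Adj M r t s s' → Is M r t Q N s c → Is M r t Q N s' c := by
    intro s s' a hi
    obtain ⟨x, hx, x1, x2, x3⟩ := swap_elt h a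
    have h1 := Is.conj h hx hi
    rw [x1] at h1
    obtain ⟨b, o⟩ := exists_opp h a
    have h2 := hi _ _ o
    have h3 := x3 c h2.2.2.1 h2.2.2.2.1
    have h4 : x * c * x⁻¹ = c := by rw [h3]; group
    rwa [h4] at h1
  have all : ∀ s ∈ Om M r, Is M r t Q N s c := fun s hs => h.conn_ind hc step hs
  obtain ⟨b, o⟩ := exists_opp h Adj_base
  have hb := hc _ _ o
  refine ⟨c, hb.1, hb.2.1, ?_, ?_, ?_⟩
  · intro s hs
    obtain ⟨m, hm, rfl⟩ := hs
    have hA : Adj M r t (m * r * m⁻¹) (m * t * m⁻¹) := ⟨m, hm, rfl, rfl⟩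
    obtain ⟨b, o⟩ := exists_opp h hA
    exact (all _ ⟨m, hm, rfl⟩ _ _ o).2.2.1
  · intro m hm
    have h1 := Is.conj h hm hc
    have h2 := all (m * r * m⁻¹) ⟨m, hm, rfl⟩
    have h3 := Is.unique h ⟨m, hm, rfl⟩ h1 h2
    calc m * c = (m * c * m⁻¹) * m := by group
      _ = c * m := by rw [h3]
  · intro s a b o
    have h1 := all s o.1.left _ _ o
    exact ⟨h1.2.2.2.2.1, h1.2.2.2.2.2⟩

end Cfsg.Agent.Omega.HOne.TvConst

end
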