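import Cfsg.Agent.Mrg.Omega.HOne.QuadAbs
import Cfsg.Agent.Mrg.Omega.VP
import Cfsg.Agent.Mrg.Omega.SQ1.Choice
import Cfsg.Agent.Mrg.Omega.BTwo.Conj
import Cfsg.Agent.ZN.CaseTwo
import Cfsg.Agent.Involutions.BaerSuzuki
import Cfsg.Agent.Mrg.Omega.Assembly

section


/-!
# Mutual pairs of one-factor parabolics, on the level of `P` (never `N_G(V)`)

* `QuadP M A w` : `A` induces on `V / D` exactly the transvections with axis `F w`, `C_V(A)` is the preimage of
  the line `F w`, and `|V : C_V(A)| = |A : C_A(V)| = |F|`;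
* `quadP` : `A ≤ P` quadratic on `V`, `|V : C_V(A)| ≤ |A : C_A(V)|`, `C_A(V / D) = C_A(V)` imply `QuadP`;
* `quadPar` : the same for `P ∈ P*(S)`, `V = V_P`, `D = C_V(O²(P))`, `A ≤ S`;
* `pairPar` : `(V, V')` mutual, `V' ≤ S`, `V ≤ S'`: `|F| = |F'|`, `QuadP` both ways.
-/

set_option autoImplicit false
set_option linter.unusedSectionVars false

namespace Cfsg.Agent.Omega.HOne

open Subgroup Cfsg Cfsg.Agent.ZN Cfsg.Agent.ZN.ChoiceSit Cfsg.Agent.Omega.MinPar
open Cfsg.Agent.Omega.FrameFF Cfsg.Agent.Lib.SL2Mat Cfsg.Agent.Omega.NatPair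
open Cfsg.Agent.Omega.SQ1.FFOne (NatSec)
open Cfsg.Agent.MinSimple.VModule (oddGen zl_comm zl_sq le_normalizer_zl le_normalizer_oddGen)
open Cfsg.Agent.MinSimple.MinParabolic (IsMinPar)
open Cfsg.Agent.MinSimple
open Cfsg.Agent.ZN.CaseTwo (syl_of_sylow)

universe u

variable {G : Type u} [Group G]

/-- The section of a `NatOver`. -/
def toSec {F : Type} [Field F] {P V D : Subgroup G} (M : NatOver F P V D) (hDV : D ≤ V)
    (hV : ∀ h ∈ P, ∀ v ∈ V, h * v * h⁻¹ ∈ V) (hD : ∀ h ∈ P, ∀ v ∈ D, h * v * h⁻¹ ∈ D) : NatSec F P V D where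
  π := M.e
  map_mul := M.mul
  V0V := hDV
  ker := M.ker
  surj := M.surj
  Vn := hV
  V0n := hD
  lift A := by
    obtain ⟨g, hg, h1, -⟩ := M.lift A
    exact ⟨g, hg, h1⟩
  norm := M.norm

/-- `A` induces on `V / D` exactly the transvections with axis `F w`; `C_V(A)` is the preimage of `F w`. -/
structure QuadP {F : Type} [Field F] {P V D : Subgroup G} (M : NatOver F P V D) (A : Subgroup G)
    (w : Fin 2 → F) : Prop where
  ne : w ≠ 0
  lin : ∀ a ∈ A, ∃ B, ap B w = w ∧ ∀ v ∈ V, M.e (a * v * a⁻¹) = ap B (M.e v)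
  full : ∀ B, ap B w = w → ∃ a ∈ A, ∀ v ∈ V, M.e (a * v * a⁻¹) = ap B (M.e v)
  cent : ∀ v ∈ V, (∀ a ∈ A, a * v = v * a) ↔ ∃ c : F, M.e v = c • w
  idxV : (centralizer (A : Set G)).relIndex V = Nat.card F
  idxA : (centralizer (V : Set G)).relIndex A = Nat.card F
  reg : ∀ a ∈ A, (¬ ∀ v ∈ V, a * v = v * a) → ∀ v ∈ V, a * v = v * a → ∃ c : F, M.e v = c • w

/-- **Quadratic offenders, one factor.** -/
theorem quadP [Finite G] {F : Type} [Field F] [Finite F] [CharP F 2] {P V D A : Subgroup G}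
    (M : NatOver F P V D) (hDV : D ≤ V)
    (hV : ∀ h ∈ P, ∀ v ∈ V, h * v * h⁻¹ ∈ V) (hD : ∀ h ∈ P, ∀ v ∈ D, h * v * h⁻¹ ∈ D) (hAP : A ≤ P)
    (hker : ∀ a ∈ A, (∀ v ∈ V, a * v * a⁻¹ * v⁻¹ ∈ D) → ∀ v ∈ V, a * v = v * a)
    (hne : ∃ a ∈ A, ∃ v ∈ V, a * v ≠ v * a)
    (hq : ∀ a ∈ A, ∀ b ∈ A, ∀ v ∈ V, b * (a * v * a⁻¹ * v⁻¹) = (a * v * a⁻¹ * v⁻¹) * b)
    (hoff : (centralizer (A : Set G)).relIndex V ≤ (centralizer (V : Set G)).relIndex A) :
    ∃ w, QuadP M A w := by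
  set N := toSec M hDV hV hD with hN
  have hπ : ∀ g, N.π g = M.e g := fun g => rfl
  -- the action of `A`
  let act : A → (Fin 2 → F) → (Fin 2 → F) := fun a x => N.act (a : G) x
  have hact : ∀ (a : A) (v : G), v ∈ V → act a (M.e v) = M.e ((a : G) * v * (a : G)⁻¹) := fun a v hv =>
    N.act_π (hAP a.2) hv
  have hA : QuadAbs.Act act :=
    { mul := fun a b x => N.act_mul (hAP a.2) (hAP b.2) x
      one := fun x => N.act_one x
      add := fun a x y => N.act_add (hAP a.2) x y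
      semi := fun a => N.exists_semi (hAP a.2) }
  have hkeriff : ∀ a : A, a ∈ hA.ker ↔ ∀ v ∈ V, (a : G) * v = v * a := by
    intro a
    rw [hA.mem_ker]
    constructor
    · intro h
      refine hker a a.2 fun v hv => ?_
      rw [← M.ker _ (mul_mem (hV a (hAP a.2) v hv) (inv_mem hv)), M.mul _ (hV a (hAP a.2) v hv) _ (inv_mem hv),
        ← hact a v hv, h]
      have h2 := M.mul v hv v⁻¹ (inv_mem hv)
      rw [mul_inv_cancel] at h2
      rw [← h2]
      exact N.map_one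
    · intro h x
      obtain ⟨v, hv, rfl⟩ := M.surj x
      rw [hact a v hv, h v hv, mul_inv_cancel_right]
  have hidx : hA.ker.index = (centralizer (V : Set G)).relIndex A := by
    rw [relIndex]
    congr 1
    ext a
    rw [hkeriff, mem_subgroupOf, mem_centralizer_iff]
    exact ⟨fun h v hv => (h v hv).symm, fun h v hv => (h v hv).symm⟩
  -- the fixed vectors
  let Cp : Subgroup G :=
    { carrier := {v | v ∈ V ∧ ∀ a : A, act a (M.e v) = M.e v}
      mul_mem' := by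
        rintro v w ⟨hv, hv'⟩ ⟨hw, hw'⟩
        refine ⟨mul_mem hv hw, fun a => ?_⟩
        rw [M.mul v hv w hw, hA.add, hv' a, hw' a]
      one_mem' := ⟨one_mem V, fun a => by
        have h0 : M.e 1 = 0 := N.map_one
        rw [h0, hA.zero]⟩
      inv_mem' := by
        rintro v ⟨hv, hv'⟩
        refine ⟨inv_mem hv, fun a => ?_⟩
        have h1 : M.e v⁻¹ = - M.e v := N.map_inv hv
        have h2 := hA.sub a 0 (M.e v)
        rw [zero_sub, hA.zero, zero_sub, hv' a] at h2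
        rw [h1, h2] }
  have hCp : ∀ v, v ∈ Cp ↔ v ∈ V ∧ ∀ a : A, act a (M.e v) = M.e v := fun v => Iff.rfl
  have hcVCp : V ⊓ centralizer (A : Set G) ≤ Cp := by
    rintro v ⟨hv, hv'⟩
    refine ⟨hv, fun a => ?_⟩
    rw [hact a v hv, mem_centralizer_iff.1 hv' a a.2, mul_inv_cancel_right]
  -- `|V : Cp| |Fix| = |F|²`
  have hfixcard : Cp.relIndex V * Nat.card {x : Fin 2 → F // ∀ a, act a x = x} = Nat.card F ^ 2 := by
    let φ : V →* Multiplicative (Fin 2 → F) :=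
      MonoidHom.mk' (fun v => Multiplicative.ofAdd (M.e v)) (fun v w => by
        rw [← ofAdd_add]
        exact congrArg Multiplicative.ofAdd (M.mul v v.2 w w.2))
    have hφs : Function.Surjective φ := by
      intro x
      obtain ⟨v, hv, hx⟩ := M.surj (Multiplicative.toAdd x)
      exact ⟨⟨v, hv⟩, by
        change Multiplicative.ofAdd (M.e v) = x
        rw [hx]; rfl⟩
    let Fx : Subgroup (Multiplicative (Fin 2 → F)) :=
      { carrier := {x | ∀ a, act a (Multiplicative.toAdd x) = Multiplicative.toAdd x}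
        mul_mem' := by
          intro x y hx hy a
          rw [toAdd_mul, hA.add, hx a, hy a]
        one_mem' := fun a => by rw [toAdd_one, hA.zero]
        inv_mem' := by
          intro x hx a
          have h2 := hA.sub a 0 (Multiplicative.toAdd x)
          rw [zero_sub, hA.zero, zero_sub, hx a] at h2
          rw [toAdd_inv, h2] }
    have h1 : Cp.subgroupOf V = Fx.comap φ := by
      ext v
      rw [mem_subgroupOf, mem_comap]
      exact ⟨fun h => h.2, fun h => ⟨v.2, h⟩⟩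
    have h2 : Cp.relIndex V = Fx.index := by
      rw [relIndex, h1]
      exact Subgroup.index_comap_of_surjective Fx hφs
    have h3 : Nat.card Fx = Nat.card {x : Fin 2 → F // ∀ a, act a x = x} := by
      refine Nat.card_congr ⟨fun x => ⟨Multiplicative.toAdd x.1, x.2⟩, fun x => ⟨Multiplicative.ofAdd x.1, x.2⟩,
        fun x => rfl, fun x => rfl⟩
    rw [h2, ← h3, mul_comm, Subgroup.card_mul_index]
    have h4 : Nat.card (Multiplicative (Fin 2 → F)) = Nat.card (Fin 2 → F) :=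
      Nat.card_congr Multiplicative.toAdd
    rw [h4, Nat.card_fun]
    simp
  have hCVeq : (V ⊓ centralizer (A : Set G)).relIndex V = (centralizer (A : Set G)).relIndex V := by
    rw [relIndex, relIndex, inf_comm, inf_subgroupOf_right]
  have hcle : Cp.relIndex V ≤ (centralizer (A : Set G)).relIndex V := by
    rw [← hCVeq]
    exact relIndex_le_of_le_left hcVCp (by
      rw [relIndex]; exact Subgroup.index_ne_zero_of_finite)
  have hne' : ∃ a x, act a x ≠ x := by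
    obtain ⟨a, ha, v, hv, hav⟩ := hne
    by_contra hcon
    push Not at hcon
    exact hav ((hkeriff ⟨a, ha⟩).1 (hA.mem_ker.2 (hcon ⟨a, ha⟩)) v hv)
  have hq' : ∀ a b x, act b (act a x - x) = act a x - x := by
    intro a b x
    obtain ⟨v, hv, rfl⟩ := M.surj x
    have h1 := hV a (hAP a.2) v hv
    have h2 : (a : G) * v * (a : G)⁻¹ * v⁻¹ ∈ V := mul_mem h1 (inv_mem hv)
    have h3 : act a (M.e v) - M.e v = M.e ((a : G) * v * (a : G)⁻¹ * v⁻¹) := by
      rw [hact a v hv]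
      exact (N.map_div h1 hv).symm
    rw [h3, hact b _ h2, hq a a.2 b b.2 v hv, mul_inv_cancel_right]
  obtain ⟨w, Q⟩ := QuadAbs.quad hA hne' hq' (by
    rw [← hfixcard, hidx]
    exact Nat.mul_le_mul_right _ (hcle.trans hoff))
  have hfc : Nat.card {x : Fin 2 → F // ∀ b, act b x = x} = Nat.card F := by
    refine (Nat.card_congr (Equiv.ofBijective (fun c : F => (⟨c • w, (Q.fix _).2 ⟨c, rfl⟩⟩ :
      {x : Fin 2 → F // ∀ b, act b x = x})) ⟨?_, ?_⟩)).symm
    · intro c d hcd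
      exact smul_left_injective F Q.ne (congrArg Subtype.val hcd)
    · rintro ⟨x, hx⟩
      obtain ⟨c, rfl⟩ := (Q.fix x).1 hx
      exact ⟨c, rfl⟩
  have hpos : 0 < Nat.card F := Nat.card_pos
  have hCpq : Cp.relIndex V = Nat.card F := by
    rw [hfc, pow_two] at hfixcard
    exact Nat.eq_of_mul_eq_mul_right hpos hfixcard
  have hidxA : (centralizer (V : Set G)).relIndex A = Nat.card F := by rw [← hidx, Q.index]
  have hidxV : (centralizer (A : Set G)).relIndex V = Nat.card F := by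
    apply le_antisymm
    · rw [← hidxA]; exact hoff
    · rw [← hCpq]; exact hcle
  -- `C_V(A) = Cp`
  have hCeq : V ⊓ centralizer (A : Set G) = Cp := by
    refine Subgroup.eq_of_le_of_card_ge hcVCp ?_
    have h1 : (V ⊓ centralizer (A : Set G)).relIndex V * Nat.card (V ⊓ centralizer (A : Set G) : Subgroup G) =
        Nat.card V := by
      rw [mul_comm, ← Nat.card_congr (Subgroup.subgroupOfEquivOfLe (inf_le_left : V ⊓ centralizer (A : Set G) ≤ V)).toEquiv,
        relIndex, Subgroup.card_mul_index]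
    have h2 : Cp.relIndex V * Nat.card Cp = Nat.card V := by
      have hle : Cp ≤ V := fun v hv => hv.1
      rw [mul_comm, ← Nat.card_congr (Subgroup.subgroupOfEquivOfLe hle).toEquiv,
        relIndex, Subgroup.card_mul_index]
    rw [hCVeq, hidxV] at h1
    rw [hCpq] at h2
    exact (Nat.eq_of_mul_eq_mul_left hpos (h2.trans h1.symm)).le
  refine ⟨w, Q.ne, ?_, ?_, ?_, hidxV, hidxA, ?_⟩
  · intro a ha
    obtain ⟨B, hB, hB'⟩ := Q.lin ⟨a, ha⟩
    exact ⟨B, hB, fun v hv => by rw [← hB', hact ⟨a, ha⟩ v hv]⟩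
  · intro B hB
    obtain ⟨a, ha⟩ := Q.full B hB
    exact ⟨a, a.2, fun v hv => by rw [← ha, hact a v hv]⟩
  · intro v hv
    rw [← Q.fix]
    constructor
    · intro h a
      rw [hact a v hv, h a a.2, mul_inv_cancel_right]
    · intro h a ha
      have h1 : v ∈ V ⊓ centralizer (A : Set G) := by rw [hCeq]; exact ⟨hv, h⟩
      exact mem_centralizer_iff.1 h1.2 a ha
  · intro a ha hna v hv hav
    refine Q.reg ⟨a, ha⟩ (fun h => hna ((hkeriff _).1 h)) _ ?_
    rw [hact ⟨a, ha⟩ v hv, hav, mul_inv_cancel_right]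

/-! ### `P ∈ P*(S)` -/

theorem cv_le (S P : Subgroup G) : cv S P ≤ zl S P := inf_le_left

theorem conj_mem_zl {S P : Subgroup G} {h v : G} (hh : h ∈ P) (hv : v ∈ zl S P) : h * v * h⁻¹ ∈ zl S P :=
  (mem_normalizer_iff.1 (le_normalizer_zl S P hh) v).1 hv

theorem le_normalizer_cv (S P : Subgroup G) : P ≤ normalizer (cv S P : Set G) := by
  refine le_trans (le_inf (le_normalizer_zl S P)
    ((le_normalizer_oddGen P).trans (BTwo.normalizer_le_normalizer_centralizer _))) ?_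
  exact inf_normalizer_le_normalizer_inf

theorem conj_mem_cv {S P : Subgroup G} {h v : G} (hh : h ∈ P) (hv : v ∈ cv S P) : h * v * h⁻¹ ∈ cv S P :=
  (mem_normalizer_iff.1 (le_normalizer_cv S P hh) v).1 hv

section par

variable [Finite G] (hG : IsCharacteristicTwoType G) (S : Sylow 2 G) {P : Subgroup G}
  (h : IsParS (S : Subgroup G) P)

include hG h in
/-- an element of `S` which centralises `V / D` centralises `V` -/
theorem comm_of_sec {F : Type} [Field F] [Finite F] [CharP F 2]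
    (M : NatOver F P (zl (S : Subgroup G) P) (cv (S : Subgroup G) P)) {a : G} (ha : a ∈ (S : Subgroup G))
    (hc : ∀ v ∈ zl (S : Subgroup G) P, a * v * a⁻¹ * v⁻¹ ∈ cv (S : Subgroup G) P) :
    ∀ v ∈ zl (S : Subgroup G) P, a * v = v * a := by
  have hP := h.toIsPar
  set N := toSec M (cv_le _ _) (fun _ hh _ hv => conj_mem_zl hh hv) (fun _ hh _ hv => conj_mem_cv hh hv)
  have hsyl : Syl (S : Subgroup G) P := syl_of_sylow S h.le
  have h1 : (S : Subgroup G) ⊓ N.kern ≤ o2 P := by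
    rcases hP.sup_eq_or_inf_le S N.kern_le (fun g hg => SQ1.FFOne.mem_norm_of fun k hk =>
      N.kern_norm hg hk) with h2 | h2
    · exact absurd h2 (N.kern_sup_ne hsyl)
    · exact h2
  have h2 : a ∈ o2 P := h1 ⟨ha, (N.mem_kern_iff (h.le ha)).2 hc⟩
  rw [← IsParS.inf_centralizer S hG h] at h2
  intro v hv
  exact (mem_centralizer_iff.1 h2.2 v hv).symm

include hG h in
/-- **Quadratic offenders in `S` on `V_P`.** -/
theorem quadPar {F : Type} [Field F] [Finite F] [CharP F 2]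
    (M : NatOver F P (zl (S : Subgroup G) P) (cv (S : Subgroup G) P)) {A : Subgroup G}
    (hAS : A ≤ (S : Subgroup G))
    (hne : ∃ a ∈ A, ∃ v ∈ zl (S : Subgroup G) P, a * v ≠ v * a)
    (hq : ∀ a ∈ A, ∀ b ∈ A, ∀ v ∈ zl (S : Subgroup G) P,
      b * (a * v * a⁻¹ * v⁻¹) = (a * v * a⁻¹ * v⁻¹) * b)
    (hoff : (centralizer (A : Set G)).relIndex (zl (S : Subgroup G) P) ≤
      (centralizer (zl (S : Subgroup G) P : Set G)).relIndex A) : ∃ w, QuadP M A w :=
  quadP M (cv_le _ _) (fun _ hh _ hv => conj_mem_zl hh hv) (fun _ hh _ hv => conj_mem_cv hh hv)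
    (hAS.trans h.le) (fun _ ha hc => comm_of_sec hG S h M (hAS ha) hc) hne hq hoff

include hG in
/-- **Mutual pairs of one-factor members**: `V' ≤ S`, `V ≤ S'`. -/
theorem pairPar (h : IsParS (S : Subgroup G) P) (S' : Sylow 2 G) {P' : Subgroup G}
    (h' : IsParS (S' : Subgroup G) P')
    {F F' : Type} [Field F] [Finite F] [CharP F 2] [Field F'] [Finite F'] [CharP F' 2]
    (M : NatOver F P (zl (S : Subgroup G) P) (cv (S : Subgroup G) P))
    (M' : NatOver F' P' (zl (S' : Subgroup G) P') (cv (S' : Subgroup G) P'))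
    (h1 : zl (S' : Subgroup G) P' ≤ (S : Subgroup G)) (h2 : zl (S : Subgroup G) P ≤ (S' : Subgroup G))
    (hne : ⁅zl (S : Subgroup G) P, zl (S' : Subgroup G) P'⁆ ≠ ⊥) :
    Nat.card F = Nat.card F' ∧ (∃ w, QuadP M (zl (S' : Subgroup G) P') w) ∧
      ∃ w, QuadP M' (zl (S : Subgroup G) P) w := by
  obtain ⟨V, hV⟩ : ∃ V, V = zl (S : Subgroup G) P := ⟨_, rfl⟩
  obtain ⟨V', hV'⟩ : ∃ V', V' = zl (S' : Subgroup G) P' := ⟨_, rfl⟩
  rw [← hV] at h2 hne
  rw [← hV'] at h1 hne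
  have n1 : V' ≤ normalizer (V : Set G) := by
    rw [hV]
    exact (h1.trans h.le).trans (le_normalizer_zl _ _)
  have n2 : V ≤ normalizer (V' : Set G) := by
    rw [hV']
    exact (h2.trans h'.le).trans (le_normalizer_zl _ _)
  have hcm : ∀ a ∈ V', ∀ v ∈ V, a * v * a⁻¹ * v⁻¹ ∈ V ⊓ V' := by
    intro a ha v hv
    refine mem_inf.2 ⟨mul_mem ((mem_normalizer_iff.1 (n1 ha) v).1 hv) (inv_mem hv), ?_⟩
    have h3 : v * a⁻¹ * v⁻¹ ∈ V' := (mem_normalizer_iff.1 (n2 hv) a⁻¹).1 (inv_mem ha)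
    have h4 : a * v * a⁻¹ * v⁻¹ = a * (v * a⁻¹ * v⁻¹) := by group
    rw [h4]
    exact mul_mem ha h3
  have hcm' : ∀ a ∈ V, ∀ v ∈ V', a * v * a⁻¹ * v⁻¹ ∈ V ⊓ V' := by
    intro a ha v hv
    have h3 := hcm v hv a ha
    have h4 : a * v * a⁻¹ * v⁻¹ = (v * a * v⁻¹ * a⁻¹)⁻¹ := by group
    rw [h4]
    exact inv_mem h3
  have hVc : ∀ a ∈ V, ∀ b ∈ V, a * b = b * a := fun a ha b hb =>
    VModule.zc_comm _ _ (h.isLoc.zl_le S hG (hV ▸ ha)) _ (h.isLoc.zl_le S hG (hV ▸ hb))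
  have hVc' : ∀ a ∈ V', ∀ b ∈ V', a * b = b * a := fun a ha b hb =>
    VModule.zc_comm _ _ (h'.isLoc.zl_le S' hG (hV' ▸ ha)) _ (h'.isLoc.zl_le S' hG (hV' ▸ hb))
  have hne1 : ∃ v ∈ V, ∃ a ∈ V', a * v ≠ v * a := by
    by_contra hcon
    push Not at hcon
    apply hne
    rw [commutator_eq_bot_iff_le_centralizer]
    intro v hv
    exact mem_centralizer_iff.2 fun a ha => hcon v hv a ha
  obtain ⟨v₀, hv₀, a₀, ha₀, hav⟩ := hne1
  have q1 : ∀ a ∈ V', ∀ b ∈ V', ∀ v ∈ V, b * (a * v * a⁻¹ * v⁻¹) = (a * v * a⁻¹ * v⁻¹) * b :=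
    fun a ha b hb v hv => hVc' b hb _ (hcm a ha v hv).2
  have q2 : ∀ a ∈ V, ∀ b ∈ V, ∀ v ∈ V', b * (a * v * a⁻¹ * v⁻¹) = (a * v * a⁻¹ * v⁻¹) * b :=
    fun a ha b hb v hv => hVc b hb _ (hcm' a ha v hv).1
  subst hV hV'
  rcases le_total ((centralizer (zl (S' : Subgroup G) P' : Set G)).relIndex (zl (S : Subgroup G) P))
    ((centralizer (zl (S : Subgroup G) P : Set G)).relIndex (zl (S' : Subgroup G) P')) with hle | hle
  · obtain ⟨w, hw⟩ := quadPar hG S h M h1 ⟨a₀, ha₀, v₀, hv₀, hav⟩ q1 hle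
    obtain ⟨w', hw'⟩ := quadPar hG S' h' M' h2 ⟨v₀, hv₀, a₀, ha₀, fun he => hav he.symm⟩ q2
      (by rw [hw.idxA, hw.idxV])
    exact ⟨by rw [← hw.idxV, hw'.idxA], ⟨w, hw⟩, w', hw'⟩
  · obtain ⟨w', hw'⟩ := quadPar hG S' h' M' h2 ⟨v₀, hv₀, a₀, ha₀, fun he => hav he.symm⟩ q2 hle
    obtain ⟨w, hw⟩ := quadPar hG S h M h1 ⟨a₀, ha₀, v₀, hv₀, hav⟩ q1
      (by rw [hw'.idxA, hw'.idxV])
    exact ⟨by rw [← hw.idxV, hw'.idxA], ⟨w, hw⟩, w', hw'⟩

end par

end Cfsg.Agent.Omega.HOne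

end

section


/-!
# II.0h1, `q = 2`, case (beta): the H-side of (13) of #15959 (helper916; Lean: helper52)

* `IsTv a K c` : the automorphism `a` of `M` is the transvection with axis `K` and centre `c`;
* `false_of` : `X ≤ Aut M`, `M` elementary abelian, `O_2(X) = 1`, `T` Sylow in `X`: there are no two
  transvections in `X` with the same axis and different centres fixed by `T` (Baer-Suzuki);
* `hside_of` : the same for `H` acting on `NN`: `HSide S H NN`;
* `red_of` : the hypothesis '2-reduced' for `NN = ⟨z^g : g ∈ H, z ∈ Z⟩`, `Z` central in the Sylow group `S`.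
-/

set_option autoImplicit false

namespace Cfsg.Agent.Omega.HOne.TvHSide

open Subgroup

theorem le_normalizer_of {G : Type*} [Group G] {A B : Subgroup G} (h : ∀ a ∈ A, ∀ b ∈ B, a * b * a⁻¹ ∈ B) :
    A ≤ normalizer (B : Set G) := by
  intro a ha
  rw [mem_normalizer_iff]
  refine fun b => ⟨h a ha b, fun hb => ?_⟩
  have h1 := h a⁻¹ (A.inv_mem ha) _ hb
  have e : a⁻¹ * (a * b * a⁻¹) * a⁻¹⁻¹ = b := by group
  rwa [e] at h1

/-! ### transvections -/

section abs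

variable {M : Type*} [CommGroup M]

/-- `a` is the transvection with axis `K` and centre `c` -/
structure IsTv (a : MulAut M) (K : Subgroup M) (c : M) : Prop where
  fix : ∀ n ∈ K, a n = n
  mov : ∀ n, n ∉ K → a n = n * c
  mem : c ∈ K
  idx : ∀ m n, m ∉ K → n ∉ K → m * n ∈ K

variable {a b : MulAut M} {K L : Subgroup M} {c d : M}

theorem IsTv.sq (hM : ∀ m : M, m * m = 1) (h : IsTv a K c) : a * a = 1 := by
  ext n
  rw [MulAut.mul_apply, MulAut.one_apply]
  by_cases hn : n ∈ K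
  · rw [h.fix n hn, h.fix n hn]
  · rw [h.mov n hn, map_mul, h.mov n hn, h.fix c h.mem, mul_assoc, hM, mul_one]

theorem IsTv.cen (h : IsTv a K c) : a c = c := h.fix c h.mem

/-- `(a b)^4 = 1` if the centre of `b` is in the axis of `a` -/
theorem IsTv.pow_four (hM : ∀ m : M, m * m = 1) (ha : IsTv a K c) (hb : IsTv b L d) (h : d ∈ K) :
    (a * b) ^ 4 = 1 := by
  have hd : (a * b) d = d := by rw [MulAut.mul_apply, hb.cen, ha.fix d h]
  have hc : (a * b) c = c ∨ (a * b) c = c * d := by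
    rw [MulAut.mul_apply]
    by_cases hn : c ∈ L
    · rw [hb.fix c hn]
      exact Or.inl ha.cen
    · rw [hb.mov c hn, map_mul, ha.cen, ha.fix d h]
      exact Or.inr rfl
  -- `g n ∈ n ⟨c, d⟩`
  have hn : ∀ n, (a * b) n = n ∨ (a * b) n = n * c ∨ (a * b) n = n * d ∨ (a * b) n = n * c * d := by
    intro n
    rw [MulAut.mul_apply]
    by_cases h1 : n ∈ L
    · rw [hb.fix n h1]
      by_cases h2 : n ∈ K
      · exact Or.inl (ha.fix n h2)
      · exact Or.inr (Or.inl (ha.mov n h2))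
    · rw [hb.mov n h1, map_mul, ha.fix d h]
      by_cases h2 : n ∈ K
      · rw [ha.fix n h2]
        exact Or.inr (Or.inr (Or.inl rfl))
      · rw [ha.mov n h2]
        exact Or.inr (Or.inr (Or.inr rfl))
  -- `g² n ∈ n ⟨d⟩`
  have h2 : ∀ n, (a * b) ((a * b) n) = n ∨ (a * b) ((a * b) n) = n * d := by
    intro n
    have e1 : ∀ x : M, x * c * c = x := fun x => by rw [mul_assoc, hM, mul_one]
    have e2 : ∀ x : M, x * d * d = x := fun x => by rw [mul_assoc, hM, mul_one]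
    have e3 : ∀ x : M, x * d * c = x * c * d := fun x => mul_right_comm x d c
    rcases hn n with h1 | h1 | h1 | h1
    · rw [h1, h1]
      exact Or.inl rfl
    · rw [h1, map_mul, h1]
      rcases hc with h2 | h2
      · rw [h2, e1]
        exact Or.inl rfl
      · rw [h2, ← mul_assoc, e1]
        exact Or.inr rfl
    · rw [h1, map_mul, h1, hd, e2]
      exact Or.inl rfl
    · rw [h1, map_mul, map_mul, h1, hd]
      rcases hc with h2 | h2
      · rw [h2, e3, e1, e2]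
        exact Or.inl rfl
      · rw [h2, ← mul_assoc, e3, e1, e2]
        exact Or.inr rfl
  have h4 : ∀ n, (a * b) ((a * b) ((a * b) ((a * b) n))) = n := by
    intro n
    rcases h2 n with h3 | h3
    · rw [h3, h3]
    · rw [h3, map_mul, map_mul, hd, hd, h3, mul_assoc, hM, mul_one]
  ext n
  rw [pow_succ, pow_succ, pow_succ, pow_one, MulAut.mul_apply, MulAut.mul_apply, MulAut.mul_apply,
    MulAut.one_apply]
  exact h4 n

/-- conjugate transvections -/
theorem IsTv.conj (h : IsTv a K c) (g : MulAut M) :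
    IsTv (g * a * g⁻¹) (K.map g.toMonoidHom) (g c) := by
  have key : ∀ n, n ∈ K.map g.toMonoidHom ↔ g⁻¹ n ∈ K := by
    intro n
    constructor
    · rintro ⟨k, hk, rfl⟩
      have : g⁻¹ (g.toMonoidHom k) = k := by
        change g⁻¹ (g k) = k
        rw [← MulAut.mul_apply, inv_mul_cancel, MulAut.one_apply]
      rw [this]
      exact hk
    · intro hn
      refine ⟨g⁻¹ n, hn, ?_⟩
      change g (g⁻¹ n) = n
      rw [← MulAut.mul_apply, mul_inv_cancel, MulAut.one_apply]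
  have gg : ∀ n, g (g⁻¹ n) = n := fun n => by
    rw [← MulAut.mul_apply, mul_inv_cancel, MulAut.one_apply]
  have gg' : ∀ n, g⁻¹ (g n) = n := fun n => by
    rw [← MulAut.mul_apply, inv_mul_cancel, MulAut.one_apply]
  refine ⟨fun n hn => ?_, fun n hn => ?_, ?_, fun m n hm hn => ?_⟩
  · rw [MulAut.mul_apply, MulAut.mul_apply, h.fix _ ((key n).1 hn), gg]
  · rw [MulAut.mul_apply, MulAut.mul_apply, h.mov _ (fun h1 => hn ((key n).2 h1)), map_mul, gg]
  · rw [key, gg']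
    exact h.mem
  · rw [key, map_mul]
    exact h.idx _ _ (fun h1 => hm ((key m).2 h1)) fun h1 => hn ((key n).2 h1)

/-- **Baer-Suzuki for transvections.** -/
theorem exists_tv [Finite M] (hM : ∀ m : M, m * m = 1) {X : Subgroup (MulAut M)} (ha : IsTv a K c)
    (haX : a ∈ X) (hX : ∀ (Y : Subgroup (MulAut M)), Y ≤ X → X ≤ normalizer (Y : Set (MulAut M)) →
      IsPGroup 2 Y → Y = ⊥) (hne : a ≠ 1) :
    ∃ b ∈ X, ∃ (L : Subgroup M) (d : M), IsTv b L d ∧ d ∉ K ∧ c ∉ L := by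
  have haa := ha.sq hM
  obtain ⟨g, hg1, hgo, hgi⟩ := Involutions.BaerSuzuki.exists_odd_inverted (G := X) ⟨a, haX⟩
    (Subtype.ext haa) (by
      intro h1
      have h2 := hX ((normalClosure {(⟨a, haX⟩ : X)}).map X.subtype) (map_subtype_le _) ?_ (h1.map _)
      · have h3 : (⟨a, haX⟩ : X) ∈ normalClosure {(⟨a, haX⟩ : X)} := subset_normalClosure rfl
        have h4 := mem_map_of_mem X.subtype h3
        rw [h2, mem_bot] at h4
        exact hne h4
      · have h3 : ((normalClosure {(⟨a, haX⟩ : X)}).map X.subtype).subgroupOf X =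
            normalClosure {(⟨a, haX⟩ : X)} := by
          rw [subgroupOf, comap_map_eq_self_of_injective X.subtype_injective]
        have h4 : (((normalClosure {(⟨a, haX⟩ : X)}).map X.subtype).subgroupOf X).Normal := by
          rw [h3]
          exact normalClosure_normal
        exact (normal_subgroupOf_iff_le_normalizer (map_subtype_le _)).1 h4)
  -- `a (g a g⁻¹) = g⁻²`
  have hgi' : a * (g : MulAut M) * a⁻¹ = (g : MulAut M)⁻¹ := congrArg Subtype.val hgi
  have haa' : a⁻¹ = a := inv_eq_of_mul_eq_one_left haa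
  refine ⟨g * a * (g : MulAut M)⁻¹, X.mul_mem (X.mul_mem g.2 haX) (X.inv_mem g.2), _, _, ha.conj g, ?_⟩
  have e : a * (g * a * (g : MulAut M)⁻¹) = ((g : MulAut M)⁻¹) ^ 2 := by
    have : a * (g * a * (g : MulAut M)⁻¹) = (a * g * a⁻¹) * (g : MulAut M)⁻¹ := by
      rw [haa']
      group
    rw [this, hgi', sq]
  have hodd : Odd (orderOf ((((g : MulAut M)⁻¹) ^ 2))) := by
    have h1 : orderOf ((g : MulAut M)⁻¹) = orderOf g := by rw [orderOf_inv, Subgroup.orderOf_coe]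
    exact Odd.of_dvd_nat (h1 ▸ hgo) (orderOf_pow_dvd 2)
  have hne2 : ((g : MulAut M)⁻¹) ^ 2 ≠ 1 := by
    intro h1
    rw [inv_pow, inv_eq_one] at h1
    have h2 : orderOf g ∣ 2 := orderOf_dvd_of_pow_eq_one (Subtype.ext h1)
    rcases (Nat.dvd_prime Nat.prime_two).1 h2 with h3 | h3
    · exact hg1 (orderOf_eq_one_iff.1 h3)
    · rw [h3] at hgo
      exact absurd hgo (by decide)
  have hfour : ∀ x : MulAut M, Odd (orderOf x) → x ^ 4 = 1 → x = 1 := by
    intro x h1 h2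
    have h3 : orderOf x ∣ 2 ^ 2 := orderOf_dvd_of_pow_eq_one h2
    have h4 : Nat.Coprime (orderOf x) (2 ^ 2) := Nat.Coprime.pow_right 2 (Nat.coprime_two_right.2 h1)
    exact orderOf_eq_one_iff.1 (h4.eq_one_of_dvd h3)
  constructor
  · intro h1
    have h2 := ha.pow_four hM (ha.conj g) h1
    rw [e] at h2
    exact hne2 (hfour _ hodd h2)
  · intro h1
    have h2 := (ha.conj g).pow_four hM ha h1
    have e2 : g * a * (g : MulAut M)⁻¹ * a = (a * (g * a * (g : MulAut M)⁻¹))⁻¹ := by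
      rw [mul_inv_rev, mul_inv_rev, mul_inv_rev, inv_inv, haa', ← mul_assoc]
    rw [e2, e, inv_pow, inv_eq_one] at h2
    exact hne2 (hfour _ hodd h2)

/-- **The H-side, abstract form.** -/
theorem false_of [Finite M] (hM : ∀ m : M, m * m = 1) {X T : Subgroup (MulAut M)} (hTX : T ≤ X)
    (hX : ∀ (Y : Subgroup (MulAut M)), Y ≤ X → X ≤ normalizer (Y : Set (MulAut M)) →
      IsPGroup 2 Y → Y = ⊥)
    (hT : ∀ (Y : Subgroup (MulAut M)), Y ≤ X → T ≤ normalizer (Y : Set (MulAut M)) →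
      IsPGroup 2 Y → Y ≤ T)
    (ha : IsTv a K c) (hb : IsTv b K d) (haX : a ∈ X) (hbX : b ∈ X) (hn : ∃ n, n ∉ K)
    (hc : ∀ x ∈ T, x c = c) (hd : ∀ x ∈ T, x d = d) (hc1 : c ≠ 1) (hd1 : d ≠ 1) (hcd : d ≠ c) : False := by
  obtain ⟨n₀, hn₀⟩ := hn
  have hne : a ≠ 1 := by
    rintro rfl
    have h1 := ha.mov n₀ hn₀
    rw [MulAut.one_apply] at h1
    exact hc1 (by simpa using h1.symm)
  obtain ⟨a', ha'X, K', c', ha', h1, h2⟩ := exists_tv hM ha haX hX hne
  -- the centre `z` in `{d, c d}` with `z ∈ K'`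
  obtain ⟨z, e, heX, he, hz, hzT, hz1⟩ : ∃ (z : M) (e : MulAut M), e ∈ X ∧ IsTv e K z ∧ z ∈ K' ∧
      (∀ x ∈ T, x z = z) ∧ z ≠ 1 := by
    by_cases h3 : d ∈ K'
    · exact ⟨d, b, hbX, hb, h3, hd, hd1⟩
    · refine ⟨c * d, b * a, X.mul_mem hbX haX, ⟨fun n hn => ?_, fun n hn => ?_, K.mul_mem ha.mem hb.mem,
        ha.idx⟩, ha'.idx _ _ h2 h3, fun x hx => ?_, fun h4 => ?_⟩
      · rw [MulAut.mul_apply, ha.fix n hn, hb.fix n hn]
      · rw [MulAut.mul_apply, ha.mov n hn, map_mul, hb.mov n hn, hb.fix c ha.mem, mul_assoc, mul_comm d c]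
      · rw [map_mul, hc x hx, hd x hx]
      · apply hcd
        rw [mul_eq_one_iff_inv_eq, inv_eq_of_mul_eq_one_left (hM c)] at h4
        exact h4.symm
  have ha'i : a'⁻¹ = a' := inv_eq_of_mul_eq_one_left (ha'.sq hM)
  -- `f = e (a' e a'⁻¹)` is the transvection with axis `K'` and centre `z`
  have ha'z : a' z = z := ha'.fix z hz
  have hf : ∀ n, n ∉ K' → (e * (a' * e * a'⁻¹)) n = n * z := by
    intro n hn
    rw [ha'i, MulAut.mul_apply, MulAut.mul_apply, MulAut.mul_apply, ha'.mov n hn]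
    have hc'n : a' c' = c' := ha'.cen
    have hzz : ∀ x : M, x * z * z = x := fun x => by rw [mul_assoc, hM, mul_one]
    have hcc : ∀ x : M, x * c' * c' = x := fun x => by rw [mul_assoc, hM, mul_one]
    have h5 : a' (n * c') = n := by rw [map_mul, ha'.mov n hn, hc'n, hcc]
    by_cases h3 : n ∈ K
    · have h4 : n * c' ∉ K := fun h5 => h1 (by
        have := K.mul_mem (K.inv_mem h3) h5
        rwa [inv_mul_cancel_left] at this)
      rw [he.mov _ h4, map_mul, h5, ha'z, map_mul, he.fix n h3, he.cen]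
    · have h4 : n * c' ∈ K := he.idx _ _ h3 h1
      rw [he.fix _ h4, h5, he.mov n h3]
  have hf' : ∀ n, n ∈ K' → (e * (a' * e * a'⁻¹)) n = n := by
    intro n hn
    rw [ha'i, MulAut.mul_apply, MulAut.mul_apply, MulAut.mul_apply, ha'.fix n hn]
    have hzz : ∀ x : M, x * z * z = x := fun x => by rw [mul_assoc, hM, mul_one]
    by_cases h3 : n ∈ K
    · rw [he.fix n h3, ha'.fix n hn, he.fix n h3]
    · rw [he.mov n h3, map_mul, ha'.fix n hn, ha'z, map_mul, he.mov n h3, he.cen, hzz]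
  -- the group of the transvections with centre `z`
  let E : Subgroup (MulAut M) :=
    { carrier := {x | x ∈ X ∧ x z = z ∧ ∀ n, x n = n ∨ x n = n * z}
      one_mem' := ⟨X.one_mem, rfl, fun n => Or.inl rfl⟩
      mul_mem' := by
        rintro x y ⟨hx, hxz, hx'⟩ ⟨hy, hyz, hy'⟩
        refine ⟨X.mul_mem hx hy, by rw [MulAut.mul_apply, hyz, hxz], fun n => ?_⟩
        rw [MulAut.mul_apply]
        rcases hy' n with h3 | h3
        · rw [h3]
          exact hx' n
        · rw [h3, map_mul, hxz]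
          rcases hx' n with h4 | h4
          · rw [h4]
            exact Or.inr rfl
          · rw [h4, mul_assoc, hM, mul_one]
            exact Or.inl rfl
      inv_mem' := by
        rintro x ⟨hx, hxz, hx'⟩
        have hxx : ∀ n, x⁻¹ (x n) = n := fun n => by
          rw [← MulAut.mul_apply, inv_mul_cancel, MulAut.one_apply]
        have h3 : x⁻¹ z = z := by
          have := hxx z
          rwa [hxz] at this
        refine ⟨X.inv_mem hx, h3, fun n => ?_⟩
        rcases hx' n with h4 | h4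
        · left
          have := hxx n
          rwa [h4] at this
        · right
          have := hxx (n * z)
          rwa [map_mul, hxz, h4, mul_assoc, hM, mul_one] at this }
  have hEp : IsPGroup 2 E := by
    rintro ⟨x, hx, hxz, hx'⟩
    refine ⟨1, Subtype.ext ?_⟩
    change x ^ 2 ^ 1 = 1
    rw [pow_one, sq]
    ext n
    rw [MulAut.mul_apply, MulAut.one_apply]
    rcases hx' n with h3 | h3
    · rw [h3, h3]
    · rw [h3, map_mul, h3, hxz, mul_assoc, hM, mul_one]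
  have hTE : T ≤ normalizer (E : Set (MulAut M)) := by
    refine le_normalizer_of fun t ht x hx => ?_
    obtain ⟨hxX, hxz, hx'⟩ := hx
    have htt : ∀ n, t (t⁻¹ n) = n := fun n => by
      rw [← MulAut.mul_apply, mul_inv_cancel, MulAut.one_apply]
    have htz : t⁻¹ z = z := hzT _ (T.inv_mem ht)
    refine ⟨X.mul_mem (X.mul_mem (hTX ht) hxX) (X.inv_mem (hTX ht)), ?_, fun n => ?_⟩
    · rw [MulAut.mul_apply, MulAut.mul_apply, htz, hxz, hzT t ht]
    · rw [MulAut.mul_apply, MulAut.mul_apply]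
      rcases hx' (t⁻¹ n) with h3 | h3
      · rw [h3, htt]
        exact Or.inl rfl
      · rw [h3, map_mul, htt, hzT t ht]
        exact Or.inr rfl
  have hET := hT E (fun x hx => hx.1) hTE hEp
  have hfE : e * (a' * e * a'⁻¹) ∈ E := by
    refine ⟨X.mul_mem heX (X.mul_mem (X.mul_mem ha'X heX) (X.inv_mem ha'X)), hf' z hz, fun n => ?_⟩
    by_cases h3 : n ∈ K'
    · exact Or.inl (hf' n h3)
    · exact Or.inr (hf n h3)
  have h3 := hc _ (hET hfE)
  rw [hf c h2] at h3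
  exact hz1 (by simpa using h3)

end abs

/-! ### subgroups -/

section app

variable {G : Type*} [Group G] [Finite G] {S H NN : Subgroup G}

/-- A subgroup `K` normalised by the Sylow group `S` of `H`, which is a 2-group modulo `C ⊴ H`, is in `S C`. -/
theorem exists_mul {C K : Subgroup G} (hS : IsPGroup 2 S) (hSyl : ¬ 2 ∣ S.relIndex H)
    (hC : H ≤ normalizer (C : Set G)) (hKH : K ≤ H) (hSK : S ≤ normalizer (K : Set G))
    (hK : ∀ x ∈ K, ∃ k : ℕ, x ^ 2 ^ k ∈ C) {x : G} (hx : x ∈ K) : ∃ s ∈ S, ∃ c ∈ C, x = s * c := by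
  have h2 : Fact (Nat.Prime 2) := ⟨Nat.prime_two⟩
  have hn : (C.subgroupOf H).Normal := normal_subgroupOf_of_le_normalizer hC
  have h1 : IsPGroup 2 (S.subgroupOf H) := hS.comap_of_injective _ H.subtype_injective
  set f := QuotientGroup.mk' (C.subgroupOf H) with hf
  set P : Sylow 2 H := h1.toSylow hSyl with hP
  have hle := MinPar.le_of_le_normalizer (P.mapSurjective (QuotientGroup.mk'_surjective (C.subgroupOf H)))
    (U := (K.subgroupOf H).map f) (by
      rintro ⟨_, y, hy, rfl⟩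
      obtain ⟨k, hk⟩ := hK y hy
      refine ⟨k, Subtype.ext ?_⟩
      change f y ^ 2 ^ k = 1
      rw [← map_pow]
      exact (QuotientGroup.eq_one_iff _).2 hk) (by
      rw [Sylow.coe_mapSurjective]
      refine le_normalizer_of ?_
      rintro _ ⟨a, ha, rfl⟩ _ ⟨y, hy, rfl⟩
      refine ⟨a * y * a⁻¹, ?_, ?_⟩
      · exact (mem_normalizer_iff.1 (hSK (show (a : G) ∈ S from ha)) y).1 hy
      · rw [map_mul, map_mul, map_inv])
  have h3 : f ⟨x, hKH hx⟩ ∈ (P.mapSurjective (QuotientGroup.mk'_surjective (C.subgroupOf H)) :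
      Subgroup (H ⧸ C.subgroupOf H)) := hle ⟨⟨x, hKH hx⟩, hx, rfl⟩
  rw [Sylow.coe_mapSurjective] at h3
  obtain ⟨s, hs, hsx⟩ := h3
  refine ⟨s, hs, (s : G)⁻¹ * x, ?_, by rw [mul_inv_cancel_left]⟩
  have h4 := (QuotientGroup.eq).1 hsx
  exact h4

omit [Finite G] in
theorem le_normalizer_inf_centralizer (hNH : H ≤ normalizer (NN : Set G)) :
    H ≤ normalizer ((H ⊓ centralizer (NN : Set G) : Subgroup G) : Set G) := by
  refine le_normalizer_of fun x hx y hy => ⟨H.mul_mem (H.mul_mem hx hy.1) (H.inv_mem hx),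
    mem_centralizer_iff.2 fun n hn => ?_⟩
  have h2 : x⁻¹ * n * x ∈ NN := by
    have := (mem_normalizer_iff.1 (hNH (H.inv_mem hx)) n).1 hn
    rwa [inv_inv] at this
  have h3 := mem_centralizer_iff.1 hy.2 _ h2
  calc n * (x * y * x⁻¹) = x * ((x⁻¹ * n * x) * y) * x⁻¹ := by group
    _ = x * (y * (x⁻¹ * n * x)) * x⁻¹ := by rw [h3]
    _ = _ := by group

/-- **The H-side of (13) for `H` acting on `NN`.** -/
theorem hside_of (hSH : S ≤ H) (hS : IsPGroup 2 S) (hSyl : ¬ 2 ∣ S.relIndex H)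
    (hNH : H ≤ normalizer (NN : Set G)) (hsq : ∀ n ∈ NN, n * n = 1)
    (hab : ∀ m ∈ NN, ∀ n ∈ NN, m * n = n * m)
    (hred : ∀ K : Subgroup G, K ≤ H → H ≤ normalizer (K : Set G) →
      (∀ x ∈ K, ∃ k : ℕ, x ^ 2 ^ k ∈ centralizer (NN : Set G)) → K ≤ centralizer (NN : Set G)) :
    TvDef.HSide S H NN := by
  intro N0 n1 u0 u1 c z hN0 hn1 hcov hu0 hu1 h0 h1 hu0n hu1n hc hz hSc hSz hc1 hz1 hzc
  let _ : CommGroup NN := { (inferInstance : Group NN) with
    mul_comm := fun a b => Subtype.ext (hab a a.2 b b.2) }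
  have hM : ∀ m : NN, m * m = 1 := fun m => Subtype.ext (hsq m m.2)
  let ρ : H →* MulAut NN := (NN.normalizerMonoidHom).comp (inclusion hNH)
  have hρ : ∀ (x : H) (n : NN), ((ρ x n : NN) : G) = x * n * (x : G)⁻¹ := fun x n => rfl
  have hρ1 : ∀ x : H, ρ x = 1 ↔ (x : G) ∈ centralizer (NN : Set G) := by
    intro x
    rw [mem_centralizer_iff]
    constructor
    · intro h2 n hn
      have h3 : x * n * (x : G)⁻¹ = n := by
        have := hρ x ⟨n, hn⟩
        rw [h2] at this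
        exact this.symm
      exact (mul_inv_eq_iff_eq_mul.1 h3).symm
    · intro h2
      ext n
      rw [hρ, MulAut.one_apply, mul_inv_eq_iff_eq_mul]
      exact (h2 n n.2).symm
  have hCH := le_normalizer_inf_centralizer hNH
  have hpull : ∀ Y : Subgroup (MulAut NN), IsPGroup 2 Y → ∀ x ∈ (Y.comap ρ).map H.subtype,
      ∃ k : ℕ, x ^ 2 ^ k ∈ centralizer (NN : Set G) := by
    rintro Y hY _ ⟨x, hx, rfl⟩
    obtain ⟨k, hk⟩ := hY ⟨ρ x, hx⟩
    refine ⟨k, ?_⟩
    have h2 : ρ (x ^ 2 ^ k) = 1 := by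
      rw [map_pow]
      exact congrArg Subtype.val hk
    exact (hρ1 _).1 h2
  have htv : ∀ (u v : G) (hu : u ∈ H) (hv : v ∈ N0), (∀ n ∈ N0, u * n = n * u) → u * n1 * u⁻¹ = n1 * v →
      IsTv (ρ ⟨u, hu⟩) (N0.subgroupOf NN) ⟨v, hN0 hv⟩ := by
    intro u v hu hv h2 h3
    have hidx : ∀ m ∈ NN, ∀ n ∈ NN, m ∉ N0 → n ∉ N0 → m * n ∈ N0 := by
      intro m hm n hn hm' hn'
      have h4 := (hcov m hm).resolve_left hm'
      have h5 := (hcov n hn).resolve_left hn'
      have h6 : m * n = (n1 * m) * (n1 * n) := by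
        calc m * n = (n1 * n1) * (m * n) := by rw [hsq n1 hn1, one_mul]
          _ = n1 * (n1 * m) * n := by group
          _ = n1 * (m * n1) * n := by rw [hab n1 hn1 m hm]
          _ = _ := by group
      rw [h6]
      exact N0.mul_mem h4 h5
    refine ⟨fun n hn => ?_, fun n hn => ?_, hv, fun m n hm hn => hidx m m.2 n n.2 hm hn⟩
    · refine Subtype.ext ?_
      rw [hρ, mul_inv_eq_iff_eq_mul]
      exact h2 n hn
    · refine Subtype.ext ?_
      rw [hρ]
      have h4 := (hcov n n.2).resolve_left hn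
      have h5 : (n : G) = n1 * (n1 * n) := by rw [← mul_assoc, hsq n1 hn1, one_mul]
      change u * (n : G) * u⁻¹ = n * v
      have h6 := h2 _ h4
      have h7 := hab v (hN0 hv) (n1 * n) (hN0 h4)
      calc u * (n : G) * u⁻¹ = u * (n1 * (n1 * n)) * u⁻¹ := by rw [← h5]
        _ = (u * n1 * u⁻¹) * (u * (n1 * n)) * u⁻¹ := by group
        _ = n1 * v * ((n1 * n) * u) * u⁻¹ := by rw [h3, h6]
        _ = n1 * (v * (n1 * n)) := by group
        _ = n1 * ((n1 * n) * v) := by rw [h7]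
        _ = (n1 * (n1 * n)) * v := by group
        _ = n * v := by rw [← h5]
  have hn1' : n1 ∉ N0 := by
    intro h2
    have h3 := h0 n1 h2
    rw [h3, mul_inv_cancel_right] at hu0n
    exact hc1 (by simpa using hu0n.symm)
  refine false_of hM (X := ρ.range) (T := (S.subgroupOf H).map ρ) ?_ ?_ ?_ (htv u0 c hu0 hc h0 hu0n)
    (htv u1 z hu1 hz h1 hu1n) ⟨_, rfl⟩ ⟨_, rfl⟩ ⟨⟨n1, hn1⟩, hn1'⟩ ?_ ?_ ?_ ?_ ?_
  · rintro _ ⟨x, -, rfl⟩
    exact ⟨x, rfl⟩
  · intro Y hYX hXY hY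
    rw [eq_bot_iff]
    intro y hy
    obtain ⟨x, rfl⟩ := hYX hy
    have h2 := hred ((Y.comap ρ).map H.subtype) (map_subtype_le _) ?_ (hpull Y hY) ⟨x, hy, rfl⟩
    · exact mem_bot.2 ((hρ1 x).2 h2)
    · refine le_normalizer_of ?_
      rintro g hg _ ⟨w, hw, rfl⟩
      refine ⟨⟨g, hg⟩ * w * ⟨g, hg⟩⁻¹, ?_, rfl⟩
      change ρ _ ∈ Y
      rw [map_mul, map_mul, map_inv]
      exact (mem_normalizer_iff.1 (hXY ⟨⟨g, hg⟩, rfl⟩) _).1 hw
  · intro Y hYX hTY hY y hy
    obtain ⟨x, rfl⟩ := hYX hy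
    obtain ⟨s, hs, k, hk, hxs⟩ := exists_mul (K := (Y.comap ρ).map H.subtype)
      (C := H ⊓ centralizer (NN : Set G)) hS hSyl hCH (map_subtype_le _) (by
        refine le_normalizer_of ?_
        rintro g hg _ ⟨w, hw, rfl⟩
        refine ⟨⟨g, hSH hg⟩ * w * ⟨g, hSH hg⟩⁻¹, ?_, rfl⟩
        change ρ _ ∈ Y
        rw [map_mul, map_mul, map_inv]
        exact (mem_normalizer_iff.1 (hTY ⟨⟨g, hSH hg⟩, hg, rfl⟩) _).1 hw) (by
        rintro w hw
        obtain ⟨k, hk⟩ := hpull Y hY w hw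
        exact ⟨k, H.pow_mem (map_subtype_le _ hw) _, hk⟩) ⟨x, hy, rfl⟩
    have h2 : x = ⟨s, hSH hs⟩ * ⟨k, hk.1⟩ := Subtype.ext hxs
    refine ⟨⟨s, hSH hs⟩, hs, ?_⟩
    rw [h2, map_mul, (hρ1 ⟨k, hk.1⟩).2 hk.2, mul_one]
  · rintro _ ⟨s, hs, rfl⟩
    refine Subtype.ext ?_
    rw [hρ, mul_inv_eq_iff_eq_mul]
    exact hSc s hs
  · rintro _ ⟨s, hs, rfl⟩
    refine Subtype.ext ?_
    rw [hρ, mul_inv_eq_iff_eq_mul]
    exact hSz s hs
  · exact fun h2 => hc1 (congrArg Subtype.val h2)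
  · exact fun h2 => hz1 (congrArg Subtype.val h2)
  · exact fun h2 => hzc (congrArg Subtype.val h2)

/-- **2-reduced**: `NN = ⟨z^g : z ∈ Z₀, g ∈ H⟩`, `Z₀ ⊆ H` centralised by the Sylow group `S` of `H`, `NN` abelian:
a normal subgroup of `H` which induces a 2-group on `NN` centralises `NN`. -/
theorem red_of {Z₀ : Set G} (hSH : S ≤ H) (hS : IsPGroup 2 S) (hSyl : ¬ 2 ∣ S.relIndex H)
    (hZS : ∀ x ∈ S, ∀ z ∈ Z₀, x * z = z * x)
    (hNH : H ≤ normalizer (NN : Set G)) (hZN : Z₀ ⊆ NN)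
    (hNN : NN ≤ closure {x | ∃ g ∈ H, ∃ z ∈ Z₀, g * z * g⁻¹ = x})
    (K : Subgroup G) (hKH : K ≤ H) (hHK : H ≤ normalizer (K : Set G))
    (hK : ∀ x ∈ K, ∃ k : ℕ, x ^ 2 ^ k ∈ centralizer (NN : Set G)) : K ≤ centralizer (NN : Set G) := by
  set C := H ⊓ centralizer (NN : Set G) with hCdef
  have hCH : H ≤ normalizer (C : Set G) := le_normalizer_inf_centralizer hNH
  have hKS : ∀ x ∈ K, ∃ s ∈ S, ∃ c ∈ C, x = s * c := fun x hx =>
    exists_mul hS hSyl hCH hKH (hSH.trans hHK)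
      (fun w hw => by
        obtain ⟨k, hk⟩ := hK w hw
        exact ⟨k, H.pow_mem (hKH hw) _, hk⟩) hx
  -- `L = K C`
  have hLH : K ⊔ C ≤ H := sup_le hKH inf_le_left
  have hHL : H ≤ normalizer ((K ⊔ C : Subgroup G) : Set G) := by
    refine le_normalizer_of fun x hx y hy => ?_
    have h1 : (K ⊔ C).map (MulAut.conj x).toMonoidHom ≤ K ⊔ C := by
      rw [Subgroup.map_sup]
      refine sup_le_sup ?_ ?_
      · rintro _ ⟨k, hk, rfl⟩
        exact (mem_normalizer_iff.1 (hHK hx) k).1 hk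
      · rintro _ ⟨k, hk, rfl⟩
        exact (mem_normalizer_iff.1 (hCH hx) k).1 hk
    exact h1 ⟨y, hy, rfl⟩
  have hmul : ∀ y ∈ K ⊔ C, ∃ s ∈ S ⊓ (K ⊔ C), ∃ c ∈ C, y = s * c := by
    intro y hy
    rw [← SetLike.mem_coe, coe_mul_of_left_le_normalizer_right K C (hKH.trans hCH)] at hy
    obtain ⟨k, hk, c, hc, rfl⟩ := Set.mem_mul.1 hy
    obtain ⟨s, hs, c', hc', rfl⟩ := hKS k hk
    refine ⟨s, ⟨hs, ?_⟩, c' * c, C.mul_mem hc' hc, mul_assoc _ _ _⟩
    have h1 := (K ⊔ C).mul_mem (mem_sup_left hk) (mem_sup_right (C.inv_mem hc'))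
    rwa [mul_inv_cancel_right] at h1
  have hfr := MinSimple.Basic.frattini hSH hS hSyl hHL
  -- `S ∩ L` centralises `NN`
  have hSL : S ⊓ (K ⊔ C) ≤ centralizer (NN : Set G) := by
    rw [le_centralizer_iff]
    refine hNN.trans ?_
    rw [closure_le]
    rintro _ ⟨g, hg, z, hz, rfl⟩
    have hg' := hfr hg
    rw [← SetLike.mem_coe, coe_mul_of_right_le_normalizer_left _ _ (inf_le_left.trans hHL)] at hg'
    obtain ⟨l, hl, n, hn, rfl⟩ := Set.mem_mul.1 hg'
    obtain ⟨s, hs, c, hc, rfl⟩ := hmul l hl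
    -- `s c n = (s n) c'`
    have hc' : n⁻¹ * c * n ∈ C := by
      have := (mem_normalizer_iff.1 (hCH (H.inv_mem hn.1)) c).1 hc
      rwa [inv_inv] at this
    have hcz : (n⁻¹ * c * n) * z * (n⁻¹ * c * n)⁻¹ = z := by
      rw [mul_inv_eq_iff_eq_mul]
      exact (mem_centralizer_iff.1 hc'.2 z (hZN hz)).symm
    have e : s * c * n * z * (s * c * n)⁻¹ = (s * n) * z * (s * n)⁻¹ := by
      calc s * c * n * z * (s * c * n)⁻¹ = (s * n) * ((n⁻¹ * c * n) * z * (n⁻¹ * c * n)⁻¹) * (s * n)⁻¹ := by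
            group
        _ = _ := by rw [hcz]
    rw [SetLike.mem_coe, e, mem_centralizer_iff]
    intro t ht
    have hsn : s * n ∈ normalizer ((S ⊓ (K ⊔ C) : Subgroup G) : Set G) :=
      mul_mem (le_normalizer hs) hn.2
    have ht' : (s * n)⁻¹ * t * (s * n) ∈ S ⊓ (K ⊔ C) := by
      have := (mem_normalizer_iff.1 (inv_mem hsn) t).1 ht
      rwa [inv_inv] at this
    have h3 := hZS _ ht'.1 z hz
    calc t * ((s * n) * z * (s * n)⁻¹) = (s * n) * (((s * n)⁻¹ * t * (s * n)) * z) * (s * n)⁻¹ := by group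
      _ = (s * n) * (z * ((s * n)⁻¹ * t * (s * n))) * (s * n)⁻¹ := by rw [h3]
      _ = _ := by group
  intro x hx
  obtain ⟨s, hs, c, hc, e⟩ := hmul x (mem_sup_left hx)
  rw [e]
  exact mul_mem (hSL hs) hc.2

end app

end Cfsg.Agent.Omega.HOne.TvHSide

end

section


/-!
# II.0h1 over `T`: FILL-IN (a) of #18021 (helper272): `O₂(M / C_M(U)) = 1`, `U = ⟨p^M⟩`, without `T` Sylow in `M`

`T` is a Sylow 2-subgroup of `C_M(p)`, `|S : T| = 2`; `D` (`= D_T`) is centralised by elements of `M` which normalise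
`V` and are transitive on `V#`; the elements of `Ω₁(Z(T))` that centralise `A` (`= X^(2)`) lie in `⟨p⟩ × D`.
-/

set_option autoImplicit false
set_option linter.unusedSectionVars false

namespace Cfsg.Agent.Omega.HT.FillA

open Subgroup

variable {G : Type*} [Group G]

/-- a 2-subgroup of `M` lies in a Sylow 2-subgroup of `M` -/
theorem exists_syl [Finite G] {T M : Subgroup G} (hT : IsPGroup 2 T) (hTM : T ≤ M) :
    ∃ Q : Subgroup G, IsPGroup 2 Q ∧ T ≤ Q ∧ Q ≤ M ∧ ¬ 2 ∣ Q.relIndex M := by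
  have : Fact (Nat.Prime 2) := ⟨Nat.prime_two⟩
  have h1 : IsPGroup 2 (T.subgroupOf M) := hT.comap_of_injective _ M.subtype_injective
  obtain ⟨P, hP⟩ := h1.exists_le_sylow
  refine ⟨(P : Subgroup M).map M.subtype, P.isPGroup'.map _, ?_, map_subtype_le _, ?_⟩
  · intro t ht
    exact ⟨⟨t, hTM ht⟩, hP (mem_subgroupOf.2 ht), rfl⟩
  · have h2 : ((P : Subgroup M).map M.subtype).relIndex M = (P : Subgroup M).index := by
      unfold relIndex
      rw [subgroupOf, comap_map_eq_self_of_injective M.subtype_injective]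
    rw [h2]
    exact P.not_dvd_index

/-- index at most 2 -/
theorem mul_mem_of_card [Finite G] {T Q : Subgroup G} (hTQ : T ≤ Q) (h : Nat.card Q ≤ 2 * Nat.card T) {x y : G}
    (hx : x ∈ Q) (hy : y ∈ Q) (hxT : x ∉ T) (hyT : y ∉ T) : x * y ∈ T := by
  have h1 : Nat.card T * T.relIndex Q = Nat.card Q := by
    have h3 := (T.subgroupOf Q).card_mul_index
    rwa [Nat.card_congr (Subgroup.subgroupOfEquivOfLe hTQ).toEquiv] at h3
  have hpos : 0 < Nat.card T := Nat.card_pos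
  have h2 : T.relIndex Q ≤ 2 := by
    by_contra h3
    have h4 : Nat.card T * 3 ≤ Nat.card T * T.relIndex Q := Nat.mul_le_mul_left _ (by omega)
    omega
  have h3 : T.relIndex Q = 1 ∨ T.relIndex Q = 2 := by
    have h4 : T.relIndex Q ≠ 0 := by
      intro h4
      rw [h4, mul_zero] at h1
      exact (Nat.card_pos (α := Q)).ne h1
    omega
  rcases h3 with h3 | h3
  · exact absurd (relIndex_eq_one.1 h3 hx) hxT
  · have h4 : (T.subgroupOf Q).index = 2 := h3
    have h5 := (mul_mem_iff_of_index_two h4 (a := (⟨x, hx⟩ : Q)) (b := ⟨y, hy⟩))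
    exact h5.2 ⟨fun h => absurd h hxT, fun h => absurd h hyT⟩

/-- **FILL-IN (a)** -/
theorem fillA [Finite G] {M T U A V D : Subgroup G} {p : G}
    (hTp : IsPGroup 2 T) (hTM : T ≤ M) (hTcp : ∀ t ∈ T, t * p = p * t)
    (hodd : ¬ 2 ∣ T.relIndex (M ⊓ centralizer ({p} : Set G)))
    (hcard : ∀ Q : Subgroup G, IsPGroup 2 Q → Nat.card Q ≤ 2 * Nat.card T)
    (hUM : ∀ m ∈ M, ∀ u ∈ U, m * u * m⁻¹ ∈ U) (hUsq : ∀ u ∈ U, u * u = 1) (hUT : U ≤ T)
    (hUgen : U ≤ closure {x | ∃ m ∈ M, x = m * p * m⁻¹})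
    (hV : V ≤ U) (hpV : p ∈ V) (hp1 : p ≠ 1) {a : G} (haV : a ∈ V) (ha1 : a ≠ 1) (hap : a ≠ p)
    (hTV : ∀ t ∈ T, ∀ v ∈ V, t * v * t⁻¹ ∈ V)
    (hX : ∀ v ∈ V, v ≠ 1 → ∃ g ∈ M, (∀ d ∈ D, g * d = d * g) ∧ (∀ w ∈ V, g * w * g⁻¹ ∈ V) ∧ g * p * g⁻¹ = v)
    (hVD : ∀ d ∈ D, d ∈ V → d = 1)
    (hA : ∀ y ∈ A, y ∈ M ∧ y * p = p * y)
    (hz : ∀ c ∈ T, c * c = 1 → (∀ t ∈ T, t * c = c * t) → (∀ y ∈ A, y * c = c * y) →
      ∃ d ∈ D, c = d ∨ c = p * d)
    (B : Subgroup G) (hB : B ≤ M) (hn : ∀ m ∈ M, ∀ b ∈ B, m * b * m⁻¹ ∈ B)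
    (h2 : ∀ b ∈ B, ∀ u ∈ U, b * b * u = u * (b * b)) : ∀ b ∈ B, ∀ u ∈ U, b * u = u * b := by
  have hpU : p ∈ U := hV hpV
  have Uc : ∀ u ∈ U, ∀ v ∈ U, u * v = v * u := by
    intro u hu v hv
    have e1 := hUsq _ (U.mul_mem hu hv)
    calc u * v = u * (u * v * (u * v)) * v := by rw [e1, mul_one]
      _ = (u * u) * (v * u) * (v * v) := by group
      _ = v * u := by rw [hUsq u hu, hUsq v hv, one_mul, mul_one]
  have cc : ∀ {x y : G}, x * y = y * x → x * y * x⁻¹ = y := fun h => by rw [h, mul_inv_cancel_right]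
  have cc' : ∀ {x y : G}, x * y * x⁻¹ = y → x * y = y * x := fun h => mul_inv_eq_iff_eq_mul.1 h
  -- enough: `B` centralises `p`
  suffices hmain : ∀ b ∈ B, b * p = p * b by
    intro b hb u hu
    have h1 : closure {x | ∃ m ∈ M, x = m * p * m⁻¹} ≤ centralizer ({b} : Set G) := by
      rw [closure_le]
      rintro _ ⟨m, hm, rfl⟩
      rw [SetLike.mem_coe, mem_centralizer_singleton_iff]
      have h3 := hmain _ (hn m⁻¹ (inv_mem hm) b hb)
      calc m * p * m⁻¹ * b = m * (p * (m⁻¹ * b * m⁻¹⁻¹)) * m⁻¹ := by group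
        _ = b * (m * p * m⁻¹) := by rw [← h3]; group
    exact (mem_centralizer_singleton_iff.1 (h1 (hUgen hu))).symm
  by_contra hcon
  push Not at hcon
  obtain ⟨w, hw, hwp⟩ := hcon
  -- `K = C_M(U)`
  set K := M ⊓ centralizer (U : Set G) with hK
  have hKU : ∀ k ∈ K, ∀ u ∈ U, k * u = u * k := fun k hk u hu => (mem_centralizer_iff.1 hk.2 u hu).symm
  have hKn : M ≤ normalizer (K : Set G) := by
    refine HOne.TvHSide.le_normalizer_of fun m hm k hk => ?_
    refine mem_inf.2 ⟨mul_mem (mul_mem hm hk.1) (inv_mem hm), mem_centralizer_iff.2 fun u hu => ?_⟩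
    have h1 := hKU k hk _ (hUM m⁻¹ (inv_mem hm) u hu)
    calc u * (m * k * m⁻¹) = m * ((m⁻¹ * u * m⁻¹⁻¹) * k) * m⁻¹ := by group
      _ = m * k * m⁻¹ * u := by rw [← h1]; group
  have hsq : ∀ x ∈ B, ∃ k : ℕ, x ^ 2 ^ k ∈ K := by
    intro x hx
    refine ⟨1, mem_inf.2 ⟨M.pow_mem (hB hx) _, mem_centralizer_iff.2 fun u hu => ?_⟩⟩
    rw [pow_one, pow_two]
    exact (h2 x hx u hu).symm
  -- elements of `B` that fix `p` are in `T K`
  have hTdec : ∀ x ∈ B, x * p = p * x → ∃ s ∈ T, ∃ k ∈ K, x = s * k := by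
    intro x hx hxp
    have hTC : T ≤ M ⊓ centralizer ({p} : Set G) := fun t ht =>
      mem_inf.2 ⟨hTM ht, mem_centralizer_singleton_iff.2 (hTcp t ht)⟩
    refine HOne.TvHSide.exists_mul (S := T) (H := M ⊓ centralizer ({p} : Set G)) (C := K)
      (K := B ⊓ centralizer ({p} : Set G)) hTp hodd (inf_le_left.trans hKn) (inf_le_inf_right _ hB) ?_
      (fun y hy => hsq y hy.1) (mem_inf.2 ⟨hx, mem_centralizer_singleton_iff.2 hxp⟩)
    refine HOne.TvHSide.le_normalizer_of fun t ht y hy => ?_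
    refine mem_inf.2 ⟨hn t (hTM ht) y hy.1, mem_centralizer_singleton_iff.2 ?_⟩
    have h1 := mem_centralizer_singleton_iff.1 hy.2
    have h3 := hTcp t ht
    have h4 : t⁻¹ * p = p * t⁻¹ := by rw [inv_mul_eq_iff_eq_mul, ← mul_assoc, h3, mul_inv_cancel_right]
    calc t * y * t⁻¹ * p = t * y * (t⁻¹ * p) := by group
      _ = t * (y * p) * t⁻¹ := by rw [h4]; group
      _ = (t * p) * y * t⁻¹ := by rw [h1]; group
      _ = p * (t * y * t⁻¹) := by rw [h3]; group
  -- a Sylow group of `M`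
  obtain ⟨Q, hQ2, hTQ, hQM, hQo⟩ := exists_syl hTp hTM
  have hQdec : ∀ x ∈ B, ∃ s ∈ Q, ∃ k ∈ K, x = s * k := by
    intro x hx
    exact HOne.TvHSide.exists_mul (S := Q) (H := M) (C := K) (K := B) hQ2 hQo hKn hB
      (HOne.TvHSide.le_normalizer_of fun t ht y hy => hn t (hQM ht) y hy) hsq hx
  have hconj : ∀ s k, k ∈ K → ∀ u ∈ U, (s * k) * u * (s * k)⁻¹ = s * u * s⁻¹ := by
    intro s k hk u hu
    calc (s * k) * u * (s * k)⁻¹ = s * (k * u * k⁻¹) * s⁻¹ := by group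
      _ = s * u * s⁻¹ := by rw [cc (hKU k hk u hu)]
  -- `b p b⁻¹` is constant for `b ∈ B` that move `p`
  have hconst : ∀ x ∈ B, x * p ≠ p * x → ∀ y ∈ B, y * p ≠ p * y → x * p * x⁻¹ = y * p * y⁻¹ := by
    intro x hx hxp y hy hyp
    obtain ⟨s, hs, k, hk, rfl⟩ := hQdec x hx
    obtain ⟨t, ht, l, hl, rfl⟩ := hQdec y hy
    rw [hconj s k hk p hpU, hconj t l hl p hpU]
    have hsT : s ∉ T := fun h => hxp (cc' (by rw [hconj s k hk p hpU]; exact cc (hTcp s h)))
    have htT : t⁻¹ ∉ T := fun h => hyp (cc' (by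
      rw [hconj t l hl p hpU]
      have h1 := inv_mem h
      rw [inv_inv] at h1
      exact cc (hTcp t h1)))
    have h1 := hTcp _ (mul_mem_of_card hTQ (hcard Q hQ2) (inv_mem ht) hs htT hsT)
    calc s * p * s⁻¹ = t * ((t⁻¹ * s) * p) * s⁻¹ := by group
      _ = t * p * t⁻¹ := by rw [h1]; group
  -- `c`
  obtain ⟨c, hc⟩ : ∃ c, c = p * (w * p * w⁻¹) := ⟨_, rfl⟩
  have hpp := hUsq p hpU
  have hwpU : w * p * w⁻¹ ∈ U := hUM w (hB hw) p hpU
  have hcU : c ∈ U := by rw [hc]; exact mul_mem hpU hwpU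
  have hpc : ∀ x ∈ B, x * p ≠ p * x → x * p * x⁻¹ = p * c := by
    intro x hx hxp
    rw [hconst x hx hxp w hw hwp, hc, ← mul_assoc, hpp, one_mul]
  have hcfix : ∀ g ∈ M, g * p = p * g → g * c = c * g := by
    intro g hg hgp
    have h1 := hn g hg w hw
    have h3 : (g * w * g⁻¹) * p ≠ p * (g * w * g⁻¹) := by
      intro h
      apply hwp
      have h4 : g⁻¹ * p = p * g⁻¹ := by rw [inv_mul_eq_iff_eq_mul, ← mul_assoc, hgp, mul_inv_cancel_right]
      calc w * p = g⁻¹ * ((g * w * g⁻¹) * (g * p)) := by group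
        _ = g⁻¹ * ((g * w * g⁻¹) * p) * g := by rw [hgp]; group
        _ = (g⁻¹ * p) * g * w := by rw [h]; group
        _ = p * w := by rw [h4]; group
    have h4 := hconst _ h1 h3 w hw hwp
    apply cc'
    rw [hc]
    have h5 : g⁻¹ * p * g = p := by
      have h6 : g⁻¹ * p = p * g⁻¹ := by rw [inv_mul_eq_iff_eq_mul, ← mul_assoc, hgp, mul_inv_cancel_right]
      rw [h6, inv_mul_cancel_right]
    have h7 : g * w * p * w⁻¹ * g⁻¹ = g * w * g⁻¹ * p * (g * w * g⁻¹)⁻¹ := by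
      calc g * w * p * w⁻¹ * g⁻¹ = g * w * (g⁻¹ * p * g) * w⁻¹ * g⁻¹ := by rw [h5]
        _ = g * w * g⁻¹ * p * (g * w * g⁻¹)⁻¹ := by group
    calc g * (p * (w * p * w⁻¹)) * g⁻¹ = (g * p * g⁻¹) * (g * w * p * w⁻¹ * g⁻¹) := by group
      _ = p * (w * p * w⁻¹) := by rw [cc hgp, h7, h4]
  obtain ⟨d, hd, hcd⟩ := hz c (hUT hcU) (hUsq c hcU) (fun t ht => hcfix t (hTM ht) (hTcp t ht))
    (fun y hy => hcfix y (hA y hy).1 (hA y hy).2)
  have hdU : d ∈ U := by
    rcases hcd with h | h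
    · rwa [← h]
    · have h1 : d = p * c := by rw [h, ← mul_assoc, hpp, one_mul]
      rw [h1]; exact mul_mem hpU hcU
  have hdd := hUsq d hdU
  have hd1 : d ≠ 1 := by
    rintro rfl
    have h1 := hpc w hw hwp
    rcases hcd with h | h
    · rw [h, mul_one] at h1
      exact hwp (cc' h1)
    · rw [h, mul_one, hpp] at h1
      have h3 : p = 1 := by
        calc p = w⁻¹ * (w * p * w⁻¹) * w := by group
          _ = 1 := by rw [h1]; group
      exact hp1 h3
  -- the action of `x ∈ B` on `v ∈ V`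
  have hact : ∀ v ∈ V, v ≠ 1 → ∀ x ∈ B, x * v ≠ v * x → (c = d → x * v * x⁻¹ = v * d) ∧
      (c = p * d → x * v * x⁻¹ = d) := by
    intro v hv hv1 x hx hxv
    obtain ⟨g, hg, hgd, hgV, rfl⟩ := hX v hv hv1
    have hx' : g⁻¹ * x * g⁻¹⁻¹ ∈ B := hn g⁻¹ (inv_mem hg) x hx
    have h1 : (g⁻¹ * x * g⁻¹⁻¹) * p ≠ p * (g⁻¹ * x * g⁻¹⁻¹) := by
      intro h
      apply hxv
      calc x * (g * p * g⁻¹) = g * ((g⁻¹ * x * g⁻¹⁻¹) * p) * g⁻¹ := by group
        _ = g * p * g⁻¹ * x := by rw [h]; group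
    have h3 := hpc _ hx' h1
    have h4 : x * (g * p * g⁻¹) * x⁻¹ = g * (p * c) * g⁻¹ := by rw [← h3]; group
    have h5 : g * d * g⁻¹ = d := cc (hgd d hd)
    refine ⟨fun h => ?_, fun h => ?_⟩
    · rw [h4, h]
      calc g * (p * d) * g⁻¹ = g * p * g⁻¹ * (g * d * g⁻¹) := by group
        _ = _ := by rw [h5]
    · rw [h4, h, ← mul_assoc p, hpp, one_mul, h5]
  -- `C_B(p)` centralises `V`
  have hfix : ∀ x ∈ B, x * p = p * x → ∀ v ∈ V, x * v = v * x := by
    intro x hx hxp v hv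
    by_cases hv1 : v = 1
    · rw [hv1, mul_one, one_mul]
    by_contra hne
    obtain ⟨s, hs, k, hk, rfl⟩ := hTdec x hx hxp
    have h1 : (s * k) * v * (s * k)⁻¹ ∈ V := by
      rw [hconj s k hk v (hV hv)]
      exact hTV s hs v hv
    obtain ⟨e1, e2⟩ := hact v hv hv1 _ hx hne
    rcases hcd with h | h
    · rw [e1 h] at h1
      have h3 := mul_mem (inv_mem hv) h1
      rw [inv_mul_cancel_left] at h3
      exact hd1 (hVD d hd h3)
    · rw [e2 h] at h1
      exact hd1 (hVD d hd h1)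
  -- `w` moves all `v ∈ V#`
  have hmov : ∀ v ∈ V, v ≠ 1 → w * v ≠ v * w := by
    intro v hv hv1 h
    obtain ⟨g, hg, hgd, hgV, rfl⟩ := hX v hv hv1
    have hx' : g⁻¹ * w * g⁻¹⁻¹ ∈ B := hn g⁻¹ (inv_mem hg) w hw
    have h1 : (g⁻¹ * w * g⁻¹⁻¹) * p = p * (g⁻¹ * w * g⁻¹⁻¹) := by
      calc (g⁻¹ * w * g⁻¹⁻¹) * p = g⁻¹ * (w * (g * p * g⁻¹)) * g := by group
        _ = p * (g⁻¹ * w * g⁻¹⁻¹) := by rw [h]; group
    -- `g⁻¹ p g ∈ V`
    have hfin : g⁻¹ * p * g⁻¹⁻¹ ∈ V := by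
      -- a power of `g`
      have hpow : ∀ n : ℕ, ∀ v ∈ V, g ^ n * v * (g ^ n)⁻¹ ∈ V := by
        intro n
        induction n with
        | zero => intro v hv; simpa using hv
        | succ n ih =>
          intro v hv
          have h5 := hgV _ (ih v hv)
          have e : g * (g ^ n * v * (g ^ n)⁻¹) * g⁻¹ = g ^ (n + 1) * v * (g ^ (n + 1))⁻¹ := by
            rw [pow_succ']; group
          rwa [e] at h5
      have h5 : g⁻¹ = g ^ (orderOf g - 1) := by
        rw [inv_eq_iff_mul_eq_one, ← pow_succ', Nat.sub_add_cancel (orderOf_pos g), pow_orderOf_eq_one]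
      rw [h5]
      exact hpow _ p hpV
    have h3 := hfix _ hx' h1 _ hfin
    apply hwp
    calc w * p = g * ((g⁻¹ * w * g⁻¹⁻¹) * (g⁻¹ * p * g⁻¹⁻¹)) * g⁻¹ := by group
      _ = p * w := by rw [h3]; group
  -- the end
  have haU := hV haV
  have hpa : p * a ≠ 1 := by
    intro h
    apply hap
    calc a = p * (p * a) := by rw [← mul_assoc, hpp, one_mul]
      _ = p := by rw [h, mul_one]
  obtain ⟨p1, p2⟩ := hact p hpV hp1 w hw hwp
  obtain ⟨a1, a2⟩ := hact a haV ha1 w hw (hmov a haV ha1)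
  obtain ⟨b1, b2⟩ := hact (p * a) (mul_mem hpV haV) hpa w hw (hmov _ (mul_mem hpV haV) hpa)
  have e : w * (p * a) * w⁻¹ = (w * p * w⁻¹) * (w * a * w⁻¹) := by group
  rcases hcd with h | h
  · rw [b1 h, p1 h, a1 h] at e
    have h3 : p * d * (a * d) = p * a := by
      calc p * d * (a * d) = p * (d * a) * d := by group
        _ = p * a * (d * d) := by rw [Uc d hdU a haU]; group
        _ = p * a := by rw [hdd, mul_one]
    rw [h3] at e
    exact hd1 (mul_eq_left.1 e)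
  · rw [b2 h, p2 h, a2 h, hdd] at e
    exact hd1 e

end Cfsg.Agent.Omega.HT.FillA

end
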