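import Cfsg.Agent.Mrg.Omega.HOne.TvTail
import Cfsg.Agent.Omega.HOne.NSClaim
import Cfsg.Agent.Mrg.Omega.HOne.PairP
import Cfsg.Agent.Mrg.Omega.FFOne.Alg
import Cfsg.Agent.Mrg.Omega.BTwo.Conj

section


/-!
# II.0h1, nonsplit case: one side of the mutual pair

`SideS S P V D A π` : `V / D` natural (`Rig`), `A ≤ S` induces on `V` exactly the transvections `lo b`, `C_V(A)` is the
preimage of the line; `exists_sideS` : from `NatOver` and `QuadP` of `pairPar`, over a given field of the same order.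
-/

set_option autoImplicit false
set_option linter.unusedSectionVars false

namespace Cfsg.Agent.Omega.HOne.NSSide

open Subgroup Cfsg Cfsg.Agent.ZN Cfsg.Agent.Omega.MinPar Cfsg.Agent.Omega.FrameFF Cfsg.Agent.Lib.SL2Mat
open Cfsg.Agent.Omega.NatPair Cfsg.Agent.Omega.HOne.NSMod Cfsg.Agent.Omega.HOne.NSClaim
open Cfsg.Agent.MinSimple.VModule (oddGen zc_comm zc_sq zl_comm zl_sq le_normalizer_zl zc_le_zl zl_le zc_le_centralizer)
open Cfsg.Agent.MinSimple

universe u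

variable {G : Type u} [Group G] {F : Type} [Field F]

/-- One side of the pair. -/
structure SideS (S P V D A : Subgroup G) (π : G → Fin 2 → F) : Prop where
  r : Rig P V D π
  SP : S ≤ P
  AS : A ≤ S
  typ : ∀ a ∈ A, ∃ b, Is P V D π a (lo b)
  full : ∀ b, ∃ a ∈ A, Is P V D π a (lo b)
  cen : ∀ v ∈ V, (∀ a ∈ A, a * v = v * a) ↔ π v 0 = 0
  fz : ∀ y ∈ S, ∀ B, Is P V D π y B → ∃ b, B = lo b
  sec : ∀ a ∈ S, (∀ v ∈ V, π (a * v * a⁻¹) = π v) → ∀ v ∈ V, a * v = v * a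
  lin : ∀ s ∈ S, (∀ v ∈ V, π v 0 = 0 → π (s * v * s⁻¹) = π v) → ∃ b, ∀ v ∈ V, π (s * v * s⁻¹) = ap (lo b) (π v)

/-- change of basis -/
def chg {P V D : Subgroup G} (M : NatOver F P V D) (C : Matrix.SpecialLinearGroup (Fin 2) F) : NatOver F P V D where
  e := fun v => ap C⁻¹ (M.e v)
  mul v hv w hw := by rw [M.mul v hv w hw, ap_add]
  surj x := by
    obtain ⟨v, hv, e⟩ := M.surj (ap C x)
    exact ⟨v, hv, by rw [e, ap_inv_ap]⟩
  ker v hv := by
    rw [← M.ker v hv]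
    constructor
    · intro h
      have h1 := ap_ap_inv C (M.e v)
      rw [h] at h1
      rw [← h1]
      apply ext2
      · rw [ap_zero']; simp
      · rw [ap_one']; simp
    · intro h
      rw [h]
      apply ext2
      · rw [ap_zero']; simp
      · rw [ap_one']; simp
  lift A := by
    obtain ⟨g, hg, h1, h2⟩ := M.lift (C * A * C⁻¹)
    refine ⟨g, hg, fun v hv => ?_, h2⟩
    rw [h1 v hv, ap_mul, ap_mul, ap_inv_ap]
  norm g hg h hh A hA := by
    obtain ⟨B, hB⟩ := M.norm g hg h hh (C * A * C⁻¹) (fun v hv => by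
      have h1 := congrArg (ap C) (hA v hv)
      rw [ap_ap_inv] at h1
      rw [h1, ap_mul, ap_mul])
    refine ⟨C⁻¹ * B * C, fun v hv => ?_⟩
    rw [hB v hv, ap_mul, ap_mul, ap_ap_inv]

/-- change of the field -/
def fld {F' : Type} [Field F'] (σ : F ≃+* F') {P V D : Subgroup G} (M : NatOver F P V D) : NatOver F' P V D :=
  let m : Matrix.SpecialLinearGroup (Fin 2) F → Matrix.SpecialLinearGroup (Fin 2) F' := fun A =>
    mk (σ (ent A 0 0)) (σ (ent A 0 1)) (σ (ent A 1 0)) (σ (ent A 1 1)) (by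
      rw [← map_mul, ← map_mul, ← map_sub, det_eq, map_one])
  let m' : Matrix.SpecialLinearGroup (Fin 2) F' → Matrix.SpecialLinearGroup (Fin 2) F := fun A =>
    mk (σ.symm (ent A 0 0)) (σ.symm (ent A 0 1)) (σ.symm (ent A 1 0)) (σ.symm (ent A 1 1)) (by
      rw [← map_mul, ← map_mul, ← map_sub, det_eq, map_one])
  have hm : ∀ A x, ap (m A) (fun i => σ (x i)) = fun i => σ (ap A x i) := fun A x => by
    apply ext2
    · rw [ap_zero', ap_zero', map_add, map_mul, map_mul]; rfl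
    · rw [ap_one', ap_one', map_add, map_mul, map_mul]; rfl
  have hm' : ∀ A x, (fun i => σ (ap (m' A) x i)) = ap A (fun i => σ (x i)) := fun A x => by
    apply ext2
    · rw [ap_zero', ap_zero', map_add, map_mul, map_mul]
      change σ (σ.symm _) * _ + σ (σ.symm _) * _ = _
      rw [σ.apply_symm_apply, σ.apply_symm_apply]
    · rw [ap_one', ap_one', map_add, map_mul, map_mul]
      change σ (σ.symm _) * _ + σ (σ.symm _) * _ = _
      rw [σ.apply_symm_apply, σ.apply_symm_apply]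
  { e := fun v i => σ (M.e v i)
    mul := fun v hv w hw => by
      funext i
      rw [M.mul v hv w hw]
      exact map_add σ _ _
    surj := fun x => by
      obtain ⟨v, hv, e⟩ := M.surj (fun i => σ.symm (x i))
      exact ⟨v, hv, by funext i; rw [e, σ.apply_symm_apply]⟩
    ker := fun v hv => by
      rw [← M.ker v hv]
      constructor
      · intro h
        funext i
        have h1 := congrFun h i
        exact σ.injective (by rw [h1]; simp)
      · intro h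
        funext i
        rw [h]
        exact map_zero σ
    lift := fun A => by
      obtain ⟨g, hg, h1, h2⟩ := M.lift (m' A)
      refine ⟨g, hg, fun v hv => ?_, h2⟩
      rw [h1 v hv, hm']
    norm := fun g hg h hh A hA => by
      obtain ⟨B, hB⟩ := M.norm g hg h hh (m' A) (fun v hv => by
        have h1 := hA v hv
        rw [← hm'] at h1
        funext i
        exact σ.injective (congrFun h1 i))
      refine ⟨m B, fun v hv => ?_⟩
      rw [hm, hB v hv] }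

theorem exists_ap (w : Fin 2 → F) (hw : w ≠ 0) : ∃ C : Matrix.SpecialLinearGroup (Fin 2) F, ap C ![0, 1] = w := by
  by_cases h1 : w 1 = 0
  · have h0 : w 0 ≠ 0 := fun h0 => hw (ext2 h0 h1)
    refine ⟨mk 0 (w 0) (-(w 0)⁻¹) 0 (by field_simp; ring), ?_⟩
    apply ext2
    · rw [ap_zero']; simp
    · rw [ap_one']; simp [h1]
  · refine ⟨mk (w 1)⁻¹ (w 0) 0 (w 1) (by field_simp; ring), ?_⟩
    apply ext2
    · rw [ap_zero']; simp
    · rw [ap_one']; simp

theorem eq_lo {B : Matrix.SpecialLinearGroup (Fin 2) F} (h : ap B ![0, 1] = ![0, 1]) : B = lo (ent B 1 0) := by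
  have h0 := congrFun h 0
  have h1 := congrFun h 1
  rw [ap_zero'] at h0
  rw [ap_one'] at h1
  simp only [Matrix.cons_val_zero, Matrix.cons_val_one, mul_one, mul_zero, zero_add] at h0 h1
  have hd := det_eq B
  rw [h0, h1] at hd
  refine ext_ent ?_ ?_ ?_ ?_
  · rw [lo_00]; linear_combination hd
  · rw [lo_01, h0]
  · rw [lo_10]
  · rw [lo_11, h1]

theorem ap_lo_e (b : F) : ap (lo b) ![0, 1] = ![0, 1] := by
  rw [ap_lo]
  apply ext2 <;> simp

theorem ap_smul_e {B : Matrix.SpecialLinearGroup (Fin 2) F} {c : F} (hc : c ≠ 0)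
    (h : ap B ![0, c] = ![0, c]) : ap B ![0, 1] = ![0, 1] := by
  have e : (![0, c] : Fin 2 → F) = c • ![0, 1] := by
    apply ext2 <;> simp
  rw [e, ap_smul] at h
  exact smul_right_injective _ hc h

theorem chg_quad {P V D A : Subgroup G} {M : NatOver F P V D} {w : Fin 2 → F} (Q : QuadP M A w)
    {C : Matrix.SpecialLinearGroup (Fin 2) F} (hC : ap C ![0, 1] = w) : QuadP (chg M C) A ![0, 1] where
  ne h := by
    have := congrFun h 1
    simp at this
  lin a ha := by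
    obtain ⟨B, hB, hB'⟩ := Q.lin a ha
    refine ⟨C⁻¹ * B * C, ?_, fun v hv => ?_⟩
    · rw [ap_mul, ap_mul, hC, hB, ← hC, ap_inv_ap]
    · change ap C⁻¹ _ = ap _ (ap C⁻¹ _)
      rw [hB' v hv, ap_mul, ap_mul, ap_ap_inv]
  full B hB := by
    obtain ⟨a, ha, h1⟩ := Q.full (C * B * C⁻¹) (by rw [ap_mul, ap_mul, ← hC, ap_inv_ap, hB])
    refine ⟨a, ha, fun v hv => ?_⟩
    change ap C⁻¹ _ = ap _ (ap C⁻¹ _)
    rw [h1 v hv, ap_mul, ap_mul, ap_inv_ap]
  cent v hv := by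
    rw [Q.cent v hv]
    constructor
    · rintro ⟨c, h⟩
      refine ⟨c, ?_⟩
      change ap C⁻¹ _ = _
      rw [h, ap_smul, ← hC, ap_inv_ap]
    · rintro ⟨c, h⟩
      refine ⟨c, ?_⟩
      change ap C⁻¹ _ = _ at h
      have h1 := congrArg (ap C) h
      rw [ap_ap_inv, ap_smul, hC] at h1
      exact h1
  idxV := Q.idxV
  idxA := Q.idxA
  reg a ha hna v hv hav := by
    obtain ⟨c, h⟩ := Q.reg a ha hna v hv hav
    refine ⟨c, ?_⟩
    change ap C⁻¹ _ = _
    rw [h, ap_smul, ← hC, ap_inv_ap]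

section par

variable [Finite G] [Finite F] [CharP F 2] (hG : IsCharacteristicTwoType G) (S : Sylow 2 G) {P : Subgroup G}
  (h : IsParS (S : Subgroup G) P)

include hG h in
theorem rig_of (M : NatOver F P (zl (S : Subgroup G) P) (cv (S : Subgroup G) P)) :
    Rig P (zl (S : Subgroup G) P) (cv (S : Subgroup G) P) M.e where
  DV := cv_le _ _
  Vn _ hp _ hv := conj_mem_zl hp hv
  Dn _ hp _ hv := conj_mem_cv hp hv
  Vc _ hv _ hw := zc_comm _ _ (h.isLoc.zl_le S hG hv) _ (h.isLoc.zl_le S hG hw)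
  Vs _ hv := by
    rw [← pow_two]
    exact zc_sq _ _ (h.isLoc.zl_le S hG hv)
  mul := M.mul
  surj := M.surj
  ker := M.ker
  lift A := by
    obtain ⟨g, hg, h1, h2⟩ := M.lift A
    exact ⟨g, hg, h1, h2⟩
  norm := M.norm
  rig g hg hD hV := by
    let V : Subgroup G := zl (S : Subgroup G) P
    let D : Subgroup G := cv (S : Subgroup G) P
    have hDn : ∀ p ∈ P, ∀ v ∈ D, p * v * p⁻¹ ∈ D := fun _ hp _ hv => conj_mem_cv hp hv
    have hVn : ∀ p ∈ P, ∀ v ∈ V, p * v * p⁻¹ ∈ V := fun _ hp _ hv => conj_mem_zl hp hv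
    have hDV : D ≤ V := cv_le _ _
    have hm1 : M.e 1 = 0 := (M.ker 1 (one_mem V)).2 (one_mem D)
    have hinv : ∀ v ∈ V, M.e v⁻¹ = - M.e v := fun v hv => by
      have := M.mul v hv v⁻¹ (inv_mem hv)
      rw [mul_inv_cancel, hm1] at this
      exact (neg_eq_of_add_eq_zero_right this.symm).symm
    let K : Subgroup G :=
      { carrier := {x | x ∈ P ∧ (∀ d ∈ D, x * d = d * x) ∧ ∀ v ∈ V, M.e (x * v * x⁻¹) = M.e v}
        one_mem' := ⟨one_mem _, fun d _ => by rw [one_mul, mul_one], fun v _ => by rw [one_mul, inv_one, mul_one]⟩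
        mul_mem' := by
          rintro x y ⟨hx, hx1, hx2⟩ ⟨hy, hy1, hy2⟩
          refine ⟨mul_mem hx hy, fun d hd => ?_, fun v hv => ?_⟩
          · rw [mul_assoc, hy1 d hd, ← mul_assoc, hx1 d hd, mul_assoc]
          · have e : x * y * v * (x * y)⁻¹ = x * (y * v * y⁻¹) * x⁻¹ := by group
            rw [e, hx2 _ (hVn y hy v hv), hy2 v hv]
        inv_mem' := by
          rintro x ⟨hx, hx1, hx2⟩
          refine ⟨inv_mem hx, fun d hd => ?_, fun v hv => ?_⟩
          · have h1 := hx1 d hd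
            calc x⁻¹ * d = x⁻¹ * (d * x) * x⁻¹ := by group
              _ = x⁻¹ * (x * d) * x⁻¹ := by rw [h1]
              _ = _ := by group
          · have h1 := hx2 _ (hVn x⁻¹ (inv_mem hx) v hv)
            have e : x * (x⁻¹ * v * x⁻¹⁻¹) * x⁻¹ = v := by group
            rw [e] at h1
            exact h1.symm }
    have hKP : K ≤ P := fun x hx => hx.1
    have hPK : P ≤ normalizer (K : Set G) := by
      intro p hp
      refine VModule.mem_normalizer_of_map_le ?_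
      rintro _ ⟨x, ⟨hx, hx1, hx2⟩, rfl⟩
      change p * x * p⁻¹ ∈ K
      refine ⟨mul_mem (mul_mem hp hx) (inv_mem hp), fun d hd => ?_, fun v hv => ?_⟩
      · have h1 := hx1 _ (hDn p⁻¹ (inv_mem hp) d hd)
        rw [inv_inv] at h1
        calc p * x * p⁻¹ * d = p * (x * (p⁻¹ * d * p)) * p⁻¹ := by group
          _ = p * (p⁻¹ * d * p * x) * p⁻¹ := by rw [h1]
          _ = _ := by group
      · have hpv : p⁻¹ * v * p ∈ V := by
          have := hVn p⁻¹ (inv_mem hp) v hv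
          rwa [inv_inv] at this
        have h1 := hx2 _ hpv
        have hxv := hVn x hx _ hpv
        have h2 : x * (p⁻¹ * v * p) * x⁻¹ * (p⁻¹ * v * p)⁻¹ ∈ D :=
          (M.ker _ (mul_mem hxv (inv_mem hpv))).1 (by
            rw [M.mul _ hxv _ (inv_mem hpv), hinv _ hpv, h1, add_neg_cancel])
        have h3 := hDn p hp _ h2
        have e : p * (x * (p⁻¹ * v * p) * x⁻¹ * (p⁻¹ * v * p)⁻¹) * p⁻¹ =
          p * x * p⁻¹ * v * (p * x * p⁻¹)⁻¹ * v⁻¹ := by group
        rw [e] at h3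
        have hpx := hVn _ (mul_mem (mul_mem hp hx) (inv_mem hp)) v hv
        have h4 := (M.ker _ (mul_mem hpx (inv_mem hv))).2 h3
        rw [M.mul _ hpx _ (inv_mem hv), hinv _ hv] at h4
        exact add_neg_eq_zero.1 h4
    have hK2 : ∀ x ∈ K, ∃ k : ℕ, x ^ 2 ^ k ∈ centralizer (V : Set G) := by
      rintro x ⟨hx, hx1, hx2⟩
      refine ⟨1, mem_centralizer_iff.2 fun v hv => ?_⟩
      have hxv := hVn x hx v hv
      have h2 : x * v * x⁻¹ * v⁻¹ ∈ D := (M.ker _ (mul_mem hxv (inv_mem hv))).1 (by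
        rw [M.mul _ hxv _ (inv_mem hv), hinv _ hv, hx2 v hv, add_neg_cancel])
      obtain ⟨d, hd⟩ : ∃ d, d = x * v * x⁻¹ * v⁻¹ := ⟨_, rfl⟩
      rw [← hd] at h2
      have e1 : x * v * x⁻¹ = d * v := by rw [hd]; group
      have hdd : d * d = 1 := by
        rw [← pow_two]
        exact zc_sq _ _ (h.isLoc.zl_le S hG (hDV h2))
      have e2 : x * (x * v * x⁻¹) * x⁻¹ = v := by
        calc x * (x * v * x⁻¹) * x⁻¹ = (x * d) * v * x⁻¹ := by rw [e1]; group
          _ = d * (x * v * x⁻¹) := by rw [hx1 d h2]; group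
          _ = d * d * v := by rw [e1]; group
          _ = v := by rw [hdd, one_mul]
      rw [pow_one, pow_two]
      calc v * (x * x) = (x * (x * v * x⁻¹) * x⁻¹) * (x * x) := by rw [e2]
        _ = x * x * v := by group
    have h1 := le_centralizer_of_pow h.le S.isPGroup' (MinSimple.Basic.not_dvd_relIndex S h.le) hKP hPK
      (zc_le_centralizer _) (zc_le_zl _ P) (le_normalizer_zl _ P) (fun W hW hPW => zl_le hW hPW) hK2
    have h2 : g ∈ K := ⟨hg, hD, hV⟩
    intro v hv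
    exact (mem_centralizer_iff.1 (h1 h2) v hv).symm

include hG h in
/-- the central element of `S` in `V - D` -/
theorem exists_zc (M : NatOver F P (zl (S : Subgroup G) P) (cv (S : Subgroup G) P)) :
    ∃ z ∈ zl (S : Subgroup G) P, M.e z ≠ 0 ∧ ∀ s ∈ (S : Subgroup G), s * z = z * s := by
  by_contra hcon
  push Not at hcon
  have h1 : zc (S : Subgroup G) ≤ cv (S : Subgroup G) P := by
    intro z hz
    rw [← M.ker z (zc_le_zl _ P hz)]
    by_contra hne
    obtain ⟨s, hs, hns⟩ := hcon z (zc_le_zl _ P hz) hne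
    exact hns (mem_centralizer_iff.1 (zc_le_centralizer _ hz) s hs)
  have h2 : zl (S : Subgroup G) P ≤ cv (S : Subgroup G) P := zl_le h1 (le_normalizer_cv _ P)
  obtain ⟨v, hv, e⟩ := M.surj ![0, 1]
  rw [(M.ker v hv).2 (h2 hv)] at e
  have := congrFun e 1
  simp at this

include hG h in
theorem sideS_of (M : NatOver F P (zl (S : Subgroup G) P) (cv (S : Subgroup G) P)) {A : Subgroup G}
    (hAS : A ≤ (S : Subgroup G)) (Q : QuadP M A ![0, 1]) :
    SideS (S : Subgroup G) P (zl (S : Subgroup G) P) (cv (S : Subgroup G) P) A M.e where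
  r := rig_of hG S h M
  SP := h.le
  AS := hAS
  typ a ha := by
    obtain ⟨B, hB, h1⟩ := Q.lin a ha
    refine ⟨ent B 1 0, (hAS.trans h.le) ha, fun v hv => ?_, fun d hd => ?_⟩
    · rw [← eq_lo hB]; exact h1 v hv
    · have hdV := cv_le (S : Subgroup G) P hd
      exact (Q.cent d hdV).2 ⟨0, by rw [zero_smul]; exact (M.ker d hdV).2 hd⟩ a ha
  full b := by
    obtain ⟨a, ha, h1⟩ := Q.full (lo b) (ap_lo_e b)
    refine ⟨a, ha, (hAS.trans h.le) ha, h1, fun d hd => ?_⟩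
    have hdV := cv_le (S : Subgroup G) P hd
    exact (Q.cent d hdV).2 ⟨0, by rw [zero_smul]; exact (M.ker d hdV).2 hd⟩ a ha
  cen v hv := by
    rw [Q.cent v hv]
    constructor
    · rintro ⟨c, e⟩
      rw [e]; simp
    · intro h0
      refine ⟨M.e v 1, ?_⟩
      apply ext2
      · rw [h0]; simp
      · simp
  fz y hy B hB := by
    obtain ⟨z, hz, hz0, hzS⟩ := exists_zc hG S h M
    have h1 := (Q.cent z hz).1 fun a ha => hzS a (hAS ha)
    obtain ⟨c, e⟩ := h1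
    have hc : c ≠ 0 := by
      rintro rfl
      exact hz0 (by rw [e, zero_smul])
    have h2 := hB.act z hz
    rw [hzS y hy, mul_inv_cancel_right, e, ap_smul] at h2
    exact ⟨_, eq_lo (smul_right_injective _ hc h2.symm)⟩
  sec a ha h1 := by
    refine comm_of_sec hG S h M ha fun v hv => ?_
    have hv' : a * v * a⁻¹ ∈ zl (S : Subgroup G) P := conj_mem_zl (h.le ha) hv
    rw [← M.ker _ (mul_mem hv' (inv_mem hv)), M.mul _ hv' _ (inv_mem hv), (rig_of hG S h M).map_inv hv, h1 v hv,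
      add_neg_cancel]
  lin s hs h1 := by
    set N := toSec M (cv_le _ _) (fun _ hh _ hv => conj_mem_zl hh hv) (fun _ hh _ hv => conj_mem_cv hh hv) with hN
    have hsP : s ∈ P := h.le hs
    obtain ⟨σ, hσ⟩ := N.exists_semi hsP
    have hfix : ∀ c : F, N.act s ![0, c] = ![0, c] := by
      intro c
      obtain ⟨v, hv, e⟩ := M.surj ![0, c]
      have h2 := N.act_π hsP hv
      change N.act s (M.e v) = M.e _ at h2
      rw [e, h1 v hv (by rw [e]; simp), e] at h2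
      exact h2
    have hσ1 : ∀ c, σ c = c := by
      intro c
      have h2 := hσ c ![0, 1]
      have e1 : (c • ![0, 1] : Fin 2 → F) = ![0, c] := by apply ext2 <;> simp
      rw [e1, hfix, hfix] at h2
      have := congrFun h2 1
      simp at this
      exact this.symm
    have hsm : ∀ (c : F) x, N.act s (c • x) = c • N.act s x := fun c x => by rw [hσ, hσ1]
    obtain ⟨d, b, hdb⟩ : ∃ d b, N.act s ![1, 0] = ![d, b] := ⟨N.act s ![1, 0] 0, N.act s ![1, 0] 1, by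
      apply ext2 <;> simp⟩
    have hform : ∀ x : Fin 2 → F, N.act s x = ![d * x 0, b * x 0 + x 1] := by
      intro x
      have e1 : x = x 0 • ![1, 0] + ![0, x 1] := by apply ext2 <;> simp
      have h2 := N.act_add hsP (x 0 • ![1, 0]) ![0, x 1]
      rw [← e1, hsm, hfix, hdb] at h2
      rw [h2]
      apply ext2
      · simp [mul_comm]
      · simp [mul_comm]
    have hpow : ∀ k : ℕ, ∀ x, N.act (s ^ k) x 0 = d ^ k * x 0 := by
      intro k
      induction k with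
      | zero => intro x; rw [pow_zero, N.act_one, pow_zero, one_mul]
      | succ k ih =>
        intro x
        rw [pow_succ', N.act_mul hsP (pow_mem hsP k), hform]
        change d * N.act (s ^ k) x 0 = _
        rw [ih, pow_succ']; ring
    obtain ⟨k, hk⟩ := S.2 ⟨s, hs⟩
    have hk' : s ^ 2 ^ k = 1 := by simpa using congrArg Subtype.val hk
    have hd1 : d = 1 := by
      have h2 := hpow (2 ^ k) ![1, 0]
      rw [hk', N.act_one] at h2
      simp only [Matrix.cons_val_zero, mul_one] at h2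
      have h4 : (d - 1) ^ 2 ^ k = 0 := by
        rw [sub_pow_char_pow, ← h2, one_pow, sub_self]
      exact sub_eq_zero.1 (pow_eq_zero_iff (pow_ne_zero k two_ne_zero) |>.1 h4)
    refine ⟨b, fun v hv => ?_⟩
    have h2 := N.act_π hsP hv
    change N.act s (M.e v) = M.e _ at h2
    rw [← h2, hform, ap_lo, hd1, one_mul]

end par

/-- **One side over a given field.** -/
theorem exists_sideS [Finite G] (hG : IsCharacteristicTwoType G) (S : Sylow 2 G) {P : Subgroup G}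
    (h : IsParS (S : Subgroup G) P) {F₁ : Type} [Field F₁] [Finite F₁] [CharP F₁ 2]
    [Finite F] [CharP F 2] (hc : Nat.card F₁ = Nat.card F)
    (M : NatOver F₁ P (zl (S : Subgroup G) P) (cv (S : Subgroup G) P)) {A : Subgroup G}
    (hAS : A ≤ (S : Subgroup G)) {w : Fin 2 → F₁} (Q : QuadP M A w) :
    ∃ π : G → Fin 2 → F, SideS (S : Subgroup G) P (zl (S : Subgroup G) P) (cv (S : Subgroup G) P) A π := by
  have : Fintype F₁ := Fintype.ofFinite F₁
  have : Fintype F := Fintype.ofFinite F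
  let σ : F₁ ≃+* F := FiniteField.ringEquivOfCardEq (by
    rw [← Nat.card_eq_fintype_card, ← Nat.card_eq_fintype_card, hc])
  obtain ⟨C, hC⟩ := exists_ap w Q.ne
  have Q1 := chg_quad Q hC
  set M1 := chg M C with hM1
  have Q2 : QuadP (fld σ M1) A ![0, 1] :=
    { ne := fun h => by
        have := congrFun h 1
        simp at this
      lin := fun a ha => by
        obtain ⟨B, hB, hB'⟩ := Q1.lin a ha
        refine ⟨lo (σ (ent B 1 0)), ap_lo_e _, fun v hv => ?_⟩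
        have h1 := hB' v hv
        rw [eq_lo hB, ap_lo] at h1
        rw [ap_lo]
        change (fun i => σ (M1.e (a * v * a⁻¹) i)) = _
        rw [h1]
        apply ext2
        · rfl
        · change σ (_ * _ + _) = _ * σ (M1.e v 0) + σ (M1.e v 1)
          rw [map_add, map_mul]
      full := fun B hB => by
        obtain ⟨a, ha, h1⟩ := Q1.full (lo (σ.symm (ent B 1 0))) (ap_lo_e _)
        refine ⟨a, ha, fun v hv => ?_⟩
        rw [eq_lo hB, ap_lo]
        have h2 := h1 v hv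
        rw [ap_lo] at h2
        change (fun i => σ (M1.e (a * v * a⁻¹) i)) = _
        rw [h2]
        apply ext2
        · rfl
        · change σ (_ * _ + _) = _ * σ (M1.e v 0) + σ (M1.e v 1)
          rw [map_add, map_mul, σ.apply_symm_apply]
      cent := fun v hv => by
        rw [Q1.cent v hv]
        constructor
        · rintro ⟨c, e⟩
          refine ⟨σ c, ?_⟩
          change (fun i => σ (M1.e v i)) = _
          rw [e]
          apply ext2 <;> simp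
        · rintro ⟨c, e⟩
          refine ⟨σ.symm c, ?_⟩
          change (fun i => σ (M1.e v i)) = _ at e
          apply ext2
          · have := congrFun e 0
            apply σ.injective
            rw [this]; simp
          · have := congrFun e 1
            apply σ.injective
            rw [this]; simp
      idxV := by rw [Q1.idxV, hc]
      idxA := by rw [Q1.idxA, hc]
      reg := fun a ha hna v hv hav => by
        obtain ⟨c, e⟩ := Q1.reg a ha hna v hv hav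
        refine ⟨σ c, ?_⟩
        change (fun i => σ (M1.e v i)) = _
        rw [e]
        apply ext2 <;> simp }
  exact ⟨_, sideS_of hG S h (fld σ M1) hAS Q2⟩

end Cfsg.Agent.Omega.HOne.NSSide

end

section


/-!
# II.0h1, nonsplit case: the functional equation

`PairF` : both sides of a mutual pair with coordinates `e, f, g` and `e', f', g'` (`Form`).
`PairF.dich` : `g(F) = g'(F)`, or `e(F) = g'(F)`, `e'(F) = g(F)` and `g, g'` are injective.
`PairF.norm_e` : in the second case `S` normalises `e(F)`.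
-/

set_option autoImplicit false
set_option linter.unusedSectionVars false

namespace Cfsg.Agent.Omega.HOne.NSPair

open Subgroup Cfsg.Agent.Lib.SL2Mat Cfsg.Agent.Omega.NatPair Cfsg.Agent.Omega.HOne.NSMod
open Cfsg.Agent.Omega.HOne.NSSide

universe u

variable {G : Type u} [Group G] {F : Type} [Field F]

/-- elements inducing `lo b` centralise `C_V(A)` -/
theorem _root_.Cfsg.Agent.Omega.HOne.NSSide.SideS.hcen {S P V D A : Subgroup G} {π : G → Fin 2 → F} (s : SideS S P V D A π) (b : F) (x : G)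
    (hx : Is P V D π x (lo b)) (v : G) (hv : v ∈ V) (h0 : π v 0 = 0) : x * v = v * x := by
  obtain ⟨a, ha, ha'⟩ := s.full b
  have h1 := s.r.is_eq hx ha' v hv
  have h2 := (s.cen v hv).2 h0 a ha
  rw [h2, mul_inv_cancel_right] at h1
  exact mul_inv_eq_iff_eq_mul.1 h1

theorem _root_.Cfsg.Agent.Omega.HOne.NSSide.SideS.exists_form [Finite G] {S P V D A : Subgroup G} {π : G → Fin 2 → F} (s : SideS S P V D A π)
    (hsq : ∀ b : F, ∃ t, b = t ^ 2) (hω : ∃ ω : F, ω ≠ 0 ∧ ω ≠ 1) :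
    ∃ (e f g : F → G) (N : Subgroup G), Form P V D π e f g N :=
  s.r.form hsq hω (s.hcen)

/-- Both sides. -/
structure PairF (S S' P P' V V' D D' : Subgroup G) (π π' : G → Fin 2 → F) (e f g e' f' g' : F → G)
    (N N' : Subgroup G) : Prop where
  s : SideS S P V D V' π
  s' : SideS S' P' V' D' V π'
  φ : Form P V D π e f g N
  φ' : Form P' V' D' π' e' f' g' N'
  sq : ∀ b : F, ∃ t, b = t ^ 2
  ω : ∃ ω : F, ω ≠ 0 ∧ ω ≠ 1

section form

variable {P V D N : Subgroup G} {π : G → Fin 2 → F} {e f g : F → G}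

theorem _root_.Cfsg.Agent.Omega.HOne.NSMod.Form.e0 (φ : Form P V D π e f g N) : e 0 = 1 := by
  have := φ.e_add 0 0
  rw [add_zero] at this
  exact left_eq_mul.1 this

theorem _root_.Cfsg.Agent.Omega.HOne.NSMod.Form.g0 (φ : Form P V D π e f g N) : g 0 = 1 := by
  have := φ.g_add 0 0
  rw [add_zero] at this
  exact left_eq_mul.1 this

theorem _root_.Cfsg.Agent.Omega.HOne.NSMod.Form.f0 (φ : Form P V D π e f g N) : f 0 = 1 := by
  have := φ.f_add 0 0
  rw [add_zero] at this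
  exact left_eq_mul.1 this

/-- `g(F)` -/
def _root_.Cfsg.Agent.Omega.HOne.NSMod.Form.U (φ : Form P V D π e f g N) : Subgroup G where
  carrier := {x | ∃ y, x = g y}
  one_mem' := ⟨0, φ.g0.symm⟩
  mul_mem' := by
    rintro _ _ ⟨y, rfl⟩ ⟨y', rfl⟩
    exact ⟨y + y', (φ.g_add y y').symm⟩
  inv_mem' := by
    rintro _ ⟨y, rfl⟩
    refine ⟨-y, ?_⟩
    rw [inv_eq_iff_mul_eq_one, ← φ.g_add, add_neg_cancel, φ.g0]

theorem _root_.Cfsg.Agent.Omega.HOne.NSMod.Form.mem_U (φ : Form P V D π e f g N) {x : G} : x ∈ φ.U ↔ ∃ y, x = g y := Iff.rfl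

variable (r : Rig P V D π)

include r in
theorem _root_.Cfsg.Agent.Omega.HOne.NSMod.Form.e_inj (φ : Form P V D π e f g N) {x y : F} (h : e x = e y) : x = y := by
  have h1 := φ.eπ x
  rw [h, φ.eπ y] at h1
  simpa using (congrFun h1 1).symm

include r in
theorem _root_.Cfsg.Agent.Omega.HOne.NSMod.Form.gV (φ : Form P V D π e f g N) (y : F) : g y ∈ V := r.DV (φ.gD y)

include r in
theorem _root_.Cfsg.Agent.Omega.HOne.NSMod.Form.gπ (φ : Form P V D π e f g N) (y : F) : π (g y) = 0 := (r.ker _ (r.DV (φ.gD y))).2 (φ.gD y)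

include r in
theorem _root_.Cfsg.Agent.Omega.HOne.NSMod.Form.egπ (φ : Form P V D π e f g N) (x y : F) : π (e x * g y) = ![0, x] := by
  rw [r.mul _ (φ.eV x) _ (φ.gV r y), φ.eπ, φ.gπ r, add_zero]

include r in
theorem _root_.Cfsg.Agent.Omega.HOne.NSMod.Form.eg_inj (φ : Form P V D π e f g N) {x y x' y' : F} (h : e x * g y = e x' * g y') : x = x' ∧ g y = g y' := by
  have h1 := φ.egπ r x y
  rw [h, φ.egπ r x' y'] at h1
  have h2 : x' = x := by simpa using congrFun h1 1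
  subst h2
  exact ⟨rfl, mul_left_cancel h⟩

include r in
theorem _root_.Cfsg.Agent.Omega.HOne.NSMod.Form.NV (φ : Form P V D π e f g N) : N ≤ V := by
  intro z hz
  obtain ⟨a, b, y, rfl⟩ := (φ.mN z).1 hz
  exact mul_mem (mul_mem (φ.eV _) (φ.fV _)) (φ.gV r y)

theorem _root_.Cfsg.Agent.Omega.HOne.NSMod.Form.eN (φ : Form P V D π e f g N) (x : F) : e x ∈ N :=
  (φ.mN _).2 ⟨x, 0, 0, by rw [φ.f0, φ.g0, mul_one, mul_one]⟩

theorem _root_.Cfsg.Agent.Omega.HOne.NSMod.Form.gN (φ : Form P V D π e f g N) (y : F) : g y ∈ N :=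
  (φ.mN _).2 ⟨0, 0, y, by rw [φ.e0, φ.f0, mul_one, one_mul]⟩

end form

namespace PairF

variable {S S' P P' V V' D D' : Subgroup G} {π π' : G → Fin 2 → F} {e f g e' f' g' : F → G} {N N' : Subgroup G}

theorem symm (p : PairF S S' P P' V V' D D' π π' e f g e' f' g' N N') :
    PairF S' S P' P V' V D' D π' π e' f' g' e f g N' N := ⟨p.s', p.s, p.φ', p.φ, p.sq, p.ω⟩

/-- the parameter of the action of `f' c` on `V` -/
theorem exists_psi (p : PairF S S' P P' V V' D D' π π' e f g e' f' g' N N') :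
    ∃ ψ : F → F, (∀ c, Is P V D π (f' c) (lo (ψ c ^ 2))) ∧ (∀ c c', ψ (c + c') = ψ c + ψ c') ∧
      Function.Injective ψ := by
  have h2 := p.s.r.two
  have hex : ∀ c, ∃ t, Is P V D π (f' c) (lo (t ^ 2)) := by
    intro c
    obtain ⟨b, hb⟩ := p.s.typ _ (p.φ'.fV c)
    obtain ⟨t, rfl⟩ := p.sq b
    exact ⟨t, hb⟩
  choose ψ hψ using hex
  -- uniqueness
  have hu : ∀ x (b b' : F), Is P V D π x (lo b) → Is P V D π x (lo b') → b = b' := by
    intro x b b' h h'
    have e1 := h.act (f 1) (p.φ.fV 1)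
    have e2 := h'.act (f 1) (p.φ.fV 1)
    rw [e1, p.φ.fπ, ap_lo, ap_lo] at e2
    simpa using congrFun e2 1
  have hsqi : ∀ a b : F, a ^ 2 = b ^ 2 → a = b := by
    intro a b hab
    have h1 : (a - b) ^ 2 = 0 := by linear_combination hab + (b ^ 2 - a * b) * h2
    exact sub_eq_zero.1 (pow_eq_zero_iff two_ne_zero |>.1 h1)
  have hadd : ∀ c c', ψ (c + c') = ψ c + ψ c' := by
    intro c c'
    have h3 := p.s.r.is_mul (hψ c) (hψ c')
    rw [← p.φ'.f_add, lo_mul] at h3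
    have h4 := hu _ _ _ (hψ (c + c')) h3
    apply hsqi
    rw [h4]
    linear_combination (-(ψ c * ψ c')) * h2
  refine ⟨ψ, hψ, hadd, ?_⟩
  have h0 : ψ 0 = 0 := by
    have := hadd 0 0
    rw [add_zero] at this
    exact left_eq_add.1 this
  have hker : ∀ c, ψ c = 0 → c = 0 := by
    intro c hc
    have h3 := hψ c
    rw [hc, zero_pow two_ne_zero, lo_zero] at h3
    have h4 := p.s.r.rig _ h3.mem h3.cen (fun v hv => by rw [h3.act v hv, ap_one])
    have h5 := (p.s'.cen _ (p.φ'.fV c)).1 fun a ha => (h4 a ha).symm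
    rw [p.φ'.fπ] at h5
    simpa using h5
  intro c c' h
  have h3 : ψ (c - c') = 0 := by
    have h4 := hadd (c - c') c'
    rw [sub_add_cancel, h] at h4
    exact right_eq_add.1 h4
  exact sub_eq_zero.1 (hker _ h3)

theorem comm_eq (p : PairF S S' P P' V V' D D' π π' e f g e' f' g' N N') {ψ φ : F → F}
    (hψ : ∀ c, Is P V D π (f' c) (lo (ψ c ^ 2))) (hφ : ∀ b, Is P' V' D' π' (f b) (lo (φ b ^ 2))) (b c : F) :
    e (ψ c ^ 2 * b) * g (ψ c * b) = e' (φ b ^ 2 * c) * g' (φ b * c) := by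
  have h1 := p.φ.act _ _ (hψ c) _ (p.φ.fV b)
  have h2 := p.φ'.act _ _ (hφ b) _ (p.φ'.fV c)
  rw [p.φ.fπ] at h1
  rw [p.φ'.fπ] at h2
  simp only [Matrix.cons_val_zero] at h1 h2
  have h3 : e (ψ c ^ 2 * b) * g (ψ c * b) = f' c * f b * (f' c)⁻¹ * (f b)⁻¹ := by rw [h1]; group
  have h4 : e' (φ b ^ 2 * c) * g' (φ b * c) = f b * f' c * (f b)⁻¹ * (f' c)⁻¹ := by rw [h2]; group
  have h5 : (e' (φ b ^ 2 * c) * g' (φ b * c))⁻¹ = e (ψ c ^ 2 * b) * g (ψ c * b) := by
    rw [h3, h4]; group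
  rw [← h5, p.s'.r.inv (mul_mem (p.φ'.eV _) (p.φ'.gV p.s'.r _))]

variable [Finite F]

/-- `e(F), g(F) ≤ N'` -/
theorem eg_mem (p : PairF S S' P P' V V' D D' π π' e f g e' f' g' N N') : (∀ z, e z ∈ N') ∧ ∀ y, g y ∈ N' := by
  obtain ⟨ψ, hψ, hψa, hψi⟩ := p.exists_psi
  obtain ⟨φ, hφ, -, -⟩ := p.symm.exists_psi
  have hψs : Function.Surjective ψ := Finite.surjective_of_injective hψi
  have h1 : ∀ t b, e (t ^ 2 * b) * g (t * b) ∈ N' := by
    intro t b
    obtain ⟨c, rfl⟩ := hψs t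
    rw [p.comm_eq hψ hφ]
    exact mul_mem (p.φ'.eN _) (p.φ'.gN _)
  have h2 : ∀ t k : F, t ≠ 0 → e (t * k) * g k ∈ N' := by
    intro t k ht
    have := h1 t (k / t)
    have e1 : t ^ 2 * (k / t) = t * k := by field_simp
    have e2 : t * (k / t) = k := by field_simp
    rwa [e1, e2] at this
  obtain ⟨ω, hω0, hω1⟩ := p.ω
  have two := p.s.r.two
  have hω : 1 + ω ≠ 0 := fun h => hω1 (by linear_combination h - two)
  have h3 : ∀ z, e z ∈ N' := by
    intro z
    set k := z / (1 + ω) with hk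
    have h4 := mul_mem (h2 1 k one_ne_zero) (inv_mem (h2 ω k hω0))
    have h5 : e (1 * k) * g k * (e (ω * k) * g k)⁻¹ = e z := by
      rw [p.s.r.inv (mul_mem (p.φ.eV _) (p.φ.gV p.s.r _))]
      have c1 := p.s.r.Vc _ (p.φ.gV p.s.r k) _ (p.φ.eV (ω * k))
      calc e (1 * k) * g k * (e (ω * k) * g k) = e (1 * k) * (g k * e (ω * k)) * g k := by group
        _ = e (1 * k) * e (ω * k) * (g k * g k) := by rw [c1]; group
        _ = e z := by
          rw [p.s.r.Vs _ (p.φ.gV p.s.r k), mul_one, ← p.φ.e_add]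
          congr 1
          rw [hk]; field_simp
    rwa [h5] at h4
  refine ⟨h3, fun y => ?_⟩
  have h4 := mul_mem (inv_mem (h3 (1 * y))) (h2 1 y one_ne_zero)
  rwa [inv_mul_cancel_left] at h4

/-- elements of `V ∩ V'` have first coordinate zero -/
theorem pi_zero (p : PairF S S' P P' V V' D D' π π' e f g e' f' g' N N') {z : G} (hz : z ∈ V) (hz' : z ∈ V') :
    π' z 0 = 0 := (p.s'.cen z hz').1 fun a ha => p.s.r.Vc a ha z hz

/-- **The dichotomy (one side).** -/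
theorem dich₁ (p : PairF S S' P P' V V' D D' π π' e f g e' f' g' N N') :
    (∀ y, ∃ y', g y = g' y') ∨ ((∀ z, ∃ y', e z = g' y') ∧ ∀ y, g y = 1 → y = 0) := by
  obtain ⟨ψ, hψ, hψa, hψi⟩ := p.exists_psi
  obtain ⟨φ, hφ, hφa, hφi⟩ := p.symm.exists_psi
  obtain ⟨heN, hgN⟩ := p.eg_mem
  have hNV := p.φ'.NV p.s'.r
  have two := p.s.r.two
  let m : F →+ F := AddMonoidHom.mk' (fun y => π' (g y) 1) fun x y => by
    rw [p.φ.g_add, p.s'.r.mul _ (hNV (hgN x)) _ (hNV (hgN y))]; rfl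
  let l : F →+ F := AddMonoidHom.mk' (fun y => π' (e y) 1) fun x y => by
    rw [p.φ.e_add, p.s'.r.mul _ (hNV (heN x)) _ (hNV (heN y))]; rfl
  let ψe : F ≃+ F := AddEquiv.ofBijective (AddMonoidHom.mk' ψ hψa) ⟨hψi, Finite.surjective_of_injective hψi⟩
  let φ2 : F →+ F := AddMonoidHom.mk' (fun b => φ b ^ 2) fun x y => by
    rw [hφa]; linear_combination (φ x * φ y) * two
  have hsqi : ∀ a b : F, a ^ 2 = b ^ 2 → a = b := by
    intro a b hab
    have h1 : (a - b) ^ 2 = 0 := by linear_combination hab + (b ^ 2 - a * b) * two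
    exact sub_eq_zero.1 (pow_eq_zero_iff two_ne_zero |>.1 h1)
  have hφ2 : Function.Injective φ2 := fun x y h => hφi (hsqi _ _ h)
  have heq : ∀ x y, m (x * y) + l (x * x * y) = ψe.symm x * φ2 y := by
    intro x y
    obtain ⟨c, rfl⟩ := ψe.surjective x
    rw [AddEquiv.symm_apply_apply]
    have h1 := p.comm_eq hψ hφ y c
    have h2 := congrArg (fun z => π' z 1) h1
    rw [p.φ'.egπ p.s'.r, p.s'.r.mul _ (hNV (heN _)) _ (hNV (hgN _))] at h2
    simp only [Pi.add_apply, Matrix.cons_val_one] at h2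
    change m (ψ c * y) + l (ψ c * ψ c * y) = c * φ y ^ 2
    rw [← pow_two]
    change π' (g (ψ c * y)) 1 + π' (e (ψ c ^ 2 * y)) 1 = _
    rw [add_comm, h2]
    exact mul_comm _ _
  rcases FFOne.kernel_trick m l (ψe.symm : F →+ F) φ2 ψe.symm.injective hφ2 heq with hm | hl
  · left
    intro y
    apply p.φ'.ND _ (hgN y)
    rw [← p.s'.r.ker _ (hNV (hgN y))]
    apply ext2
    · exact p.pi_zero (p.φ.gV p.s.r y) (hNV (hgN y))
    · exact DFunLike.congr_fun hm y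
  · right
    refine ⟨fun z => ?_, fun y hy => ?_⟩
    · apply p.φ'.ND _ (heN z)
      rw [← p.s'.r.ker _ (hNV (heN z))]
      apply ext2
      · exact p.pi_zero (p.φ.eV z) (hNV (heN z))
      · exact DFunLike.congr_fun hl z
    · by_contra hy0
      have h1 := heq 1 y
      rw [hl, one_mul, AddMonoidHom.zero_apply, add_zero] at h1
      change π' (g y) 1 = _ at h1
      rw [hy, p.s'.r.map_one] at h1
      rcases mul_eq_zero.1 h1.symm with h2 | h2
      · exact one_ne_zero ((map_eq_zero_iff ψe.symm ψe.symm.injective).1 h2)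
      · exact hy0 (hφ2 (h2.trans (map_zero φ2).symm))

/-- **The dichotomy.** -/
theorem dich (p : PairF S S' P P' V V' D D' π π' e f g e' f' g' N N') :
    ((∀ y, ∃ y', g y = g' y') ∧ ∀ y, ∃ y', g' y = g y') ∨
    ((∀ z, ∃ y', e z = g' y') ∧ (∀ z, ∃ y', e' z = g y') ∧ (∀ y, g y = 1 → y = 0) ∧ ∀ y, g' y = 1 → y = 0) := by
  rcases p.dich₁ with h1 | ⟨h1, h2⟩ <;> rcases p.symm.dich₁ with h3 | ⟨h3, h4⟩
  · exact Or.inl ⟨h1, h3⟩
  · exfalso
    obtain ⟨y, hy⟩ := h3 1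
    obtain ⟨y', hy'⟩ := h1 y
    have h5 := p.φ'.eπ 1
    rw [hy, hy', p.φ'.gπ p.s'.r] at h5
    simpa using congrFun h5 1
  · exfalso
    obtain ⟨y, hy⟩ := h1 1
    obtain ⟨y', hy'⟩ := h3 y
    have h5 := p.φ.eπ 1
    rw [hy, hy', p.φ.gπ p.s.r] at h5
    simpa using congrFun h5 1
  · exact Or.inr ⟨h1, h3, h2, h4⟩

omit [Finite F] in
/-- `S` normalises `e(F)` if `g` is injective -/
theorem norm_e (p : PairF S S' P P' V V' D D' π π' e f g e' f' g' N N') (hg : ∀ y, g y = 1 → y = 0)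
    {s : G} (hs : s ∈ S) (z : F) : ∃ z', s * e z * s⁻¹ = e z' := by
  have hsP := p.s.SP hs
  have hgi : ∀ y y', g y = g y' → y = y' := by
    intro y y' h
    have h1 := p.φ.g_add (y - y') y'
    rw [sub_add_cancel, h] at h1
    exact sub_eq_zero.1 (hg _ (right_eq_mul.1 h1))
  -- conjugates of elements inducing `lo b`
  have hconj : ∀ s ∈ S, ∀ a ∈ V', ∃ t, Is P V D π (s * a * s⁻¹) (lo (t ^ 2)) := by
    intro s hs a ha
    obtain ⟨b, hb⟩ := p.s.typ a ha
    obtain ⟨B, hB⟩ := p.s.r.is_conj (p.s.SP hs) hb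
    obtain ⟨b', rfl⟩ := p.s.fz _ (mul_mem (mul_mem hs (p.s.AS ha)) (inv_mem hs)) B hB
    obtain ⟨t, rfl⟩ := p.sq b'
    exact ⟨t, hB⟩
  have hw : s * e z * s⁻¹ ∈ N := p.φ.NP s hsP _ (p.φ.eN z)
  have hwV : s * e z * s⁻¹ ∈ V := p.φ.NV p.s.r hw
  have hw0 : π (s * e z * s⁻¹) 0 = 0 := by
    refine (p.s.cen _ hwV).1 fun a ha => ?_
    obtain ⟨t, ht⟩ := hconj s⁻¹ (inv_mem hs) a ha
    rw [inv_inv] at ht
    have h1 := p.s.hcen _ _ ht (e z) (p.φ.eV z) (by rw [p.φ.eπ]; simp)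
    calc a * (s * e z * s⁻¹) = s * (s⁻¹ * a * s * e z) * s⁻¹ := by group
      _ = s * (e z * (s⁻¹ * a * s)) * s⁻¹ := by rw [h1]
      _ = _ := by group
  obtain ⟨a, b, y, hwe⟩ := (p.φ.mN _).1 hw
  have hb : b = 0 := by
    rw [hwe, p.s.r.mul _ (mul_mem (p.φ.eV _) (p.φ.fV _)) _ (p.φ.gV p.s.r _), p.s.r.mul _ (p.φ.eV _) _ (p.φ.fV _),
      p.φ.eπ, p.φ.fπ, p.φ.gπ p.s.r] at hw0
    simpa using hw0
  rw [hb, p.φ.f0, mul_one] at hwe
  by_cases hy : y = 0
  · exact ⟨a, by rw [hwe, hy, p.φ.g0, mul_one]⟩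
  exfalso
  have hwz : z = 0 → False := by
    rintro rfl
    rw [p.φ.e0, mul_one, mul_inv_cancel] at hwe
    have h1 : e 0 * g 0 = e a * g y := by rw [← hwe, p.φ.e0, p.φ.g0, mul_one]
    exact hy (hgi _ _ ((p.φ.eg_inj p.s.r h1).2)).symm
  by_cases ha : a = 0
  · rw [ha, p.φ.e0, one_mul] at hwe
    obtain ⟨y', hy'⟩ := p.φ.gP s⁻¹ (inv_mem hsP) y
    have h1 : e z = g y' := by rw [← hy', ← hwe]; group
    have h2 := p.φ.eπ z
    rw [h1, p.φ.gπ p.s.r] at h2
    exact hwz (by simpa using (congrFun h2 1).symm)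
  · obtain ⟨x, hx, hxl⟩ := p.s.full ((a / y) ^ 2)
    have h1 := p.φ.act _ _ hxl (f (y ^ 2 / a)) (p.φ.fV _)
    rw [p.φ.fπ] at h1
    simp only [Matrix.cons_val_zero] at h1
    have e1 : (a / y) ^ 2 * (y ^ 2 / a) = a := by field_simp
    have e2 : a / y * (y ^ 2 / a) = y := by field_simp
    rw [e1, e2] at h1
    obtain ⟨t, ht⟩ := hconj s⁻¹ (inv_mem hs) x hx
    rw [inv_inv] at ht
    have hfV : s⁻¹ * f (y ^ 2 / a) * s ∈ V := by
      have := p.s.r.Vn s⁻¹ (inv_mem hsP) _ (p.φ.fV (y ^ 2 / a))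
      rwa [inv_inv] at this
    have h2 := p.φ.act _ _ ht _ hfV
    have h3 : e z * g 0 = e (t ^ 2 * π (s⁻¹ * f (y ^ 2 / a) * s) 0) * g (t * π (s⁻¹ * f (y ^ 2 / a) * s) 0) := by
      have h4 : e z = s⁻¹ * (e a * g y) * s := by rw [← hwe]; group
      have h5 : e a * g y = x * f (y ^ 2 / a) * x⁻¹ * (f (y ^ 2 / a))⁻¹ := by rw [h1]; group
      rw [p.φ.g0, mul_one, h4, h5]
      calc s⁻¹ * (x * f (y ^ 2 / a) * x⁻¹ * (f (y ^ 2 / a))⁻¹) * s
          = (s⁻¹ * x * s * (s⁻¹ * f (y ^ 2 / a) * s) * (s⁻¹ * x * s)⁻¹) * (s⁻¹ * f (y ^ 2 / a) * s)⁻¹ := by group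
        _ = _ := by rw [h2]; group
    obtain ⟨h6, h7⟩ := p.φ.eg_inj p.s.r h3
    have h8 := hg _ (h7.symm.trans p.φ.g0)
    rcases mul_eq_zero.1 h8 with h9 | h9
    · exact hwz (by rw [h6, h9]; ring)
    · exact hwz (by rw [h6, h9]; ring)

end PairF

end Cfsg.Agent.Omega.HOne.NSPair

end

section


/-!
# II.0h1, nonsplit case: the instance of `NSPar.Dat`
-/

set_option autoImplicit false
set_option linter.unusedSectionVars false

namespace Cfsg.Agent.Omega.HOne.NSDat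

open Subgroup Cfsg.Agent.Lib.SL2Mat Cfsg.Agent.Omega.NatPair Cfsg.Agent.Omega.HOne.NSMod
open Cfsg.Agent.Omega.HOne.NSSide Cfsg.Agent.Omega.HOne.NSPair Cfsg.Agent.Omega.HOne.NSPar Cfsg.Agent.Omega.BTwo

universe u

variable {G : Type u} [Group G] {F : Type} [Field F]

/-- surjectivity from the index of the kernel -/
theorem surj_of_index [Finite F] {Q K : Subgroup G} {f : G → F} (hm : ∀ u ∈ Q, ∀ v ∈ Q, f (u * v) = f u + f v)
    (hK : ∀ u ∈ Q, u ∈ K ↔ f u = 0) (h : K.relIndex Q = Nat.card F) : ∀ a, ∃ u ∈ Q, f u = a := by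
  have h1' : f 1 = 0 := (hK 1 (one_mem Q)).1 (one_mem K)
  let φ : Q →* Multiplicative F :=
    { toFun := fun u => Multiplicative.ofAdd (f u)
      map_one' := by
        change Multiplicative.ofAdd (f ((1 : Q) : G)) = 1
        rw [coe_one, h1']; rfl
      map_mul' := fun u v => by
        change Multiplicative.ofAdd (f ((u : G) * v)) = _
        rw [hm u u.2 v v.2]; rfl }
  have h1 : K.subgroupOf Q = φ.ker := by
    ext u
    rw [mem_subgroupOf, hK u u.2, MonoidHom.mem_ker]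
    exact Iff.rfl
  have h2 : φ.range = ⊤ := by
    apply eq_top_of_card_eq
    rw [← index_ker, ← h1]
    change K.relIndex Q = _
    rw [h]; rfl
  intro a
  have h3 : Multiplicative.ofAdd a ∈ φ.range := by rw [h2]; exact mem_top _
  obtain ⟨u, hu⟩ := h3
  exact ⟨u, u.2, hu⟩

/-- index of the kernel of a surjective additive coordinate -/
theorem index_of_surj [Finite F] {Q K : Subgroup G} {f : G → F} (hm : ∀ u ∈ Q, ∀ v ∈ Q, f (u * v) = f u + f v)
    (hs : ∀ a, ∃ u ∈ Q, f u = a) (hK : ∀ u ∈ Q, u ∈ K ↔ f u = 0) : K.relIndex Q = Nat.card F := by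
  have h1' : f 1 = 0 := (hK 1 (one_mem Q)).1 (one_mem K)
  let φ : Q →* Multiplicative F :=
    { toFun := fun u => Multiplicative.ofAdd (f u)
      map_one' := by
        change Multiplicative.ofAdd (f ((1 : Q) : G)) = 1
        rw [coe_one, h1']; rfl
      map_mul' := fun u v => by
        change Multiplicative.ofAdd (f ((u : G) * v)) = _
        rw [hm u u.2 v v.2]; rfl }
  have h1 : K.subgroupOf Q = φ.ker := by
    ext u
    rw [mem_subgroupOf, hK u u.2, MonoidHom.mem_ker]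
    exact Iff.rfl
  have h2 : φ.range = ⊤ := by
    rw [MonoidHom.range_eq_top]
    intro a
    obtain ⟨u, hu, h⟩ := hs a.toAdd
    exact ⟨⟨u, hu⟩, congrArg Multiplicative.ofAdd h⟩
  rw [relIndex, h1, index_ker, h2, card_top]
  rfl

theorem relIndex_centralizer_cj (g : G) (X Y : Subgroup G) :
    (centralizer (cj g X : Set G)).relIndex (cj g Y) = (centralizer (X : Set G)).relIndex Y := by
  rw [centralizer_cj]
  exact relIndex_map_map_of_injective _ _ (MulAut.conj g).injective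

section side

variable {S S' P P' V V' D D' : Subgroup G} {π π' : G → Fin 2 → F} {e f g e' f' g' : F → G} {N N' : Subgroup G}

/-- an element of `S` centralising `e(F)` acts on `V` like an element of `V'` -/
theorem act_of (p : PairF S S' P P' V V' D D' π π' e f g e' f' g' N N') {x : G} (hx : x ∈ S)
    (hc : ∀ z, x * e z = e z * x) :
    ∃ t : F, ∀ v ∈ V, x * v * x⁻¹ = e (t ^ 2 * π v 0) * g (t * π v 0) * v := by
  have hxP := p.s.SP hx
  obtain ⟨b, hb⟩ := p.s.lin x hx fun v hv h0 => by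
    -- `v = e (π v 1) d`
    have h1 : (e (π v 1))⁻¹ * v ∈ D := (p.s.r.ker _ (mul_mem (inv_mem (p.φ.eV _)) hv)).1 (by
      rw [p.s.r.mul _ (inv_mem (p.φ.eV _)) _ hv, p.s.r.map_inv (p.φ.eV _), p.φ.eπ]
      apply ext2
      · simp [h0]
      · simp)
    have h2 := p.s.r.Dn x hxP _ h1
    have h3 : x * v * x⁻¹ = e (π v 1) * (x * ((e (π v 1))⁻¹ * v) * x⁻¹) := by
      have h4 := hc (π v 1)
      calc x * v * x⁻¹ = (x * e (π v 1)) * ((e (π v 1))⁻¹ * v) * x⁻¹ := by group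
        _ = _ := by rw [h4]; group
    rw [h3, p.s.r.mul _ (p.φ.eV _) _ (p.s.r.DV h2), (p.s.r.ker _ (p.s.r.DV h2)).2 h2, p.φ.eπ, add_zero]
    apply ext2
    · simp [h0]
    · simp
  obtain ⟨t, rfl⟩ := p.sq b
  obtain ⟨a, ha, hal⟩ := p.s.full (t ^ 2)
  refine ⟨t, fun v hv => ?_⟩
  rw [← p.φ.act t a hal v hv]
  have haS := p.s.AS ha
  have h1 := p.s.sec (a⁻¹ * x) (mul_mem (inv_mem haS) hx) (fun v hv => by
    have hxv := p.s.r.Vn x hxP v hv
    have h2 := (p.s.r.is_inv hal).act _ hxv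
    have e1 : a⁻¹ * (x * v * x⁻¹) * a⁻¹⁻¹ = a⁻¹ * x * v * (a⁻¹ * x)⁻¹ := by group
    rw [e1, hb v hv, ap_inv_ap] at h2
    exact h2) v hv
  calc x * v * x⁻¹ = a * (a⁻¹ * x * v) * x⁻¹ := by group
    _ = a * (v * (a⁻¹ * x)) * x⁻¹ := by rw [h1]
    _ = _ := by group

/-- `C_V(Q)` for `Q ≤ S` centralising `e(F)`, not commuting with `V` -/
theorem cen_of (p : PairF S S' P P' V V' D D' π π' e f g e' f' g' N N') {Q : Subgroup G} (hQ : Q ≤ S)
    (hc : ∀ x ∈ Q, ∀ z, x * e z = e z * x) (hne : ¬ Com Q V) {v : G} (hv : v ∈ V) :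
    v ∈ centralizer (Q : Set G) ↔ π v 0 = 0 := by
  rw [mem_centralizer_iff]
  constructor
  · intro h
    by_contra h0
    apply hne
    intro x hx w hw
    obtain ⟨t, ht⟩ := act_of p (hQ hx) (hc x hx)
    have h1 := ht v hv
    rw [h x hx, mul_inv_cancel_right] at h1
    have h2 : e 0 * g 0 = e (t ^ 2 * π v 0) * g (t * π v 0) := by
      rw [p.φ.e0, p.φ.g0, mul_one]
      exact right_eq_mul.1 h1 |>.symm
    have h3 := (p.φ.eg_inj p.s.r h2).1
    have h4 : t = 0 := by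
      rcases mul_eq_zero.1 h3.symm with h4 | h4
      · exact pow_eq_zero_iff two_ne_zero |>.1 h4
      · exact absurd h4 h0
    have h5 := ht w hw
    rw [h4, zero_pow two_ne_zero, zero_mul, p.φ.e0, p.φ.g0, one_mul, one_mul] at h5
    exact mul_inv_eq_iff_eq_mul.1 h5
  · intro h0 x hx
    obtain ⟨t, ht⟩ := act_of p (hQ hx) (hc x hx)
    have h1 := ht v hv
    rw [h0, mul_zero, mul_zero, p.φ.e0, p.φ.g0, one_mul, one_mul] at h1
    exact mul_inv_eq_iff_eq_mul.1 h1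

theorem index_of [Finite F] (p : PairF S S' P P' V V' D D' π π' e f g e' f' g' N N') {Q : Subgroup G} (hQ : Q ≤ S)
    (hc : ∀ x ∈ Q, ∀ z, x * e z = e z * x) (hne : ¬ Com Q V) :
    (centralizer (Q : Set G)).relIndex V = Nat.card F :=
  index_of_surj (f := fun v => π v 0) (fun u hu v hv => by rw [p.s.r.mul u hu v hv]; rfl)
    (fun a => ⟨f a, p.φ.fV a, by rw [p.φ.fπ]; rfl⟩) fun v hv => cen_of p hQ hc hne hv

/-- `Q ≤ S` centralising `e(F)` with `|Q : C_Q(V)| = |F|` induces everything -/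
theorem full_of [Finite F] (p : PairF S S' P P' V V' D D' π π' e f g e' f' g' N N') {Q : Subgroup G} (hQ : Q ≤ S)
    (hc : ∀ x ∈ Q, ∀ z, x * e z = e z * x) (hi : (centralizer (V : Set G)).relIndex Q = Nat.card F) (t : F) :
    ∃ x ∈ Q, ∀ v ∈ V, x * v * x⁻¹ = e (t ^ 2 * π v 0) * g (t * π v 0) * v := by
  classical
  let τ : G → F := fun x => if h : x ∈ Q then (act_of p (hQ h) (hc x h)).choose else 0
  have hτ : ∀ x ∈ Q, ∀ v ∈ V, x * v * x⁻¹ = e (τ x ^ 2 * π v 0) * g (τ x * π v 0) * v := by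
    intro x hx v hv
    have h1 : τ x = (act_of p (hQ hx) (hc x hx)).choose := dif_pos hx
    rw [h1]
    exact (act_of p (hQ hx) (hc x hx)).choose_spec v hv
  have hf0 : π (f 1) 0 = 1 := by rw [p.φ.fπ]; rfl
  have two := p.s.r.two
  have hsqi : ∀ a b : F, a ^ 2 = b ^ 2 → a = b := by
    intro a b hab
    have h1 : (a - b) ^ 2 = 0 := by linear_combination hab + (b ^ 2 - a * b) * two
    exact sub_eq_zero.1 (pow_eq_zero_iff two_ne_zero |>.1 h1)
  have hadd : ∀ x ∈ Q, ∀ y ∈ Q, τ (x * y) = τ x + τ y := by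
    intro x hx y hy
    have h1 := hτ _ (mul_mem hx hy) (f 1) (p.φ.fV 1)
    have h2 := hτ y hy (f 1) (p.φ.fV 1)
    have h3 := hτ x hx (f 1) (p.φ.fV 1)
    have hR : ∀ a b, x * (e a * g b) * x⁻¹ = e a * g b := by
      intro a b
      have hV : e a * g b ∈ V := mul_mem (p.φ.eV _) (p.φ.gV p.s.r _)
      rw [hτ x hx _ hV, p.φ.egπ p.s.r]
      simp [p.φ.e0, p.φ.g0]
    rw [hf0, mul_one, mul_one] at h1 h2 h3
    have e1 : x * y * f 1 * (x * y)⁻¹ = x * (y * f 1 * y⁻¹) * x⁻¹ := by group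
    have e2 : x * (e (τ y ^ 2) * g (τ y) * f 1) * x⁻¹ = (x * (e (τ y ^ 2) * g (τ y)) * x⁻¹) * (x * f 1 * x⁻¹) := by
      group
    rw [e1, h2, e2, hR, h3, ← mul_assoc] at h1
    have h4 : e (τ y ^ 2) * g (τ y) * (e (τ x ^ 2) * g (τ x)) = e (τ (x * y) ^ 2) * g (τ (x * y)) := mul_right_cancel h1
    have h5 : e (τ y ^ 2) * g (τ y) * (e (τ x ^ 2) * g (τ x)) = e (τ y ^ 2 + τ x ^ 2) * g (τ y + τ x) := by
      have c1 := p.s.r.Vc _ (p.φ.gV p.s.r (τ y)) _ (p.φ.eV (τ x ^ 2))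
      rw [p.φ.e_add, p.φ.g_add]
      calc e (τ y ^ 2) * g (τ y) * (e (τ x ^ 2) * g (τ x)) = e (τ y ^ 2) * (g (τ y) * e (τ x ^ 2)) * g (τ x) := by group
        _ = _ := by rw [c1]; group
    rw [h5] at h4
    have h6 := (p.φ.eg_inj p.s.r h4).1
    apply hsqi
    rw [← h6]
    linear_combination (-(τ x * τ y)) * two
  have hker : ∀ x ∈ Q, x ∈ centralizer (V : Set G) ↔ τ x = 0 := by
    intro x hx
    rw [mem_centralizer_iff]
    constructor
    · intro h
      have h1 := hτ x hx (f 1) (p.φ.fV 1)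
      rw [← h _ (p.φ.fV 1), mul_inv_cancel_right, hf0, mul_one, mul_one] at h1
      have h2 : e 0 * g 0 = e (τ x ^ 2) * g (τ x) := by
        rw [p.φ.e0, p.φ.g0, mul_one]
        exact right_eq_mul.1 h1 |>.symm
      exact pow_eq_zero_iff two_ne_zero |>.1 (p.φ.eg_inj p.s.r h2).1.symm
    · intro h v hv
      have h1 := hτ x hx v hv
      rw [h, zero_pow two_ne_zero, zero_mul, p.φ.e0, p.φ.g0, one_mul, one_mul] at h1
      exact (mul_inv_eq_iff_eq_mul.1 h1).symm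
  obtain ⟨x, hx, hxt⟩ := surj_of_index hadd hker hi t
  refine ⟨x, hx, fun v hv => ?_⟩
  rw [← hxt]
  exact hτ x hx v hv

/-- **The instance of `Dat`.** -/
theorem exists_dat [Finite F] (p : PairF S S' P P' V V' D D' π π' e f g e' f' g' N N')
    (hg' : ∀ y, g' y = 1 → y = 0)
    {H M W O : Subgroup G} (HM : H ≤ M) (VO : V ≤ O) (WO : W ≤ O) (OS : O ≤ S) (OS' : O ≤ S') (OH : O ≤ H)
    (HO : ∀ h ∈ H, ∀ x ∈ O, h * x * h⁻¹ ∈ O)
    (WM : ∀ g ∈ M, ∀ w ∈ W, g * w * g⁻¹ ∈ W) (Wc : ∀ w ∈ W, ∀ w' ∈ W, w * w' = w' * w) (VW : V' ≤ W)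
    (HR' : ∀ h ∈ H, ∀ z, ∃ z', h * e' z * h⁻¹ = e' z') (PM : P' ≤ M)
    (cor : ∀ y ∈ M, (∀ w ∈ W, y * w * y⁻¹ * w⁻¹ ∈ p.φ'.U) → (∀ u ∈ p.φ'.U, y * u = u * y) →
      ∀ w ∈ W, y * w = w * y) :
    ∃ (β : G → F) (κ : F → F → G), Dat H M V V' W p.φ'.U β κ := by
  classical
  choose r hr using p.sq
  have two := p.s.r.two
  have hsqi : ∀ a b : F, a ^ 2 = b ^ 2 → a = b := by
    intro a b hab
    have h1 : (a - b) ^ 2 = 0 := by linear_combination hab + (b ^ 2 - a * b) * two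
    exact sub_eq_zero.1 (pow_eq_zero_iff two_ne_zero |>.1 h1)
  have hrsq : ∀ t, r (t ^ 2) = t := fun t => hsqi _ _ (hr _).symm
  have eN' := p.eg_mem.1
  have e'N := p.symm.eg_mem.1
  have e'V : ∀ z, e' z ∈ V := fun z => p.φ.NV p.s.r (e'N z)
  have eV' : ∀ z, e z ∈ V' := fun z => p.φ'.NV p.s'.r (eN' z)
  have hXO : ∀ h ∈ H, cj h V ≤ O := by
    rintro h hh _ ⟨v, hv, rfl⟩
    exact HO h hh v (VO hv)
  have hXe : ∀ h ∈ H, ∀ x ∈ cj h V, ∀ z, x * e' z = e' z * x := by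
    rintro h hh _ ⟨v, hv, rfl⟩ z
    obtain ⟨z', hz'⟩ := HR' h⁻¹ (inv_mem hh) z
    have h1 := p.s.r.Vc v hv _ (e'V z')
    rw [← hz', inv_inv] at h1
    change h * v * h⁻¹ * e' z = e' z * (h * v * h⁻¹)
    calc h * v * h⁻¹ * e' z = h * (v * (h⁻¹ * e' z * h)) * h⁻¹ := by group
      _ = h * (h⁻¹ * e' z * h * v) * h⁻¹ := by rw [h1]
      _ = _ := by group
  have hYW : ∀ h ∈ H, cj h⁻¹ V' ≤ W := by
    rintro h hh _ ⟨v, hv, rfl⟩
    exact WM _ (HM (inv_mem hh)) v (VW hv)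
  have hWe : ∀ w ∈ W, ∀ z, w * e z = e z * w := fun w hw z => Wc w hw _ (VW (eV' z))
  -- the two indices
  have idx1 : ∀ h ∈ H, ¬ Com (cj h V) V' → (centralizer (V : Set G)).relIndex (cj h⁻¹ V') = Nat.card F := by
    intro h hh hne
    have h1 := index_of p.symm ((hXO h hh).trans OS') (hXe h hh) hne
    rw [← relIndex_centralizer_cj h⁻¹, cj_inv_cj] at h1
    exact h1
  have idx2 : ∀ h ∈ H, ¬ Com (cj h V) V' → (centralizer (V' : Set G)).relIndex (cj h V) = Nat.card F := by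
    intro h hh hne
    have hne' : ¬ Com (cj h⁻¹ V') V := by
      intro hc
      apply hne
      have h1 : Com (cj h (cj h⁻¹ V')) (cj h V) := com_cj.2 hc
      rw [cj_cj_inv] at h1
      exact fun x hx y hy => (h1 y hy x hx).symm
    have h1 := index_of p (((hYW h hh).trans WO).trans OS) (fun w hw => hWe w (hYW h hh hw)) hne'
    rw [← relIndex_centralizer_cj h, cj_cj_inv] at h1
    exact h1
  have hall : ∀ h ∈ H, ¬ Com (cj h V) V' → ∀ t : F, ∃ x ∈ cj h V, ∀ v ∈ V',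
      x * v * x⁻¹ = e' (t ^ 2 * π' v 0) * g' (t * π' v 0) * v := fun h hh hne t =>
    full_of p.symm ((hXO h hh).trans OS') (hXe h hh) (idx2 h hh hne) t
  have honly : ∀ h ∈ H, ∀ x ∈ cj h V, ∃ t : F, ∀ v ∈ V',
      x * v * x⁻¹ = e' (t ^ 2 * π' v 0) * g' (t * π' v 0) * v := fun h hh x hx =>
    act_of p.symm (((hXO h hh).trans OS') hx) (hXe h hh x hx)
  have hdec : ∀ h ∈ H, ¬ Com (cj h V) V' → ∀ w ∈ W, ∃ v ∈ V', ∃ c ∈ W, w = v * c ∧ ∀ x ∈ cj h V, x * c = c * x := by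
    intro h hh hne w hw
    have hw' : h⁻¹ * w * h ∈ W := by
      have := WM h⁻¹ (HM (inv_mem hh)) w hw
      rwa [inv_inv] at this
    obtain ⟨t, ht⟩ := act_of p (OS (WO hw')) (hWe _ hw')
    obtain ⟨y, hy, hyt⟩ := full_of p (((hYW h hh).trans WO).trans OS) (fun w hw => hWe w (hYW h hh hw))
      (idx1 h hh hne) t
    have hyV' : h * y * h⁻¹ ∈ V' := by
      obtain ⟨v, hv, e1⟩ := hy
      have e2 : h⁻¹ * v * h = y := by
        rw [← e1]; simp
      rw [← e2]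
      have e3 : h * (h⁻¹ * v * h) * h⁻¹ = v := by group
      rw [e3]; exact hv
    have hcW : h * (y⁻¹ * (h⁻¹ * w * h)) * h⁻¹ ∈ W :=
      WM h (HM hh) _ (mul_mem (inv_mem (hYW h hh hy)) hw')
    refine ⟨_, hyV', _, hcW, by group, ?_⟩
    rintro _ ⟨v, hv, rfl⟩
    have e1 : y⁻¹ * (h⁻¹ * w * h) * v = v * (y⁻¹ * (h⁻¹ * w * h)) := by
      have e2 : h⁻¹ * w * h * v * (h⁻¹ * w * h)⁻¹ = y * v * y⁻¹ := by rw [ht v hv, hyt v hv]
      have e3 : h⁻¹ * w * h * v = y * v * y⁻¹ * (h⁻¹ * w * h) := by rw [← e2]; group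
      calc y⁻¹ * (h⁻¹ * w * h) * v = y⁻¹ * (h⁻¹ * w * h * v) := by group
        _ = _ := by rw [e3]; group
    change h * v * h⁻¹ * (h * (y⁻¹ * (h⁻¹ * w * h)) * h⁻¹) = h * (y⁻¹ * (h⁻¹ * w * h)) * h⁻¹ * (h * v * h⁻¹)
    calc h * v * h⁻¹ * (h * (y⁻¹ * (h⁻¹ * w * h)) * h⁻¹) = h * (v * (y⁻¹ * (h⁻¹ * w * h))) * h⁻¹ := by group
      _ = h * (y⁻¹ * (h⁻¹ * w * h) * v) * h⁻¹ := by rw [e1]
      _ = _ := by group
  refine ⟨fun v => π' v 0, fun b a => e' (a * b) * g' (r a * b), ?_⟩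
  have hπκ : ∀ b a, π' (e' (a * b) * g' (r a * b)) = ![0, a * b] := fun b a => p.φ'.egπ p.s'.r _ _
  refine
    { HM := HM
      VH := VO.trans OH
      WM := WM
      Wc := Wc
      VW := VW
      UV := ?_
      β_mul := fun v hv w hw => by rw [p.s'.r.mul v hv w hw]; rfl
      κ_mem := fun b a => mul_mem (p.φ'.eV _) (p.φ'.gV p.s'.r _)
      κ_add := ?_
      κ_ne := ?_
      βκ := fun b a => by rw [hπκ]; rfl
      all := ?_
      only := ?_
      dec := hdec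
      sl := ?_
      sq := ?_
      cor := cor }
  · rintro _ ⟨y, rfl⟩
    exact p.φ'.gV p.s'.r y
  · intro b b' a
    rw [mul_add, mul_add, p.φ'.e_add, p.φ'.g_add]
    have c1 := p.s'.r.Vc _ (p.φ'.gV p.s'.r (r a * b)) _ (p.φ'.eV (a * b'))
    calc e' (a * b) * e' (a * b') * (g' (r a * b) * g' (r a * b'))
        = e' (a * b) * (e' (a * b') * g' (r a * b)) * g' (r a * b') := by group
      _ = e' (a * b) * (g' (r a * b) * e' (a * b')) * g' (r a * b') := by rw [c1]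
      _ = _ := by group
  · intro b a hb ha h
    have h1 := hπκ b a
    rw [h, p.s'.r.map_one] at h1
    have h2 : a * b = 0 := by simpa using (congrFun h1 1).symm
    rcases mul_eq_zero.1 h2 with h3 | h3
    · exact ha h3
    · exact hb h3
  · intro h hh hne a
    obtain ⟨x, hx, hx'⟩ := hall h hh hne (r a)
    refine ⟨x, hx, fun v hv => ?_⟩
    rw [hx' v hv, ← hr a]
  · intro h hh _ x hx
    obtain ⟨t, ht⟩ := honly h hh x hx
    refine ⟨t ^ 2, fun v hv => ?_⟩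
    rw [ht v hv, hrsq]
  · intro l
    obtain ⟨n, hn⟩ := p.s'.r.is_lift (wm (1 : F) one_ne_zero)
    obtain ⟨x, hx, hxl⟩ := p.s'.full (-l)
    have hne1 : ¬ Com (cj 1 V) V' := by
      rw [cj_one]
      intro hc
      obtain ⟨y, hy, hyl⟩ := p.s'.full 1
      have h1 := hyl.act (f' 1) (p.φ'.fV 1)
      rw [hc y hy _ (p.φ'.fV 1), mul_inv_cancel_right, p.φ'.fπ, ap_lo] at h1
      have := congrFun h1 1
      simp at this
    have hdV : ∀ w ∈ W, ∀ x ∈ V, x * w * x⁻¹ * w⁻¹ ∈ V' := by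
      intro w hw x hx
      obtain ⟨v, hv, c, hc, rfl, hcc⟩ := hdec 1 (one_mem _) hne1 w hw
      rw [cj_one] at hcc
      have h1 := hcc x hx
      have h2 : x * (v * c) * x⁻¹ * (v * c)⁻¹ = x * v * x⁻¹ * v⁻¹ := by
        calc x * (v * c) * x⁻¹ * (v * c)⁻¹ = x * v * x⁻¹ * (x * c) * x⁻¹ * c⁻¹ * v⁻¹ := by group
          _ = _ := by rw [h1]; group
      rw [h2]
      exact mul_mem (p.s'.r.Vn x (p.s'.SP (p.s'.AS hx)) v hv) (inv_mem hv)
    have hf := p.s'.r.is_mul (p.s'.r.is_mul hn hxl) (p.s'.r.is_inv hn)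
    have h3 : wm (1 : F) one_ne_zero * lo (-l) * (wm (1 : F) one_ne_zero)⁻¹ = up l := by
      have h4 := wm_lo (1 : F) (-l) one_ne_zero
      rw [one_pow, mul_one, neg_neg] at h4
      rw [h4, mul_inv_cancel_right]
    rw [h3] at hf
    refine ⟨n * x * n⁻¹, PM hf.mem, fun v hv => p.s'.r.Vn _ hf.mem v hv, fun w hw => ?_, fun b a => ?_⟩
    · have hw' : n⁻¹ * w * n ∈ W := by
        have := WM n⁻¹ (PM (inv_mem hn.mem)) w hw
        rwa [inv_inv] at this
      have h5 := p.s'.r.Vn n hn.mem _ (hdV _ hw' x hx)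
      have h6 : n * (x * (n⁻¹ * w * n) * x⁻¹ * (n⁻¹ * w * n)⁻¹) * n⁻¹ = n * x * n⁻¹ * w * (n * x * n⁻¹)⁻¹ * w⁻¹ := by
        group
      rwa [h6] at h5
    · have h5 := hf.act _ (mul_mem (p.φ'.eV (a * b)) (p.φ'.gV p.s'.r (r a * b)))
      change π' _ 0 = _
      rw [h5, hπκ, ap_zero']
      simp [mul_comm a b]
  · obtain ⟨ω, hω0, hω1⟩ := p.ω
    have hr1 : r 1 = 1 := by
      have := hrsq 1
      rwa [one_pow] at this
    have hkey : ∀ b, e' (1 * b) * g' (r 1 * b) * (e' (ω⁻¹ * (ω * b)) * g' (r ω⁻¹ * (ω * b))) =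
        g' ((1 + r ω⁻¹ * ω) * b) := by
      intro b
      have e1 : ω⁻¹ * (ω * b) = b := by field_simp
      rw [hr1, one_mul, e1]
      have c1 := p.s'.r.Vc _ (p.φ'.gV p.s'.r b) _ (p.φ'.eV b)
      have e2 : (1 + r ω⁻¹ * ω) * b = b + r ω⁻¹ * (ω * b) := by ring
      calc e' b * g' b * (e' b * g' (r ω⁻¹ * (ω * b))) = e' b * (g' b * e' b) * g' (r ω⁻¹ * (ω * b)) := by group
        _ = (e' b * e' b) * (g' b * g' (r ω⁻¹ * (ω * b))) := by rw [c1]; group
        _ = _ := by rw [p.s'.r.Vs _ (p.φ'.eV b), one_mul, ← p.φ'.g_add, e2]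
    refine ⟨ω, hω0, fun b => ⟨_, hkey b⟩, fun b hb h => ?_⟩
    change e' (1 * b) * g' (r 1 * b) * (e' (ω⁻¹ * (ω * b)) * g' (r ω⁻¹ * (ω * b))) = 1 at h
    rw [hkey] at h
    have h1 := hg' _ h
    rcases mul_eq_zero.1 h1 with h2 | h2
    · apply hω1
      have h3 : r ω⁻¹ * ω = 1 := by linear_combination h2 - two
      have h4 : (r ω⁻¹ * ω) ^ 2 = ω := by
        rw [mul_pow, ← hr]
        field_simp
      rw [← h4, h3, one_pow]
    · exact hb h2

end side

end Cfsg.Agent.Omega.HOne.NSDat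

end

section


/-!
# II.0h1, nonsplit case: two members of `P*(S)` over the same `S` with noncommuting `V_P`

`common` : a mutual pair, one natural factor on both sides, `|F| ≥ 4`, `[V, O²(P)] ∩ C_V(O²(P)) ≠ 1` imply that there is
`P₃ ∈ P*(S)` with `[V_P, V_{P₃}] ≠ 1`.
-/

set_option autoImplicit false
set_option linter.unusedSectionVars false

namespace Cfsg.Agent.Omega.HOne.NSMain

open Subgroup Cfsg Cfsg.Agent.ZN Cfsg.Agent.Omega.MinPar Cfsg.Agent.Omega.FrameFF Cfsg.Agent.Lib.SL2Mat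
open Cfsg.Agent.Omega.NatPair (ap ap_add ap_inv_ap ext2)
open Cfsg.Agent.Omega.BTwo (cj mem_cj conj_mem_cj cj_one cj_mul cj_inv_cj cj_cj_inv cj_mono card_cj isPGroup_cj)
open Cfsg.Agent.Omega.HOne.NSMod Cfsg.Agent.Omega.HOne.NSSide Cfsg.Agent.Omega.HOne.NSPair
open Cfsg.Agent.Omega.HOne.NSPar Cfsg.Agent.Omega.HOne.NSDat Cfsg.Agent.Omega.HOne.NSClaim
open Cfsg.Agent.MinSimple.VModule
open Cfsg.Agent.MinSimple

universe u

variable {G : Type u} [Group G]

/-! ### Conjugation -/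

theorem exists_conj_le [Finite G] (S : Sylow 2 G) {N T : Subgroup G} (hS : (S : Subgroup G) ≤ N) (hT : IsPGroup 2 T)
    (hTN : T ≤ N) : ∃ n ∈ N, ∀ x ∈ T, n * x * n⁻¹ ∈ (S : Subgroup G) := by
  let S' : Sylow 2 N := S.subtype hS
  have hT' : IsPGroup 2 (T.subgroupOf N) := hT.comap_of_injective _ (subtype_injective N)
  obtain ⟨R, hR⟩ := hT'.exists_le_sylow
  obtain ⟨g, hg⟩ := MulAction.exists_smul_eq N R S'
  refine ⟨g, g.2, fun x hx => ?_⟩
  have h1 : (⟨x, hTN hx⟩ : N) ∈ (R : Subgroup N) := hR (mem_subgroupOf.2 hx)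
  have h2 : g * ⟨x, hTN hx⟩ * g⁻¹ ∈ ((g • R : Sylow 2 N) : Subgroup N) := by
    rw [Sylow.coe_subgroup_smul, mem_pointwise_smul_iff_inv_smul_mem]
    have e3 : (MulAut.conj g)⁻¹ • (g * ⟨x, hTN hx⟩ * g⁻¹) = ⟨x, hTN hx⟩ := by
      rw [← map_inv, MulAut.smul_def, MulAut.conj_apply]
      group
    rw [e3]
    exact h1
  rw [hg] at h2
  exact h2

theorem oddGen_cj (g : G) (X : Subgroup G) : oddGen (cj g X) = cj g (oddGen X) := by
  unfold cj oddGen
  rw [MonoidHom.map_closure]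
  congr 1
  ext x
  constructor
  · rintro ⟨⟨y, hy, rfl⟩, hy'⟩
    refine ⟨y, ⟨hy, ?_⟩, rfl⟩
    have : orderOf ((MulAut.conj g).toMonoidHom y) = orderOf y := orderOf_injective _ (MulAut.conj g).injective y
    rwa [this] at hy'
  · rintro ⟨y, ⟨hy, hy'⟩, rfl⟩
    refine ⟨⟨y, hy, rfl⟩, ?_⟩
    have : orderOf ((MulAut.conj g).toMonoidHom y) = orderOf y := orderOf_injective _ (MulAut.conj g).injective y
    rwa [this]

theorem zl_cj (g : G) (B L : Subgroup G) : zl (cj g B) (cj g L) = cj g (zl B L) := MinSimple.CosetFam.zl_conj g B L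

theorem cv_cj (g : G) (S P : Subgroup G) : cv (cj g S) (cj g P) = cj g (cv S P) := by
  unfold cv
  rw [zl_cj, oddGen_cj, BTwo.centralizer_cj, BTwo.cj_inf]

theorem isParS_cj {S P : Subgroup G} (h : IsParS S P) (g : G) : IsParS (cj g S) (cj g P) := h.map (MulAut.conj g)

/-- conjugates of `NatOver` -/
def natOver_cj {F : Type} [Field F] {P V D : Subgroup G} (M : NatOver F P V D) (g : G) :
    NatOver F (cj g P) (cj g V) (cj g D) where
  e := fun x => M.e (g⁻¹ * x * g)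
  mul v hv w hw := by
    rw [mem_cj] at hv hw
    have e1 : g⁻¹ * (v * w) * g = (g⁻¹ * v * g) * (g⁻¹ * w * g) := by group
    rw [e1, M.mul _ hv _ hw]
  surj x := by
    obtain ⟨v, hv, e⟩ := M.surj x
    refine ⟨g * v * g⁻¹, conj_mem_cj hv, ?_⟩
    have e1 : g⁻¹ * (g * v * g⁻¹) * g = v := by group
    rw [e1, e]
  ker v hv := by
    rw [mem_cj] at hv ⊢
    exact M.ker _ hv
  lift A := by
    obtain ⟨h, hh, h1, h2⟩ := M.lift A
    refine ⟨g * h * g⁻¹, conj_mem_cj hh, fun v hv => ?_, fun d hd => ?_⟩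
    · rw [mem_cj] at hv
      have e1 : g⁻¹ * (g * h * g⁻¹ * v * (g * h * g⁻¹)⁻¹) * g = h * (g⁻¹ * v * g) * h⁻¹ := by group
      rw [e1, h1 _ hv]
    · rw [mem_cj] at hd
      have e1 := h2 _ hd
      calc g * h * g⁻¹ * d = g * (h * (g⁻¹ * d * g)) * g⁻¹ := by group
        _ = g * (g⁻¹ * d * g * h) * g⁻¹ := by rw [e1]
        _ = _ := by group
  norm x hx h hh A hA := by
    rw [mem_cj] at hx hh
    obtain ⟨B, hB⟩ := M.norm _ hx _ hh A (fun v hv => by
      have h1 := hA _ (conj_mem_cj hv)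
      have e1 : g⁻¹ * (h * (g * v * g⁻¹) * h⁻¹) * g = (g⁻¹ * h * g) * v * (g⁻¹ * h * g)⁻¹ := by group
      have e2 : g⁻¹ * (g * v * g⁻¹) * g = v := by group
      rw [e1, e2] at h1
      exact h1)
    refine ⟨B, fun v hv => ?_⟩
    rw [mem_cj] at hv
    have h1 := hB _ hv
    have e1 : g⁻¹ * (x * h * x⁻¹ * v * (x * h * x⁻¹)⁻¹) * g = g⁻¹ * x * g * (g⁻¹ * h * g) * (g⁻¹ * x * g)⁻¹ *
      (g⁻¹ * v * g) * (g⁻¹ * x * g * (g⁻¹ * h * g) * (g⁻¹ * x * g)⁻¹)⁻¹ := by group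
    rw [e1, h1]

/-! ### The main argument, `V' ≤ S`, `V ≤ S'` -/

section main

variable [Finite G] (hG : IsCharacteristicTwoType G) (S S' : Sylow 2 G) {P P' : Subgroup G}
  (h : IsParS (S : Subgroup G) P) (h' : IsParS (S' : Subgroup G) P')
  {F : Type} [Field F] [Finite F]
  {π π' : G → Fin 2 → F} {e f g e' f' g' : F → G} {N N' : Subgroup G}

include hG h h' in
/-- `g(F) = g'(F) ≠ 1` is impossible. -/
theorem kill (p : PairF (S : Subgroup G) (S' : Subgroup G) P P' (zl (S : Subgroup G) P) (zl (S' : Subgroup G) P')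
      (cv (S : Subgroup G) P) (cv (S' : Subgroup G) P') π π' e f g e' f' g' N N')
    (hne : ¬ Com (zl (S : Subgroup G) P) (zl (S' : Subgroup G) P'))
    (h1 : ∀ y, ∃ y', g y = g' y') (h2 : ∀ y, ∃ y', g' y = g y') : ∀ y, g y = 1 := by
  by_contra hcon
  push Not at hcon
  obtain ⟨y, hy⟩ := hcon
  set U := p.φ.U with hU
  have hUV : U ≤ zl (S : Subgroup G) P := by
    rintro _ ⟨y, rfl⟩
    exact p.φ.gV p.s.r y
  have hU2 : IsPGroup 2 U := S.isPGroup'.to_le (hUV.trans (((h.isLoc.zl_le S hG).trans (zc_le _)).trans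
    ((o2_le_of_sylow S.isPGroup' (MinSimple.Basic.not_dvd_relIndex S h.le)))))
  have hU1 : U ≠ ⊥ := by
    intro h0
    have : g y ∈ U := ⟨y, rfl⟩
    rw [h0, mem_bot] at this
    exact hy this
  have hPU : P ≤ normalizer (U : Set G) := by
    intro x hx
    refine mem_normalizer_of_map_le ?_
    rintro _ ⟨_, ⟨y, rfl⟩, rfl⟩
    obtain ⟨y', e1⟩ := p.φ.gP x hx y
    exact ⟨y', e1⟩
  have hP'U : P' ≤ normalizer (U : Set G) := by
    intro x hx
    refine mem_normalizer_of_map_le ?_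
    rintro _ ⟨_, ⟨y, rfl⟩, rfl⟩
    obtain ⟨y₁, e0⟩ := h1 y
    obtain ⟨y₂, e1⟩ := p.φ'.gP x hx y₁
    obtain ⟨y₃, e2⟩ := h2 y₂
    refine ⟨y₃, ?_⟩
    change x * g y * x⁻¹ = _
    rw [e0, e1, e2]
  have hL : IsLoc (S : Subgroup G) (normalizer (U : Set G)) := isLoc_normalizer S hU2 hU1 (h.le.trans hPU)
  have hL' : IsLoc (S' : Subgroup G) (normalizer (U : Set G)) := isLoc_normalizer S' hU2 hU1 (h'.le.trans hP'U)
  have h3 : zl (S : Subgroup G) P ≤ zc (o2 (normalizer (U : Set G))) :=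
    (zl_le (zc_le_zl _ _) (hPU.trans (le_normalizer_zl _ _))).trans (hL.zl_le S hG)
  have h4 : zl (S' : Subgroup G) P' ≤ zc (o2 (normalizer (U : Set G))) :=
    (zl_le (zc_le_zl _ _) (hP'U.trans (le_normalizer_zl _ _))).trans (hL'.zl_le S' hG)
  exact hne fun x hx y hy => zc_comm _ _ (h3 hx) _ (h4 hy)

include hG h in
/-- `g = 1` implies that `V` splits -/
theorem split_of (p : PairF (S : Subgroup G) (S' : Subgroup G) P P' (zl (S : Subgroup G) P) (zl (S' : Subgroup G) P')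
      (cv (S : Subgroup G) P) (cv (S' : Subgroup G) P') π π' e f g e' f' g' N N')
    (hg : ∀ y, g y = 1) : ⁅zl (S : Subgroup G) P, oddGen P⁆ ⊓ cv (S : Subgroup G) P = ⊥ := by
  let V : Subgroup G := zl (S : Subgroup G) P
  let D : Subgroup G := cv (S : Subgroup G) P
  let L : Subgroup G :=
    { carrier := {x | ∃ B, Is P V D π x B}
      one_mem' := ⟨1, p.s.r.is_one⟩
      mul_mem' := by
        rintro x y ⟨A, hA⟩ ⟨B, hB⟩
        exact ⟨_, p.s.r.is_mul hA hB⟩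
      inv_mem' := by
        rintro x ⟨A, hA⟩
        exact ⟨_, p.s.r.is_inv hA⟩ }
  have hLP : L ≤ P := fun x ⟨_, hx⟩ => hx.mem
  have hPL : P ≤ normalizer (L : Set G) := by
    intro x hx
    refine mem_normalizer_of_map_le ?_
    rintro _ ⟨l, ⟨B, hB⟩, rfl⟩
    exact p.s.r.is_conj hx hB
  have hodd : oddGen P ≤ L := by
    rcases IsPar.sup_eq_or_inf_le S h.toIsPar hLP hPL with h1 | h1
    · exact oddGen_le_of_sup hPL h1.ge h.le hLP S.isPGroup'
    · exfalso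
      obtain ⟨a, ha, hal⟩ := p.s.full 1
      have h2 : a ∈ o2 P := h1 ⟨p.s.AS ha, _, hal⟩
      have h3 := o2_le_centralizer_zl h.le S.isPGroup' (MinSimple.Basic.not_dvd_relIndex S h.le)
        (h.isLoc.char2 S hG) h2
      have h4 := hal.act (f 1) (p.φ.fV 1)
      rw [← mem_centralizer_iff.1 h3 _ (p.φ.fV 1), mul_inv_cancel_right, p.φ.fπ, ap_lo] at h4
      have := congrFun h4 1
      simp at this
  have hcm : ⁅V, oddGen P⁆ ≤ N := by
    rw [commutator_le]
    intro v hv x hx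
    obtain ⟨B, hB⟩ := hodd hx
    have h1 := p.φ.cN x B hB v hv
    rw [commutatorElement_def]
    have e1 : v * x * v⁻¹ * x⁻¹ = (x * v * x⁻¹ * v⁻¹)⁻¹ := by group
    rw [e1]
    exact inv_mem h1
  rw [eq_bot_iff]
  rintro z ⟨hz, hzD⟩
  obtain ⟨y, rfl⟩ := p.φ.ND z (hcm hz) hzD
  rw [hg, mem_bot]

include hG h h' in
/-- the good case -/
theorem main (p : PairF (S : Subgroup G) (S' : Subgroup G) P P' (zl (S : Subgroup G) P) (zl (S' : Subgroup G) P')
      (cv (S : Subgroup G) P) (cv (S' : Subgroup G) P') π π' e f g e' f' g' N N')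
    (hne : ¬ Com (zl (S : Subgroup G) P) (zl (S' : Subgroup G) P'))
    (h1 : ∀ z, ∃ y', e z = g' y') (h2 : ∀ z, ∃ y', e' z = g y') (hg : ∀ y, g y = 1 → y = 0)
    (hg' : ∀ y, g' y = 1 → y = 0) :
    ∃ k : G, cj k (S' : Subgroup G) = S ∧ ¬ Com (zl (S : Subgroup G) P) (cj k (zl (S' : Subgroup G) P')) := by
  -- `e(F) = g'(F)`, `e'(F) = g(F)`
  have hsurj : ∀ (a b : F → G), (∀ x y, a x = a y → x = y) → (∀ z, ∃ y, a z = b y) → ∀ y, ∃ z, b y = a z := by
    intro a b hai hab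
    choose θ hθ using hab
    have hθi : Function.Injective θ := fun x y hxy => hai _ _ (by rw [hθ, hθ, hxy])
    intro y
    obtain ⟨z, rfl⟩ := Finite.surjective_of_injective hθi y
    exact ⟨z, (hθ z).symm⟩
  have h1' := hsurj e g' (fun _ _ hxy => p.φ.e_inj p.s.r hxy) h1
  have h2' := hsurj e' g (fun _ _ hxy => p.φ'.e_inj p.s'.r hxy) h2
  obtain ⟨V, hV⟩ : ∃ V, V = zl (S : Subgroup G) P := ⟨_, rfl⟩
  obtain ⟨V', hV'⟩ : ∃ V', V' = zl (S' : Subgroup G) P' := ⟨_, rfl⟩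
  obtain ⟨U, hU⟩ : ∃ U, U = p.φ.U := ⟨_, rfl⟩
  obtain ⟨U', hU'⟩ : ∃ U', U' = p.φ'.U := ⟨_, rfl⟩
  have mU : ∀ x, x ∈ U ↔ ∃ y, x = g y := fun x => by rw [hU]; rfl
  have mU' : ∀ x, x ∈ U' ↔ ∃ y, x = g' y := fun x => by rw [hU']; rfl
  have mUe : ∀ x, x ∈ U ↔ ∃ y, x = e' y := fun x => by
    rw [mU]
    constructor
    · rintro ⟨y, rfl⟩; exact h2' y
    · rintro ⟨y, rfl⟩; exact h2 y
  have mUe' : ∀ x, x ∈ U' ↔ ∃ y, x = e y := fun x => by
    rw [mU']
    constructor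
    · rintro ⟨y, rfl⟩; exact h1' y
    · rintro ⟨y, rfl⟩; exact h1 y
  have hVS : zl (S : Subgroup G) P ≤ (S : Subgroup G) := ((h.isLoc.zl_le S hG).trans (zc_le _)).trans
    (o2_le_of_sylow S.isPGroup' (MinSimple.Basic.not_dvd_relIndex S h.le))
  have hVS' : zl (S' : Subgroup G) P' ≤ (S' : Subgroup G) := ((h'.isLoc.zl_le S' hG).trans (zc_le _)).trans
    (o2_le_of_sylow S'.isPGroup' (MinSimple.Basic.not_dvd_relIndex S' h'.le))
  have hUV : U ≤ zl (S : Subgroup G) P := fun x hx => by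
    obtain ⟨y, rfl⟩ := (mU x).1 hx
    exact p.φ.gV p.s.r y
  have hUV' : U ≤ zl (S' : Subgroup G) P' := fun x hx => by
    obtain ⟨y, rfl⟩ := (mUe x).1 hx
    exact p.φ'.eV y
  have hU'V : U' ≤ zl (S : Subgroup G) P := fun x hx => by
    obtain ⟨y, rfl⟩ := (mUe' x).1 hx
    exact p.φ.eV y
  have hU'V' : U' ≤ zl (S' : Subgroup G) P' := fun x hx => by
    obtain ⟨y, rfl⟩ := (mU' x).1 hx
    exact p.φ'.gV p.s'.r y
  have hU1 : U ≠ ⊥ := by
    intro h0
    have h3 : g 1 ∈ U := (mU _).2 ⟨1, rfl⟩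
    rw [h0, mem_bot] at h3
    exact one_ne_zero (hg _ h3)
  have hU1' : U' ≠ ⊥ := by
    intro h0
    have h3 : g' 1 ∈ U' := (mU' _).2 ⟨1, rfl⟩
    rw [h0, mem_bot] at h3
    exact one_ne_zero (hg' _ h3)
  have hU2 : IsPGroup 2 U := S.isPGroup'.to_le (hUV.trans hVS)
  have hU2' : IsPGroup 2 U' := S'.isPGroup'.to_le (hU'V'.trans hVS')
  have hPU : P ≤ normalizer (U : Set G) := by
    intro x hx
    refine mem_normalizer_of_map_le ?_
    rintro _ ⟨u, hu, rfl⟩
    obtain ⟨y, rfl⟩ := (mU u).1 hu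
    exact (mU _).2 (p.φ.gP x hx y)
  have hPU' : P' ≤ normalizer (U' : Set G) := by
    intro x hx
    refine mem_normalizer_of_map_le ?_
    rintro _ ⟨u, hu, rfl⟩
    obtain ⟨y, rfl⟩ := (mU' u).1 hu
    exact (mU' _).2 (p.φ'.gP x hx y)
  have hSU' : (S : Subgroup G) ≤ normalizer (U' : Set G) := by
    intro x hx
    refine mem_normalizer_of_map_le ?_
    rintro _ ⟨u, hu, rfl⟩
    obtain ⟨y, rfl⟩ := (mUe' u).1 hu
    exact (mUe' _).2 (p.norm_e hg hx y)
  have hSU : (S' : Subgroup G) ≤ normalizer (U : Set G) := by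
    intro x hx
    refine mem_normalizer_of_map_le ?_
    rintro _ ⟨u, hu, rfl⟩
    obtain ⟨y, rfl⟩ := (mUe u).1 hu
    exact (mUe _).2 (p.symm.norm_e hg' hx y)
  let H : Subgroup G := normalizer (U : Set G) ⊓ normalizer (U' : Set G)
  let M : Subgroup G := normalizer (U' : Set G)
  let M₁ : Subgroup G := normalizer (U : Set G)
  have hSH : (S : Subgroup G) ≤ H := le_inf (h.le.trans hPU) hSU'
  have hSH' : (S' : Subgroup G) ≤ H := le_inf hSU (h'.le.trans hPU')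
  have hL₁ : IsLoc (S : Subgroup G) M₁ := isLoc_normalizer S hU2 hU1 (h.le.trans hPU)
  have hL : IsLoc (S' : Subgroup G) M := isLoc_normalizer S' hU2' hU1' (h'.le.trans hPU')
  let W : Subgroup G := zl (S' : Subgroup G) M
  let W₁ : Subgroup G := zl (S : Subgroup G) M₁
  have hWz : W ≤ zc (o2 M) := hL.zl_le S' hG
  have hW₁z : W₁ ≤ zc (o2 M₁) := hL₁.zl_le S hG
  have hVW : zl (S' : Subgroup G) P' ≤ W := zl_le (zc_le_zl _ _) (hPU'.trans (le_normalizer_zl _ _))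
  have hVW₁ : zl (S : Subgroup G) P ≤ W₁ := zl_le (zc_le_zl _ _) (hPU.trans (le_normalizer_zl _ _))
  have hWM : W ≤ M := (hWz.trans (zc_le _)).trans (o2_le _)
  have hW₁M : W₁ ≤ M₁ := (hW₁z.trans (zc_le _)).trans (o2_le _)
  have hWc : ∀ x ∈ W, ∀ y ∈ W, x * y = y * x := fun x hx y hy => zc_comm _ _ (hWz hx) _ (hWz hy)
  have hW₁c : ∀ x ∈ W₁, ∀ y ∈ W₁, x * y = y * x := fun x hx y hy => zc_comm _ _ (hW₁z hx) _ (hW₁z hy)
  have hcn : ∀ (X Y : Subgroup G), (∀ x ∈ X, ∀ y ∈ Y, x * y = y * x) → X ≤ normalizer (Y : Set G) := by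
    intro X Y hXY x hx
    rw [mem_normalizer_iff]
    intro y
    constructor
    · intro hy
      rw [hXY x hx y hy, mul_inv_cancel_right]
      exact hy
    · intro hy
      have h3 := hXY x hx _ hy
      have h4 : x * y * x⁻¹ = y := by
        have h5 : x * (x * y * x⁻¹) * x⁻¹ = x * y * x⁻¹ := by rw [h3, mul_inv_cancel_right]
        have h6 : x * y * x⁻¹ = y := by
          have h7 := congrArg (fun z => x⁻¹ * z * x) h5
          calc x * y * x⁻¹ = x⁻¹ * (x * (x * y * x⁻¹) * x⁻¹) * x := by group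
            _ = x⁻¹ * (x * y * x⁻¹) * x := h7
            _ = y := by group
        exact h6
      rwa [h4] at hy
  have hWH : W ≤ H := le_inf (hcn W U fun x hx y hy => hWc x hx y (hVW (hUV' hy))) hWM
  have hW₁H : W₁ ≤ H := le_inf hW₁M (hcn W₁ U' fun x hx y hy => hW₁c x hx y (hVW₁ (hU'V hy)))
  have hW2 : IsPGroup 2 W := (o2_isPGroup M).to_le (hWz.trans (zc_le _))
  have hW₁2 : IsPGroup 2 W₁ := (o2_isPGroup M₁).to_le (hW₁z.trans (zc_le _))
  have hHM : H ≤ M := inf_le_right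
  have hHM₁ : H ≤ M₁ := inf_le_left
  have hWO : W ≤ o2 H := le_o2 hWH hW2 (hHM.trans (le_normalizer_zl _ _))
  have hW₁O : W₁ ≤ o2 H := le_o2 hW₁H hW₁2 (hHM₁.trans (le_normalizer_zl _ _))
  have hOS : o2 H ≤ (S : Subgroup G) := o2_le_of_sylow S.isPGroup' (MinSimple.Basic.not_dvd_relIndex S hSH)
  have hOS' : o2 H ≤ (S' : Subgroup G) := o2_le_of_sylow S'.isPGroup' (MinSimple.Basic.not_dvd_relIndex S' hSH')
  -- `cor`
  have hcor : ∀ y ∈ M, (∀ w ∈ W, y * w * y⁻¹ * w⁻¹ ∈ p.φ'.U) → (∀ u ∈ p.φ'.U, y * u = u * y) →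
      ∀ w ∈ W, y * w = w * y := by
    rw [← hU']
    have hMU : ∀ m ∈ M, ∀ u ∈ U', m * u * m⁻¹ ∈ U' := fun m hm u hu => (mem_normalizer_iff.1 hm u).1 hu
    have hMW : ∀ m ∈ M, ∀ u ∈ W, m * u * m⁻¹ ∈ W := fun m hm u hu =>
      (mem_normalizer_iff.1 (le_normalizer_zl _ _ hm) u).1 hu
    let K : Subgroup G :=
      { carrier := {y | y ∈ M ∧ (∀ w ∈ W, y * w * y⁻¹ * w⁻¹ ∈ U') ∧ ∀ u ∈ U', y * u = u * y}
        one_mem' := ⟨one_mem _, fun w _ => by simp, fun u _ => by simp⟩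
        mul_mem' := by
          rintro x y ⟨hx, hx1, hx2⟩ ⟨hy, hy1, hy2⟩
          refine ⟨mul_mem hx hy, fun w hw => ?_, fun u hu => ?_⟩
          · have e1 : x * y * w * (x * y)⁻¹ * w⁻¹ = (x * (y * w * y⁻¹ * w⁻¹)) * x⁻¹ * (x * w * x⁻¹ * w⁻¹) := by group
            rw [e1, hx2 _ (hy1 w hw), mul_inv_cancel_right]
            exact mul_mem (hy1 w hw) (hx1 w hw)
          · rw [mul_assoc, hy2 u hu, ← mul_assoc, hx2 u hu, mul_assoc]
        inv_mem' := by
          rintro x ⟨hx, hx1, hx2⟩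
          have hx2' : ∀ u ∈ U', x⁻¹ * u = u * x⁻¹ := fun u hu => by
            have h3 := hx2 u hu
            calc x⁻¹ * u = x⁻¹ * (u * x) * x⁻¹ := by group
              _ = x⁻¹ * (x * u) * x⁻¹ := by rw [h3]
              _ = _ := by group
          refine ⟨inv_mem hx, fun w hw => ?_, hx2'⟩
          have h3 := hx1 _ (hMW x⁻¹ (inv_mem hx) w hw)
          rw [inv_inv] at h3
          have e1 : x⁻¹ * w * x⁻¹⁻¹ * w⁻¹ = (x * (x⁻¹ * w * x) * x⁻¹ * (x⁻¹ * w * x)⁻¹)⁻¹ := by group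
          rw [e1]
          exact inv_mem h3 }
    have hKM : K ≤ M := fun x hx => hx.1
    have hMK : M ≤ normalizer (K : Set G) := by
      intro m hm
      refine mem_normalizer_of_map_le ?_
      rintro _ ⟨x, ⟨hx, hx1, hx2⟩, rfl⟩
      change m * x * m⁻¹ ∈ K
      refine ⟨mul_mem (mul_mem hm hx) (inv_mem hm), fun w hw => ?_, fun u hu => ?_⟩
      · have h3 := hMW m⁻¹ (inv_mem hm) w hw
        rw [inv_inv] at h3
        have h4 := hMU m hm _ (hx1 _ h3)
        have e1 : m * (x * (m⁻¹ * w * m) * x⁻¹ * (m⁻¹ * w * m)⁻¹) * m⁻¹ =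
          m * x * m⁻¹ * w * (m * x * m⁻¹)⁻¹ * w⁻¹ := by group
        rwa [e1] at h4
      · have h3 := hMU m⁻¹ (inv_mem hm) u hu
        rw [inv_inv] at h3
        have h4 := hx2 _ h3
        calc m * x * m⁻¹ * u = m * (x * (m⁻¹ * u * m)) * m⁻¹ := by group
          _ = m * (m⁻¹ * u * m * x) * m⁻¹ := by rw [h4]
          _ = _ := by group
    have hK2 : ∀ x ∈ K, ∃ k : ℕ, x ^ 2 ^ k ∈ centralizer (W : Set G) := by
      rintro x ⟨hx, hx1, hx2⟩
      refine ⟨1, mem_centralizer_iff.2 fun w hw => ?_⟩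
      obtain ⟨u, hu⟩ : ∃ u, u = x * w * x⁻¹ * w⁻¹ := ⟨_, rfl⟩
      have huU : u ∈ U' := by rw [hu]; exact hx1 w hw
      have huu : u * u = 1 := by
        rw [← pow_two]
        exact zc_sq _ _ (hWz (hVW (hU'V' huU)))
      have e1 : x * w * x⁻¹ = u * w := by rw [hu]; group
      have e2 : x * (x * w * x⁻¹) * x⁻¹ = w := by
        calc x * (x * w * x⁻¹) * x⁻¹ = (x * u) * w * x⁻¹ := by rw [e1]; group
          _ = u * (x * w * x⁻¹) := by rw [hx2 u huU]; group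
          _ = u * u * w := by rw [e1]; group
          _ = w := by rw [huu, one_mul]
      rw [pow_one, pow_two]
      calc w * (x * x) = (x * (x * w * x⁻¹) * x⁻¹) * (x * x) := by rw [e2]
        _ = x * x * w := by group
    have h3 := le_centralizer_of_pow hL.le S'.isPGroup' (MinSimple.Basic.not_dvd_relIndex S' hL.le) hKM hMK
      (zc_le_centralizer _) (zc_le_zl _ M) (le_normalizer_zl _ M) (fun W hW hPW => zl_le hW hPW) hK2
    intro y hy hy1 hy2 w hw
    exact (mem_centralizer_iff.1 (h3 (show y ∈ K from ⟨hy, hy1, hy2⟩)) w hw).symm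
  obtain ⟨β, κ, d⟩ := exists_dat p hg' hHM (hVW₁.trans hW₁O) hWO hOS hOS' (o2_le H)
    (fun x hx y hy => (mem_normalizer_iff.1 (le_normalizer_o2 H hx) y).1 hy)
    (fun x hx y hy => (mem_normalizer_iff.1 (le_normalizer_zl _ M hx) y).1 hy) hWc hVW
    (fun x hx z => (mUe _).1 ((mem_normalizer_iff.1 (hHM₁ hx) _).1 ((mUe _).2 ⟨z, rfl⟩))) hPU' hcor
  obtain ⟨k, -, hk, hk'⟩ := d.common S S' hSH (h.le.trans (le_normalizer_zl _ _)) hSH'
    (h'.le.trans (le_normalizer_zl _ _)) hne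
  exact ⟨k, hk, hk'⟩

end main

/-! ### Fields -/

theorem exists_omega {F : Type} [Field F] [Finite F] (h : 4 ≤ Nat.card F) : ∃ ω : F, ω ≠ 0 ∧ ω ≠ 1 := by
  by_contra hcon
  push Not at hcon
  have h1 : Function.Surjective (fun b : Bool => if b then (1 : F) else 0) := by
    intro a
    by_cases ha : a = 0
    · exact ⟨false, by simp [ha]⟩
    · exact ⟨true, by simp [hcon a ha]⟩
  have h2 := Nat.card_le_card_of_surjective _ h1
  have h3 : Nat.card Bool = 2 := by rw [Nat.card_eq_fintype_card, Fintype.card_bool]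
  omega

theorem exists_sq {F : Type} [Field F] [Finite F] [CharP F 2] (b : F) : ∃ t, b = t ^ 2 := by
  obtain ⟨t, ht⟩ := Finite.injective_iff_surjective.1 (frobenius_inj F 2) b
  exact ⟨t, ht.symm⟩

/-! ### The result -/

/-- transport of `NatOver` to the conjugate parabolic -/
theorem natOver_par {F : Type} [Field F] {S P S' P' : Subgroup G} (M : NatOver F P (zl S P) (cv S P)) {x : G}
    (hS : S' = cj x S) (hP : P' = cj x P) : Nonempty (NatOver F P' (zl S' P') (cv S' P')) := by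
  subst hS hP
  rw [zl_cj, cv_cj]
  exact ⟨natOver_cj M x⟩

/-- A mutual pair may be chosen with `V' ≤ S`, `V ≤ S'`. -/
theorem normalise [Finite G] (hG : IsCharacteristicTwoType G) (S : Sylow 2 G) {P₁ P₂ : Subgroup G} {x : G}
    (m : Mutual (S : Subgroup G) P₁ P₂ x) : ∃ x₂ : G, cj x₂ (zl (S : Subgroup G) P₂) ≤ S ∧
      zl (S : Subgroup G) P₁ ≤ cj x₂ S ∧ ⁅zl (S : Subgroup G) P₁, cj x₂ (zl (S : Subgroup G) P₂)⁆ ≠ ⊥ := by
  have h₁ := m.star₁
  have h₂ := m.star₂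
  obtain ⟨V, hV⟩ : ∃ V, V = zl (S : Subgroup G) P₁ := ⟨_, rfl⟩
  obtain ⟨V₂, hV₂⟩ : ∃ V, V = zl (S : Subgroup G) P₂ := ⟨_, rfl⟩
  have hle₁ : V ≤ normalizer ((cj x V₂ : Subgroup G) : Set G) := by rw [hV, hV₂]; exact m.le₁
  have hle₂ : cj x V₂ ≤ normalizer (V : Set G) := by rw [hV, hV₂]; exact m.le₂
  have hne : ⁅V, cj x V₂⁆ ≠ ⊥ := by rw [hV, hV₂]; exact m.ne
  have hV2 : IsPGroup 2 V := by
    rw [hV]
    exact (o2_isPGroup P₁).to_le ((h₁.isLoc.zl_le S hG).trans (zc_le _))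
  have hV₂2 : IsPGroup 2 V₂ := by
    rw [hV₂]
    exact (o2_isPGroup P₂).to_le ((h₂.isLoc.zl_le S hG).trans (zc_le _))
  have hSV : (S : Subgroup G) ≤ normalizer (V : Set G) := by
    rw [hV]
    exact h₁.le.trans (le_normalizer_zl _ _)
  have hSV₂ : (S : Subgroup G) ≤ normalizer (V₂ : Set G) := by
    rw [hV₂]
    exact h₂.le.trans (le_normalizer_zl _ _)
  rw [← hV, ← hV₂]
  -- `V' ≤ S`
  obtain ⟨n, hn, hnS⟩ := exists_conj_le S hSV (hV₂2.map _) hle₂
  have e1 : cj n V = V := BTwo.cj_eq_self_iff.2 hn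
  obtain ⟨V', hV'⟩ : ∃ V', V' = cj (n * x) V₂ := ⟨_, rfl⟩
  have hV'S : V' ≤ S := by
    rw [hV', cj_mul]
    exact BTwo.cj_le_iff.2 hnS
  have hle₃ : V ≤ normalizer (V' : Set G) := by
    rw [← e1, hV', cj_mul]
    intro y hy
    rw [← BTwo.cj_eq_self_iff]
    rw [mem_cj] at hy
    have h3 := BTwo.cj_eq_self_iff.2 (hle₁ hy)
    have h4 : y * n = n * (n⁻¹ * y * n) := by group
    rw [← cj_mul, h4, cj_mul, h3]
  have hne' : ⁅V, V'⁆ ≠ ⊥ := by
    intro h0
    rw [← e1, hV', cj_mul] at h0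
    have h0 : cj n ⁅V, cj x V₂⁆ = ⊥ := (map_commutator _ _ _).trans h0
    exact hne (BTwo.cj_injective (h0.trans (BTwo.cj_bot n).symm))
  -- `V ≤ S'`
  have hSV' : ((((n * x) • S : Sylow 2 G)) : Subgroup G) ≤ normalizer (V' : Set G) := by
    rw [hV']
    intro y hy
    rw [Sylow.coe_subgroup_smul] at hy
    change y ∈ cj (n * x) S at hy
    rw [mem_cj] at hy
    rw [← BTwo.cj_eq_self_iff]
    have h3 := BTwo.cj_eq_self_iff.2 (hSV₂ hy)
    have h4 : y * (n * x) = n * x * ((n * x)⁻¹ * y * (n * x)) := by group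
    rw [← cj_mul, h4, cj_mul, h3]
  obtain ⟨n', hn', hnS'⟩ := exists_conj_le ((n * x) • S) hSV' hV2 hle₃
  have e2 : cj (n'⁻¹ * (n * x)) V₂ = V' := by
    rw [cj_mul, ← hV']
    exact BTwo.cj_eq_self_iff.2 (inv_mem hn')
  refine ⟨n'⁻¹ * (n * x), by rw [e2]; exact hV'S, ?_, by rw [e2]; exact hne'⟩
  intro y hy
  have h3 := hnS' y hy
  rw [Sylow.coe_subgroup_smul] at h3
  change _ ∈ cj (n * x) S at h3
  rw [mem_cj] at h3 ⊢
  have h4 : (n'⁻¹ * (n * x))⁻¹ * y * (n'⁻¹ * (n * x)) = (n * x)⁻¹ * (n' * y * n'⁻¹) * (n * x) := by group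
  rw [h4]
  exact h3

/-- **Two noncommuting members over one Sylow subgroup.** -/
theorem common [Finite G] (hG : IsCharacteristicTwoType G) (S : Sylow 2 G) {P₁ P₂ : Subgroup G} {x : G}
    (m : Mutual (S : Subgroup G) P₁ P₂ x)
    {F₁ F₂ : Type} [Field F₁] [Finite F₁] [CharP F₁ 2] [Field F₂] [Finite F₂] [CharP F₂ 2]
    (M₁ : NatOver F₁ P₁ (zl (S : Subgroup G) P₁) (cv (S : Subgroup G) P₁))
    (M₂ : NatOver F₂ P₂ (zl (S : Subgroup G) P₂) (cv (S : Subgroup G) P₂)) (hF : 4 ≤ Nat.card F₁)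
    (hns : ⁅zl (S : Subgroup G) P₁, oddGen P₁⁆ ⊓ cv (S : Subgroup G) P₁ ≠ ⊥) :
    ∃ P₃, IsParS (S : Subgroup G) P₃ ∧ Nonempty (NatOver F₂ P₃ (zl (S : Subgroup G) P₃) (cv (S : Subgroup G) P₃)) ∧
      ⁅zl (S : Subgroup G) P₁, zl (S : Subgroup G) P₃⁆ ≠ ⊥ := by
  obtain ⟨x₂, a1, a2, a3⟩ := normalise hG S m
  obtain ⟨S', hS'⟩ : ∃ S' : Sylow 2 G, (S' : Subgroup G) = cj x₂ S := ⟨x₂ • S, Sylow.coe_subgroup_smul⟩
  obtain ⟨P', hP'⟩ : ∃ P', P' = cj x₂ P₂ := ⟨_, rfl⟩
  have h₁ := m.star₁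
  have h' : IsParS (S' : Subgroup G) P' := by
    rw [hS', hP']
    exact isParS_cj m.star₂ x₂
  have hz : zl (S' : Subgroup G) P' = cj x₂ (zl (S : Subgroup G) P₂) := by rw [hS', hP', zl_cj]
  obtain ⟨M'⟩ := natOver_par M₂ hS' hP'
  rw [← hz] at a1 a3
  rw [← hS'] at a2
  obtain ⟨hc, ⟨w, Q⟩, w', Q'⟩ := pairPar hG S h₁ S' h' M₁ M' a1 a2 a3
  obtain ⟨π, s⟩ := exists_sideS (F := F₁) hG S h₁ rfl M₁ a1 Q
  obtain ⟨π', s'⟩ := exists_sideS (F := F₁) hG S' h' hc.symm M' a2 Q'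
  have hω := exists_omega hF
  obtain ⟨e, f, g, N, φ⟩ := s.exists_form exists_sq hω
  obtain ⟨e', f', g', N', φ'⟩ := s'.exists_form exists_sq hω
  have p : PairF (S : Subgroup G) (S' : Subgroup G) P₁ P' (zl (S : Subgroup G) P₁) (zl (S' : Subgroup G) P')
      (cv (S : Subgroup G) P₁) (cv (S' : Subgroup G) P') π π' e f g e' f' g' N N' := ⟨s, s', φ, φ', exists_sq, hω⟩
  have hcom : ¬ Com (zl (S : Subgroup G) P₁) (zl (S' : Subgroup G) P') := by
    intro h0
    apply a3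
    rw [commutator_eq_bot_iff_le_centralizer]
    intro v hv
    exact mem_centralizer_iff.2 fun a ha => (h0 v hv a ha).symm
  rcases p.dich with ⟨b1, b2⟩ | ⟨b1, b2, b3, b4⟩
  · exact absurd (split_of hG S S' h₁ p (kill hG S S' h₁ h' p hcom b1 b2)) hns
  · obtain ⟨k, hk, hk'⟩ := main hG S S' h₁ h' p hcom b1 b2 b3 b4
    have e1 : (S : Subgroup G) = cj (k * x₂) S := by rw [cj_mul, ← hS', hk]
    have e2 : cj k P' = cj (k * x₂) P₂ := by rw [cj_mul, ← hP']
    have e3 : zl (S : Subgroup G) (cj k P') = cj k (zl (S' : Subgroup G) P') := by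
      rw [← zl_cj, hk]
    refine ⟨cj k P', ?_, natOver_par M₂ e1 e2, ?_⟩
    · have h3 := isParS_cj h' k
      rwa [hk] at h3
    · rw [e3]
      intro h0
      apply hk'
      rw [commutator_eq_bot_iff_le_centralizer] at h0
      intro v hv a ha
      exact (mem_centralizer_iff.1 (h0 hv) a ha).symm

end Cfsg.Agent.Omega.HOne.NSMain

end
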