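import Cfsg.Agent.Mrg.Omega.HOne.NSEnd
import Cfsg.Agent.Omega.HOneEnd.EndIn
import Cfsg.Agent.Mrg.Omega.HOneTwo.TransSide
import Cfsg.Agent.Mrg.Omega.HTwo.AlphaP
import Cfsg.Agent.Mrg.Omega.HTwo.Entry
import Cfsg.Agent.S0311
import Cfsg.Agent.S0312
import Cfsg.Agent.S0319

section


/-!
# Leaf II.0h1: the cut of `Same4` and `Same2`

Everything goes through the interface `HOneEnd.EndIn` of the END.

* `StEnd K` : the END (`EndIn` and the normal form `Same` imply that `G` is known);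
* `StFour K` : `q ≥ 4`: the normal form gives `EndIn`;
* `StTS K` : `q = 2`: the transvection statement `TSz` holds for some `z ∈ C_Z(P)`, `M = ⟨C(r) ∩ C(z), X⟩`;
* `StThree K`, `StMore K` : `q = 2`: `TSz` gives `EndIn` (`|N_r| = 8`, `Sp_{2m+2}(2)`; `|N_r| ≠ 8`, `F₄(2)`).

`same4_of`, `same2_of`, `leafH1_of`.

Local forms of the `q = 2` part (only `Pos`; nothing about mutual pairs, `Full`, `AllIn`, `K`): `TS0`, `Three0`, `More0`;
`ends_of_pos`, `same2_of'`, `leafH1_of'`. `EndL` : the END in the strong form; `known_of_pos` : the exit `Pos` for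
every leaf.
-/

set_option autoImplicit false

namespace Cfsg.Agent.Omega.HOne.Cut

open Subgroup Cfsg Cfsg.Agent.ZN Cfsg.Agent.Omega.MinPar Cfsg.Agent.Omega.Frame
open Cfsg.Agent.Omega.NatPair (NatMod)
open Cfsg.Agent.Omega.FrameFF (AllSingle LeafH1)
open Cfsg.Agent.Omega.FrameLE (AllIn)
open Cfsg.Agent.Omega.BTwo
open Cfsg.Agent.Omega.HOne.Main (Same Same2 Same4 AllSplit)
open Cfsg.Agent.Omega.HTwo.Entry (Pos)
open Cfsg.Agent.Omega.HTwo.AlphaP (MP)
open Cfsg.Agent.Omega.HOneTwo.Trans (gn gen)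
open Cfsg.Agent.Omega.HOneEnd (EndIn)

universe u v

/-- the output of the chains: `EndIn` for `R = R o`, and `N ≤ G₀`, `N_G(N) ≤ N_G(G₀)` -/
def Ends {G : Type u} [Group G] (S N R : Subgroup G) : Prop :=
  ∃ (G₀ U : Subgroup G) (v : G), EndIn S G₀ U R v ∧ N ≤ G₀ ∧ normalizer (N : Set G) ≤ normalizer (G₀ : Set G)

/-- TS(z) : the transvection statement for `M = ⟨N(R o) ∩ C(z), X⟩`, `U = ⟨r^M⟩`, `N r = ⟨z^{C(r)}⟩`:
`|U : U ∩ Q| = 2`, `[U, N r] = ⟨z r⟩`. -/
structure TSz {G : Type u} [Group G] {ι : Type*} (V : Subgroup G) (R : ι → Subgroup G) (o : ι) (r z : G) :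
    Prop where
  idx : ∀ u ∈ gn (MP V R o z) r, ∀ u' ∈ gn (MP V R o z) r, u ∉ QQ (R o) → u' ∉ QQ (R o) → u * u' ∈ QQ (R o)
  act : ∀ u ∈ gn (MP V R o z) r, ∀ n ∈ gen r z, n * u = u * n ∨ n * u = z * r * (u * n)
  ne : ∃ u ∈ gn (MP V R o z) r, ∃ n ∈ gen r z, n * u ≠ u * n

section local_

/-- **TS**, purely local form (#15959 helper916, JUNCTION 202 / 972 / 677 / 773): the transvection statement for some `z` -/
def TS0 : Prop :=
  ∀ (G : Type u) [Group G] [Finite G] (S : Sylow 2 G) (P V : Subgroup G) (ι : Type v) (R : ι → Subgroup G) (o : ι)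
    (r z : G), Pos S P V R o r z → ∃ z', Pos S P V R o r z' ∧ TSz V R o r z'

/-- **after TS, `|N_r| = 8`**, purely local form (#15507 (1)-(7): helper773, 663, 176) -/
def Three0 : Prop :=
  ∀ (G : Type u) [Group G] [Finite G] (S : Sylow 2 G) (P V : Subgroup G) (ι : Type v) (R : ι → Subgroup G) (o : ι)
    (r z : G), Pos S P V R o r z → TSz V R o r z → Nat.card (gen r z) = 8 → Ends (S : Subgroup G) V (R o)

/-- **after TS, `|N_r| ≠ 8`**, purely local form (#16429 helper779) -/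
def More0 : Prop :=
  ∀ (G : Type u) [Group G] [Finite G] (S : Sylow 2 G) (P V : Subgroup G) (ι : Type v) (R : ι → Subgroup G) (o : ι)
    (r z : G), Pos S P V R o r z → TSz V R o r z → Nat.card (gen r z) ≠ 8 → Ends (S : Subgroup G) V (R o)

/-- the position `Pos` gives `EndIn` (no hypothesis on mutual pairs) -/
theorem ends_of_pos (hT : TS0.{u, v}) (h3 : Three0.{u, v}) (hm : More0.{u, v}) {G : Type u} [Group G] [Finite G]
    {S : Sylow 2 G} {P V : Subgroup G} {ι : Type v} {R : ι → Subgroup G} {o : ι} {r z : G}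
    (p : Pos S P V R o r z) : Ends (S : Subgroup G) V (R o) := by
  obtain ⟨z', p', ht⟩ := hT G S P V ι R o r z p
  by_cases h8 : Nat.card (gen r z') = 8
  · exact h3 G S P V ι R o r z' p' ht h8
  · exact hm G S P V ι R o r z' p' ht h8

/-- **the END**, strong form (helper124, 384): only `Ctx`, `Full`, `AllIn` and `EndIn` -/
def EndL : Prop :=
  ∀ (G : Type u) [Group G] [Finite G], Ctx G → ∀ (S : Sylow 2 G), Full (S : Subgroup G) → AllIn (S : Subgroup G) →
    ∀ (G₀ U R : Subgroup G) (v : G), EndIn (S : Subgroup G) G₀ U R v → IsKnownSimple' G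

/-- **the exit `Pos`** (for every leaf: nothing is assumed about the other mutual pairs) -/
theorem known_of_pos (hT : TS0.{u, v}) (h3 : Three0.{u, v}) (hm : More0.{u, v}) (hE : EndL.{u}) {G : Type u} [Group G]
    [Finite G] (hG : Ctx G) {S : Sylow 2 G} (hF : Full (S : Subgroup G)) (hI : AllIn (S : Subgroup G))
    {P V : Subgroup G} {ι : Type v} {R : ι → Subgroup G} {o : ι} {r z : G} (p : Pos S P V R o r z) :
    IsKnownSimple' G := by
  obtain ⟨G₀, U, w, h, -, -⟩ := ends_of_pos hT h3 hm p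
  exact hE G hG S hF hI G₀ U _ w h

end local_

section props

variable (K : Cls.{u})

/-- **the END** (helper124, 384, ..) -/
def StEnd : Prop :=
  ∀ (G : Type u) [Group G] [Finite G], Ctx G → K G → ∀ (S : Sylow 2 G), Full (S : Subgroup G) →
    AllIn (S : Subgroup G) → AllSingle (S : Subgroup G) → AllSplit (S : Subgroup G) →
    ∀ (P : Subgroup G) (g : G) (F : Type) [Field F] [Finite F] [CharP F 2] (N : Subgroup G) (M : NatMod F N),
      Same (S : Subgroup G) P g M → ∀ o : Pt M, (S : Subgroup G) ≤ normalizer (pt M o : Set G) →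
        Ends (S : Subgroup G) N (pt M o) → IsKnownSimple' G

/-- **SAME4**: the normal form, `q ≥ 4`, gives `EndIn` (helper811 #14148, #16450) -/
def StFour : Prop :=
  ∀ (G : Type u) [Group G] [Finite G], Ctx G → K G → ∀ (S : Sylow 2 G), Full (S : Subgroup G) →
    AllIn (S : Subgroup G) → AllSingle (S : Subgroup G) → AllSplit (S : Subgroup G) →
    ∀ (P : Subgroup G) (g : G) (F : Type) [Field F] [Finite F] [CharP F 2] (N : Subgroup G) (M : NatMod F N),
      Same (S : Subgroup G) P g M → 4 ≤ Nat.card F →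
        ∃ o : Pt M, (S : Subgroup G) ≤ normalizer (pt M o : Set G) ∧ Ends (S : Subgroup G) N (pt M o)

/-- **TS** (#15959 helper916, #16932 + THEOREM U helper677, #17168 helper766): the transvection statement for some `z` -/
def StTS : Prop :=
  ∀ (G : Type u) [Group G] [Finite G], Ctx G → K G → ∀ (S : Sylow 2 G), Full (S : Subgroup G) →
    AllIn (S : Subgroup G) → AllSingle (S : Subgroup G) → AllSplit (S : Subgroup G) →
    ∀ (P V : Subgroup G) (ι : Type u) (R : ι → Subgroup G) (o : ι) (r z : G), Pos S P V R o r z →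
      IsParS (S : Subgroup G) P →
      zl (S : Subgroup G) P = V ⊔ (zc (S : Subgroup G) ⊓ centralizer (P : Set G)) →
        ∃ z', Pos S P V R o r z' ∧ TSz V R o r z'

/-- **after TS, `|N_r| = 8`** (#15507 (1)-(7): helper773, 663, 176) -/
def StThree : Prop :=
  ∀ (G : Type u) [Group G] [Finite G], Ctx G → K G → ∀ (S : Sylow 2 G), Full (S : Subgroup G) →
    AllIn (S : Subgroup G) → AllSingle (S : Subgroup G) → AllSplit (S : Subgroup G) →
    ∀ (P V : Subgroup G) (ι : Type u) (R : ι → Subgroup G) (o : ι) (r z : G), Pos S P V R o r z →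
      IsParS (S : Subgroup G) P →
      zl (S : Subgroup G) P = V ⊔ (zc (S : Subgroup G) ⊓ centralizer (P : Set G)) →
        TSz V R o r z → Nat.card (gen r z) = 8 → Ends (S : Subgroup G) V (R o)

/-- **after TS, `|N_r| ≠ 8`** (#16429, helper779's plan #17243) -/
def StMore : Prop :=
  ∀ (G : Type u) [Group G] [Finite G], Ctx G → K G → ∀ (S : Sylow 2 G), Full (S : Subgroup G) →
    AllIn (S : Subgroup G) → AllSingle (S : Subgroup G) → AllSplit (S : Subgroup G) →
    ∀ (P V : Subgroup G) (ι : Type u) (R : ι → Subgroup G) (o : ι) (r z : G), Pos S P V R o r z →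
      IsParS (S : Subgroup G) P →
      zl (S : Subgroup G) P = V ⊔ (zc (S : Subgroup G) ⊓ centralizer (P : Set G)) →
        TSz V R o r z → Nat.card (gen r z) ≠ 8 → Ends (S : Subgroup G) V (R o)

end props

variable {K : Cls.{u}}

theorem stEnd_of (h : EndL.{u}) : StEnd K := by
  intro G _ _ hG _ S hF hI _ _ P g F _ _ _ N M _ o _ he
  obtain ⟨G₀, U, w, h', -, -⟩ := he
  exact h G hG S hF hI G₀ U _ w h'

theorem same4_of (h4 : StFour K) (hE : StEnd K) : Same4 K := by
  intro G _ _ hG hK S hF hI hS hs P g F _ _ _ N M h hq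
  obtain ⟨o, ho, he⟩ := h4 G hG hK S hF hI hS hs P g F N M h hq
  exact hE G hG hK S hF hI hS hs P g F N M h o ho he

theorem same2_of (hT : StTS K) (h3 : StThree K) (hm : StMore K) (hE : StEnd K) : Same2 K := by
  intro G _ _ hG hK S hF hI hS hs P g F _ _ _ N M h h2
  obtain ⟨o, r, z, p⟩ := HTwo.Entry.exists_pos hG.char2 h h2
  have hz : zl (S : Subgroup G) P = N ⊔ (zc (S : Subgroup G) ⊓ centralizer (P : Set G)) := by
    rw [HTwo.Entry.cz_eq h hG.char2, h.sup]
  obtain ⟨z', p', ht⟩ := hT G hG hK S hF hI hS hs P N (Pt M) (pt M) o r z p h.mp.star₁ hz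
  refine hE G hG hK S hF hI hS hs P g F N M h o p.S_R ?_
  by_cases h8 : Nat.card (gen r z') = 8
  · exact h3 G hG hK S hF hI hS hs P N (Pt M) (pt M) o r z' p' h.mp.star₁ hz ht h8
  · exact hm G hG hK S hF hI hS hs P N (Pt M) (pt M) o r z' p' h.mp.star₁ hz ht h8

theorem same2_of' (hT : TS0.{u, u}) (h3 : Three0.{u, u}) (hm : More0.{u, u}) (hE : StEnd K) : Same2 K := by
  intro G _ _ hG hK S hF hI hS hs P g F _ _ _ N M h h2
  obtain ⟨o, r, z, p⟩ := HTwo.Entry.exists_pos hG.char2 h h2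
  exact hE G hG hK S hF hI hS hs P g F N M h o p.S_R (ends_of_pos hT h3 hm p)

/-- **Leaf II.0h1 from the five open statements**, the `q = 2` part in the local form. -/
theorem leafH1_of' (h40 : Outputs.St1740.{u}) (h4 : StFour K) (hT : TS0.{u, u}) (h3 : Three0.{u, u})
    (hm : More0.{u, u}) (hE : StEnd K) : LeafH1 K :=
  Leaf.leafH1 h40 (same4_of h4 hE) (same2_of' hT h3 hm hE)

/-- **Leaf II.0h1 from the five open statements.** -/
theorem leafH1_of (h40 : Outputs.St1740.{u}) (h4 : StFour K) (hT : StTS K) (h3 : StThree K) (hm : StMore K)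
    (hE : StEnd K) : LeafH1 K :=
  Leaf.leafH1 h40 (same4_of h4 hE) (same2_of hT h3 hm hE)

end Cfsg.Agent.Omega.HOne.Cut

end

section


/-!
# II.0h1, `q = 2`: from a BN-pair with Borel subgroup `S` to the interface `EndIn` of the END

`G₀` has an irreducible BN-pair of rank `≥ 3` with `B = S` (THEOREM FREE), contains `C(r)`; all but one of the
distinguished generators lie in `C(r)`; `|S|` divides `|[G₀, G₀]|`; no 2-subgroup `≠ 1` is normal in `G₀`.

* `simple_of` : `G₀` is simple (Tits);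
* `endIn_of` : `EndIn S G₀ S R z`;
* `ends_of` : the same over `Pos`: `Ends S V (R o)`.
-/

set_option autoImplicit false

namespace Cfsg.Agent.Omega.HOneEnd.OfTwo

open Subgroup Cfsg

section bn

variable {L : Type*} [Group L]

/-- a normal subgroup containing `B` is the whole group -/
theorem eq_top_of_normal (Q : Cfsg.BNPair L) {K : Subgroup L} [hK : K.Normal] (h : Q.B ≤ K) : K = ⊤ := by
  obtain ⟨J, hJ, rfl⟩ := Cfsg.Agent.S0311.result Q K h
  have h1 := Cfsg.Agent.S0312.result Q hJ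
  rw [← h1]
  exact Subgroup.normalizer_eq_top_iff.2 hK

/-- `N(B) = B` -/
theorem normalizer_B (Q : Cfsg.BNPair L) : normalizer (Q.B : Set L) = Q.B := by
  have h1 := Cfsg.Agent.S0312.result Q (J := ∅) (Set.empty_subset _)
  have h2 : Q.parabolic ∅ = Q.B := by
    unfold Cfsg.BNPair.parabolic
    rw [Subgroup.closure_empty, sup_bot_eq]
  rwa [h2] at h1

/-- a subgroup containing `B` and all but one of the distinguished generators is maximal -/
theorem eq_top_of_lt (Q : Cfsg.BNPair L) {H : Subgroup L} (hB : Q.B ≤ H) {s₀ : L}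
    (hs : ∀ s ∈ Q.S, s ≠ s₀ → s ∈ H) {K : Subgroup L} (hK : H < K) : K = ⊤ := by
  obtain ⟨J, hJ, hH⟩ := Cfsg.Agent.S0311.result Q K (hB.trans hK.le)
  have h0 : s₀ ∈ J := by
    by_contra h0
    apply hK.not_ge
    rw [hH]
    unfold Cfsg.BNPair.parabolic
    refine sup_le hB ((Subgroup.closure_le _).2 fun s hs' => hs s (hJ hs') ?_)
    rintro rfl
    exact h0 hs'
  rw [eq_top_iff, ← Q.sup_eq_top]
  refine sup_le (hB.trans hK.le) ?_
  have h1 : closure Q.S ≤ K := by
    refine (Subgroup.closure_le _).2 fun s hs' => ?_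
    by_cases h : s = s₀
    · rw [h, hH]
      exact le_sup_right (α := Subgroup L) (Subgroup.subset_closure h0)
    · exact hK.le (hs s hs' h)
  rw [← Q.closure_sup]
  exact sup_le h1 (inf_le_left.trans (hB.trans hK.le))

end bn

variable {G : Type*} [Group G] [Finite G]

/-- `S` Sylow in `G₀`, `|S|` divides `|K|`, `K` normal in `G₀` : `S ≤ K` -/
theorem le_of_card_dvd {L : Type*} [Group L] [Finite L] (T : Sylow 2 L) {K : Subgroup L} [K.Normal]
    (h : Nat.card T ∣ Nat.card K) : (T : Subgroup L) ≤ K := by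
  have h1 : Nat.card (T : Subgroup L) = 2 ^ (Nat.card L).factorization 2 := T.card_eq_multiplicity
  have h2 : (Nat.card L).factorization 2 ≤ (Nat.card K).factorization 2 := by
    have h3 : 2 ^ (Nat.card L).factorization 2 ∣ Nat.card K := by rw [← h1]; exact h
    exact (Nat.prime_two.pow_dvd_iff_le_factorization Nat.card_pos.ne').1 h3
  have h3 : ¬ 2 ∣ K.index := by
    intro h4
    have h5 : (Nat.card L).factorization 2 = (Nat.card K).factorization 2 + K.index.factorization 2 := by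
      rw [← K.card_mul_index, Nat.factorization_mul Nat.card_pos.ne' K.index_ne_zero_of_finite]
      rfl
    have h6 : 0 < K.index.factorization 2 := Nat.prime_two.factorization_pos_of_dvd K.index_ne_zero_of_finite h4
    omega
  have h5 : ∀ x ∈ (T : Subgroup L), x ∈ K := by
    intro x hx
    have h6 : orderOf (QuotientGroup.mk' K x) ∣ K.index := by
      rw [Subgroup.index]
      exact orderOf_dvd_natCard _
    have h7 : ∃ k, orderOf (QuotientGroup.mk' K x) = 2 ^ k := by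
      obtain ⟨k, hk⟩ := T.2 ⟨x, hx⟩
      have hk' : x ^ 2 ^ k = 1 := congrArg Subtype.val hk
      have h8 : orderOf (QuotientGroup.mk' K x) ∣ 2 ^ k := by
        apply orderOf_dvd_of_pow_eq_one
        rw [← map_pow, hk', map_one]
      obtain ⟨j, -, hj⟩ := (Nat.dvd_prime_pow Nat.prime_two).1 h8
      exact ⟨j, hj⟩
    obtain ⟨k, hk⟩ := h7
    rcases Nat.eq_zero_or_pos k with rfl | hpos
    · rw [pow_zero, orderOf_eq_one_iff] at hk
      exact (QuotientGroup.eq_one_iff x).1 hk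
    · exfalso
      apply h3
      refine Dvd.dvd.trans ?_ h6
      rw [hk]
      exact dvd_pow_self 2 hpos.ne'
  exact h5

/-- **simplicity** (Tits), from `|S| ∣ |[G₀, G₀]|` -/
theorem simple_of {S : Sylow 2 G} {G₀ : Subgroup G} (hS : (S : Subgroup G) ≤ G₀) (Q : Cfsg.BNPair ↥G₀)
    (hB : Q.B = (S : Subgroup G).subgroupOf G₀) (hirr : Q.Irreducible)
    (hper : Nat.card (S : Subgroup G) ∣ Nat.card (commutator ↥G₀))
    (hloc : ∀ K ≤ (S : Subgroup G), G₀ ≤ normalizer (K : Set G) → K = ⊥)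
    (hne : (S : Subgroup G) ≠ ⊥) : IsSimpleGroup ↥G₀ := by
  have hcardS : Nat.card ((S : Subgroup G).subgroupOf G₀) = Nat.card (S : Subgroup G) :=
    Nat.card_congr (subgroupOfEquivOfLe hS).toEquiv
  have h2 : IsPGroup 2 ((S : Subgroup G).subgroupOf G₀) := S.2.comap_of_injective _ (Subgroup.subtype_injective _)
  obtain ⟨x, hx, hx1⟩ : ∃ x ∈ (S : Subgroup G), x ≠ 1 := by
    by_contra hcon
    push Not at hcon
    exact hne (eq_bot_iff.2 fun x hx => mem_bot.2 (hcon x hx))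
  have hnt : Nontrivial ↥G₀ := ⟨⟨⟨x, hS hx⟩, 1, fun h => hx1 (congrArg Subtype.val h)⟩⟩
  let T : Sylow 2 ↥G₀ := S.subtype hS
  have hT : (T : Subgroup ↥G₀) = (S : Subgroup G).subgroupOf G₀ := S.coe_subtype hS
  have hcomm : commutator ↥G₀ = ⊤ := by
    apply eq_top_of_normal Q
    rw [hB, ← hT]
    apply le_of_card_dvd T
    have : Nat.card (T : Subgroup ↥G₀) = Nat.card (S : Subgroup G) := by rw [hT]; exact hcardS
    rw [show Nat.card T = Nat.card (T : Subgroup ↥G₀) from rfl, this]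
    exact hper
  have hsol : Group.IsSolvable ↥Q.B := by
    rw [hB]
    have : Group.IsNilpotent ↥((S : Subgroup G).subgroupOf G₀) := h2.isNilpotent
    infer_instance
  have hcore : Q.B.normalCore = ⊥ := by
    have h3 : (Q.B.normalCore).map G₀.subtype = ⊥ := by
      apply hloc
      · rintro _ ⟨y, hy, rfl⟩
        have := Q.B.normalCore_le hy
        rw [hB] at this
        exact mem_subgroupOf.1 this
      · intro g hg
        have h4 : Q.B.normalCore.Normal := inferInstance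
        rw [Subgroup.mem_normalizer_iff]
        intro y
        constructor
        · rintro ⟨y', hy', rfl⟩
          exact ⟨⟨g, hg⟩ * y' * ⟨g, hg⟩⁻¹, h4.conj_mem _ hy' _, rfl⟩
        · rintro ⟨y', hy', he⟩
          refine ⟨⟨g, hg⟩⁻¹ * y' * ⟨g, hg⟩, ?_, ?_⟩
          · have := h4.conj_mem _ hy' (⟨g, hg⟩⁻¹)
            rwa [inv_inv] at this
          · change g⁻¹ * (y' : G) * g = y
            rw [show (y' : G) = g * y * g⁻¹ from he]
            group
    rw [eq_bot_iff]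
    intro y hy
    have h5 : (y : G) ∈ (Q.B.normalCore).map G₀.subtype := ⟨y, hy, rfl⟩
    rw [h3, mem_bot] at h5
    exact mem_bot.2 (Subtype.ext h5)
  exact Cfsg.Agent.S0319.result Q hirr hsol hcomm hcore

/-- **the interface `EndIn`** for `q = 2` -/
theorem endIn_of {S : Sylow 2 G} {G₀ R : Subgroup G} {r z : G} (hS : (S : Subgroup G) ≤ G₀) (Q : Cfsg.BNPair ↥G₀)
    (hB : Q.B = (S : Subgroup G).subgroupOf G₀) (h3 : 3 ≤ Q.rank) (hirr : Q.Irreducible)
    (hper : Nat.card (S : Subgroup G) ∣ Nat.card (commutator ↥G₀))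
    (hloc : ∀ K ≤ (S : Subgroup G), G₀ ≤ normalizer (K : Set G) → K = ⊥)
    (hR : ∀ x, x ∈ R ↔ x = 1 ∨ x = r) (r_ne : r ≠ 1) (r_S : r ∈ (S : Subgroup G))
    (S_r : (S : Subgroup G) ≤ centralizer {r}) (hr : centralizer {r} ≤ G₀)
    (z_S : z ∈ (S : Subgroup G)) (S_z : (S : Subgroup G) ≤ centralizer {z}) (z_ne : z ≠ 1)
    (hzr : ∃ x ∈ G₀, x ∈ centralizer {z} ∧ x ∉ centralizer {r})
    (hpar : ∃ s₀ : ↥G₀, ∀ s ∈ Q.S, s ≠ s₀ → (s : G) ∈ centralizer {r})
    (hW : ∃ W ≤ G₀, IsPGroup 2 W ∧ centralizer {r} ≤ normalizer (W : Set G) ∧ ¬ W ≤ centralizer (W : Set G)) :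
    EndIn (S : Subgroup G) G₀ (S : Subgroup G) R z := by
  have hNR : normalizer (R : Set G) = centralizer {r} := by
    have hrR : r ∈ R := (hR r).2 (Or.inr rfl)
    apply le_antisymm
    · intro x hx
      rw [mem_centralizer_singleton_iff]
      have h1 := (Subgroup.mem_normalizer_iff.1 hx r).1 hrR
      rcases (hR _).1 h1 with h2 | h2
      · exact absurd (conj_eq_one_iff.1 h2) r_ne
      · exact (mul_inv_eq_iff_eq_mul.1 h2)
    · intro x hx
      rw [mem_centralizer_singleton_iff] at hx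
      rw [Subgroup.mem_normalizer_iff]
      intro y
      rw [hR, hR]
      constructor
      · rintro (rfl | rfl)
        · exact Or.inl (by group)
        · exact Or.inr (by rw [hx]; group)
      · rintro (h | h)
        · exact Or.inl (conj_eq_one_iff.1 h)
        · right
          have : y = x⁻¹ * (x * y * x⁻¹) * x := by group
          rw [this, h, mul_assoc, ← hx]
          group
  have hRS : R ≤ (S : Subgroup G) := by
    intro x hx
    rcases (hR x).1 hx with rfl | rfl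
    · exact one_mem _
    · exact r_S
  have hRne : R ≠ ⊥ := by
    intro h
    have : r ∈ R := (hR r).2 (Or.inr rfl)
    rw [h, mem_bot] at this
    exact r_ne this
  have hsim : IsSimpleGroup ↥G₀ := by
    refine simple_of hS Q hB hirr hper hloc fun h => r_ne ?_
    rw [h, mem_bot] at r_S
    exact r_S
  have hnotle : ¬ G₀ ≤ centralizer {r} := by
    obtain ⟨x, hx, -, hxr⟩ := hzr
    exact fun h => hxr (h hx)
  refine {
    simple := hsim, bn := ⟨Q, hB.ge, h3, hirr⟩, cent := ?_, S_two := S.2,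
    S_G₀ := hS.trans le_normalizer, S_R := ?_, S_inf := inf_eq_left.2 hS, odd := ?_,
    N_R := ?_, R_U := hRS, U_R := ?_, R_ne := hRne, NU := ?_, R_lt := ?_, max := ?_, v_U := z_S,
    U_v := S_z, v_ne := z_ne, v_R := ?_, nonab := ?_ }
  · -- `C(G₀) = 1`
    have h1 : centralizer (G₀ : Set G) ≤ G₀ := by
      refine le_trans (centralizer_le ?_) hr
      rintro _ rfl
      exact hS r_S
    have h2 : Subgroup.center ↥G₀ = ⊥ := by
      rcases hsim.eq_bot_or_eq_top_of_normal (Subgroup.center ↥G₀) inferInstance with h | h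
      · exact h
      · exfalso
        apply hnotle
        intro x hx
        rw [mem_centralizer_singleton_iff]
        have h3 : (⟨x, hx⟩ : ↥G₀) ∈ Subgroup.center ↥G₀ := by rw [h]; trivial
        exact (congrArg Subtype.val (Subgroup.mem_center_iff.1 h3 ⟨r, hS r_S⟩)).symm
    rw [eq_bot_iff]
    intro x hx
    have h3 : (⟨x, h1 hx⟩ : ↥G₀) ∈ Subgroup.center ↥G₀ := by
      rw [Subgroup.mem_center_iff]
      intro y
      exact Subtype.ext (mem_centralizer_iff.1 hx y y.2)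
    rw [h2, mem_bot] at h3
    exact mem_bot.2 (congrArg Subtype.val h3)
  · rw [hNR]; exact S_r
  · -- odd
    have h1 : ¬ 2 ∣ (S : Subgroup G).index := S.not_dvd_index
    have h2 : (S : Subgroup G).relIndex G₀ ∣ (S : Subgroup G).index := relIndex_dvd_index_of_le hS
    rw [← Nat.not_even_iff_odd, even_iff_two_dvd]
    exact fun h => h1 (h.trans h2)
  · rw [hNR]; exact hr.trans le_normalizer
  · intro s hs
    rw [mem_centralizer_iff]
    intro x hx
    rcases (hR x).1 hx with rfl | rfl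
    · rw [one_mul, mul_one]
    · exact (mem_centralizer_singleton_iff.1 (S_r hs)).symm
  · -- `N_{G₀}(S) = S`
    rintro x ⟨hx, hxS⟩
    rw [hNR]
    apply S_r
    have h1 : (⟨x, hx⟩ : ↥G₀) ∈ normalizer (Q.B : Set ↥G₀) := by
      rw [hB]
      exact (mem_normalizer_subgroupOf hS).2 hxS
    rw [normalizer_B, hB] at h1
    exact mem_subgroupOf.1 h1
  · rw [hNR]; exact hnotle
  · -- maximality
    rintro M hM hlt
    rw [hNR] at hlt
    obtain ⟨s₀, hs⟩ := hpar
    have h1 : M.subgroupOf G₀ = ⊤ := by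
      refine eq_top_of_lt Q (H := (centralizer {r}).subgroupOf G₀) (s₀ := s₀) ?_ ?_ ?_
      · rw [hB]
        exact fun x hx => mem_subgroupOf.2 (S_r (mem_subgroupOf.1 hx))
      · exact fun s hs' hne => mem_subgroupOf.2 (hs s hs' hne)
      · refine lt_of_le_of_ne ?_ ?_
        · intro x hx
          exact mem_subgroupOf.2 (hlt.le ⟨x.2, mem_subgroupOf.1 hx⟩)
        · intro he
          obtain ⟨x, hx, hx1⟩ := SetLike.exists_of_lt hlt
          apply hx1
          have h2 : (⟨x, hM hx⟩ : ↥G₀) ∈ M.subgroupOf G₀ := mem_subgroupOf.2 hx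
          rw [← he] at h2
          exact ⟨hM hx, mem_subgroupOf.1 h2⟩
    exact le_antisymm hM (subgroupOf_eq_top.1 h1)
  · rw [hNR]
    obtain ⟨x, hx, hxz, hxr⟩ := hzr
    exact fun h => hxr (h ⟨hx, hxz⟩)
  · rw [hNR]
    obtain ⟨W, hW, h1, h2, h4⟩ := hW
    exact ⟨W, hW, h1, inf_le_right.trans h2, h4⟩

/-! ### over `Pos` -/

section pos

open Cfsg.Agent.ZN Cfsg.Agent.Omega.MinPar Cfsg.Agent.Omega.BTwo Cfsg.Agent.Omega.HOneTwo
open Cfsg.Agent.Omega.HTwo.Entry (Pos)
open Cfsg.Agent.Omega.HTwo.AlphaP (MP)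
open Cfsg.Agent.Omega.HOneTwo.Trans (gn gen)
open Cfsg.Agent.Omega.HOne.Cut (Ends TSz)

universe u

variable {G : Type u} [Group G] [Finite G] {S : Sylow 2 G} {P V : Subgroup G} {ι : Type*} {R : ι → Subgroup G}
  {o : ι} {r z : G}

/-- `N(V) ≤ G₀` -/
theorem NV_le (p : Pos S P V R o r z) {G₀ : Subgroup G} (hr : centralizer {r} ≤ G₀) (hX : XX V R ≤ G₀) :
    normalizer (V : Set G) ≤ G₀ := by
  intro g hg
  obtain ⟨j, hj⟩ := p.perm g hg o
  obtain ⟨x, hx, hxj⟩ := p.toBT.trans_X_one o j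
  have h1 : x⁻¹ * g ∈ normalizer (R o : Set G) := by
    rw [← cj_eq_self_iff, cj_mul, hj, ← hxj, cj_inv_cj]
  rw [p.normalizer_eq] at h1
  have h2 : g = x * (x⁻¹ * g) := by group
  rw [h2]
  exact mul_mem (hX hx) (hr h1)

theorem S_le_cen (p : Pos S P V R o r z) : (S : Subgroup G) ≤ centralizer {r} := by
  rw [← p.normalizer_eq]; exact p.S_R

/-- **the end of the chains for `q = 2`** -/
theorem ends_of (p : Pos S P V R o r z) {G₀ : Subgroup G} (Q : Cfsg.BNPair ↥G₀)
    (hB : Q.B = (S : Subgroup G).subgroupOf G₀) (h3 : 3 ≤ Q.rank) (hirr : Q.Irreducible)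
    (hper : Nat.card (S : Subgroup G) ∣ Nat.card (⁅G₀, G₀⁆ : Subgroup G))
    (hr : centralizer {r} ≤ G₀) (hX : XX V R ≤ G₀)
    (hpar : ∃ s₀ : ↥G₀, ∀ s ∈ Q.S, s ≠ s₀ → (s : G) ∈ centralizer {r}) :
    Ends (S : Subgroup G) V (R o) := by
  have hS : (S : Subgroup G) ≤ G₀ := (S_le_cen p).trans hr
  have hz : z ∈ zc (S : Subgroup G) := p.z_mem.1
  have hz' := mem_zc.1 hz
  have hNV := NV_le p hr hX
  refine ⟨G₀, (S : Subgroup G), z, ?_, p.toHT.V_le_S.trans hS, hNV.trans le_normalizer⟩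
  refine endIn_of hS Q hB h3 hirr ?_ ?_ p.r_iff p.r_ne ?_ (S_le_cen p) hr ?_ ?_ p.z_ne ?_ hpar ?_
  · have h1 := Subgroup.map_subtype_commutator G₀
    have h2 : Nat.card (commutator ↥G₀) = Nat.card (⁅G₀, G₀⁆ : Subgroup G) := by
      rw [← h1]
      exact (Nat.card_congr ((commutator ↥G₀).equivMapOfInjective _ (Subgroup.subtype_injective _)).toEquiv)
    rw [h2]; exact hper
  · intro K hK hG
    refine p.toHT.nonloc_o (A := XX V R) (fun i => p.toBT.trans_X_one o i) (S.2.to_le hK) (hX.trans hG) ?_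
    rw [p.normalizer_eq]
    exact hr.trans hG
  · exact p.toHT.V_le_S (p.R_le o p.r_mem)
  · exact hz'.1
  · intro s hs
    rw [mem_centralizer_singleton_iff]
    exact hz'.2.1 s hs
  · -- some element of `X` moves `r`
    obtain ⟨j, k, hj, -, -⟩ := p.toHT.one_lt
    obtain ⟨x, hx, hxj⟩ := p.toBT.trans_X_one o j
    refine ⟨x, hX hx, p.X_le hx, fun hxr => hj ?_⟩
    rw [← p.normalizer_eq, ← cj_eq_self_iff, hxj] at hxr
    exact p.toBT.R_index hxr
  · refine ⟨QQ (R o), ?_, ?_, ?_, ?_⟩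
    · exact p.toHT.Q_le_S.trans hS
    · exact S.2.to_le p.toHT.Q_le_S
    · rw [← p.normalizer_eq]
      exact le_normalizer_O2 _
    · intro h
      obtain ⟨t, ht, v, hv, hne⟩ := HTwo.AlphaFive.exists_mv p.toHT p.r_iff
      exact hne (mem_centralizer_iff.1 (h (p.V_Q o hv)) t ht)

/-! ### elements of `[G₀, G₀]` -/

/-- `[G₀, G₀]` is normalised by `G₀` -/
theorem comm_conj {G₀ : Subgroup G} {x g : G} (hg : g ∈ G₀) (hx : x ∈ (⁅G₀, G₀⁆ : Subgroup G)) :
    g * x * g⁻¹ ∈ (⁅G₀, G₀⁆ : Subgroup G) := by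
  have h1 : g * x * g⁻¹ * x⁻¹ ∈ (⁅G₀, G₀⁆ : Subgroup G) :=
    Subgroup.commutator_mem_commutator hg (Subgroup.commutator_le_self G₀ hx)
  have h2 := mul_mem h1 hx
  rwa [inv_mul_cancel_right] at h2

/-- `r ∈ [G₀, G₀]` -/
theorem r_mem_comm (p : Pos S P V R o r z) {G₀ : Subgroup G} (hX : XX V R ≤ G₀) (hV : V ≤ G₀) :
    r ∈ (⁅G₀, G₀⁆ : Subgroup G) := by
  obtain ⟨j, k, hj, -, -⟩ := p.toHT.one_lt
  obtain ⟨x, hx, hxj⟩ := p.toBT.trans_X_one o j
  have hrV : r ∈ V := p.R_le o p.r_mem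
  have h1 : x * r * x⁻¹ * r⁻¹ ∈ (⁅G₀, G₀⁆ : Subgroup G) :=
    Subgroup.commutator_mem_commutator (hX hx) (hV hrV)
  have h2 : x * r * x⁻¹ ∈ R j := by
    rw [← hxj]
    exact conj_mem_cj p.r_mem
  have h3 : x * r * x⁻¹ * r⁻¹ ∈ V := mul_mem (p.R_le j h2) (inv_mem hrV)
  have h4 : x * r * x⁻¹ * r⁻¹ ≠ 1 := by
    intro h
    have h5 : x * r * x⁻¹ = r := mul_inv_eq_one.1 h
    have h6 : r ∈ R j ⊓ R o := ⟨h5 ▸ h2, p.r_mem⟩
    rw [p.R_inf j o hj, mem_bot] at h6
    exact p.r_ne h6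
  obtain ⟨i, hi⟩ := p.R_cov _ h3
  obtain ⟨y, hy, hyo⟩ := p.toBT.trans_X_one i o
  have h5 : y * (x * r * x⁻¹ * r⁻¹) * y⁻¹ ∈ R o := by
    rw [← hyo]
    exact conj_mem_cj hi
  have h6 := comm_conj (hX hy) h1
  rcases (p.r_iff _).1 h5 with h | h
  · exact absurd (conj_eq_one_iff.1 h) h4
  · rwa [h] at h6

/-- `z ∈ [G₀, G₀]` -/
theorem z_mem_comm (p : Pos S P V R o r z) (t : TSz V R o r z) {G₀ : Subgroup G} (hr : centralizer {r} ≤ G₀)
    (hX : XX V R ≤ G₀) : z ∈ (⁅G₀, G₀⁆ : Subgroup G) := by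
  have hS : (S : Subgroup G) ≤ G₀ := (S_le_cen p).trans hr
  have hV : V ≤ G₀ := p.toHT.V_le_S.trans hS
  have hrG : r ∈ G₀ := hV (p.R_le o p.r_mem)
  have hzG : z ∈ G₀ := hS (mem_zc.1 p.z_mem.1).1
  have hM : MP V R o z ≤ G₀ := by
    refine sup_le (inf_le_left.trans ?_) hX
    rw [p.normalizer_eq]
    exact hr
  have hgn : gn (MP V R o z) r ≤ G₀ := by
    refine (closure_le _).2 ?_
    rintro _ ⟨m, hm, rfl⟩
    exact mul_mem (mul_mem (hM hm) hrG) (inv_mem (hM hm))
  have hgen : gen r z ≤ G₀ := by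
    refine (closure_le _).2 ?_
    rintro _ ⟨m, hm, rfl⟩
    have : m ∈ G₀ := hr (mem_centralizer_singleton_iff.2 hm)
    exact mul_mem (mul_mem this hzG) (inv_mem this)
  obtain ⟨u, hu, n, hn, hne⟩ := t.ne
  have h1 : n * u * n⁻¹ * u⁻¹ ∈ (⁅G₀, G₀⁆ : Subgroup G) :=
    Subgroup.commutator_mem_commutator (hgen hn) (hgn hu)
  rcases t.act u hu n hn with h | h
  · exact absurd h hne
  · have e : n * u * n⁻¹ * u⁻¹ = z * r := by
      rw [h]; group
    rw [e] at h1
    have h2 := mul_mem h1 (inv_mem (r_mem_comm p hX hV))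
    rwa [mul_inv_cancel_right] at h2

/-- `⟨z^{C(r)}⟩ ≤ [G₀, G₀]` -/
theorem gen_le_comm (p : Pos S P V R o r z) (t : TSz V R o r z) {G₀ : Subgroup G} (hr : centralizer {r} ≤ G₀)
    (hX : XX V R ≤ G₀) : gen r z ≤ (⁅G₀, G₀⁆ : Subgroup G) := by
  refine (closure_le _).2 ?_
  rintro _ ⟨m, hm, rfl⟩
  exact comm_conj (hr (mem_centralizer_singleton_iff.2 hm)) (z_mem_comm p t hr hX)

/-- `⟨r^M⟩ ≤ [G₀, G₀]` -/
theorem gn_le_comm (p : Pos S P V R o r z) {G₀ : Subgroup G} (hr : centralizer {r} ≤ G₀)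
    (hX : XX V R ≤ G₀) : gn (MP V R o z) r ≤ (⁅G₀, G₀⁆ : Subgroup G) := by
  have hS : (S : Subgroup G) ≤ G₀ := (S_le_cen p).trans hr
  have hM : MP V R o z ≤ G₀ := by
    refine sup_le (inf_le_left.trans ?_) hX
    rw [p.normalizer_eq]
    exact hr
  refine (closure_le _).2 ?_
  rintro _ ⟨m, hm, rfl⟩
  exact comm_conj (hM hm) (r_mem_comm p hX (p.toHT.V_le_S.trans hS))

end pos

end Cfsg.Agent.Omega.HOneEnd.OfTwo

end
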