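import Cfsg.Agent.Mrg.Omega.HOne.TvOpp
import Cfsg.Agent.Mrg.Omega.HOne.QuadAbs
import Cfsg.Agent.Omega.NatPair.Mod

section


/-!
# II.0h1, `q = 2`, case (β): (11) of #15959, the tail (helper865)

`s ~ t`, `s ∉ Q r` (so `⟨t,s⟩` is opposite to `V`), all pairs of lines are opposite.

* `comm_mem`     : (d) `[s, y] ∈ ⟨t⟩ Z(Q r)` for `y ∈ Q r` commuting with `t`;
* `not_zero`     : `[s, y] ∉ Z(Q r)` for some such `y`;
* `eleven_base`  : if `[s, N x] ≤ Q r` for all `x ~ r`, then there are exactly three lines on `r`;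
* `jEleven_of_base` : transport to all points.
-/

set_option autoImplicit false
set_option linter.unusedSectionVars false

namespace Cfsg.Agent.Omega.HOne.TvDef

open Subgroup

variable {G : Type*} [Group G] {M : Subgroup G} {r t : G} {Q N : G → Subgroup G}

namespace TvH

variable (h : TvH M r t Q N)
include h

theorem mul_of_mul {K : Subgroup G} {x y z : G} (_ : x ∈ UU M r) (hy : y ∈ UU M r) (hz : z ∈ UU M r)
    (h1 : x * z ∈ K) (h2 : y * z ∈ K) : x * y ∈ K := by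
  have e : x * y = (x * z) * (y * z) := by
    have e1 := h.UU_comm hz hy
    calc x * y = x * (z * z) * y := by rw [h.UU_sq hz, mul_one]
      _ = x * z * (z * y) := by group
      _ = _ := by rw [e1]
  rw [e]
  exact mul_mem h1 h2

/-- `r` commutes with `U` -/
theorem r_comm {u : G} (hu : u ∈ UU M r) : u * r = r * u := h.UU_comm hu (Om_le_UU Om_base)

/-- `[s, y] = s (y s y⁻¹) ∈ Q r` for `y ∈ Q r` -/
theorem br_mem {u : G} (hu : u ∈ UU M r) {x : G} (hx : x ∈ Om M r) {y : G} (hy : y ∈ Q x) :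
    u * (y * u * y⁻¹) ∈ Q x ∧ u * (y * u * y⁻¹) ∈ UU M r := by
  have hux : u * x = x * u := h.UU_comm hu (Om_le_UU hx)
  refine ⟨?_, mul_mem hu (UU_conj (h.Q_le_M hx hy) hu)⟩
  have e : u * (y * u * y⁻¹) = (u * y * u⁻¹) * y⁻¹ := by
    rw [h.UU_inv hu]
    group
  rw [e]
  exact mul_mem ((h.Q_fix hux).2 hy) (inv_mem hy)

/-- `[x y] = [x] [y]` up to `r` -/
theorem br_mul {u : G} (hu : u ∈ UU M r) {x y : G} (hx : x ∈ Q r) (hy : y ∈ Q r) :
    u * (x * y * u * (x * y)⁻¹) = (u * (x * u * x⁻¹)) * (u * (y * u * y⁻¹)) ∨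
      u * (x * y * u * (x * y)⁻¹) = (u * (x * u * x⁻¹)) * (u * (y * u * y⁻¹)) * r := by
  have hrO : r ∈ Om M r := Om_base
  obtain ⟨h1, h1'⟩ := h.br_mem hu hrO hx
  obtain ⟨h2, h2'⟩ := h.br_mem hu hrO hy
  set b := u * (y * u * y⁻¹) with hb
  have e1 : y * u * y⁻¹ = u * b := by rw [hb, ← mul_assoc, h.UU_sq hu, one_mul]
  have hxM := h.Q_le_M hrO hx
  have e2 : u * (x * y * u * (x * y)⁻¹) = (u * (x * u * x⁻¹)) * (x * b * x⁻¹) := by
    calc u * (x * y * u * (x * y)⁻¹) = u * (x * (y * u * y⁻¹) * x⁻¹) := by group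
      _ = u * (x * (u * b) * x⁻¹) := by rw [e1]
      _ = _ := by group
  rcases h.Q_comm x hx b h2 with h3 | h3
  · left
    have e3 : x * b * x⁻¹ = b := by rwa [mul_inv_eq_one] at h3
    rw [e2, e3]
  · right
    have e3 : x * b * x⁻¹ = r * b := by rwa [mul_inv_eq_iff_eq_mul] at h3
    rw [e2, e3, ← h.r_comm h2']
    exact (mul_assoc _ _ _).symm

/-- (d) -/
theorem comm_mem [Finite G] (hO : JOpp M r t Q N) (hA : AllOpp M r t N) {s : G} (hs : Adj M r t t s) {y : G}
    (hy : y ∈ Q r) (hyt : y * t = t * y) :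
    s * (y * s * y⁻¹) ∈ ZC Q r ∨ t * (s * (y * s * y⁻¹)) ∈ ZC Q r := by
  have hrO : r ∈ Om M r := Om_base
  have hsU := h.Adj_UU hs
  have htU : t ∈ UU M r := Om_le_UU h.t_Om
  have hrU : r ∈ UU M r := Om_le_UU hrO
  have hyM := h.Q_le_M hrO hy
  have eyt : y * t * y⁻¹ = t := by rw [hyt, mul_inv_cancel_right]
  obtain ⟨hiQ, hiU⟩ := h.br_mem hsU hrO hy
  have hs' : Adj M r t t (y * s * y⁻¹) := by
    have := hs.conj hyM
    rwa [eyt] at this
  have hs'U := h.Adj_UU hs'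
  set s' := y * s * y⁻¹ with hs'def
  by_cases h1 : s' = s
  · left
    rw [h1, h.UU_sq hsU]
    exact one_mem _
  by_cases h2 : s' = t * s
  · right
    have e : t * (s * s') = 1 := by
      rw [h2, ← mul_assoc s, ← h.UU_comm htU hsU, mul_assoc t, h.UU_sq hsU, mul_one, h.UU_sq htU]
    rw [e]
    exact one_mem _
  obtain ⟨-, -, -, -, -, c, -, hcU, hct, -, -, hcL, hL, -, -⟩ := hO t s s' (hA t s s' hs hs' h1 h2)
  have hic : s * s' * c ∈ UU M r := mul_mem hiU hcU
  have hNfix : ∀ n ∈ N r, n * (s * s' * c) * n⁻¹ = s * s' * c := by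
    intro n hn
    refine h.fix_of h.Adj_swap hL hn ?_
    have e1 : n * (s * s') * n⁻¹ = s * s' := by
      have := (h.mem_Q_iff hrO hiU).1 hiQ n hn
      rw [← this, mul_inv_cancel_right]
    have e2 : n * (s * s' * c) * n⁻¹ * (s * s' * c)⁻¹ = (n * c * n⁻¹) * c⁻¹ := by
      have hnc : n * c * n⁻¹ ∈ UU M r := UU_conj (h.N_le_M hrO hn) hcU
      calc n * (s * s' * c) * n⁻¹ * (s * s' * c)⁻¹
          = (n * (s * s') * n⁻¹) * ((n * c * n⁻¹) * c⁻¹) * (s * s')⁻¹ := by group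
        _ = (s * s') * ((n * c * n⁻¹) * c⁻¹) * (s * s')⁻¹ := by rw [e1]
        _ = _ := by rw [h.UU_comm hiU (mul_mem hnc (inv_mem hcU)), mul_inv_cancel_right]
    rw [e2]
    exact mul_mem (h.K_conj (h.N_comm h.Adj_swap hn) hct) (inv_mem hct)
  have hor : s * s' * c = r ∨ s * s' * c = t * r := by
    by_contra h3
    push Not at h3
    obtain ⟨-, -, n, hn, hne⟩ := hA t r _ h.Adj_swap hL h3.1 h3.2
    exact hne (hNfix n hn)
  have ei : s * s' = s * s' * c * c := by rw [mul_assoc (s * s'), h.UU_sq hcU, mul_one]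
  rcases hor with h3 | h3
  · left
    rw [h3] at hcL
    rw [ei, h3]
    exact mul_mem (h.mem_ZC hrO) hcL
  · right
    rw [h3] at hcL
    have h4 := h.Adj_CV (h.Adj_mul h.Adj_swap) hct hcL
    rw [h.mul_cancel h.t_Om] at h4
    rw [ei, h3, mul_assoc t, h.mul_cancel h.t_Om]
    exact mul_mem (h.mem_ZC hrO) h4

/-- `Dim 0` is impossible. -/
theorem not_zero [Finite G] (hA : AllOpp M r t N) {s : G} (hs : Adj M r t t s) (hsQ : s ∉ Q r) :
    ∃ y ∈ Q r, y * t = t * y ∧ s * (y * s * y⁻¹) ∉ ZC Q r := by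
  by_contra hall
  push Not at hall
  have hrO : r ∈ Om M r := Om_base
  have htO : t ∈ Om M r := h.t_Om
  have hsU := h.Adj_UU hs
  have htU : t ∈ UU M r := Om_le_UU htO
  have hrU : r ∈ UU M r := Om_le_UU hrO
  have hrt : r * t = t * r := h.Adj_comm Adj_base
  obtain ⟨q, hq, hqt⟩ := h.q12
  have hqM := h.Q_le_M hrO hq
  have hqr : q * r * q⁻¹ = r := by
    have := h.ZC_comm (h.mem_ZC hrO) hq
    rw [← this]; group
  obtain ⟨hiQ, hiU⟩ := h.br_mem hsU hrO hq
  set i := s * (q * s * q⁻¹) with hi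
  have hqs : q * s * q⁻¹ = s * i := by rw [hi, ← mul_assoc, h.UU_sq hsU, one_mul]
  -- `i` commutes with `q`
  have hiq : i * q = q * i := by
    have hqi : q * i * q⁻¹ ∈ UU M r := UU_conj hqM hiU
    have e1 : q * q * s * (q * q)⁻¹ = s * (i * (q * i * q⁻¹)) := by
      calc q * q * s * (q * q)⁻¹ = q * (q * s * q⁻¹) * q⁻¹ := by group
        _ = q * (s * i) * q⁻¹ := by rw [hqs]
        _ = (q * s * q⁻¹) * (q * i * q⁻¹) := by group
        _ = _ := by rw [hqs, mul_assoc]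
    have e2 : q * q * s * (q * q)⁻¹ = s := by
      rcases h.Q_sq q hq with h1 | h1
      · rw [h1]; group
      · rw [h1, ← h.r_comm hsU, mul_inv_cancel_right]
    rw [e2] at e1
    have e3 : i * (q * i * q⁻¹) = 1 := (mul_eq_left.mp e1.symm)
    have e4 : q * i * q⁻¹ = i := by
      have := h.UU_cancel' hiU (q * i * q⁻¹)
      rw [e3, mul_one] at this
      exact this.symm
    calc i * q = (q * i * q⁻¹) * q := by rw [e4]
      _ = q * i := by group
  -- `i` commutes with the `y`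
  have hiy : ∀ y ∈ Q r, y * t = t * y → i * y = y * i := by
    intro y hy hyt
    have hk := hall y hy hyt
    set k := s * (y * s * y⁻¹) with hk'
    have hkU : k ∈ UU M r := (h.br_mem hsU hrO hy).2
    have e1 : s * q * s⁻¹ = i * q := by rw [hi, h.UU_inv hsU]; group
    have e2 : s * y * s⁻¹ = k * y := by rw [hk', h.UU_inv hsU]; group
    have e3 : s * (q * y * q⁻¹ * y⁻¹) * s⁻¹ = q * y * q⁻¹ * y⁻¹ := by
      rcases h.Q_comm q hq y hy with h1 | h1
      · rw [h1]; group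
      · rw [h1, h.r_comm hsU, mul_inv_cancel_right]
    have e4 : s * (q * y * q⁻¹ * y⁻¹) * s⁻¹ = (i * q) * (k * y) * (i * q)⁻¹ * (k * y)⁻¹ := by
      rw [← e1, ← e2]; group
    have hkz : ∀ x ∈ Q r, k * x = x * k := fun x hx => h.ZC_comm hk hx
    have e5 : (i * q) * (k * y) * (i * q)⁻¹ * (k * y)⁻¹ = i * (q * y * q⁻¹) * i⁻¹ * y⁻¹ := by
      have h1 := hkz (i * q) (mul_mem hiQ hq)
      have h2 := hkz (i * (q * y * q⁻¹) * i⁻¹ * y⁻¹) (mul_mem (mul_mem (mul_mem hiQ
        (mul_mem (mul_mem hq hy) (inv_mem hq))) (inv_mem hiQ)) (inv_mem hy))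
      calc (i * q) * (k * y) * (i * q)⁻¹ * (k * y)⁻¹ = ((i * q) * k) * y * (i * q)⁻¹ * y⁻¹ * k⁻¹ := by group
        _ = (k * (i * q)) * y * (i * q)⁻¹ * y⁻¹ * k⁻¹ := by rw [h1]
        _ = (k * (i * (q * y * q⁻¹) * i⁻¹ * y⁻¹)) * k⁻¹ := by group
        _ = _ := by rw [h2, mul_inv_cancel_right]
    rw [e4, e5] at e3
    -- `i (q y q⁻¹) i⁻¹ y⁻¹ = q y q⁻¹ y⁻¹`
    have e6 : i * (q * y * q⁻¹) * i⁻¹ = q * y * q⁻¹ := mul_right_cancel e3
    rcases h.Q_comm q hq y hy with h1 | h1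
    · have e7 : q * y * q⁻¹ = y := mul_inv_eq_one.1 h1
      rw [e7] at e6
      exact mul_inv_eq_iff_eq_mul.1 e6
    · have e7 : q * y * q⁻¹ = r * y := mul_inv_eq_iff_eq_mul.1 h1
      rw [e7] at e6
      have e8 : i * (r * y) * i⁻¹ = r * (i * y * i⁻¹) := by
        calc i * (r * y) * i⁻¹ = (i * r) * y * i⁻¹ := by group
          _ = (r * i) * y * i⁻¹ := by rw [h.r_comm hiU]
          _ = _ := by group
      rw [e8] at e6
      exact mul_inv_eq_iff_eq_mul.1 (mul_left_cancel e6)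
  have hiZ : i ∈ ZC Q r := by
    rw [mem_centralizer_iff]
    intro x hx
    rcases h.Q_comm x hx t h.t_mem with h1 | h1
    · have h2 : x * t = t * x := by
        have := mul_inv_eq_one.1 h1
        exact mul_inv_eq_iff_eq_mul.1 this
      exact (hiy x hx h2).symm
    · have h2 : x * t * x⁻¹ = r * t := mul_inv_eq_iff_eq_mul.1 h1
      have h3 : (q⁻¹ * x) * t = t * (q⁻¹ * x) := by
        have h4 : q⁻¹ * (r * t) * q = t := by rw [← hqt]; group
        calc (q⁻¹ * x) * t = q⁻¹ * (x * t * x⁻¹) * x := by group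
          _ = q⁻¹ * (r * t) * q * (q⁻¹ * x) := by rw [h2]; group
          _ = _ := by rw [h4]
      have h5 := hiy _ (mul_mem (inv_mem hq) hx) h3
      calc x * i = q * ((q⁻¹ * x) * i) := by group
        _ = q * (i * (q⁻¹ * x)) := by rw [h5]
        _ = (q * i) * q⁻¹ * x := by group
        _ = (i * q) * q⁻¹ * x := by rw [hiq]
        _ = i * x := by group
  -- `g ∈ Q (r t)` swapping `r` and `t`
  have hart : Adj M r t (r * t) r := h.Adj_symm h.Adj_mul_base
  obtain ⟨g, hg, hgr⟩ := h.Adj_q hart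
  have hrtO : r * t ∈ Om M r := hart.left
  have hgM := h.Q_le_M hrtO hg
  have hgr' : g * r * g⁻¹ = t := by
    rw [hgr, hrt, mul_assoc, h.r_sq, mul_one]
  have hgrt : g * (r * t) * g⁻¹ = r * t := by
    have := h.ZC_comm (h.mem_ZC hrtO) hg
    rw [← this]; group
  have hgt : g * t * g⁻¹ = r := by
    have e1 : g * t * g⁻¹ = (g * r * g⁻¹)⁻¹ * (g * (r * t) * g⁻¹) := by group
    rw [e1, hgr', hgrt, h.UU_inv htU, hrt, h.mul_cancel htO]
  have harx : Adj M r t r (g * s * g⁻¹) := by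
    have := hs.conj hgM
    rwa [hgt] at this
  set x := g * s * g⁻¹ with hx
  have hxU := h.Adj_UU harx
  have h1 : s * x ∈ Q (r * t) := (h.br_mem hsU hrtO hg).1
  have h2 : q * s * q⁻¹ ∈ Q (r * t) := by
    have := hs.conj hqM
    rw [hqt] at this
    exact h.Adj_mem this
  have h3 : i * x ∈ Q (r * t) := by
    have e : i * x = (q * s * q⁻¹) * (s * x) := by
      rw [hi, h.UU_comm hsU (UU_conj hqM hsU), mul_assoc]
    rw [e]
    exact mul_mem h2 h1
  have hNx : ∀ n ∈ N (r * t), n * x * n⁻¹ = x := by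
    intro n hn
    refine h.fix_of h.Adj_mul_base harx hn ?_
    have h4 := (h.mem_Q_iff hrtO (mul_mem hiU hxU)).1 h3 n hn
    have h5 : n * (i * x) * n⁻¹ = i * x := by rw [← h4, mul_inv_cancel_right]
    have h6 : n * x * n⁻¹ * x⁻¹ = (n * i * n⁻¹)⁻¹ * i := by
      calc n * x * n⁻¹ * x⁻¹ = (n * i * n⁻¹)⁻¹ * (n * (i * x) * n⁻¹) * x⁻¹ := by group
        _ = (n * i * n⁻¹)⁻¹ * (i * x) * x⁻¹ := by rw [h5]
        _ = _ := by group
    rw [h6]
    exact mul_mem (inv_mem (h.K_conj (h.N_comm h.Adj_mul_base hn) hiZ)) hiZ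
  have hor : x = r * t ∨ x = r * (r * t) := by
    by_contra h4
    push Not at h4
    obtain ⟨-, -, n, hn, hne⟩ := hA r (r * t) x h.Adj_mul_base harx h4.1 h4.2
    exact hne (hNx n hn)
  have hs1 : ∀ z, x = g * z * g⁻¹ → s = z := by
    intro z hz
    have h4 : g * s * g⁻¹ = g * z * g⁻¹ := hz
    exact (MulAut.conj g).injective h4
  rcases hor with h4 | h4
  · apply hsQ
    rw [hs1 (r * t) (by rw [h4, hgrt])]
    exact mul_mem h.r_mem h.t_mem
  · apply hsQ
    rw [h.mul_cancel hrO] at h4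
    rw [hs1 r (by rw [h4, hgr'])]
    exact h.r_mem

/-- **(11) at the base point**, from `[s, N x] ≤ Q r` (`x ~ r`). -/
theorem eleven_base [Finite G] (hO : JOpp M r t Q N) (hA : AllOpp M r t N) {s : G} (hs : Adj M r t t s)
    (hsQ : s ∉ Q r) (path : ∀ x, Adj M r t r x → ∀ m ∈ N x, s * (m * s * m⁻¹) ∈ Q r) {b c : G}
    (hb : Opp M r t N r t b) (hc : Adj M r t r c) :
    c = t ∨ c = r * t ∨ c = b ∨ c = r * b ∨ t * b * c ∈ ZC Q r := by
  have hrO : r ∈ Om M r := Om_base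
  have htO : t ∈ Om M r := h.t_Om
  have hsU := h.Adj_UU hs
  have htU : t ∈ UU M r := Om_le_UU htO
  have hrU : r ∈ UU M r := Om_le_UU hrO
  have hrZ := h.mem_ZC hrO
  obtain ⟨q, hq, hqt⟩ := h.q12
  obtain ⟨hiQ, hiU⟩ := h.br_mem hsU hrO hq
  set i := s * (q * s * q⁻¹) with hi
  obtain ⟨y, hy, hyt, hyn⟩ := h.not_zero hA hs hsQ
  have hyt' := (h.comm_mem hO hA hs hy hyt).resolve_left hyn
  obtain ⟨hkQ, hkU⟩ := h.br_mem hsU hrO hy
  set k := s * (y * s * y⁻¹) with hk
  -- the four cosets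
  have four : ∀ x ∈ Q r, s * (x * s * x⁻¹) ∈ ZC Q r ∨ t * (s * (x * s * x⁻¹)) ∈ ZC Q r ∨
      i * (s * (x * s * x⁻¹)) ∈ ZC Q r ∨ t * i * (s * (x * s * x⁻¹)) ∈ ZC Q r := by
    intro x hx
    rcases h.Q_comm x hx t h.t_mem with h1 | h1
    · have h2 : x * t = t * x := mul_inv_eq_iff_eq_mul.1 (mul_inv_eq_one.1 h1)
      rcases h.comm_mem hO hA hs hx h2 with h3 | h3
      · exact Or.inl h3
      · exact Or.inr (Or.inl h3)
    · have h2 : x * t * x⁻¹ = r * t := mul_inv_eq_iff_eq_mul.1 h1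
      have h3 : (q⁻¹ * x) * t = t * (q⁻¹ * x) := by
        have h4 : q⁻¹ * (r * t) * q = t := by rw [← hqt]; group
        calc (q⁻¹ * x) * t = q⁻¹ * (x * t * x⁻¹) * x := by group
          _ = q⁻¹ * (r * t) * q * (q⁻¹ * x) := by rw [h2]; group
          _ = _ := by rw [h4]
      have hyQ : q⁻¹ * x ∈ Q r := mul_mem (inv_mem hq) hx
      have hl := h.comm_mem hO hA hs hyQ h3
      have hlU := (h.br_mem hsU hrO hyQ).2
      set l := s * (q⁻¹ * x * s * (q⁻¹ * x)⁻¹) with hl'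
      have hm := h.br_mul hsU hq hyQ
      have e0 : q * (q⁻¹ * x) = x := by group
      rw [e0, ← hi, ← hl'] at hm
      -- `[x] = i l` up to `r`
      have h5 : i * (s * (x * s * x⁻¹)) * l ∈ ZC Q r := by
        rcases hm with hm | hm
        · have e : i * (s * (x * s * x⁻¹)) * l = 1 := by
            rw [hm, h.UU_cancel' hiU, h.UU_sq hlU]
          rw [e]
          exact one_mem _
        · have e : i * (s * (x * s * x⁻¹)) * l = r := by
            rw [hm]
            calc i * (i * l * r) * l = i * (i * (l * (r * l))) := by group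
              _ = l * (r * l) := h.UU_cancel' hiU _
              _ = l * (l * r) := by rw [← h.r_comm hlU]
              _ = r := h.UU_cancel' hlU _
          rw [e]
          exact hrZ
      have hxU := (h.br_mem hsU hrO hx).2
      rcases hl with h6 | h6
      · right; right; left
        exact (mul_mem_cancel_right h6).1 h5
      · right; right; right
        have e : t * i * (s * (x * s * x⁻¹)) = (i * (s * (x * s * x⁻¹)) * l) * (t * l) := by
          have e1 : (i * (s * (x * s * x⁻¹)) * l) * (t * l) = (i * (s * (x * s * x⁻¹))) * (l * (t * l)) := by group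
          rw [e1, h.UU_comm htU hlU, h.UU_cancel' hlU, h.UU_comm (mul_mem hiU hxU) htU, mul_assoc t]
        rw [e]
        exact mul_mem h5 h6
  -- the other lines
  have E : ∀ b, Adj M r t r b → b ≠ t → b ≠ r * t → b * i ∈ ZC Q r ∨ b * t * i ∈ ZC Q r := by
    intro b hb h1 h2
    have hbU := h.Adj_UU hb
    have hne : t ≠ r * b := by
      intro e
      apply h2
      rw [e, h.mul_cancel hrO]
    have ho : Opp M r t N r b t := hA r b t hb Adj_base (Ne.symm h1) hne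
    obtain ⟨-, -, -, -, -, d, -, hdU, hdr, -, -, -, -, hmv, -⟩ := hO r b t ho
    obtain ⟨-, -, m, hm, hmt⟩ := ho
    have hmt' : m * t * m⁻¹ = b * t * d := (hmv m hm).resolve_left hmt
    have hmr : m * r = r * m := h.N_comm hb hm
    have hmM := h.N_le_M (h.Adj_right hb) hm
    have hy' : m * y * m⁻¹ ∈ Q r := (h.Q_fix hmr).2 hy
    set y' := m * y * m⁻¹ with hy'def
    have haQ := path b hb m hm
    have haU : s * (m * s * m⁻¹) ∈ UU M r := mul_mem hsU (UU_conj hmM hsU)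
    set a := s * (m * s * m⁻¹) with ha
    have ems : m * s * m⁻¹ = s * a := by rw [ha, ← mul_assoc, h.UU_sq hsU, one_mul]
    obtain ⟨hkQ', hkU'⟩ := h.br_mem hsU hrO hy'
    set k' := s * (y' * s * y'⁻¹) with hk'
    -- conjugate `t k ∈ ZC`
    have h3 : m * (t * k) * m⁻¹ ∈ ZC Q r := h.K_conj hmr hyt'
    have h4 : m * (t * k) * m⁻¹ = (b * t * d) * (s * a * (y' * (s * a) * y'⁻¹)) := by
      have e1 : m * k * m⁻¹ = (m * s * m⁻¹) * (y' * (m * s * m⁻¹) * y'⁻¹) := by
        rw [hk, hy'def]; group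
      calc m * (t * k) * m⁻¹ = (m * t * m⁻¹) * (m * k * m⁻¹) := by group
        _ = _ := by rw [hmt', e1, ems]
    have h5 : s * a * (y' * (s * a) * y'⁻¹) = k' * (a * (y' * a * y'⁻¹)) := by
      have hcU : y' * s * y'⁻¹ ∈ UU M r := UU_conj (h.Q_le_M hrO hy') hsU
      calc s * a * (y' * (s * a) * y'⁻¹) = s * (a * (y' * s * y'⁻¹)) * (y' * a * y'⁻¹) := by group
        _ = s * ((y' * s * y'⁻¹) * a) * (y' * a * y'⁻¹) := by rw [h.UU_comm haU hcU]
        _ = _ := by rw [hk']; group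
    have h6 : a * (y' * a * y'⁻¹) ∈ ZC Q r := by
      rcases h.Q_comm y' hy' a haQ with h7 | h7
      · rw [mul_inv_eq_one.1 h7, h.UU_sq haU]
        exact one_mem _
      · rw [mul_inv_eq_iff_eq_mul.1 h7, ← mul_assoc, h.r_comm haU, mul_assoc, h.UU_sq haU, mul_one]
        exact hrZ
    have h7 : b * t * k' ∈ ZC Q r := by
      rw [h4, h5] at h3
      have e1 : (b * t * d) * (k' * (a * (y' * a * y'⁻¹))) = (b * t * k') * d * (a * (y' * a * y'⁻¹)) := by
        calc (b * t * d) * (k' * (a * (y' * a * y'⁻¹))) = b * t * (d * k') * (a * (y' * a * y'⁻¹)) := by group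
          _ = b * t * (k' * d) * (a * (y' * a * y'⁻¹)) := by rw [h.UU_comm hdU hkU']
          _ = _ := by group
      rw [e1] at h3
      exact (mul_mem_cancel_right hdr).1 ((mul_mem_cancel_right h6).1 h3)
    have hbtU : b * t ∈ UU M r := mul_mem hbU htU
    rcases four y' hy' with h8 | h8 | h8 | h8
    · exfalso
      have h9 : b * t ∈ ZC Q r := (mul_mem_cancel_right h8).1 h7
      rw [h.UU_comm hbU htU] at h9
      rcases h.noPar_at Adj_base hb h9 with h10 | h10
      · exact h1 h10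
      · exact h2 h10
    · exfalso
      have h9 : b * t * t ∈ ZC Q r := h.mul_of_mul hbtU htU hkU' h7 h8
      rw [mul_assoc, h.UU_sq htU, mul_one] at h9
      exact h.Adj_not_mem hb h9
    · exact Or.inr (h.mul_of_mul hbtU hiU hkU' h7 h8)
    · left
      have h9 := h.mul_of_mul hbtU (mul_mem htU hiU) hkU' h7 h8
      have e : b * t * (t * i) = b * i := by rw [mul_assoc, h.UU_cancel' htU]
      rwa [e] at h9
  obtain ⟨-, -, -, hbt, hbrt, -⟩ := hO r t b hb
  have hbA := hb.2.1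
  have hbU := h.Adj_UU hbA
  have hcU := h.Adj_UU hc
  by_cases h1 : c = t
  · exact Or.inl h1
  by_cases h2 : c = r * t
  · exact Or.inr (Or.inl h2)
  right; right
  have htbU : ∀ x ∈ UU M r, ∀ y ∈ UU M r, x * i ∈ ZC Q r → y * i ∈ ZC Q r → x * y ∈ ZC Q r :=
    fun x hx y hy => h.mul_of_mul hx hy hiU
  have fin1 : b * c ∈ ZC Q r → c = b ∨ c = r * b ∨ t * b * c ∈ ZC Q r := by
    intro h3
    rcases h.noPar_at hbA hc h3 with h4 | h4
    · exact Or.inl h4
    · exact Or.inr (Or.inl h4)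
  have fin2 : b * t * c ∈ ZC Q r → c = b ∨ c = r * b ∨ t * b * c ∈ ZC Q r := by
    intro h3
    rw [h.UU_comm hbU htU] at h3
    exact Or.inr (Or.inr h3)
  rcases E b hbA hbt hbrt with h3 | h3 <;> rcases E c hc h1 h2 with h4 | h4
  · exact fin1 (htbU b hbU c hcU h3 h4)
  · apply fin2
    have h5 := htbU b hbU (c * t) (mul_mem hcU htU) h3 h4
    have e : b * (c * t) = b * t * c := by rw [h.UU_comm hcU htU, mul_assoc]
    rwa [e] at h5
  · exact fin2 (htbU (b * t) (mul_mem hbU htU) c hcU h3 h4)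
  · apply fin1
    have h5 := htbU (b * t) (mul_mem hbU htU) (c * t) (mul_mem hcU htU) h3 h4
    have e : b * t * (c * t) = b * c := by
      rw [h.UU_comm hcU htU, mul_assoc, h.UU_cancel' htU]
    rwa [e] at h5

/-- transport of (11) to all points -/
theorem jEleven_of_base (hbase : AllOpp M r t N → ∀ b c, Opp M r t N r t b → Adj M r t r c →
    c = t ∨ c = r * t ∨ c = b ∨ c = r * b ∨ t * b * c ∈ ZC Q r) : JEleven M r t Q N := by
  intro hA s a b c hb hc
  obtain ⟨m, hm, rfl, rfl⟩ := hb.1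
  have hb' := h.opp_conj (M.inv_mem hm) hb
  have hc' := hc.conj (M.inv_mem hm)
  have e : ∀ z : G, m⁻¹ * (m * z * m⁻¹) * m⁻¹⁻¹ = z := fun z => by group
  rw [e, e] at hb'
  rw [e] at hc'
  have ec : ∀ z : G, m⁻¹ * c * m⁻¹⁻¹ = z → c = m * z * m⁻¹ := by
    rintro z rfl
    group
  rcases hbase hA _ _ hb' hc' with h1 | h1 | h1 | h1 | h1
  · exact Or.inl (ec _ h1)
  · right; left
    rw [ec _ h1]
    group
  · right; right; left
    rw [ec _ h1]
    group
  · right; right; right; left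
    rw [ec _ h1]
    group
  · right; right; right; right
    have h2 := (h.ZC_conj (g := m)).2 h1
    have e2 : m * (t * (m⁻¹ * b * m⁻¹⁻¹) * (m⁻¹ * c * m⁻¹⁻¹)) * m⁻¹ = m * t * m⁻¹ * b * c := by group
    rwa [e2] at h2

end TvH

end Cfsg.Agent.Omega.HOne.TvDef

end

section


/-!
# II.0h1, `q = 2`, case (β): (11) of #15959 with a variable `c` (helper865)

All pairs of lines are opposite.

* `factF`  : FACT F (helper916);
* `star`   : `g ∈ N r` moves `s` iff it moves `s ^ m`, `m ∈ N x`, `x ~ r`;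
* `exists_sfix` : a point `s₀ ~ t` with `C_{N r}(s₀)` invariant under `S` and `c(t; r, s₀)` fixed by `S`;
* `jEleven`: JOINT (11) from `TvH`, `TvS` and `Q r ≤ S`.
-/

set_option autoImplicit false
set_option linter.unusedSectionVars false

namespace Cfsg.Agent.Omega.HOne.TvDef

open Subgroup

variable {G : Type*} [Group G] {M S : Subgroup G} {r t : G} {Q N : G → Subgroup G}

namespace TvH

variable (h : TvH M r t Q N)
include h

theorem comm_of_conj {g x : G} (hx : g * x * g⁻¹ = x) : g * x = x * g := mul_inv_eq_iff_eq_mul.1 hx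

/-- **FACT F.** -/
theorem factF (hO : JOpp M r t Q N) (hA : AllOpp M r t N) {x y b : G} (hx : Adj M r t r x) (hy : Adj M r t r y)
    (hb : b ∈ ZC Q r) (hby : b ∈ ZC Q y) : r * b ∉ ZC Q x := by
  intro hrb
  have hnb : b ∉ ZC Q x := fun h1 => h.not_both hx ((mul_mem_cancel_right h1).1 hrb)
  by_cases h1 : y = x
  · exact hnb (h1 ▸ hby)
  by_cases h2 : y = r * x
  · apply hnb
    have h3 := h.Adj_CV hy hb hby
    rwa [h2, h.mul_cancel hx.left] at h3
  have ho := hA r x y hx hy h1 h2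
  obtain ⟨hsymm, -, -, -, -, d, -, -, -, -, -, -, -, hmx, hmy⟩ := hO r x y ho
  obtain ⟨-, -, n, hn, hne⟩ := ho
  obtain ⟨-, -, m, hm, hme⟩ := hsymm
  have e1 := (hmx n hn).resolve_left hne
  have e2 := (hmy m hm).resolve_left hme
  have hxO := h.Adj_right hx
  have hyO := h.Adj_right hy
  -- `n` commutes with `b`
  have h3 : n * (r * b) * n⁻¹ = r * b := h.N_ZC hxO hn hrb
  have h4 : n * r * n⁻¹ = r := h.N_fix_s hx hn
  have h5 : n * b * n⁻¹ = b := by
    have e : n * b * n⁻¹ = (n * r * n⁻¹)⁻¹ * (n * (r * b) * n⁻¹) := by group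
    rw [e, h3, h4, inv_mul_cancel_left]
  have h6 : b ∈ ZC Q (x * y * d) := by
    have := (h.ZC_conj (g := n)).2 hby
    rwa [h5, e1] at this
  have h7 : m * b * m⁻¹ = b := h.N_ZC hyO hm hby
  apply hnb
  rw [← e2] at h6
  rw [← h7] at h6
  exact h.ZC_conj.1 h6

/-- **STAR.** -/
theorem star (hO : JOpp M r t Q N) (hA : AllOpp M r t N) {s c : G} (hs : Adj M r t t s)
    (hcr : c ∈ ZC Q r) (hct : c ∈ ZC Q t) (hcU : c ∈ UU M r)
    (hmv : ∀ n ∈ N r, n * s * n⁻¹ = s ∨ n * s * n⁻¹ = r * s * c) {x m g : G} (hx : Adj M r t r x) (hm : m ∈ N x)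
    (hg : g ∈ N r) : g * s = s * g ↔ g * (m * s * m⁻¹) = (m * s * m⁻¹) * g := by
  have hrO : r ∈ Om M r := Om_base
  have hxO := h.Adj_right hx
  have hsU := h.Adj_UU hs
  have hrU : r ∈ UU M r := Om_le_UU hrO
  have hxU := h.Adj_UU hx
  have hmM := h.N_le_M hxO hm
  have hmr : m * r = r * m := h.N_comm hx hm
  have hgx : g * x = x * g := h.N_comm (h.Adj_symm hx) hg
  set s' := m * s * m⁻¹ with hs'
  have hs'U : s' ∈ UU M r := UU_conj hmM hsU
  have hc'U : m * c * m⁻¹ ∈ UU M r := UU_conj hmM hcU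
  have hc'r : m * c * m⁻¹ ∈ ZC Q r := h.K_conj hmr hcr
  have hc't : m * c * m⁻¹ ∈ ZC Q (m * t * m⁻¹) := h.ZC_conj.2 hct
  set c' := m * c * m⁻¹ with hc'
  have ht' : Adj M r t r (m * t * m⁻¹) := h.Adj_N hx Adj_base hm
  have hmv' : g * s' * g⁻¹ = s' ∨ g * s' * g⁻¹ = r * s' * c' := by
    have h1 : m⁻¹ * g * m ∈ N r := by
      have := (h.N_fix (g := m⁻¹) (x := g) (h.inv_comm hmr)).2 hg
      rwa [inv_inv] at this
    have e : g * s' * g⁻¹ = m * ((m⁻¹ * g * m) * s * (m⁻¹ * g * m)⁻¹) * m⁻¹ := by rw [hs']; group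
    rcases hmv _ h1 with h2 | h2
    · left
      rw [e, h2]
    · right
      rw [e, h2]
      calc m * (r * s * c) * m⁻¹ = (m * r) * s * c * m⁻¹ := by group
        _ = (r * m) * s * c * m⁻¹ := by rw [hmr]
        _ = _ := by rw [hs', hc']; group
  -- `w = s s' ∈ ZC x`
  have hsx : s * x = x * s := h.UU_comm hsU hxU
  have hw : s * s' ∈ ZC Q x := by
    have e : s * s' = (s * m * s⁻¹) * m⁻¹ := by rw [hs', h.UU_inv hsU]; group
    rw [e]
    exact mul_mem ((h.ZC_fix hsx).2 (h.N_le_ZC hxO hm)) (inv_mem (h.N_le_ZC hxO hm))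
  have hgw : g * (s * s') * g⁻¹ ∈ ZC Q x := h.K_conj hgx hw
  have key : (g * (s * s') * g⁻¹) * (s * s') ∈ ZC Q x := mul_mem hgw hw
  have e0 : g * (s * s') * g⁻¹ = (g * s * g⁻¹) * (g * s' * g⁻¹) := by group
  constructor
  · intro h1
    rcases hmv' with h2 | h2
    · exact h.comm_of_conj h2
    · exfalso
      have h3 : g * s * g⁻¹ = s := by rw [h1, mul_inv_cancel_right]
      have e : (g * (s * s') * g⁻¹) * (s * s') = r * c' := by
        rw [e0, h2, h3]
        calc s * (r * s' * c') * (s * s') = (s * r) * (s' * (c' * s)) * s' := by group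
          _ = (r * s) * (s' * (s * c')) * s' := by rw [h.r_comm hsU, h.UU_comm hc'U hsU]
          _ = r * (s * s' * s) * (c' * s') := by group
          _ = r * s' * (s' * c') := by
              rw [h.UU_cancel hsU hs'U, h.UU_comm hc'U hs'U]
          _ = r * (s' * (s' * c')) := by group
          _ = r * c' := by rw [h.UU_cancel' hs'U]
      rw [e] at key
      exact h.factF hO hA hx ht' hc'r hc't key
  · intro h1
    rcases hmv g hg with h2 | h2
    · exact h.comm_of_conj h2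
    · exfalso
      have h3 : g * s' * g⁻¹ = s' := by rw [h1, mul_inv_cancel_right]
      have e : (g * (s * s') * g⁻¹) * (s * s') = r * c := by
        rw [e0, h2, h3]
        calc r * s * c * s' * (s * s') = r * (s * (c * (s' * s * s'))) := by group
          _ = r * (s * (c * s)) := by rw [h.UU_cancel hs'U hsU]
          _ = r * (s * c * s) := by group
          _ = r * c := by rw [h.UU_cancel hsU hcU]
      rw [e] at key
      exact h.factF hO hA hx Adj_base hcr hct key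

/-- **The `S`-fixed functional.** -/
theorem exists_sfix [Finite G] (hS : TvS M S r t N) (hQS : Q r ≤ S) (hO : JOpp M r t Q N) (hN : JNon M r t N)
    (hA : AllOpp M r t N) :
    ∃ s c : G, Adj M r t t s ∧ s ∉ Q r ∧ c ∈ UU M r ∧ c ∈ ZC Q r ∧ c ∈ ZC Q t ∧
      (∀ n ∈ N r, n * s * n⁻¹ = s ∨ n * s * n⁻¹ = r * s * c) ∧ (∀ u ∈ S, u * c = c * u) ∧
      ∀ u ∈ S, ∀ g ∈ N r, g * s = s * g → (u * g * u⁻¹) * s = s * (u * g * u⁻¹) := by
  have hrO : r ∈ Om M r := Om_base
  have htO : t ∈ Om M r := h.t_Om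
  have hrU : r ∈ UU M r := Om_le_UU hrO
  have htU : t ∈ UU M r := Om_le_UU htO
  have hUfix : ∀ {u x : G}, u ∈ M → x ∈ UU M r → u * x * u⁻¹ ∈ UU M r := fun hu hx => UU_conj hu hx
  -- `W₀`
  let A : Subgroup G :=
    { carrier := {u | u ∈ UU M r ∧ (u ∈ ZC Q t ∨ r * u ∈ ZC Q t)}
      one_mem' := ⟨one_mem _, Or.inl (one_mem _)⟩
      mul_mem' := by
        rintro x y ⟨hx, hx'⟩ ⟨hy, hy'⟩
        refine ⟨mul_mem hx hy, ?_⟩
        have e1 : r * (x * y) = x * (r * y) := by rw [← mul_assoc, ← h.r_comm hx, mul_assoc]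
        rcases hx' with h1 | h1 <;> rcases hy' with h2 | h2
        · exact Or.inl (mul_mem h1 h2)
        · right
          rw [e1]
          exact mul_mem h1 h2
        · right
          rw [← mul_assoc]
          exact mul_mem h1 h2
        · left
          have e2 : x * y = (r * x) * (r * y) := by
            rw [mul_assoc r, ← e1, h.mul_cancel hrO]
          rw [e2]
          exact mul_mem h1 h2
      inv_mem' := by
        rintro x ⟨hx, hx'⟩
        rw [h.UU_inv hx]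
        exact ⟨hx, hx'⟩ }
  have hAmem : ∀ u, u ∈ A ↔ u ∈ UU M r ∧ (u ∈ ZC Q t ∨ r * u ∈ ZC Q t) := fun u => Iff.rfl
  let S₁ : Subgroup G := S ⊓ centralizer {t}
  have hS₁ : ∀ u, u ∈ S₁ → u ∈ S ∧ u * t = t * u := fun u hu => ⟨hu.1, mem_centralizer_singleton_iff.1 hu.2⟩
  have hS₁r : ∀ u, u ∈ S₁ → u * r = r * u := fun u hu => hS.S_r u hu.1
  have hAS : ∀ x ∈ S₁, ∀ b ∈ A, x * b * x⁻¹ ∈ A := by
    intro x hx b hb
    obtain ⟨hxS, hxt⟩ := hS₁ x hx
    refine ⟨hUfix (hS.S_le hxS) hb.1, ?_⟩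
    rcases hb.2 with h1 | h1
    · exact Or.inl (h.K_conj hxt h1)
    · right
      have e : r * (x * b * x⁻¹) = x * (r * b) * x⁻¹ := by
        calc r * (x * b * x⁻¹) = (r * x) * b * x⁻¹ := by group
          _ = (x * r) * b * x⁻¹ := by rw [hS₁r x hx]
          _ = _ := by group
      rw [e]
      exact h.K_conj hxt h1
  have hWS : ∀ x ∈ S₁, ∀ b ∈ h.WW hO hN t htO, x * b * x⁻¹ ∈ h.WW hO hN t htO := by
    intro x hx b hb
    obtain ⟨hxS, hxt⟩ := hS₁ x hx
    have hxM := hS.S_le hxS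
    refine ⟨hUfix hxM hb.1, ?_⟩
    rcases hb.2 with h1 | ⟨a, ha, h1⟩
    · exact Or.inl (h.K_conj hxt h1)
    · right
      refine ⟨x * a * x⁻¹, ?_, ?_⟩
      · have := ha.conj hxM
        rwa [hxt, mul_inv_cancel_right] at this
      · have e : x * a * x⁻¹ * (x * b * x⁻¹) = x * (a * b) * x⁻¹ := by group
        rw [e]
        exact h.K_conj hxt h1
  have hW2 : IsPGroup 2 (h.WW hO hN t htO) := by
    intro g
    refine ⟨1, Subtype.ext ?_⟩
    have : (g : G) * g = 1 := h.UU_sq g.2.1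
    simpa [pow_two] using this
  have hne : ¬ h.WW hO hN t htO ≤ A := by
    intro hle
    obtain ⟨b, hb⟩ := h.exists_opp hN h.Adj_swap
    obtain ⟨-, -, -, h1, h2, -⟩ := hO t r b hb
    have hbA : b ∈ A := hle ⟨h.Adj_UU hb.2.1, Or.inr ⟨b, hb.2.1, by
      rw [h.UU_sq (h.Adj_UU hb.2.1)]
      exact one_mem _⟩⟩
    rcases hbA.2 with h3 | h3
    · exact h.Adj_not_mem hb.2.1 h3
    · rcases h.noPar_at h.Adj_swap hb.2.1 h3 with h4 | h4
      · exact h1 h4
      · exact h2 h4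
  obtain ⟨m, hmW, hmA, hmS⟩ := TvThirteen.exists_fixed_mod (S := S₁) (B := h.WW hO hN t htO) (A := A)
    (hS.S_p.to_le inf_le_left) hW2 hWS hAS
    (by
      intro x hx b hb
      rw [h.UU_comm hx.1 hb.1, mul_inv_cancel_right]
      exact hb)
    hne
  obtain ⟨s, hs, hsm⟩ : ∃ s, Adj M r t t s ∧ s * m ∈ ZC Q t := by
    rcases hmW.2 with h1 | h1
    · exact absurd ⟨hmW.1, Or.inl h1⟩ hmA
    · exact h1
  have hsU := h.Adj_UU hs
  have hmU := hmW.1
  have hsmA : s * m ∈ A := ⟨mul_mem hsU hmU, Or.inl hsm⟩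
  have hsA : s ∉ A := fun h1 => hmA ((mul_mem_cancel_left h1).1 hsmA)
  have hsr : s ≠ r := fun e => hsA (e ▸ ⟨hrU, Or.inr (by rw [h.r_sq]; exact one_mem _)⟩)
  have hstr : s ≠ t * r := fun e => hsA (e ▸ ⟨mul_mem htU hrU, Or.inr (by
    rw [h.UU_comm htU hrU, h.mul_cancel hrO]
    exact h.mem_ZC htO)⟩)
  have ho : Opp M r t N t r s := hA t r s h.Adj_swap hs hsr hstr
  have hsQ : s ∉ Q r := by
    intro h1
    obtain ⟨-, -, n, hn, hne⟩ := ho
    apply hne
    rw [← (h.mem_Q_iff hrO hsU).1 h1 n hn, mul_inv_cancel_right]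
  obtain ⟨-, -, -, -, -, c, -, hcU, hct, hcr, -, -, hL, hmv, -⟩ := hO t r s ho
  -- the conjugates of `s` under `S₁`
  have hz : ∀ u ∈ S₁, ∃ z ∈ UU M r, z ∈ Q r ∧ u * s * u⁻¹ = z * s := by
    intro u hu
    obtain ⟨huS, hut⟩ := hS₁ u hu
    have huM := hS.S_le huS
    have hs1 : Adj M r t t (u * s * u⁻¹) := by
      have := hs.conj huM
      rwa [hut, mul_inv_cancel_right] at this
    have hs1U := h.Adj_UU hs1
    have hk : u * s * u⁻¹ * s ∈ A := by
      have e : u * s * u⁻¹ * s = (u * (s * m) * u⁻¹) * (u * m * u⁻¹ * m⁻¹)⁻¹ * (s * m) := by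
        have e1 : (u * (s * m) * u⁻¹) * (u * m * u⁻¹ * m⁻¹)⁻¹ = u * s * u⁻¹ * m * 1 := by
          have e2 := h.UU_comm hmU (hUfix huM (inv_mem hmU))
          calc (u * (s * m) * u⁻¹) * (u * m * u⁻¹ * m⁻¹)⁻¹
              = (u * s * u⁻¹) * (u * m * u⁻¹) * (m * (u * m⁻¹ * u⁻¹)) := by group
            _ = (u * s * u⁻¹) * (u * m * u⁻¹) * ((u * m⁻¹ * u⁻¹) * m) := by rw [e2]
            _ = _ := by group
        rw [e1, mul_one, mul_assoc (u * s * u⁻¹), h.UU_comm hsU hmU, h.UU_cancel' hmU]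
      rw [e]
      exact mul_mem (mul_mem (hAS u hu _ hsmA) (inv_mem (hmS u hu))) hsmA
    rcases hk.2 with h1 | h1
    · rcases h.noPar_at hs1 hs h1 with h2 | h2
      · exact ⟨1, one_mem _, one_mem _, by rw [one_mul, ← h2]⟩
      · refine ⟨t, htU, h.t_mem, ?_⟩
        conv_rhs => rw [h2]
        rw [h.mul_cancel htO]
    · have h3 : (u * s * u⁻¹) * (r * s * c) ∈ ZC Q t := by
        have e : (u * s * u⁻¹) * (r * s * c) = (r * (u * s * u⁻¹ * s)) * c := by
          calc (u * s * u⁻¹) * (r * s * c) = ((u * s * u⁻¹) * r) * (s * c) := by group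
            _ = (r * (u * s * u⁻¹)) * (s * c) := by rw [h.r_comm hs1U]
            _ = _ := by group
        rw [e]
        exact mul_mem h1 hct
      have hrcU : r * c ∈ UU M r := mul_mem hrU hcU
      have hrcQ : r * c ∈ Q r := mul_mem h.r_mem (h.ZC_le_Q hrO hcr)
      have e4 : r * s * c = r * c * s := by rw [mul_assoc, h.UU_comm hsU hcU, mul_assoc]
      rcases h.noPar_at hs1 hL h3 with h4 | h4
      · exact ⟨r * c, hrcU, hrcQ, by rw [← h4, e4]⟩
      · refine ⟨t * (r * c), mul_mem htU hrcU, mul_mem h.t_mem hrcQ, ?_⟩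
        have h5 : t * (r * s * c) = u * s * u⁻¹ := by rw [h4, h.mul_cancel htO]
        rw [← h5, e4, mul_assoc t]
  -- `N r` commutes with the `z`
  have hNz : ∀ z ∈ UU M r, z ∈ Q r → ∀ g ∈ N r, g * z = z * g := fun z hz hzQ g hg =>
    ((h.mem_Q_iff hrO hz).1 hzQ g hg).symm
  have hinv₁ : ∀ u ∈ S₁, ∀ g ∈ N r, g * s = s * g → (u * g * u⁻¹) * s = s * (u * g * u⁻¹) := by
    intro u hu g hg hgs
    obtain ⟨z, hzU, hzQ, e⟩ := hz u⁻¹ (inv_mem hu)
    have h1 : g * (u⁻¹ * s * u⁻¹⁻¹) = (u⁻¹ * s * u⁻¹⁻¹) * g := by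
      rw [e, ← mul_assoc, hNz z hzU hzQ g hg, mul_assoc, hgs, mul_assoc]
    calc (u * g * u⁻¹) * s = u * (g * (u⁻¹ * s * u⁻¹⁻¹)) * u⁻¹ := by group
      _ = u * ((u⁻¹ * s * u⁻¹⁻¹) * g) * u⁻¹ := by rw [h1]
      _ = _ := by group
  have hcS₁ : ∀ u ∈ S₁, u * c = c * u := by
    intro u hu
    obtain ⟨z, hzU, hzQ, e⟩ := hz u hu
    obtain ⟨-, -, n, hn, hne⟩ := ho
    have hn' := (hmv n hn).resolve_left hne
    have huM := hS.S_le hu.1
    have hur := hS₁r u hu
    have hnu : u * n * u⁻¹ ∈ N r := (h.N_fix hur).2 hn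
    have h1 : (u * n * u⁻¹) * (u * s * u⁻¹) * (u * n * u⁻¹)⁻¹ = r * (u * s * u⁻¹) * (u * c * u⁻¹) := by
      calc (u * n * u⁻¹) * (u * s * u⁻¹) * (u * n * u⁻¹)⁻¹ = u * (n * s * n⁻¹) * u⁻¹ := by group
        _ = (u * r) * s * c * u⁻¹ := by rw [hn']; group
        _ = (r * u) * s * c * u⁻¹ := by rw [hur]
        _ = _ := by group
    have h2 : (u * n * u⁻¹) * (u * s * u⁻¹) * (u * n * u⁻¹)⁻¹ = z * ((u * n * u⁻¹) * s * (u * n * u⁻¹)⁻¹) := by
      rw [e, ← mul_assoc, hNz z hzU hzQ _ hnu]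
      group
    have h3 : (u * n * u⁻¹) * s * (u * n * u⁻¹)⁻¹ = r * s * c := by
      refine (hmv _ hnu).resolve_left fun h4 => ?_
      rw [h4, ← e] at h2
      have h5 : n * s * n⁻¹ = s := by
        have e5 : n * s * n⁻¹ = u⁻¹ * ((u * n * u⁻¹) * (u * s * u⁻¹) * (u * n * u⁻¹)⁻¹) * u := by group
        rw [e5, h2]
        group
      exact hne h5
    rw [h1, h3, e] at h2
    -- `r (z s) (u c u⁻¹) = z (r s c)`
    have h4 : r * (z * s) * (u * c * u⁻¹) = r * (z * s) * c := by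
      rw [h2]
      calc z * (r * s * c) = (z * r) * s * c := by group
        _ = (r * z) * s * c := by rw [h.r_comm hzU]
        _ = _ := by group
    exact h.comm_of_conj (mul_left_cancel h4)
  -- from `S₁` to `S`
  have hdec : ∀ u ∈ S, ∃ q ∈ Q r, ∃ v ∈ S₁, u = q * v := by
    intro u hu
    rcases hS.S_t u hu with h1 | h1
    · exact ⟨1, one_mem _, u, ⟨hu, mem_centralizer_singleton_iff.2 (h.comm_of_conj h1)⟩, (one_mul u).symm⟩
    · obtain ⟨q, hq, hqt⟩ := h.q12
      refine ⟨q, hq, q⁻¹ * u, Subgroup.mem_inf.2 ⟨S.mul_mem (S.inv_mem (hQS hq)) hu,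
        mem_centralizer_singleton_iff.2 ?_⟩, by group⟩
      have h2 : q⁻¹ * (r * t) * q = t := by rw [← hqt]; group
      calc q⁻¹ * u * t = q⁻¹ * (u * t * u⁻¹) * u := by group
        _ = q⁻¹ * (r * t) * q * (q⁻¹ * u) := by rw [h1]; group
        _ = _ := by rw [h2]
  refine ⟨s, c, hs, hsQ, hcU, hcr, hct, hmv, ?_, ?_⟩
  · intro u hu
    obtain ⟨q, hq, v, hv, rfl⟩ := hdec u hu
    have h1 : c * q = q * c := h.ZC_comm hcr hq
    calc q * v * c = q * (v * c) := by group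
      _ = q * c * v := by rw [hcS₁ v hv]; group
      _ = _ := by rw [← h1]; group
  · intro u hu g hg hgs
    obtain ⟨q, hq, v, hv, rfl⟩ := hdec u hu
    have hvg : v * g * v⁻¹ ∈ N r := (h.N_fix (hS₁r v hv)).2 hg
    have h1 : (v * g * v⁻¹) * q = q * (v * g * v⁻¹) := h.ZC_comm (h.N_le_ZC hrO hvg) hq
    have e : q * v * g * (q * v)⁻¹ = v * g * v⁻¹ := by
      calc q * v * g * (q * v)⁻¹ = (q * (v * g * v⁻¹)) * q⁻¹ := by group
        _ = _ := by rw [← h1, mul_inv_cancel_right]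
    rw [e]
    exact hinv₁ v hv g hg hgs

/-- **JOINT (11).** -/
theorem jEleven [Finite G] (hS : TvS M S r t N) (hQS : Q r ≤ S) (hO : JOpp M r t Q N) (hN : JNon M r t N) :
    JEleven M r t Q N := by
  refine h.jEleven_of_base fun hA b c hb hc => ?_
  have hrO : r ∈ Om M r := Om_base
  have hrU : r ∈ UU M r := Om_le_UU hrO
  obtain ⟨s, d, hs, hsQ, hdU, hdr, hdt, hmv, hdS, hSN⟩ := h.exists_sfix hS hQS hO hN hA
  have hsU := h.Adj_UU hs
  -- `n₁`
  obtain ⟨n₁, hn₁, hne⟩ : ∃ n ∈ N r, n * s * n⁻¹ ≠ s := by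
    by_contra h1
    push Not at h1
    exact hsQ ((h.mem_Q_iff hrO hsU).2 fun n hn => (h.comm_of_conj (h1 n hn)).symm)
  have hn₁' := (hmv n₁ hn₁).resolve_left hne
  have hNr : ∀ n ∈ N r, n * r * n⁻¹ = r := fun n hn => h.N_fix_self hrO hn
  have hNd : ∀ n ∈ N r, n * d * n⁻¹ = d := fun n hn => h.N_ZC hrO hn hdr
  have hdd := h.UU_sq hdU
  have hss := h.UU_sq hsU
  have hrd : (r * d) * (r * d) = 1 := h.UU_sq (mul_mem hrU hdU)
  let N₀ : Subgroup G := N r ⊓ centralizer {s}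
  have hN₀ : ∀ n, n ∈ N₀ ↔ n ∈ N r ∧ n * s = s * n := fun n => by
    rw [mem_inf, mem_centralizer_singleton_iff]
  have hcov : ∀ n ∈ N r, n ∈ N₀ ∨ n₁ * n ∈ N₀ := by
    intro n hn
    rcases hmv n hn with h1 | h1
    · exact Or.inl ((hN₀ n).2 ⟨hn, h.comm_of_conj h1⟩)
    · right
      refine (hN₀ _).2 ⟨mul_mem hn₁ hn, h.comm_of_conj ?_⟩
      calc n₁ * n * s * (n₁ * n)⁻¹ = n₁ * (n * s * n⁻¹) * n₁⁻¹ := by group
        _ = (n₁ * r * n₁⁻¹) * (n₁ * s * n₁⁻¹) * (n₁ * d * n₁⁻¹) := by rw [h1]; group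
        _ = r * (r * s * d) * d := by rw [hNr _ hn₁, hn₁', hNd _ hn₁]
        _ = (r * r) * s * (d * d) := by group
        _ = s := by rw [h.r_sq, hdd, one_mul, mul_one]
  have hinv : n₁⁻¹ * s * n₁ = r * s * d := by
    have h1 := hmv n₁⁻¹ (inv_mem hn₁)
    rw [inv_inv] at h1
    refine h1.resolve_left fun h2 => hne ?_
    calc n₁ * s * n₁⁻¹ = n₁ * (n₁⁻¹ * s * n₁) * n₁⁻¹ := by rw [h2]
      _ = s := by group
  have hu0n : s * n₁ * s⁻¹ = n₁ * (r * d) := by
    calc s * n₁ * s⁻¹ = n₁ * (n₁⁻¹ * s * n₁) * s⁻¹ := by group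
      _ = n₁ * (r * (s * d)) * s⁻¹ := by rw [hinv]; group
      _ = n₁ * (r * (d * s)) * s⁻¹ := by rw [h.UU_comm hsU hdU]
      _ = _ := by group
  have hcc := TvThirteen.j13' h hS hdU hdr hdt hdS (N0 := N₀) (n1 := n₁) (u0 := s) inf_le_left hn₁ hcov
    (fun x hx n hn => (hN₀ _).2 ⟨(h.N_fix (hS.S_r x hx)).2 ((hN₀ n).1 hn).1,
      hSN x hx n ((hN₀ n).1 hn).1 ((hN₀ n).1 hn).2⟩)
    hsU (fun n hn => ((hN₀ n).1 hn).2.symm) hu0n
  refine h.eleven_base hO hA hs hsQ ?_ hb hc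
  intro x hx m hm
  have hmM := h.N_le_M (h.Adj_right hx) hm
  have hs'U : m * s * m⁻¹ ∈ UU M r := UU_conj hmM hsU
  have hst : ∀ g ∈ N r, (g * s = s * g ↔ g * (m * s * m⁻¹) = (m * s * m⁻¹) * g) := fun g hg =>
    h.star hO hA hs hdr hdt hdU hmv hx hm hg
  set s' := m * s * m⁻¹ with hs'
  have h1 : s' * n₁ * s'⁻¹ = n₁ * (r * d) := by
    refine (hcc s' hs'U fun n hn => ((hst n ((hN₀ n).1 hn).1).1 ((hN₀ n).1 hn).2).symm).resolve_left fun h2 => ?_
    have h3 : n₁ * s' = s' * n₁ := by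
      calc n₁ * s' = (s' * n₁ * s'⁻¹) * s' := by rw [h2]
        _ = _ := by group
    have h4 := (hst n₁ hn₁).2 h3
    exact hne (by rw [h4, mul_inv_cancel_right])
  refine (h.mem_Q_iff hrO (mul_mem hsU hs'U)).2 fun n hn => ?_
  have hw₀ : ∀ n ∈ N₀, (s * s') * n = n * (s * s') := by
    intro n hn
    have h2 := ((hN₀ n).1 hn).2
    have h3 := (hst n ((hN₀ n).1 hn).1).1 h2
    rw [mul_assoc, ← h3, ← mul_assoc, ← h2, mul_assoc]
  have hw₁ : (s * s') * n₁ = n₁ * (s * s') := by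
    have h2 : (s * s') * n₁ * (s * s')⁻¹ = n₁ := by
      have hrdU : r * d ∈ UU M r := mul_mem hrU hdU
      calc (s * s') * n₁ * (s * s')⁻¹ = s * (s' * n₁ * s'⁻¹) * s⁻¹ := by group
        _ = (s * n₁ * s⁻¹) * (s * (r * d) * s⁻¹) := by rw [h1]; group
        _ = n₁ * (r * d) * (r * d) := by
            rw [hu0n, h.UU_comm hsU hrdU, mul_inv_cancel_right]
        _ = n₁ := by rw [mul_assoc, hrd, mul_one]
    exact h.comm_of_conj h2
  rcases hcov n hn with h2 | h2
  · exact hw₀ n h2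
  · have h3 := hw₀ _ h2
    have h4 : (s * s') * n₁⁻¹ = n₁⁻¹ * (s * s') := by
      calc (s * s') * n₁⁻¹ = n₁⁻¹ * (n₁ * (s * s')) * n₁⁻¹ := by group
        _ = n₁⁻¹ * ((s * s') * n₁) * n₁⁻¹ := by rw [hw₁]
        _ = _ := by group
    calc (s * s') * n = (s * s') * n₁⁻¹ * (n₁ * n) := by group
      _ = n₁⁻¹ * ((s * s') * (n₁ * n)) := by rw [h4, mul_assoc]
      _ = n₁⁻¹ * (n₁ * n * (s * s')) := by rw [h3]
      _ = n * (s * s') := by group

end TvH

end Cfsg.Agent.Omega.HOne.TvDef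

end

section


/-!
# II.0h1, `q = 2`, case (beta): (3) of #15959, no parallels

`exists_avg` : an `A`-invariant line `⟨r, e⟩` in a parallel class of odd length;
`noPar` : the field `noPar` of `TvH` from `TvH0`, `S` Sylow in `M`, `C_U(S) ∩ C_V` central in `M`.
-/

set_option autoImplicit false
set_option linter.unusedSectionVars false

namespace Cfsg.Agent.Omega.HOne.TvPar

open Subgroup Cfsg.Agent.Omega.HOne.TvDef

variable {G : Type*} [Group G]

theorem exists_avg [Finite G] {A B U Z : Subgroup G} {r t : G}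
    (hU : ∀ u ∈ U, ∀ v ∈ U, u * v = v * u) (hr : r ∈ U) (ht : t ∈ U) (hrr : r * r = 1) (htt : t * t = 1)
    (hAU : ∀ x ∈ A, ∀ u ∈ U, x * u * x⁻¹ ∈ U) (hAZ : ∀ x ∈ A, t * (x * t * x⁻¹) ∈ Z)
    (hB : ∀ x ∈ B, x * t * x⁻¹ = t ∨ x * t * x⁻¹ = r * t) (hAr : ∀ x ∈ A, x * r = r * x)
    (hBA : B ≤ A) (hodd : ¬ 2 ∣ B.relIndex A) :
    ∃ e ∈ U, t * e ∈ Z ∧ ∀ y ∈ A, y * e * y⁻¹ = e ∨ y * e * y⁻¹ = r * e := by
  classical
  let _ : CommGroup U := { (inferInstance : Group U) with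
    mul_comm := fun a b => Subtype.ext (hU a a.2 b b.2) }
  let X := A ⧸ B.subgroupOf A
  have : Fintype X := Fintype.ofFinite X
  let f : A → U := fun x => ⟨x * t * (x : G)⁻¹, hAU x x.2 t ht⟩
  let e : U := ∏ q : X, f q.out
  have hfz : ∀ x : A, t * (f x : G) ∈ Z := fun x => hAZ x x.2
  have h1 : ∀ s : Finset X, t ^ s.card * ((∏ q ∈ s, f q.out : U) : G) ∈ Z := by
    intro s
    induction s using Finset.induction_on with
    | empty => simp
    | insert a s ha ih =>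
      rw [Finset.prod_insert ha, Finset.card_insert_of_notMem ha, Subgroup.coe_mul, pow_succ]
      have hc : t ^ s.card * (t * (f a.out : G)) = (t * (f a.out : G)) * t ^ s.card := by
        have h2 : t * (f a.out : G) ∈ U := mul_mem ht (f a.out).2
        exact hU _ (pow_mem ht _) _ h2
      have : t ^ s.card * t * ((f a.out : G) * ((∏ q ∈ s, f q.out : U) : G)) =
          (t * (f a.out : G)) * (t ^ s.card * ((∏ q ∈ s, f q.out : U) : G)) := by
        calc t ^ s.card * t * ((f a.out : G) * ((∏ q ∈ s, f q.out : U) : G)) =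
            (t ^ s.card * (t * (f a.out : G))) * ((∏ q ∈ s, f q.out : U) : G) := by group
          _ = _ := by rw [hc]; group
      rw [this]
      exact mul_mem (hfz _) ih
  have hcard : ¬ 2 ∣ Fintype.card X := by
    rw [← Nat.card_eq_fintype_card]
    exact hodd
  refine ⟨e, e.2, ?_, ?_⟩
  · have h2 := h1 Finset.univ
    rw [Finset.card_univ] at h2
    obtain ⟨k, hk⟩ := Nat.not_even_iff_odd.1 (fun he => hcard (even_iff_two_dvd.1 he))
    rw [hk, pow_add, pow_mul, pow_two, htt, one_pow, one_mul, pow_one] at h2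
    exact h2
  · intro y hy
    let φ : U →* U :=
      { toFun := fun u => ⟨y * u * y⁻¹, hAU y hy u u.2⟩
        map_one' := Subtype.ext (by simp)
        map_mul' := fun a b => Subtype.ext (by
          change y * (a * b : G) * y⁻¹ = (y * a * y⁻¹) * (y * b * y⁻¹)
          group) }
    have hφ : ∀ u : U, ((φ u : U) : G) = y * u * y⁻¹ := fun _ => rfl
    let y' : A := ⟨y, hy⟩
    let r' : U := ⟨r, hr⟩
    have hr' : r' * r' = 1 := Subtype.ext hrr
    have h3 : ∀ q : X, f (y' • q).out = φ (f q.out) ∨ f (y' • q).out = r' * φ (f q.out) := by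
      intro q
      have h4 : ((y' • q).out : A)⁻¹ * (y' * q.out) ∈ B.subgroupOf A := by
        rw [← QuotientGroup.eq]
        have h5 : ((((y' • q).out : A)) : X) = y' • q := Quotient.out_eq _
        rw [h5]
        have h6 : ((q.out : A) : X) = q := Quotient.out_eq _
        conv_lhs => rw [← h6]
        rfl
      set b := ((y' • q).out : A)⁻¹ * (y' * q.out) with hb
      have h7 : ((y' • q).out : A) = y' * q.out * b⁻¹ := by rw [hb]; group
      have hbB : (b : G) ∈ B := h4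
      have hbt := hB _ (inv_mem hbB)
      have hxr : (y' * q.out : A) * r = r * ((y' * q.out : A) : G) := hAr _ (y' * q.out : A).2
      have e1 : ((f (y' • q).out : U) : G) =
          (y' * q.out : A) * ((b : G)⁻¹ * t * (b : G)⁻¹⁻¹) * ((y' * q.out : A) : G)⁻¹ := by
        change (((y' • q).out : A) : G) * t * (((y' • q).out : A) : G)⁻¹ = _
        rw [h7]
        simp only [Subgroup.coe_mul, Subgroup.coe_inv]
        group
      have e2 : ((φ (f q.out) : U) : G) = (y' * q.out : A) * t * ((y' * q.out : A) : G)⁻¹ := by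
        rw [hφ]
        change y * ((q.out : A) * t * ((q.out : A) : G)⁻¹) * y⁻¹ = _
        simp only [Subgroup.coe_mul, y']
        group
      rcases hbt with h8 | h8
      · left
        apply Subtype.ext
        rw [e1, e2, h8]
      · right
        apply Subtype.ext
        rw [Subgroup.coe_mul, e1, e2, h8]
        change _ = r * _
        calc ((y' * q.out : A) : G) * (r * t) * ((y' * q.out : A) : G)⁻¹ =
            (((y' * q.out : A) : G) * r) * t * ((y' * q.out : A) : G)⁻¹ := by group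
          _ = _ := by rw [hxr]; group
    have h4 : ∀ s : Finset X, ∏ q ∈ s, f (y' • q).out = ∏ q ∈ s, φ (f q.out) ∨
        ∏ q ∈ s, f (y' • q).out = r' * ∏ q ∈ s, φ (f q.out) := by
      intro s
      induction s using Finset.induction_on with
      | empty => left; simp
      | insert a s ha ih =>
        rw [Finset.prod_insert ha, Finset.prod_insert ha]
        rcases h3 a with h5 | h5 <;> rcases ih with h6 | h6 <;> rw [h5, h6]
        · left; rfl
        · right; rw [mul_left_comm]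
        · right; rw [mul_assoc]
        · left
          rw [mul_mul_mul_comm, hr', one_mul]
    have h5 := h4 Finset.univ
    have h6 : ∏ q : X, f (y' • q).out = e := by
      exact Fintype.prod_equiv (MulAction.toPerm y') _ _ (fun q => rfl)
    rw [h6, ← map_prod] at h5
    have h7 : ((φ e : U) : G) = y * e * y⁻¹ := rfl
    rcases h5 with h8 | h8
    · left
      rw [← h7]
      exact congrArg _ h8.symm
    · right
      rw [← h7]
      have h9 : r' * e = φ e := by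
        calc r' * e = r' * (r' * φ e) := congrArg _ h8
          _ = (r' * r') * φ e := by rw [mul_assoc]
          _ = φ e := by rw [hr', one_mul]
      exact (congrArg (fun u : U => (u : G)) h9).symm

variable {M S : Subgroup G} {r t : G} {Q N : G → Subgroup G}

/-- **(3)** no parallels -/
theorem noPar [Finite G] (h : TvH0 M r t Q N) (hSM : S ≤ M) (hSr : ∀ x ∈ S, x * r = r * x)
    (hSt : ∀ x ∈ S, x * t * x⁻¹ = t ∨ x * t * x⁻¹ = r * t) (hNS : N t ≤ S)
    (hodd : ¬ 2 ∣ S.relIndex M)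
    (hcen : ∀ c ∈ UU M r, c ∈ ZC Q r → c ∈ ZC Q t → (∀ x ∈ S, x * c = c * x) → ∀ m ∈ M, m * c = c * m) :
    ∀ a b, Adj M r t r a → Adj M r t r b → a * b ∈ ZC Q r → b = a ∨ b = r * a := by
  have hrU : r ∈ UU M r := Om_le_UU Om_base
  have htU : t ∈ UU M r := Om_le_UU h.t_Om
  have htt : t * t = 1 := h.Om_sq h.t_Om
  -- `A = N_{M_1}(V K_1)`
  let A : Subgroup G :=
    { carrier := {x | x ∈ M ∧ x * r = r * x ∧ t * (x * t * x⁻¹) ∈ ZC Q r}
      one_mem' := ⟨one_mem _, by simp, by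
        have : t * (1 * t * 1⁻¹) = 1 := by rw [one_mul, inv_one, mul_one, htt]
        rw [this]; exact one_mem _⟩
      mul_mem' := by
        rintro x y ⟨hx, hxr, hxt⟩ ⟨hy, hyr, hyt⟩
        refine ⟨mul_mem hx hy, ?_, ?_⟩
        · calc x * y * r = x * (y * r) := by group
            _ = (x * r) * y := by rw [hyr]; group
            _ = r * (x * y) := by rw [hxr]; group
        · have e : t * (x * y * t * (x * y)⁻¹) =
              (t * (x * t * x⁻¹)) * (x * (t * (y * t * y⁻¹)) * x⁻¹) := by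
            calc t * (x * y * t * (x * y)⁻¹) = t * (x * 1 * x⁻¹) * (x * y * t * (x * y)⁻¹) := by group
              _ = t * (x * (t * t) * x⁻¹) * (x * y * t * (x * y)⁻¹) := by rw [htt]
              _ = _ := by group
          rw [e]
          exact mul_mem hxt ((h.ZC_fix hxr).2 hyt)
      inv_mem' := by
        rintro x ⟨hx, hxr, hxt⟩
        have hxr' : x⁻¹ * r = r * x⁻¹ := by
          calc x⁻¹ * r = x⁻¹ * (r * x) * x⁻¹ := by group
            _ = r * x⁻¹ := by rw [← hxr]; group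
        refine ⟨inv_mem hx, hxr', ?_⟩
        have e : t * (x⁻¹ * t * x⁻¹⁻¹) = x⁻¹ * (t * (x * t * x⁻¹))⁻¹ * x⁻¹⁻¹ := by
          have ht' : t⁻¹ = t := h.UU_inv htU
          calc t * (x⁻¹ * t * x⁻¹⁻¹) = t * x⁻¹ * t * x := by group
            _ = t⁻¹ * x⁻¹ * t⁻¹ * x := by rw [ht']
            _ = x⁻¹ * (x * t⁻¹ * x⁻¹ * t⁻¹) * x := by
                have h1 : t⁻¹ * (x⁻¹ * t⁻¹ * x) = (x⁻¹ * t⁻¹ * x) * t⁻¹ := by
                  have h2 : x⁻¹ * t⁻¹ * x ∈ UU M r := by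
                    have := UU_conj (r := r) (inv_mem hx) (inv_mem htU)
                    simpa using this
                  exact h.UU_comm (inv_mem htU) h2
                calc t⁻¹ * x⁻¹ * t⁻¹ * x = t⁻¹ * (x⁻¹ * t⁻¹ * x) := by group
                  _ = (x⁻¹ * t⁻¹ * x) * t⁻¹ := h1
                  _ = x⁻¹ * (t⁻¹ * (x * t⁻¹ * x⁻¹)) * x := by group
                  _ = x⁻¹ * ((x * t⁻¹ * x⁻¹) * t⁻¹) * x := by
                    rw [h.UU_comm (inv_mem htU) (UU_conj hx (inv_mem htU))]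
                  _ = _ := by group
            _ = x⁻¹ * (t * (x * t * x⁻¹))⁻¹ * x⁻¹⁻¹ := by group
        rw [e]
        exact (h.ZC_fix hxr').2 (inv_mem hxt) }
  let B : Subgroup G :=
    { carrier := {x | x ∈ A ∧ (x * t * x⁻¹ = t ∨ x * t * x⁻¹ = r * t)}
      one_mem' := ⟨one_mem _, Or.inl (by group)⟩
      mul_mem' := by
        rintro x y ⟨hx, hxt⟩ ⟨hy, hyt⟩
        refine ⟨mul_mem hx hy, ?_⟩
        have hxr : x * r = r * x := hx.2.1
        have e : x * y * t * (x * y)⁻¹ = x * (y * t * y⁻¹) * x⁻¹ := by group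
        rw [e]
        rcases hyt with h1 | h1
        · rw [h1]; exact hxt
        · have e2 : x * (r * t) * x⁻¹ = r * (x * t * x⁻¹) := by
            calc x * (r * t) * x⁻¹ = (x * r) * t * x⁻¹ := by group
              _ = _ := by rw [hxr]; group
          rw [h1, e2]
          rcases hxt with h2 | h2
          · right; rw [h2]
          · left; rw [h2, h.mul_cancel Om_base]
      inv_mem' := by
        rintro x ⟨hx, hxt⟩
        refine ⟨inv_mem hx, ?_⟩
        have hxr : x * r = r * x := hx.2.1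
        have hxr' : x⁻¹ * r = r * x⁻¹ := by
          calc x⁻¹ * r = x⁻¹ * (r * x) * x⁻¹ := by group
            _ = r * x⁻¹ := by rw [← hxr]; group
        rcases hxt with h1 | h1
        · left
          calc x⁻¹ * t * x⁻¹⁻¹ = x⁻¹ * (x * t * x⁻¹) * x := by rw [h1]; group
            _ = t := by group
        · right
          have e : x⁻¹ * (r * t) * x = t := by rw [← h1]; group
          calc x⁻¹ * t * x⁻¹⁻¹ = x⁻¹ * (r * (r * t)) * x := by rw [h.mul_cancel Om_base]; group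
            _ = (x⁻¹ * r) * (r * t) * x := by group
            _ = r * (x⁻¹ * (r * t) * x) := by rw [hxr']; group
            _ = r * t := by rw [e] }
  have hSB : S ≤ B := by
    intro x hx
    refine ⟨⟨hSM hx, hSr x hx, ?_⟩, hSt x hx⟩
    rcases hSt x hx with h1 | h1
    · rw [h1, htt]; exact one_mem _
    · have : t * (r * t) = r := by
        calc t * (r * t) = (t * r) * t := by group
          _ = r * (t * t) := by rw [h.UU_comm htU hrU]; group
          _ = r := by rw [htt, mul_one]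
      rw [h1, this]; exact h.mem_ZC Om_base
  have hBA : B ≤ A := fun x hx => hx.1
  have hAM : A ≤ M := fun x hx => hx.1
  have hoddBA : ¬ 2 ∣ B.relIndex A := by
    intro hd
    apply hodd
    have h1 : S.relIndex A * A.relIndex M = S.relIndex M :=
      Subgroup.relIndex_mul_relIndex _ _ _ (hSB.trans hBA) hAM
    have h2 : S.relIndex B * B.relIndex A = S.relIndex A :=
      Subgroup.relIndex_mul_relIndex _ _ _ hSB hBA
    rw [← h1, ← h2]
    exact Dvd.dvd.mul_right (Dvd.dvd.mul_left hd _) _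
  obtain ⟨e, heU, heZ, heA⟩ := exists_avg (A := A) (B := B) (U := UU M r) (Z := ZC Q r)
    (fun u hu v hv => h.UU_comm hu hv) hrU htU h.r_sq htt
    (fun x hx u hu => UU_conj (hAM hx) hu) (fun x hx => hx.2.2) (fun x hx => hx.2)
    (fun x hx => hx.2.1) hBA hoddBA
  set c1 := t * e with hc1
  have hc1U : c1 ∈ UU M r := mul_mem htU heU
  -- `r ∉ ZC t`
  have hrt : r ∉ ZC Q t := h.not_both Adj_base
  -- `[c1, S] ≤ R`
  have hc1S : ∀ x ∈ S, x * c1 * x⁻¹ = c1 ∨ x * c1 * x⁻¹ = r * c1 := by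
    intro x hx
    have e1 : x * c1 * x⁻¹ = (x * t * x⁻¹) * (x * e * x⁻¹) := by rw [hc1]; group
    have hrc : t * (r * e) = r * (t * e) := by
      calc t * (r * e) = (t * r) * e := by group
        _ = r * (t * e) := by rw [h.UU_comm htU hrU]; group
    rcases hSt x hx with h1 | h1 <;> rcases heA x (hBA (hSB hx)) with h2 | h2 <;> rw [e1, h1, h2]
    · left; rfl
    · right; rw [hrc]
    · right; rw [hc1]; group
    · left
      calc r * t * (r * e) = r * (t * (r * e)) := by group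
        _ = r * (r * (t * e)) := by rw [hrc]
        _ = t * e := h.mul_cancel Om_base _
  -- `N t` centralises `c1`
  have hc1N : ∀ n ∈ N t, c1 * n = n * c1 := by
    intro n hn
    have h1 := h.comm_KN Adj_base hc1U heZ hn
    rcases hc1S n (hNS hn) with h2 | h2
    · calc c1 * n = (n * c1 * n⁻¹) * n := by rw [h2]
        _ = _ := by group
    · exfalso
      have ha' : c1⁻¹ = c1 := h.UU_inv hc1U
      have h3 : c1 * n * c1⁻¹ * n⁻¹ = r := by
        calc c1 * n * c1⁻¹ * n⁻¹ = c1 * (n * c1 * n⁻¹) := by rw [ha']; group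
          _ = c1 * (r * c1) := by rw [h2]
          _ = (c1 * r) * c1 := by group
          _ = r * (c1 * c1) := by rw [h.UU_comm hc1U hrU]; group
          _ = r := by rw [h.UU_sq hc1U, mul_one]
      rw [h3] at h1
      exact hrt h1.1
  have hc1Q : c1 ∈ Q t := h.UN_at h.t_Om hc1U hc1N
  -- C_V is S-invariant
  have inv : ∀ x ∈ S, ∀ b, b ∈ ZC Q r → b ∈ ZC Q t → x * b * x⁻¹ ∈ ZC Q t := by
    intro x hx b hb hb'
    have hxr := hSr x hx
    have h2 : x * b * x⁻¹ ∈ ZC Q r := (h.ZC_fix hxr).2 hb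
    have h3 : x * b * x⁻¹ ∈ ZC Q (x * t * x⁻¹) := h.ZC_conj.2 hb'
    rcases hSt x hx with h4 | h4
    · rwa [h4] at h3
    · rw [h4] at h3
      have h5 := h.Adj_CV h.Adj_mul_base h2 h3
      rwa [h.mul_cancel Om_base] at h5
  -- `c' = c1` or `r c1` in `C_V`
  obtain ⟨c', hc'U, hc'r, hc't, hc'1⟩ : ∃ c', c' ∈ UU M r ∧ c' ∈ ZC Q r ∧ c' ∈ ZC Q t ∧
      (c1 = c' ∨ c1 = r * c') := by
    rcases h.Adj_ZQ Adj_base heZ hc1Q with h1 | h1
    · exact ⟨c1, hc1U, heZ, h1, Or.inl rfl⟩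
    · exact ⟨r * c1, mul_mem hrU hc1U, mul_mem (h.mem_ZC Om_base) heZ, h1,
        Or.inr (h.mul_cancel Om_base _).symm⟩
  have hc'S : ∀ x ∈ S, x * c' = c' * x := by
    intro x hx
    have hxr := hSr x hx
    have h1 : x * c' * x⁻¹ = c' ∨ x * c' * x⁻¹ = r * c' := by
      rcases hc'1 with h2 | h2
      · rw [← h2]; exact hc1S x hx
      · have h3 : c' = r * c1 := by rw [h2, h.mul_cancel Om_base]
        have h4 : x * c' * x⁻¹ = r * (x * c1 * x⁻¹) := by
          calc x * c' * x⁻¹ = (x * r) * c1 * x⁻¹ := by rw [h3]; group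
            _ = _ := by rw [hxr]; group
        rcases hc1S x hx with h5 | h5
        · left; rw [h4, h5, ← h3]
        · right; rw [h4, h5, ← h3]
    rcases h1 with h2 | h2
    · calc x * c' = (x * c' * x⁻¹) * x := by group
        _ = c' * x := by rw [h2]
    · exfalso
      have h3 := inv x hx c' hc'r hc't
      rw [h2] at h3
      apply hrt
      have : r = (r * c') * c'⁻¹ := by group
      rw [this]
      exact mul_mem h3 (inv_mem hc't)
  have hc'M := hcen c' hc'U hc'r hc't hc'S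
  -- `A` normalises `V`
  have hAB : ∀ y ∈ A, y * t * y⁻¹ = t ∨ y * t * y⁻¹ = r * t := by
    intro y hy
    have hyr : y * r = r * y := hy.2.1
    have hyM := hAM hy
    have hyc1 : y * c1 * y⁻¹ = c1 := by
      have h1 : y * c' * y⁻¹ = c' := by rw [hc'M y hyM]; group
      rcases hc'1 with h2 | h2
      · rw [h2]; exact h1
      · calc y * c1 * y⁻¹ = (y * r) * c' * y⁻¹ := by rw [h2]; group
          _ = r * (y * c' * y⁻¹) := by rw [hyr]; group
          _ = c1 := by rw [h1, h2]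
    have ht : t = c1 * e := by
      have hee : e * e = 1 := h.UU_sq heU
      calc t = t * (e * e) := by rw [hee, mul_one]
        _ = c1 * e := by rw [hc1]; group
    have h3 : y * t * y⁻¹ = c1 * (y * e * y⁻¹) := by
      calc y * t * y⁻¹ = y * (c1 * e) * y⁻¹ := by rw [← ht]
        _ = (y * c1 * y⁻¹) * (y * e * y⁻¹) := by group
        _ = _ := by rw [hyc1]
    rcases heA y hy with h4 | h4
    · left; rw [h3, h4, ← ht]
    · right
      rw [h3, h4]
      calc c1 * (r * e) = (c1 * r) * e := by group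
        _ = r * (c1 * e) := by rw [h.UU_comm hc1U hrU]; group
        _ = r * t := by rw [← ht]
  -- conclusion
  intro a b ha hb hab
  obtain ⟨m, hm, hmr, hma⟩ := ha
  obtain ⟨l, hl, hlr, hlb⟩ := hb
  have hmr' : m * r = r * m := by
    calc m * r = (m * r * m⁻¹) * m := by group
      _ = r * m := by rw [hmr]
  have hlr' : l * r = r * l := by
    calc l * r = (l * r * l⁻¹) * l := by group
      _ = r * l := by rw [hlr]
  have hmr'' : m⁻¹ * r = r * m⁻¹ := by
    calc m⁻¹ * r = m⁻¹ * (r * m) * m⁻¹ := by group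
      _ = r * m⁻¹ := by rw [← hmr']; group
  have hx : m⁻¹ * l ∈ A := by
    refine ⟨mul_mem (inv_mem hm) hl, ?_, ?_⟩
    · calc m⁻¹ * l * r = m⁻¹ * (l * r) := by group
        _ = (m⁻¹ * r) * l := by rw [hlr']; group
        _ = r * (m⁻¹ * l) := by rw [hmr'']; group
    · have e1 : t * (m⁻¹ * l * t * (m⁻¹ * l)⁻¹) = m⁻¹ * (a * b) * m⁻¹⁻¹ := by
        rw [← hma, ← hlb]; group
      rw [e1]
      exact (h.ZC_fix hmr'').2 hab
  rcases hAB _ hx with h1 | h1
  · left
    have : b = m * (m⁻¹ * l * t * (m⁻¹ * l)⁻¹) * m⁻¹ := by rw [← hlb]; group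
    rw [this, h1, hma]
  · right
    have : b = m * (m⁻¹ * l * t * (m⁻¹ * l)⁻¹) * m⁻¹ := by rw [← hlb]; group
    rw [this, h1]
    calc m * (r * t) * m⁻¹ = (m * r * m⁻¹) * (m * t * m⁻¹) := by group
      _ = r * a := by rw [hmr, hma]

end Cfsg.Agent.Omega.HOne.TvPar

end

section


/-!
# II.0h1, nonsplit case: the module `V` with `V / D` natural, `D` centralised

`Rig P V D π` : `V` elementary abelian, `V / D` a natural `SL₂(F)`-module for `P` (coordinates `π`), every element of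
`SL₂(F)` is induced by an element of `P` centralising `D`, and elements of `P` centralising `D` and `V / D` centralise `V`.

`Rig.form` : there are additive `e, f : F → V`, `g : F → D` with `π (e z) = (0, z)`, `π (f z) = (z, 0)` such that every
`x ∈ P` centralising `D` and inducing `lo (t²)` on `V / D` acts as `v ↦ e (t² β) g (t β) v`, `β = π v 0`; `g(F)` is
`P`-invariant; if `g = 1` then `V` splits.
-/

set_option autoImplicit false
set_option linter.unusedSectionVars false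

namespace Cfsg.Agent.Omega.HOne.NSMod

open Subgroup Cfsg.Agent.Omega.NatPair Cfsg.Agent.Lib.SL2Mat

variable {G : Type*} [Group G] {F : Type*} [Field F]

/-- `V / D` is natural for `P`, `D` centralised. -/
structure Rig (P V D : Subgroup G) (π : G → Fin 2 → F) : Prop where
  DV : D ≤ V
  Vn : ∀ p ∈ P, ∀ v ∈ V, p * v * p⁻¹ ∈ V
  Dn : ∀ p ∈ P, ∀ v ∈ D, p * v * p⁻¹ ∈ D
  Vc : ∀ v ∈ V, ∀ w ∈ V, v * w = w * v
  Vs : ∀ v ∈ V, v * v = 1
  mul : ∀ v ∈ V, ∀ w ∈ V, π (v * w) = π v + π w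
  surj : ∀ x : Fin 2 → F, ∃ v ∈ V, π v = x
  ker : ∀ v ∈ V, π v = 0 ↔ v ∈ D
  lift : ∀ A : Matrix.SpecialLinearGroup (Fin 2) F, ∃ g ∈ P, (∀ v ∈ V, π (g * v * g⁻¹) = ap A (π v)) ∧
    ∀ d ∈ D, g * d = d * g
  norm : ∀ g ∈ P, ∀ h ∈ P, ∀ A : Matrix.SpecialLinearGroup (Fin 2) F,
    (∀ v ∈ V, π (h * v * h⁻¹) = ap A (π v)) → ∃ B : Matrix.SpecialLinearGroup (Fin 2) F,
      ∀ v ∈ V, π (g * h * g⁻¹ * v * (g * h * g⁻¹)⁻¹) = ap B (π v)
  rig : ∀ g ∈ P, (∀ d ∈ D, g * d = d * g) → (∀ v ∈ V, π (g * v * g⁻¹) = π v) → ∀ v ∈ V, g * v = v * g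

/-- `x` centralises `D` and induces `A` on `V / D`. -/
structure Is (P V D : Subgroup G) (π : G → Fin 2 → F) (x : G) (A : Matrix.SpecialLinearGroup (Fin 2) F) : Prop where
  mem : x ∈ P
  act : ∀ v ∈ V, π (x * v * x⁻¹) = ap A (π v)
  cen : ∀ d ∈ D, x * d = d * x

variable {P V D : Subgroup G} {π : G → Fin 2 → F}

theorem ap_lo (a : F) (x : Fin 2 → F) : ap (lo a) x = ![x 0, a * x 0 + x 1] := by
  apply ext2
  · rw [ap_zero']; simp
  · rw [ap_one']; simp

theorem ap_dg (a : F) (ha : a ≠ 0) (x : Fin 2 → F) : ap (dg a ha) x = ![a * x 0, a⁻¹ * x 1] := by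
  apply ext2
  · rw [ap_zero']; simp
  · rw [ap_one']; simp

theorem ap_wm (a : F) (ha : a ≠ 0) (x : Fin 2 → F) : ap (wm a ha) x = ![a * x 1, -a⁻¹ * x 0] := by
  apply ext2
  · rw [ap_zero']; simp
  · rw [ap_one']; simp

namespace Rig

variable (r : Rig P V D π)

include r

theorem map_one : π 1 = 0 := (r.ker 1 (one_mem V)).2 (one_mem D)

theorem inv {v : G} (hv : v ∈ V) : v⁻¹ = v := inv_eq_of_mul_eq_one_left (r.Vs v hv)

theorem map_inv {v : G} (hv : v ∈ V) : π v⁻¹ = - π v := by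
  have := r.mul v hv v⁻¹ (inv_mem hv)
  rw [mul_inv_cancel, r.map_one] at this
  exact (neg_eq_of_add_eq_zero_right this.symm).symm

theorem two : (2 : F) = 0 := by
  obtain ⟨v, hv, hx⟩ := r.surj ![1, 0]
  have h1 := r.mul v hv v hv
  rw [r.Vs v hv, r.map_one, hx] at h1
  have h2 := congrFun h1 0
  simp only [Pi.zero_apply, Pi.add_apply, Matrix.cons_val_zero] at h2
  rw [← one_add_one_eq_two, ← h2]

theorem is_lift (A : Matrix.SpecialLinearGroup (Fin 2) F) : ∃ x, Is P V D π x A := by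
  obtain ⟨g, hg, h1, h2⟩ := r.lift A
  exact ⟨g, hg, h1, h2⟩

theorem is_mul {x y : G} {A B : Matrix.SpecialLinearGroup (Fin 2) F} (hx : Is P V D π x A) (hy : Is P V D π y B) :
    Is P V D π (x * y) (A * B) where
  mem := mul_mem hx.mem hy.mem
  act v hv := by
    have e : x * y * v * (x * y)⁻¹ = x * (y * v * y⁻¹) * x⁻¹ := by group
    rw [e, hx.act _ (r.Vn y hy.mem v hv), hy.act v hv, ap_mul]
  cen d hd := by
    rw [mul_assoc, hy.cen d hd, ← mul_assoc, hx.cen d hd, mul_assoc]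

theorem is_inv {x : G} {A : Matrix.SpecialLinearGroup (Fin 2) F} (hx : Is P V D π x A) : Is P V D π x⁻¹ A⁻¹ where
  mem := inv_mem hx.mem
  act v hv := by
    have h1 := hx.act _ (r.Vn x⁻¹ (inv_mem hx.mem) v hv)
    have e : x * (x⁻¹ * v * x⁻¹⁻¹) * x⁻¹ = v := by group
    rw [e] at h1
    rw [h1, ap_inv_ap]
  cen d hd := by
    have h1 := hx.cen d hd
    calc x⁻¹ * d = x⁻¹ * (d * x) * x⁻¹ := by group
      _ = x⁻¹ * (x * d) * x⁻¹ := by rw [h1]
      _ = _ := by group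

theorem is_one : Is P V D π 1 1 where
  mem := one_mem _
  act v _ := by rw [one_mul, inv_one, mul_one, ap_one]
  cen d _ := by rw [one_mul, mul_one]

/-- the action of `x` on `V` is determined by the matrix -/
theorem is_eq {x y : G} {A : Matrix.SpecialLinearGroup (Fin 2) F} (hx : Is P V D π x A) (hy : Is P V D π y A) :
    ∀ v ∈ V, x * v * x⁻¹ = y * v * y⁻¹ := by
  have h1 := r.is_mul (r.is_inv hy) hx
  rw [inv_mul_cancel] at h1
  intro v hv
  have h2 := r.rig _ h1.mem h1.cen (fun v hv => by rw [h1.act v hv, ap_one]) v hv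
  have h3 : x * v = y * v * (y⁻¹ * x) := by
    calc x * v = y * (y⁻¹ * x * v) := by group
      _ = y * (v * (y⁻¹ * x)) := by rw [h2]
      _ = _ := by group
  rw [h3]; group

theorem is_conj {p x : G} {A : Matrix.SpecialLinearGroup (Fin 2) F} (hp : p ∈ P) (hx : Is P V D π x A) :
    ∃ B, Is P V D π (p * x * p⁻¹) B := by
  obtain ⟨B, hB⟩ := r.norm p hp x hx.mem A hx.act
  refine ⟨B, mul_mem (mul_mem hp hx.mem) (inv_mem hp), hB, fun d hd => ?_⟩
  have h1 := hx.cen _ (r.Dn p⁻¹ (inv_mem hp) d hd)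
  rw [inv_inv] at h1
  calc p * x * p⁻¹ * d = p * (x * (p⁻¹ * d * p)) * p⁻¹ := by group
    _ = p * (p⁻¹ * d * p * x) * p⁻¹ := by rw [h1]
    _ = _ := by group

omit r in
/-- `[x, v]` -/
def cm (x v : G) : G := x * v * x⁻¹ * v⁻¹

theorem cm_mem {x : G} (hx : x ∈ P) {v : G} (hv : v ∈ V) : cm x v ∈ V := mul_mem (r.Vn x hx v hv) (inv_mem hv)

theorem cm_add {x : G} (hx : x ∈ P) {v w : G} (hv : v ∈ V) (hw : w ∈ V) : cm x (v * w) = cm x v * cm x w := by
  have h1 := r.Vc _ (inv_mem hv) _ (r.cm_mem hx hw)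
  calc cm x (v * w) = x * v * x⁻¹ * (cm x w * v⁻¹) := by unfold cm; group
    _ = x * v * x⁻¹ * (v⁻¹ * cm x w) := by rw [h1]
    _ = _ := by unfold cm; group

theorem cm_D {x : G} {A : Matrix.SpecialLinearGroup (Fin 2) F} (hx : Is P V D π x A) {d : G} (hd : d ∈ D) :
    cm x d = 1 := by
  unfold cm
  rw [hx.cen d hd]; group

theorem π_cm {x : G} {A : Matrix.SpecialLinearGroup (Fin 2) F} (hx : Is P V D π x A) {v : G} (hv : v ∈ V) :
    π (cm x v) = ap A (π v) - π v := by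
  unfold cm
  rw [r.mul _ (r.Vn x hx.mem v hv) _ (inv_mem hv), hx.act v hv, r.map_inv hv, sub_eq_add_neg]

/-- two elements of `V` with the same image have the same `[x, v]` -/
theorem cm_eq {x : G} {A : Matrix.SpecialLinearGroup (Fin 2) F} (hx : Is P V D π x A) {v w : G} (hv : v ∈ V)
    (hw : w ∈ V) (h : π v = π w) : cm x v = cm x w := by
  have h1 : v * w⁻¹ ∈ D := (r.ker _ (mul_mem hv (inv_mem hw))).1 (by
    rw [r.mul v hv _ (inv_mem hw), r.map_inv hw, h, add_neg_cancel])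
  have h2 := r.cm_add hx.mem (r.DV h1) hw
  rw [inv_mul_cancel_right, r.cm_D hx h1, one_mul] at h2
  exact h2

/-- the complement `[V, t]` of `D`, `t` inducing `dg ω`, `ω ≠ 1`: the section `s` -/
theorem exists_sec {ω : F} (h0 : ω ≠ 0) (h1 : ω ≠ 1) :
    ∃ s : (Fin 2 → F) → G, (∀ x, s x ∈ V) ∧ (∀ x, π (s x) = x) ∧ (∀ x y, s (x + y) = s x * s y) ∧
      (∀ t, Is P V D π t (dg ω h0) → ∀ v ∈ V, cm t v = s (π (cm t v))) ∧
      (∀ x, ∀ t, Is P V D π t (dg ω h0) → ∃ v ∈ V, cm t v = s x) := by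
  obtain ⟨t, ht⟩ := r.is_lift (dg ω h0)
  have hω : ω - 1 ≠ 0 := sub_ne_zero.2 h1
  have hω' : ω⁻¹ - 1 ≠ 0 := sub_ne_zero.2 fun h => h1 (inv_eq_one.1 h)
  let y : (Fin 2 → F) → (Fin 2 → F) := fun x => ![(ω - 1)⁻¹ * x 0, (ω⁻¹ - 1)⁻¹ * x 1]
  have hy : ∀ x, ap (dg ω h0) (y x) - y x = x := by
    intro x
    rw [ap_dg]
    apply ext2
    · change ω * ((ω - 1)⁻¹ * x 0) - (ω - 1)⁻¹ * x 0 = x 0
      have : ω * ((ω - 1)⁻¹ * x 0) - (ω - 1)⁻¹ * x 0 = (ω - 1) * (ω - 1)⁻¹ * x 0 := by ring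
      rw [this, mul_inv_cancel₀ hω, one_mul]
    · change ω⁻¹ * ((ω⁻¹ - 1)⁻¹ * x 1) - (ω⁻¹ - 1)⁻¹ * x 1 = x 1
      have : ω⁻¹ * ((ω⁻¹ - 1)⁻¹ * x 1) - (ω⁻¹ - 1)⁻¹ * x 1 = (ω⁻¹ - 1) * (ω⁻¹ - 1)⁻¹ * x 1 := by ring
      rw [this, mul_inv_cancel₀ hω', one_mul]
  have hyi : ∀ x x', ap (dg ω h0) x - x = ap (dg ω h0) x' - x' → x = x' := by
    intro x x' h
    rw [ap_dg, ap_dg] at h
    have e0 := congrFun h 0
    have e1 := congrFun h 1
    simp only [Pi.sub_apply, Matrix.cons_val_zero, Matrix.cons_val_one] at e0 e1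
    apply ext2
    · apply mul_left_cancel₀ hω
      linear_combination e0
    · apply mul_left_cancel₀ hω'
      linear_combination e1
  choose u hu huπ using r.surj
  let s : (Fin 2 → F) → G := fun x => cm t (u (y x))
  have hsπ : ∀ x, π (s x) = x := fun x => by
    rw [r.π_cm ht (hu _), huπ, hy]
  have hsV : ∀ x, s x ∈ V := fun x => r.cm_mem ht.mem (hu _)
  have hkey : ∀ v ∈ V, cm t v = s (π (cm t v)) := by
    intro v hv
    apply r.cm_eq ht hv (hu _)
    rw [huπ]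
    apply hyi
    rw [hy, r.π_cm ht hv]
  refine ⟨s, hsV, hsπ, fun x x' => ?_, fun t' ht' v hv => ?_, fun x t' ht' => ⟨u (y x), hu _, ?_⟩⟩
  · change cm t _ = cm t _ * cm t _
    rw [← r.cm_add ht.mem (hu _) (hu _)]
    apply r.cm_eq ht (hu _) (mul_mem (hu _) (hu _))
    rw [r.mul _ (hu _) _ (hu _), huπ, huπ, huπ]
    apply ext2 <;> simp [y] <;> ring
  · have e : cm t' v = cm t v := by
      unfold cm; rw [r.is_eq ht' ht v hv]
    rw [e]
    exact hkey v hv
  · unfold cm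
    rw [r.is_eq ht' ht _ (hu _)]
    rfl

end Rig

/-- The coordinates of `V`. -/
structure Form (P V D : Subgroup G) (π : G → Fin 2 → F) (e f g : F → G) (N : Subgroup G) : Prop where
  eV : ∀ z, e z ∈ V
  fV : ∀ z, f z ∈ V
  gD : ∀ z, g z ∈ D
  eπ : ∀ z, π (e z) = ![0, z]
  fπ : ∀ z, π (f z) = ![z, 0]
  e_add : ∀ x y, e (x + y) = e x * e y
  f_add : ∀ x y, f (x + y) = f x * f y
  g_add : ∀ x y, g (x + y) = g x * g y
  act : ∀ t x, Is P V D π x (lo (t ^ 2)) → ∀ v ∈ V, x * v * x⁻¹ = e (t ^ 2 * π v 0) * g (t * π v 0) * v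
  gP : ∀ p ∈ P, ∀ y, ∃ y', p * g y * p⁻¹ = g y'
  mN : ∀ z, z ∈ N ↔ ∃ a b y, z = e a * f b * g y
  cN : ∀ x A, Is P V D π x A → ∀ v ∈ V, x * v * x⁻¹ * v⁻¹ ∈ N
  ND : ∀ z ∈ N, z ∈ D → ∃ y, z = g y
  NP : ∀ p ∈ P, ∀ z ∈ N, p * z * p⁻¹ ∈ N

namespace Rig

variable (r : Rig P V D π)

include r

/-- **The module formula.** -/
theorem form [Finite G] (hsq : ∀ b : F, ∃ t, b = t ^ 2) (hω : ∃ ω : F, ω ≠ 0 ∧ ω ≠ 1)
    (hcen : ∀ b x, Is P V D π x (lo b) → ∀ v ∈ V, π v 0 = 0 → x * v = v * x) :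
    ∃ (e f g : F → G) (N : Subgroup G), Form P V D π e f g N := by
  obtain ⟨ω, h0, h1⟩ := hω
  obtain ⟨s, sV, sπ, sadd, st, st'⟩ := r.exists_sec h0 h1
  obtain ⟨t, ht⟩ := r.is_lift (dg ω h0)
  have h2 := r.two
  have hneg : ∀ x : F, -x = x := fun x => by linear_combination (-x) * h2
  have hVc := r.Vc
  have s0 : s 0 = 1 := by
    have := sadd 0 0
    rw [add_zero] at this
    exact left_eq_mul.1 this
  -- `I`
  have hI : ∀ x A, Is P V D π x A → (A * dg ω h0 * A⁻¹ = dg ω h0 ∨ A * dg ω h0 * A⁻¹ = (dg ω h0)⁻¹) → ∀ u,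
      x * s u * x⁻¹ = s (ap A u) := by
    intro x A hx hA u
    obtain ⟨v, hv, e1⟩ := st' u t ht
    have hxv : x * v * x⁻¹ ∈ V := r.Vn x hx.mem v hv
    have e2 : x * s u * x⁻¹ = cm (x * t * x⁻¹) (x * v * x⁻¹) := by rw [← e1]; unfold cm; group
    have hxt := r.is_mul (r.is_mul hx ht) (r.is_inv hx)
    have e3 : π (x * s u * x⁻¹) = ap A u := by rw [hx.act _ (sV u), sπ]
    rcases hA with hA | hA
    · rw [hA] at hxt
      have e4 := st _ hxt _ hxv
      rw [← e2, e3] at e4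
      exact e4
    · rw [hA] at hxt
      have ht' := r.is_inv hxt
      rw [inv_inv] at ht'
      obtain ⟨t', ht'd⟩ : ∃ t', t' = (x * t * x⁻¹)⁻¹ := ⟨_, rfl⟩
      rw [← ht'd] at ht'
      have hw : t'⁻¹ * (x * v * x⁻¹) * t' ∈ V := by
        have := r.Vn t'⁻¹ (inv_mem ht'.mem) _ hxv
        rwa [inv_inv] at this
      have e4 : cm t' (t'⁻¹ * (x * v * x⁻¹) * t') = (x * s u * x⁻¹)⁻¹ := by
        rw [e2, ht'd]; unfold cm; group
      rw [r.inv (r.Vn x hx.mem _ (sV u))] at e4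
      have e5 := st _ ht' _ hw
      rw [e4, e3] at e5
      exact e5
  have hdg : ∀ (a : F) (ha : a ≠ 0), dg a ha * dg ω h0 * (dg a ha)⁻¹ = dg ω h0 := by
    intro a ha
    rw [mul_inv_eq_iff_eq_mul]
    apply ext_ent <;> simp [ent_mul] <;> ring
  have hwm : wm (1 : F) one_ne_zero * dg ω h0 * (wm (1 : F) one_ne_zero)⁻¹ = (dg ω h0)⁻¹ := by
    rw [mul_inv_eq_iff_eq_mul, ← mul_right_inj (dg ω h0), mul_inv_cancel_left]
    apply ext_ent <;> simp [ent_mul, h0]
  let e : F → G := fun z => s ![0, z]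
  let f : F → G := fun z => s ![z, 0]
  have e_add : ∀ x y, e (x + y) = e x * e y := fun x y => by
    change s _ = s _ * s _
    rw [← sadd]
    congr 1
    apply ext2 <;> simp
  have f_add : ∀ x y, f (x + y) = f x * f y := fun x y => by
    change s _ = s _ * s _
    rw [← sadd]
    congr 1
    apply ext2 <;> simp
  have e0 : e 0 = 1 := by
    have := e_add 0 0
    rw [add_zero] at this
    exact left_eq_mul.1 this
  have f0 : f 0 = 1 := by
    have := f_add 0 0
    rw [add_zero] at this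
    exact left_eq_mul.1 this
  have sef : ∀ u, s u = e (u 1) * f (u 0) := fun u => by
    change s u = s _ * s _
    rw [← sadd]
    congr 1
    apply ext2 <;> simp
  -- torus
  have dge : ∀ (a : F) (ha : a ≠ 0) (x : G), Is P V D π x (dg a ha) → ∀ z, x * e z * x⁻¹ = e (a⁻¹ * z) ∧
      x * f z * x⁻¹ = f (a * z) := by
    intro a ha x hx z
    constructor
    · rw [hI x _ hx (Or.inl (hdg a ha)), ap_dg]
      congr 1
      apply ext2 <;> simp
    · rw [hI x _ hx (Or.inl (hdg a ha)), ap_dg]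
      congr 1
      apply ext2 <;> simp
  -- `cm x (f z)` for `x` of type `lo b`
  have hγ : ∀ b x, Is P V D π x (lo b) → ∀ z, (e (b * z))⁻¹ * cm x (f z) ∈ D := by
    intro b x hx z
    rw [← r.ker _ (mul_mem (inv_mem (sV _)) (r.cm_mem hx.mem (sV _))),
      r.mul _ (inv_mem (sV _)) _ (r.cm_mem hx.mem (sV _)), r.map_inv (sV _), r.π_cm hx (sV _), sπ, sπ, ap_lo]
    apply ext2 <;> simp
  choose l hl using fun b : F => r.is_lift (lo b)
  let γ : F → F → G := fun b z => (e (b * z))⁻¹ * cm (l b) (f z)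
  have hγD : ∀ b z, γ b z ∈ D := fun b z => hγ b _ (hl b) z
  have hcm : ∀ b x, Is P V D π x (lo b) → ∀ z, cm x (f z) = e (b * z) * γ b z := by
    intro b x hx z
    have : cm x (f z) = cm (l b) (f z) := by unfold cm; rw [r.is_eq hx (hl b) _ (sV _)]
    rw [this]
    change _ = e (b * z) * ((e (b * z))⁻¹ * _)
    rw [mul_inv_cancel_left]
  have hγz : ∀ b z z', γ b (z + z') = γ b z * γ b z' := by
    intro b z z'
    change (e (b * (z + z')))⁻¹ * cm (l b) (f (z + z')) = _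
    rw [f_add, r.cm_add (hl b).mem (sV _) (sV _), mul_add, e_add, hcm b _ (hl b), hcm b _ (hl b)]
    have m1 := sV ![0, b * z]
    have m2 := sV ![0, b * z']
    have m3 := r.DV (hγD b z)
    have c1 := hVc _ m3 _ m2
    have c2 := hVc _ m1 _ m2
    change γ b z * e (b * z') = e (b * z') * γ b z at c1
    change e (b * z) * e (b * z') = e (b * z') * e (b * z) at c2
    calc (e (b * z) * e (b * z'))⁻¹ * (e (b * z) * γ b z * (e (b * z') * γ b z'))
        = (e (b * z) * e (b * z'))⁻¹ * (e (b * z) * (γ b z * e (b * z')) * γ b z') := by group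
      _ = (e (b * z) * e (b * z'))⁻¹ * (e (b * z) * (e (b * z') * γ b z) * γ b z') := by rw [c1]
      _ = _ := by group
  have hγt : ∀ a (_ : a ≠ 0) b z, γ (b * a⁻¹ ^ 2) (a * z) = γ b z := by
    intro a ha b z
    obtain ⟨y, hy⟩ := r.is_lift (dg a ha)
    have hyl := r.is_mul (r.is_mul hy (hl b)) (r.is_inv hy)
    have e1 : dg a ha * lo b * (dg a ha)⁻¹ = lo (b * a⁻¹ ^ 2) := by
      rw [mul_inv_eq_iff_eq_mul]
      apply ext_ent <;> simp [ent_mul]
      field_simp
    rw [e1] at hyl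
    have e2 : y * cm (l b) (f z) * y⁻¹ = cm (y * l b * y⁻¹) (y * f z * y⁻¹) := by unfold cm; group
    rw [(dge a ha y hy z).2, hcm _ _ hyl, hcm b _ (hl b)] at e2
    have e3 : y * (e (b * z) * γ b z) * y⁻¹ = (y * e (b * z) * y⁻¹) * γ b z := by
      have := hy.cen _ (hγD b z)
      calc y * (e (b * z) * γ b z) * y⁻¹ = (y * e (b * z) * y⁻¹) * (y * γ b z * y⁻¹) := by group
        _ = _ := by rw [this]; group
    rw [e3, (dge a ha y hy _).1] at e2
    have e4 : a⁻¹ * (b * z) = b * a⁻¹ ^ 2 * (a * z) := by field_simp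
    rw [e4] at e2
    exact (mul_left_cancel e2).symm
  let g : F → G := fun y => γ 1 y
  have gD : ∀ y, g y ∈ D := fun y => hγD 1 y
  have g_add : ∀ x y, g (x + y) = g x * g y := fun x y => hγz 1 x y
  have g0 : g 0 = 1 := by
    have := g_add 0 0
    rw [add_zero] at this
    exact left_eq_mul.1 this
  have hγ0 : ∀ z, γ 0 z = 1 := by
    intro z
    change (e (0 * z))⁻¹ * cm (l 0) (f z) = 1
    have h3 : cm (l 0) (f z) = cm 1 (f z) := by
      unfold cm
      have := hl 0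
      rw [lo_zero] at this
      rw [r.is_eq this r.is_one _ (sV _)]
    rw [h3, zero_mul, e0]
    unfold cm; group
  have hγsq : ∀ a z, γ (a ^ 2) z = g (a * z) := by
    intro a z
    by_cases ha : a = 0
    · subst ha
      rw [zero_pow two_ne_zero, hγ0, zero_mul, g0]
    · rw [← hγt a ha]
      change _ = γ 1 (a * z)
      congr 1
      field_simp
  have hact : ∀ t x, Is P V D π x (lo (t ^ 2)) → ∀ v ∈ V, cm x v = e (t ^ 2 * π v 0) * g (t * π v 0) := by
    intro t x hx v hv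
    have e1 : cm x v = cm x (f (π v 0) * e (π v 1)) := by
      apply r.cm_eq hx hv (mul_mem (sV _) (sV _))
      rw [r.mul _ (sV _) _ (sV _), sπ, sπ]
      apply ext2 <;> simp
    have e2 : cm x (e (π v 1)) = 1 := by
      have h3 : x * e (π v 1) = e (π v 1) * x := hcen _ x hx _ (sV _) (by rw [sπ]; simp)
      unfold cm
      rw [h3]
      group
    rw [e1, r.cm_add hx.mem (sV _) (sV _), e2, mul_one, hcm _ x hx, hγsq]
  have hDc : ∀ d ∈ D, ∀ v ∈ V, d * v = v * d := fun d hd v hv => hVc d (r.DV hd) v hv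
  -- `N`
  have smul : ∀ a b y a' b' y', (e a * f b * g y) * (e a' * f b' * g y') = e (a + a') * f (b + b') * g (y + y') := by
    intro a b y a' b' y'
    rw [e_add, f_add, g_add]
    have c1 := hDc _ (gD y) _ (mul_mem (sV ![0, a']) (sV ![b', 0]))
    change g y * (e a' * f b') = (e a' * f b') * g y at c1
    have c2 := hVc _ (sV ![b, 0]) _ (sV ![0, a'])
    change f b * e a' = e a' * f b at c2
    calc (e a * f b * g y) * (e a' * f b' * g y') = e a * f b * (g y * (e a' * f b')) * g y' := by group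
      _ = e a * f b * ((e a' * f b') * g y) * g y' := by rw [c1]
      _ = e a * (f b * e a') * f b' * g y * g y' := by group
      _ = e a * (e a' * f b) * f b' * g y * g y' := by rw [c2]
      _ = _ := by group
  let N : Subgroup G :=
    { carrier := {z | ∃ a b y, z = e a * f b * g y}
      one_mem' := ⟨0, 0, 0, by rw [e0, f0, g0]; simp⟩
      mul_mem' := by
        rintro _ _ ⟨a, b, y, rfl⟩ ⟨a', b', y', rfl⟩
        exact ⟨_, _, _, smul _ _ _ _ _ _⟩
      inv_mem' := by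
        rintro _ ⟨a, b, y, rfl⟩
        have h3 : e a * f b * g y ∈ V := mul_mem (mul_mem (sV _) (sV _)) (r.DV (gD y))
        exact ⟨a, b, y, r.inv h3⟩ }
  have hNs : ∀ u, s u ∈ N := fun u => ⟨u 1, u 0, 0, by rw [g0, mul_one, ← sef]⟩
  have hNg : ∀ y, g y ∈ N := fun y => ⟨0, 0, y, by rw [e0, f0]; simp⟩
  -- `SL₂` acts on `N`
  have hN1 : ∀ x A, Is P V D π x A → (∀ u, x * s u * x⁻¹ ∈ N) → ∀ z ∈ N, x * z * x⁻¹ ∈ N := by
    rintro x A hx hs z ⟨a, b, y, rfl⟩
    have h3 := hx.cen _ (gD y)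
    have h4 : x * (e a * f b * g y) * x⁻¹ = (x * e a * x⁻¹) * (x * f b * x⁻¹) * (x * g y * x⁻¹) := by group
    rw [h4, h3, mul_inv_cancel_right]
    exact mul_mem (mul_mem (hs _) (hs _)) (hNg y)
  let K : Subgroup (Matrix.SpecialLinearGroup (Fin 2) F) :=
    { carrier := {A | ∀ x, Is P V D π x A → ∀ z ∈ N, x * z * x⁻¹ ∈ N}
      one_mem' := fun x hx z hz => by
        have hzV : z ∈ V := by
          obtain ⟨a, b, y, rfl⟩ := hz
          exact mul_mem (mul_mem (sV _) (sV _)) (r.DV (gD y))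
        rw [r.is_eq hx r.is_one z hzV, one_mul, inv_one, mul_one]
        exact hz
      mul_mem' := by
        intro A B hA hB x hx z hz
        obtain ⟨y, hy⟩ := r.is_lift B
        have h3 := r.is_mul hx (r.is_inv hy)
        rw [mul_inv_cancel_right] at h3
        have h4 := hA _ h3 _ (hB y hy z hz)
        have h5 : x * y⁻¹ * (y * z * y⁻¹) * (x * y⁻¹)⁻¹ = x * z * x⁻¹ := by group
        rwa [h5] at h4
      inv_mem' := by
        intro A hA x hx z hz
        have h3 := r.is_inv hx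
        rw [inv_inv] at h3
        have h4 := hA _ h3
        have h5 : Function.Surjective (fun w : N => (⟨x⁻¹ * w * x⁻¹⁻¹, h4 w w.2⟩ : N)) := by
          apply Finite.surjective_of_injective
          intro a b hab
          have h6 : x⁻¹ * (a : G) * x⁻¹⁻¹ = x⁻¹ * b * x⁻¹⁻¹ := congrArg Subtype.val hab
          exact Subtype.ext (mul_left_cancel (mul_right_cancel h6))
        obtain ⟨w, hw⟩ := h5 ⟨z, hz⟩
        have h6 : x⁻¹ * (w : G) * x⁻¹⁻¹ = z := congrArg Subtype.val hw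
        have h7 : x * z * x⁻¹ = w := by rw [← h6]; group
        rw [h7]
        exact w.2 }
  have hlo : ∀ b, lo b ∈ K := by
    intro b x hx
    obtain ⟨a, rfl⟩ := hsq b
    refine hN1 x _ hx fun u => ?_
    have h3 := hact a x hx _ (sV u)
    have h4 : x * s u * x⁻¹ = cm x (s u) * s u := by unfold cm; group
    rw [h4, h3]
    exact mul_mem (mul_mem (hNs _) (hNg _)) (hNs _)
  have hwmK : wm (1 : F) one_ne_zero ∈ K := by
    intro x hx
    refine hN1 x _ hx fun u => ?_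
    rw [hI x _ hx (Or.inr hwm)]
    exact hNs _
  have hup : ∀ b, up b ∈ K := by
    intro b
    have h3 := wm_lo (1 : F) (-b) one_ne_zero
    rw [one_pow, mul_one, neg_neg] at h3
    have h4 : up b = wm (1 : F) one_ne_zero * lo (-b) * (wm (1 : F) one_ne_zero)⁻¹ := by
      rw [h3, mul_inv_cancel_right]
    rw [h4]
    exact mul_mem (mul_mem hwmK (hlo _)) (inv_mem hwmK)
  have hK : ∀ A, A ∈ K := by
    intro A
    obtain ⟨a, b, c, d, rfl⟩ := exists_up_lo A
    exact mul_mem (mul_mem (mul_mem (hup _) (hlo _)) (hup _)) (hlo _)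
  have hcN : ∀ x A, Is P V D π x A → ∀ v ∈ V, cm x v ∈ N := by
    intro x A hx v hv
    have h3 : cm x v = cm x (s (π v)) := r.cm_eq hx hv (sV _) (sπ _).symm
    rw [h3]
    exact mul_mem (hK A x hx _ (hNs _)) (inv_mem (hNs _))
  have hND : ∀ z ∈ N, z ∈ D → ∃ y, z = g y := by
    rintro _ ⟨a, b, y, rfl⟩ hD
    have h3 : π (e a * f b * g y) = 0 :=
      (r.ker _ (mul_mem (mul_mem (sV _) (sV _)) (r.DV (gD y)))).2 hD
    rw [r.mul _ (mul_mem (sV _) (sV _)) _ (r.DV (gD y)), r.mul _ (sV _) _ (sV _), sπ, sπ,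
      (r.ker _ (r.DV (gD y))).2 (gD y)] at h3
    have h4 := congrFun h3 0
    have h5 := congrFun h3 1
    simp at h4 h5
    subst h4 h5
    exact ⟨y, by rw [e0, f0]; simp⟩
  have hgP : ∀ p ∈ P, ∀ y, ∃ y', p * g y * p⁻¹ = g y' := by
    intro p hp y
    obtain ⟨x, hx⟩ := r.is_lift (lo (1 ^ 2 : F))
    have h3 := hact 1 x hx (f y) (sV _)
    have hfy : π (f y) 0 = y := by
      change π (s _) 0 = y
      rw [sπ]; simp
    rw [hfy, one_pow, one_mul] at h3
    obtain ⟨v, hv, h4⟩ := st' ![0, y] t ht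
    have h5 : g y = (cm t v)⁻¹ * cm x (f y) := by rw [h3, h4]; change g y = (e y)⁻¹ * _; group
    have h6 : p * g y * p⁻¹ = (cm (p * t * p⁻¹) (p * v * p⁻¹))⁻¹ * cm (p * x * p⁻¹) (p * f y * p⁻¹) := by
      rw [h5]; unfold cm; group
    obtain ⟨B, hB⟩ := r.is_conj hp ht
    obtain ⟨B', hB'⟩ := r.is_conj hp hx
    apply hND
    · rw [h6]
      exact mul_mem (inv_mem (hcN _ _ hB _ (r.Vn p hp v hv))) (hcN _ _ hB' _ (r.Vn p hp _ (sV _)))
    · exact r.Dn p hp _ (gD y)
  refine ⟨e, f, g, N, fun z => sV _, fun z => sV _, gD, fun z => sπ _, fun z => sπ _, e_add, f_add, g_add,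
    fun a x hx v hv => ?_, hgP, fun z => Iff.rfl, fun x A hx v hv => hcN x A hx v hv, hND, fun p hp z hz => ?_⟩
  · have h3 := hact a x hx v hv
    have h4 : x * v * x⁻¹ = cm x v * v := by unfold cm; group
    rw [h4, h3]
  · obtain ⟨a, b, y, rfl⟩ := hz
    obtain ⟨v, hv, h4⟩ := st' ![b, a] t ht
    have h5 : e a * f b = cm t v := by
      rw [h4, sef]; simp
    obtain ⟨y', hy'⟩ := hgP p hp y
    obtain ⟨B, hB⟩ := r.is_conj hp ht
    have h6 : p * (e a * f b * g y) * p⁻¹ = cm (p * t * p⁻¹) (p * v * p⁻¹) * (p * g y * p⁻¹) := by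
      rw [h5]; unfold cm; group
    rw [h6, hy']
    exact mul_mem (hcN _ _ hB _ (r.Vn p hp v hv)) (hNg _)

end Rig

end Cfsg.Agent.Omega.HOne.NSMod

end
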