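import Cfsg.Agent.Mrg.Omega.HOne.QuadAbs
import Mathlib
import Cfsg.Agent.Lib.NormalAbelian

section


/-!
# II.0h1, `q = 2`, case (beta): (4), (5), (6) of #15959

* `TvH.jOpp : JOpp M r t Q N`;
* `TvH.jNon : JNon M r t N`.
-/

set_option autoImplicit false
set_option linter.unusedSectionVars false

namespace Cfsg.Agent.Omega.HOne.TvDef

open Subgroup

variable {G : Type*} [Group G] {M : Subgroup G} {r t : G} {Q N : G → Subgroup G}

/-- the elements of `I_s` moved by `n` modulo `K_s` -/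
def mvs (M : Subgroup G) (r : G) (Q : G → Subgroup G) (s n : G) : Set G :=
  {u | u ∈ UU M r ∧ u ∈ Q s ∧ n * u * n⁻¹ * u⁻¹ ∉ ZC Q s}

namespace TvH

variable (h : TvH M r t Q N)
include h

theorem Adj_UU {s a : G} (ha : Adj M r t s a) : a ∈ UU M r := Om_le_UU (h.Adj_right ha)

/-- `x y x = y` in `U` -/
theorem UU_cancel {x y : G} (hx : x ∈ UU M r) (hy : y ∈ UU M r) : x * y * x = y := by
  rw [h.UU_comm hx hy, mul_assoc, h.UU_sq hx, mul_one]

theorem UU_cancel' {x : G} (hx : x ∈ UU M r) (y : G) : x * (x * y) = y := by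
  rw [← mul_assoc, h.UU_sq hx, one_mul]

/-- `[n, u]` for `n ∈ N a`, `u ∈ I_s` -/
theorem cm {s a u n : G} (ha : Adj M r t s a) (hu : u ∈ UU M r) (hus : u ∈ Q s) (hn : n ∈ N a) :
    n * u * n⁻¹ * u⁻¹ ∈ UU M r ∧ n * u * n⁻¹ * u⁻¹ ∈ ZC Q a ∧
      (n * u * n⁻¹ * u⁻¹ ∈ ZC Q s ∨ a * (n * u * n⁻¹ * u⁻¹) ∈ ZC Q s) := by
  have h1 := UU_comm_mem (h.N_le_M (h.Adj_right ha) hn) hu
  have h2 := h.UU_inv h1
  have e : n * u * n⁻¹ * u⁻¹ = u * n * u⁻¹ * n⁻¹ := by
    rw [← h2]; group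
  obtain ⟨h3, -, h4⟩ := h.comm_IN ha hu hus hn
  rw [← e] at h3 h4
  exact ⟨h1, h3, h4⟩

/-- if `n ∈ N a` fixes the line `⟨s, b⟩` modulo `K_s` then it centralises `b` -/
theorem fix_of {s a b n : G} (ha : Adj M r t s a) (hb : Adj M r t s b) (hn : n ∈ N a)
    (hz : n * b * n⁻¹ * b⁻¹ ∈ ZC Q s) : n * b * n⁻¹ = b := by
  have hbU := h.Adj_UU hb
  have hb' := h.Adj_N ha hb hn
  have hbU' := h.Adj_UU hb'
  have e : n * b * n⁻¹ * b⁻¹ = b * (n * b * n⁻¹) := by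
    rw [h.UU_inv hbU, h.UU_comm hbU' hbU]
  rw [e] at hz
  rcases h.noPar_at hb hb' hz with h1 | h1
  · exact h1
  · exfalso
    have h2 := (h.cm ha hbU (h.Adj_mem hb) hn).2.1
    rw [h1, mul_inv_cancel_right] at h2
    exact h.not_both ha h2

/-- `n` commutes with the elements of `Z(Q a)` -/
theorem N_ZC {a n c : G} (ha : a ∈ Om M r) (hn : n ∈ N a) (hc : c ∈ ZC Q a) : n * c * n⁻¹ = c := by
  rw [← h.ZC_comm hc (h.N_le_Q ha hn), mul_inv_cancel_right]

theorem N_fix_self {a n : G} (ha : a ∈ Om M r) (hn : n ∈ N a) : n * a * n⁻¹ = a :=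
  h.N_ZC ha hn (h.mem_ZC ha)

theorem N_fix_s {s a n : G} (ha : Adj M r t s a) (hn : n ∈ N a) : n * s * n⁻¹ = s := by
  rw [h.N_comm ha hn, mul_inv_cancel_right]

/-- if `n ∈ N a` moves `b` -/
theorem mv_c {s a b n : G} (ha : Adj M r t s a) (hb : Adj M r t s b) (hn : n ∈ N a)
    (hne : n * b * n⁻¹ ≠ b) :
    ∃ c, c ∈ UU M r ∧ c ∈ ZC Q s ∧ c ∈ ZC Q a ∧ n * b * n⁻¹ = a * b * c := by
  have hbU := h.Adj_UU hb
  have haU := h.Adj_UU ha
  obtain ⟨h1, h2, h3⟩ := h.cm ha hbU (h.Adj_mem hb) hn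
  have h4 := h3.resolve_left fun hz => hne (h.fix_of ha hb hn hz)
  refine ⟨a * (n * b * n⁻¹ * b⁻¹), mul_mem haU h1, h4, mul_mem (h.mem_ZC (h.Adj_right ha)) h2, ?_⟩
  have e := h.UU_comm haU hbU
  calc n * b * n⁻¹ = b * (n * b * n⁻¹ * b⁻¹) := by
        rw [h.UU_comm hbU h1]; group
    _ = b * (a * a) * (n * b * n⁻¹ * b⁻¹) := by rw [h.UU_sq haU, mul_one]
    _ = a * b * (a * (n * b * n⁻¹ * b⁻¹)) := by rw [e]; group

theorem mv_uniq {s a b n m c : G} (ha : Adj M r t s a) (hb : Adj M r t s b) (hn : n ∈ N a) (hm : m ∈ N a)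
    (hcU : c ∈ UU M r) (hcs : c ∈ ZC Q s) (hnb : n * b * n⁻¹ = a * b * c) :
    m * b * m⁻¹ = b ∨ m * b * m⁻¹ = a * b * c := by
  by_cases hne : m * b * m⁻¹ = b
  · exact Or.inl hne
  right
  obtain ⟨c', hcU', hcs', hca', e'⟩ := h.mv_c ha hb hm hne
  have hbU := h.Adj_UU hb
  have haU := h.Adj_UU ha
  have hA := h.Adj_right ha
  have e1 : n * m * b * (n * m)⁻¹ = b * (c * c') := by
    calc n * m * b * (n * m)⁻¹ = n * (m * b * m⁻¹) * n⁻¹ := by group
      _ = (n * a * n⁻¹) * (n * b * n⁻¹) * (n * c' * n⁻¹) := by rw [e']; group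
      _ = a * (a * b * c) * c' := by rw [h.N_fix_self hA hn, hnb, h.N_ZC hA hn hca']
      _ = (a * a) * b * c * c' := by group
      _ = b * (c * c') := by rw [h.UU_sq haU]; group
  have h1 := h.fix_of ha hb (mul_mem hn hm) (by
    rw [e1, h.UU_comm hbU (mul_mem hcU hcU'), mul_inv_cancel_right]
    exact mul_mem hcs hcs')
  rw [e1, mul_eq_left] at h1
  have h2 : c' = c := by
    have h3 : c * (c * c') = c * 1 := by rw [h1]
    rwa [h.UU_cancel' hcU, mul_one] at h3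
  rw [e', h2]

/-! ### the action modulo `K_s` -/

/-- `K_s` is normalised by the elements commuting with `s` -/
theorem K_conj {s g x : G} (hg : g * s = s * g) (hx : x ∈ ZC Q s) : g * x * g⁻¹ ∈ ZC Q s :=
  (h.ZC_fix hg).2 hx

theorem inv_comm {g s : G} (hg : g * s = s * g) : g⁻¹ * s = s * g⁻¹ := by
  have _ := h
  rw [inv_mul_eq_iff_eq_mul, ← mul_assoc, hg, mul_inv_cancel_right]

/-- `[m⁻¹, u] ∈ K_s` iff `[m, u] ∈ K_s` -/
theorem cm_inv {s m u : G} (hm : m * s = s * m) (hz : m * u * m⁻¹ * u⁻¹ ∈ ZC Q s) : m⁻¹ * u * m⁻¹⁻¹ * u⁻¹ ∈ ZC Q s := by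
  have h1 := h.K_conj (h.inv_comm hm) (inv_mem hz)
  have e : m⁻¹ * (m * u * m⁻¹ * u⁻¹)⁻¹ * m⁻¹⁻¹ = m⁻¹ * u * m⁻¹⁻¹ * u⁻¹ := by group
  rwa [e] at h1

/-- the functional of a commutator -/
theorem mvs_comm {s a b n m c : G} (ha : Adj M r t s a) (hb : Adj M r t s b) (hn : n ∈ N a) (hm : m ∈ N b)
    (hma : m * a * m⁻¹ = a) (hcs : c ∈ ZC Q s) (hnb : n * b * n⁻¹ = a * b * c) :
    mvs M r Q s (m * n * m⁻¹ * n⁻¹) = mvs M r Q s m := by
  have hbU := h.Adj_UU hb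
  have haU := h.Adj_UU ha
  have hA := h.Adj_right ha
  have hB := h.Adj_right hb
  have hnM := h.N_le_M hA hn
  have hmM := h.N_le_M hB hm
  have hns := h.N_comm ha hn
  have hms := h.N_comm hb hm
  have key : ∀ u ∈ UU M r, u ∈ Q s → (m * n * m⁻¹ * n⁻¹ * u * (m * n * m⁻¹ * n⁻¹)⁻¹ * u⁻¹ ∈ ZC Q s ↔
      m * u * m⁻¹ * u⁻¹ ∈ ZC Q s) := by
    intro u hu hus
    -- `v = n⁻¹ u n = d₁ u`
    obtain ⟨d₁, hd₁⟩ : ∃ d, d = n⁻¹ * u * n⁻¹⁻¹ * u⁻¹ := ⟨_, rfl⟩
    obtain ⟨hd₁U, -, hd₁'⟩ := h.cm ha hu hus (inv_mem hn)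
    rw [← hd₁] at hd₁U hd₁'
    obtain ⟨v, hv⟩ : ∃ v, v = n⁻¹ * u * n⁻¹⁻¹ := ⟨_, rfl⟩
    have hvU : v ∈ UU M r := by rw [hv]; exact UU_conj (M.inv_mem hnM) hu
    have hvs : v ∈ Q s := by rw [hv]; exact (h.Q_fix (h.inv_comm hns)).2 hus
    have hvd : v = d₁ * u := by rw [hv, hd₁]; group
    -- `m⁻¹` on `d₁`
    have hmd : m⁻¹ * d₁ * m⁻¹⁻¹ * d₁⁻¹ ∈ ZC Q s := by
      rcases hd₁' with h1 | h1
      · exact mul_mem (h.K_conj (h.inv_comm hms) h1) (inv_mem h1)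
      · have h2 : m⁻¹ * a * m⁻¹⁻¹ = a := by
          nth_rewrite 1 [← hma]; group
        have h3 := mul_mem (h.K_conj (h.inv_comm hms) h1) (inv_mem h1)
        have e : m⁻¹ * (a * d₁) * m⁻¹⁻¹ * (a * d₁)⁻¹ = m⁻¹ * d₁ * m⁻¹⁻¹ * d₁⁻¹ := by
          have h4 := h.UU_comm haU (mul_mem (UU_conj (M.inv_mem hmM) hd₁U) (inv_mem hd₁U))
          calc m⁻¹ * (a * d₁) * m⁻¹⁻¹ * (a * d₁)⁻¹
              = (m⁻¹ * a * m⁻¹⁻¹) * (m⁻¹ * d₁ * m⁻¹⁻¹ * d₁⁻¹) * a⁻¹ := by group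
            _ = (a * (m⁻¹ * d₁ * m⁻¹⁻¹ * d₁⁻¹)) * a⁻¹ := by rw [h2]
            _ = _ := by rw [h4, mul_inv_cancel_right]
        rwa [e] at h3
    -- `m⁻¹` moves `v` iff `m` moves `u`
    obtain ⟨d₂, hd₂⟩ : ∃ d, d = m⁻¹ * v * m⁻¹⁻¹ * v⁻¹ := ⟨_, rfl⟩
    obtain ⟨hd₂U, -, hd₂'⟩ := h.cm hb hvU hvs (inv_mem hm)
    rw [← hd₂] at hd₂U hd₂'
    have e2 : d₂ = (m⁻¹ * d₁ * m⁻¹⁻¹ * d₁⁻¹) * (m⁻¹ * u * m⁻¹⁻¹ * u⁻¹) := by
      have h4 := h.UU_comm (inv_mem hd₁U) (mul_mem (UU_conj (M.inv_mem hmM) hu) (inv_mem hu))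
      calc d₂ = (m⁻¹ * d₁ * m⁻¹⁻¹) * ((m⁻¹ * u * m⁻¹⁻¹ * u⁻¹) * d₁⁻¹) := by rw [hd₂, hvd]; group
        _ = _ := by rw [← h4]; group
    have e3 : d₂ ∈ ZC Q s ↔ m * u * m⁻¹ * u⁻¹ ∈ ZC Q s := by
      rw [e2, mul_mem_cancel_left hmd]
      constructor
      · intro h1
        have h2 := h.cm_inv (h.inv_comm hms) h1
        rwa [inv_inv] at h2
      · exact h.cm_inv hms
    -- the commutator
    have e4 : m * n * m⁻¹ * n⁻¹ * u * (m * n * m⁻¹ * n⁻¹)⁻¹ * u⁻¹ =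
        (m * n * d₂ * (m * n)⁻¹) * (m * u * m⁻¹ * u⁻¹) := by
      calc m * n * m⁻¹ * n⁻¹ * u * (m * n * m⁻¹ * n⁻¹)⁻¹ * u⁻¹
          = m * n * (m⁻¹ * v * m⁻¹⁻¹) * (m * n)⁻¹ * u⁻¹ := by rw [hv]; group
        _ = m * n * (d₂ * v) * (m * n)⁻¹ * u⁻¹ := by rw [hd₂]; group
        _ = _ := by rw [hv]; group
    have hmn : m * n * s = s * (m * n) := by rw [mul_assoc, hns, ← mul_assoc, hms, mul_assoc]
    rw [e4]
    by_cases hd : d₂ ∈ ZC Q s
    · rw [mul_mem_cancel_left (h.K_conj hmn hd)]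
    · have h1 := hd₂'.resolve_left hd
      -- `d₂ = b k`
      have hdm := fun x => hd (e3.2 x)
      refine iff_of_false ?_ hdm
      have h2 := (h.cm hb hu hus hm).2.2.resolve_left hdm
      intro h3
      -- `m n d₂ ... = a b k'`
      have e5 : m * n * (b * d₂) * (m * n)⁻¹ = a * b * (m * c * m⁻¹) * (m * n * d₂ * (m * n)⁻¹) := by
        calc m * n * (b * d₂) * (m * n)⁻¹ = m * (n * b * n⁻¹) * m⁻¹ * (m * n * d₂ * (m * n)⁻¹) := by group
          _ = (m * a * m⁻¹) * (m * b * m⁻¹) * (m * c * m⁻¹) * (m * n * d₂ * (m * n)⁻¹) := by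
            rw [hnb]; group
          _ = _ := by rw [hma, h.N_fix_self hB hm]
      have h6 := h.K_conj hmn h1
      have hk := h.K_conj hms hcs
      rw [e5] at h6
      have hcU' : m * c * m⁻¹ ∈ ZC Q s := hk
      -- `a b (m n d₂ ...) ∈ K_s`
      obtain ⟨x, hx⟩ : ∃ x, x = m * n * d₂ * (m * n)⁻¹ := ⟨_, rfl⟩
      obtain ⟨y, hy⟩ : ∃ y, y = m * u * m⁻¹ * u⁻¹ := ⟨_, rfl⟩
      have hxU : x ∈ UU M r := by rw [hx]; exact UU_conj (mul_mem hmM hnM) hd₂U
      have hyU : y ∈ UU M r := by rw [hy]; exact UU_comm_mem hmM hu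
      rw [← hx] at h6 h3
      rw [← hy] at h3 h2
      have hcUU : c ∈ UU M r := by
        have : c = (a * b)⁻¹ * (n * b * n⁻¹) := by rw [hnb]; group
        rw [this]
        exact mul_mem (inv_mem (mul_mem haU hbU)) (UU_conj hnM hbU)
      have hkU : m * c * m⁻¹ ∈ UU M r := UU_conj hmM hcUU
      have h7 : a * b * x ∈ ZC Q s := by
        have e6 : a * b * x = (a * b * (m * c * m⁻¹) * x) * (m * c * m⁻¹)⁻¹ := by
          rw [mul_assoc (a * b), h.UU_comm hkU hxU]; group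
        rw [e6]
        exact mul_mem h6 (inv_mem hk)
      -- `a ∈ K_s`
      have h8 : a ∈ ZC Q s := by
        have e7 : a = (a * b * x) * (x * y) * (b * y) := by
          have e8 := h.UU_comm hyU hbU
          calc a = a * (b * (x * x) * (y * (y * b))) := by
                rw [h.UU_sq hxU, h.UU_cancel' hyU, mul_one, h.UU_sq hbU, mul_one]
            _ = (a * b * x) * (x * y) * (y * b) := by group
            _ = _ := by rw [e8]
        rw [e7]
        exact mul_mem (mul_mem h7 h3) h2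
      exact h.Adj_not_mem ha h8
  ext u
  constructor
  · rintro ⟨hu, hus, h1⟩
    exact ⟨hu, hus, fun h2 => h1 ((key u hu hus).2 h2)⟩
  · rintro ⟨hu, hus, h1⟩
    exact ⟨hu, hus, fun h2 => h1 ((key u hu hus).1 h2)⟩

/-- conjugation of `mvs` -/
theorem mvs_conj {s g n : G} (hg : g ∈ M) (hgs : g * s = s * g) :
    mvs M r Q s (g * n * g⁻¹) = (fun x => g * x * g⁻¹) '' mvs M r Q s n := by
  have hg' := h.inv_comm hgs
  ext u
  constructor
  · rintro ⟨hu, hus, h1⟩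
    refine ⟨g⁻¹ * u * g, ⟨?_, ?_, ?_⟩, by group⟩
    · have := UU_conj (M.inv_mem hg) hu
      rwa [inv_inv] at this
    · have := (h.Q_fix hg').2 hus
      rwa [inv_inv] at this
    · intro h2
      apply h1
      have h3 := h.K_conj hgs h2
      have e : g * (n * (g⁻¹ * u * g) * n⁻¹ * (g⁻¹ * u * g)⁻¹) * g⁻¹ =
        g * n * g⁻¹ * u * (g * n * g⁻¹)⁻¹ * u⁻¹ := by group
      rwa [e] at h3
  · rintro ⟨v, ⟨hv, hvs, h1⟩, rfl⟩
    refine ⟨UU_conj hg hv, (h.Q_fix hgs).2 hvs, fun h2 => h1 ?_⟩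
    have h3 := h.K_conj hg' h2
    have e : g⁻¹ * (g * n * g⁻¹ * (g * v * g⁻¹) * (g * n * g⁻¹)⁻¹ * (g * v * g⁻¹)⁻¹) * g⁻¹⁻¹ =
      n * v * n⁻¹ * v⁻¹ := by group
    rwa [e] at h3

/-- `opp` is symmetric -/
theorem opp_symm [Finite G] {s a b : G} (H : Opp M r t N s a b) : Opp M r t N s b a := by
  obtain ⟨ha, hb, n, hn, hne⟩ := H
  refine ⟨hb, ha, ?_⟩
  by_contra hcon
  push Not at hcon
  obtain ⟨c, -, hcs, -, hnb⟩ := h.mv_c ha hb hn hne
  -- the two families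
  set A : Set (Set G) := {X | ∃ n ∈ N a, X = mvs M r Q s n} with hA
  set B : Set (Set G) := {X | ∃ n ∈ N b, X = mvs M r Q s n} with hB
  obtain ⟨m₁, hm₁, e1, e2⟩ := ha
  obtain ⟨m₂, hm₂, e3, e4⟩ := hb
  have ha : Adj M r t s a := ⟨m₁, hm₁, e1, e2⟩
  have hb : Adj M r t s b := ⟨m₂, hm₂, e3, e4⟩
  set g := m₂ * m₁⁻¹ with hg
  have hgM : g ∈ M := M.mul_mem hm₂ (M.inv_mem hm₁)
  have hgs' : g * s * g⁻¹ = s := by
    calc g * s * g⁻¹ = m₂ * (m₁⁻¹ * s * m₁) * m₂⁻¹ := by rw [hg]; group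
      _ = m₂ * r * m₂⁻¹ := by rw [← e1]; group
      _ = s := e3
  have hgs : g * s = s * g := mul_inv_eq_iff_eq_mul.1 hgs'
  have hga : g * a * g⁻¹ = b := by
    calc g * a * g⁻¹ = m₂ * (m₁⁻¹ * a * m₁) * m₂⁻¹ := by rw [hg]; group
      _ = m₂ * t * m₂⁻¹ := by rw [← e2]; group
      _ = b := e4
  have hBA : B ⊆ A := by
    rintro X ⟨m, hm, rfl⟩
    refine ⟨m * n * m⁻¹ * n⁻¹, ?_, (h.mvs_comm ha hb hn hm (hcon m hm) hcs hnb).symm⟩
    exact mul_mem ((h.N_fix (mul_inv_eq_iff_eq_mul.1 (hcon m hm))).2 hn) (inv_mem hn)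
  have hAB : A.ncard ≤ B.ncard := by
    have h1 : (fun X : Set G => (fun x => g * x * g⁻¹) '' X) '' A ⊆ B := by
      rintro _ ⟨_, ⟨n, hn, rfl⟩, rfl⟩
      refine ⟨g * n * g⁻¹, ?_, (h.mvs_conj hgM hgs).symm⟩
      rw [← hga]
      exact h.N_conj.2 hn
    have hinj : Function.Injective (fun X : Set G => (fun x => g * x * g⁻¹) '' X) := by
      apply Set.image_injective.2
      intro x y hxy
      exact mul_left_cancel (mul_right_cancel hxy)
    rw [← Set.ncard_image_of_injective A hinj]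
    exact Set.ncard_le_ncard h1 (Set.toFinite _)
  have hE : B = A := Set.eq_of_subset_of_ncard_le hBA hAB (Set.toFinite _)
  have h1 : mvs M r Q s n ∈ B := by
    rw [hE]
    exact ⟨n, hn, rfl⟩
  obtain ⟨m, hm, e⟩ := h1
  have h2 : b ∈ mvs M r Q s n :=
    ⟨h.Adj_UU hb, h.Adj_mem hb, fun hz => hne (h.fix_of ha hb hn hz)⟩
  rw [e] at h2
  apply h2.2.2
  rw [h.N_fix_self (h.Adj_right hb) hm, mul_inv_cancel]
  exact one_mem _

/-- `n` moves `s b` iff it moves `b` -/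
theorem opp_right {s a b : G} (H : Opp M r t N s a b) : Opp M r t N s a (s * b) := by
  obtain ⟨ha, hb, n, hn, hne⟩ := H
  refine ⟨ha, h.Adj_mul hb, n, hn, fun e => hne ?_⟩
  have e1 : n * (s * b) * n⁻¹ = s * (n * b * n⁻¹) := by
    calc n * (s * b) * n⁻¹ = (n * s * n⁻¹) * (n * b * n⁻¹) := by group
      _ = _ := by rw [h.N_fix_s ha hn]
  rw [e1] at e
  exact mul_left_cancel e

theorem opp_left [Finite G] {s a b : G} (H : Opp M r t N s a b) : Opp M r t N s (s * a) b :=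
  h.opp_symm (h.opp_right (h.opp_symm H))

/-- **(4), (5) of #15959** -/
theorem jOpp [Finite G] : JOpp M r t Q N := by
  intro s a b H
  have H' := h.opp_symm H
  refine ⟨H', h.opp_left H, h.opp_right H, ?_, ?_, ?_⟩
  · rintro rfl
    obtain ⟨ha, -, n, hn, hne⟩ := H
    exact hne (h.N_fix_self (h.Adj_right ha) hn)
  · rintro rfl
    obtain ⟨ha, -, n, hn, hne⟩ := H
    apply hne
    calc n * (s * a) * n⁻¹ = (n * s * n⁻¹) * (n * a * n⁻¹) := by group
      _ = s * a := by rw [h.N_fix_s ha hn, h.N_fix_self (h.Adj_right ha) hn]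
  obtain ⟨ha, hb, n, hn, hne⟩ := H
  obtain ⟨-, -, n', hn', hne'⟩ := H'
  have haU := h.Adj_UU ha
  have hbU := h.Adj_UU hb
  have hA := h.Adj_right ha
  have hB := h.Adj_right hb
  have hS := ha.left
  have hsU : s ∈ UU M r := Om_le_UU hS
  obtain ⟨c, hcU, hcs, hca, hnb⟩ := h.mv_c ha hb hn hne
  obtain ⟨c', hcU', hcs', hcb', hnb'⟩ := h.mv_c hb ha hn' hne'
  have hab := h.UU_comm haU hbU
  rw [← hab] at hnb'
  have hT : Adj M r t s (a * b * c) := by rw [← hnb]; exact h.Adj_N ha hb hn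
  have hT' : Adj M r t s (a * b * c') := by rw [← hnb']; exact h.Adj_N hb ha hn'
  -- `c' ∈ {c, s c}`
  have h1 : a * b * c * (a * b * c') ∈ ZC Q s := by
    have e : a * b * c * (a * b * c') = c * c' := by
      have h2 := h.UU_comm (mul_mem haU hbU) hcU
      calc a * b * c * (a * b * c') = (a * b) * (c * (a * b)) * c' := by group
        _ = ((a * b) * (a * b)) * c * c' := by rw [← h2]; group
        _ = c * c' := by rw [h.UU_sq (mul_mem haU hbU), one_mul]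
    rw [e]
    exact mul_mem hcs hcs'
  have h2 : c' = c ∨ c' = s * c := by
    rcases h.noPar_at hT hT' h1 with h3 | h3
    · left
      exact mul_left_cancel h3
    · right
      have h4 : s * (a * b * c) = a * b * (s * c) := by
        rw [← mul_assoc s, h.UU_comm hsU (mul_mem haU hbU), mul_assoc]
      rw [h4] at h3
      exact mul_left_cancel h3
  -- `c ∈ C(Q (a b c'))`, `c' ∈ C(Q (a b c))`
  have hnc' : n * c' * n⁻¹ = c' := by
    rcases h2 with h3 | h3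
    · rw [h3]; exact h.N_ZC hA hn hca
    · rw [h3]
      calc n * (s * c) * n⁻¹ = (n * s * n⁻¹) * (n * c * n⁻¹) := by group
        _ = s * c := by rw [h.N_fix_s ha hn, h.N_ZC hA hn hca]
  have hnc : n' * c * n'⁻¹ = c := by
    have h4 : c = c' ∨ c = s * c' := by
      rcases h2 with h3 | h3
      · exact Or.inl h3.symm
      · right; rw [h3, h.UU_cancel' hsU]
    rcases h4 with h3 | h3
    · rw [h3]; exact h.N_ZC hB hn' hcb'
    · rw [h3]
      calc n' * (s * c') * n'⁻¹ = (n' * s * n'⁻¹) * (n' * c' * n'⁻¹) := by group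
        _ = s * c' := by rw [h.N_fix_s hb hn', h.N_ZC hB hn' hcb']
  have h5 : c' ∈ ZC Q (a * b * c) := by
    have := (h.ZC_conj (g := n)).2 hcb'
    rwa [hnc', hnb] at this
  have h6 : c ∈ ZC Q (a * b * c') := by
    have := (h.ZC_conj (g := n')).2 hca
    rwa [hnc, hnb'] at this
  have h7 : c ∈ ZC Q (a * b * c) := by
    rcases h2 with h3 | h3
    · rwa [h3] at h6
    · have h8 := h.Adj_CV hT' hcs h6
      have h9 : s * (a * b * c') = a * b * c := by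
        have h4 : s * (a * b * c) = a * b * (s * c) := by
          rw [← mul_assoc s, h.UU_comm hsU (mul_mem haU hbU), mul_assoc]
        rw [h3, ← h4, h.UU_cancel' hsU]
      rwa [h9] at h8
  have h8 : c' = c := by
    rcases h2 with h3 | h3
    · exact h3
    · exfalso
      have h9 : s ∈ ZC Q (a * b * c) := by
        have : s = c' * c := by rw [h3, mul_assoc, h.UU_sq hcU, mul_one]
        rw [this]
        exact mul_mem h5 h7
      exact h.not_both hT h9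
  rw [h8] at hnb' hcb'
  refine ⟨c, ?_, hcU, hcs, hca, hcb', h7, hT, fun m hm => h.mv_uniq ha hb hn hm hcU hcs hnb, ?_⟩
  · rintro rfl
    rw [mul_one] at hnb
    have h9 := h.red_at hA hbU (by
      intro m hm
      have h10 : m * b * m⁻¹ = b ∨ m * b * m⁻¹ = a * b := by
        have := h.mv_uniq ha hb hn hm hcU hcs (by rw [mul_one]; exact hnb)
        rwa [mul_one] at this
      have e : b * m * b⁻¹ * m⁻¹ = b * (m * b * m⁻¹)⁻¹ := by group
      rcases h10 with h11 | h11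
      · left; rw [e, h11, mul_inv_cancel]
      · right
        rw [e, h11, hab, mul_inv_rev, h.UU_inv haU]
        rw [h.UU_comm haU (inv_mem hbU), ← mul_assoc, mul_inv_cancel, one_mul]) n hn
    apply hne
    rw [← h9, mul_inv_cancel_right]
  · intro m hm
    have h9 := h.mv_uniq hb ha hn' hm hcU hcs (by rw [← hab]; exact hnb')
    rwa [← hab] at h9

/-! ### (6) -/

/-- lines on `s` which are not opposite: there is `y ∈ Q a` fixing `s` and moving `b` -/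
theorem exists_y {s a b : G} (ha : Adj M r t s a) (hb : Adj M r t s b) (h1 : b ≠ a) (h2 : b ≠ s * a)
    (hba : b ∈ Q a) : ∃ y ∈ Q a, y * s = s * y ∧ y * b * y⁻¹ = a * b := by
  have hA := h.Adj_right ha
  have haU := h.Adj_UU ha
  have hbU := h.Adj_UU hb
  have hS := ha.left
  have hsU : s ∈ UU M r := Om_le_UU hS
  have has := h.Adj_symm ha
  have hcm : ∀ y ∈ Q a, ∀ x ∈ Q a, y * x * y⁻¹ = x ∨ y * x * y⁻¹ = a * x := by
    intro y hy x hx
    rcases h.comm_Q hA hy hx with h3 | h3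
    · left; exact mul_inv_eq_one.1 h3
    · right; exact mul_inv_eq_iff_eq_mul.1 h3
  by_contra hcon
  push Not at hcon
  have hfix : ∀ y ∈ Q a, y * s = s * y → y * b * y⁻¹ = b := by
    intro y hy hys
    exact (hcm y hy b hba).resolve_right (hcon y hy hys)
  obtain ⟨q, hq, hqs⟩ := h.Adj_q has
  -- every `y` or `q⁻¹ y` commutes with `s`
  have hsa : s ∈ Q a := h.Adj_mem has
  have hor : ∀ y ∈ Q a, y * s = s * y ∨ (q⁻¹ * y) * s = s * (q⁻¹ * y) := by
    intro y hy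
    rcases hcm y hy s hsa with h3 | h3
    · left; exact mul_inv_eq_iff_eq_mul.1 h3
    · right
      apply mul_inv_eq_iff_eq_mul.1
      calc q⁻¹ * y * s * (q⁻¹ * y)⁻¹ = q⁻¹ * (y * s * y⁻¹) * q := by group
        _ = q⁻¹ * (q * s * q⁻¹) * q := by rw [h3, hqs]
        _ = s := by group
  -- `b' = b` or `s b` is in `Z(Q a)`
  have key : ∀ x, x ∈ UU M r → q * x * q⁻¹ = x → (∀ y ∈ Q a, y * s = s * y → y * x * y⁻¹ = x) → x ∈ ZC Q a := by
    intro x _ hqx hyx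
    rw [mem_centralizer_iff]
    intro y hy
    rcases hor y hy with h3 | h3
    · exact mul_inv_eq_iff_eq_mul.1 (hyx y hy h3)
    · have h4 := hyx (q⁻¹ * y) ((Q a).mul_mem ((Q a).inv_mem hq) hy) h3
      apply mul_inv_eq_iff_eq_mul.1
      calc y * x * y⁻¹ = q * (q⁻¹ * y * x * (q⁻¹ * y)⁻¹) * q⁻¹ := by group
        _ = x := by rw [h4, hqx]
  have hsQ : s ∈ ZC Q s := h.mem_ZC hS
  rcases hcm q hq b hba with h3 | h3
  · have h4 := key b hbU h3 hfix
    rcases h.Adj_ZQ has h4 (h.Adj_mem hb) with h5 | h5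
    · exact h.Adj_not_mem hb h5
    · rcases h.noPar_at ha hb h5 with h6 | h6
      · exact h1 h6
      · exact h2 h6
  · have h4 := key (s * b) (mul_mem hsU hbU) (by
      calc q * (s * b) * q⁻¹ = (q * s * q⁻¹) * (q * b * q⁻¹) := by group
        _ = a * s * (a * b) := by rw [hqs, h3]
        _ = (a * s * a) * b := by group
        _ = s * b := by rw [h.UU_cancel haU hsU]) (by
      intro y hy hys
      calc y * (s * b) * y⁻¹ = (y * s) * y⁻¹ * (y * b * y⁻¹) := by group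
        _ = s * b := by rw [hys, hfix y hy hys, mul_inv_cancel_right])
    rcases h.Adj_ZQ has h4 (mul_mem (h.mem_Q hS) (h.Adj_mem hb)) with h5 | h5
    · exact h.Adj_not_mem hb ((mul_mem_cancel_left hsQ).1 h5)
    · have e : a * (s * b) = s * (a * b) := by
        rw [← mul_assoc, h.UU_comm haU hsU, mul_assoc]
      rw [e, mul_mem_cancel_left hsQ] at h5
      rcases h.noPar_at ha hb h5 with h6 | h6
      · exact h1 h6
      · exact h2 h6

/-- **(6) of #15959** -/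
theorem jNon [Finite G] : JNon M r t N := by
  intro s a b ha hb h1 h2 hno
  have hA := h.Adj_right ha
  have hB := h.Adj_right hb
  have haU := h.Adj_UU ha
  have hbU := h.Adj_UU hb
  have hS := ha.left
  have hsU : s ∈ UU M r := Om_le_UU hS
  have hba : b ∈ Q a := by
    refine h.UN_at hA hbU fun n hn => ?_
    by_contra hne
    exact hno ⟨ha, hb, n, hn, fun e => hne (mul_inv_eq_iff_eq_mul.1 e).symm⟩
  have hab : a ∈ Q b := by
    refine h.UN_at hB haU fun n hn => ?_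
    by_contra hne
    exact hno (h.opp_symm ⟨hb, ha, n, hn, fun e => hne (mul_inv_eq_iff_eq_mul.1 e).symm⟩)
  have h1' : a ≠ b := fun e => h1 e.symm
  have h2' : a ≠ s * b := by
    intro e
    apply h2
    rw [e, h.UU_cancel' hsU]
  obtain ⟨y, hy, hys, hyb⟩ := h.exists_y ha hb h1 h2 hba
  have hconj : ∀ {g s' x : G}, g ∈ M → g * s' = s' * g → Adj M r t s' x → Adj M r t s' (g * x * g⁻¹) := by
    intro g s' x hg hgs hx
    have := hx.conj hg
    rwa [hgs, mul_inv_cancel_right] at this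
  have r1 : Adj M r t s (a * b) := by
    rw [← hyb]
    exact hconj (h.Q_le_M hA hy) hys hb
  refine ⟨r1, ?_⟩
  -- `x ∈ Q b`, `s^x = b s`, `a^x = a`
  obtain ⟨x, hx, hxs, hxa⟩ : ∃ x ∈ Q b, x * s * x⁻¹ = b * s ∧ x * a * x⁻¹ = a := by
    obtain ⟨q, hq, hqs⟩ := h.Adj_q (h.Adj_symm hb)
    rcases h.comm_Q hB hq hab with h3 | h3
    · exact ⟨q, hq, hqs, mul_inv_eq_one.1 h3⟩
    · have h4 : q * a * q⁻¹ = b * a := mul_inv_eq_iff_eq_mul.1 h3
      obtain ⟨y', hy', hys', hya'⟩ := h.exists_y hb ha h1' h2' hab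
      have hqb : q * b * q⁻¹ = b := by
        rw [← h.ZC_comm (h.mem_ZC hB) hq, mul_inv_cancel_right]
      refine ⟨q * y', mul_mem hq hy', ?_, ?_⟩
      · calc q * y' * s * (q * y')⁻¹ = q * (y' * s) * y'⁻¹ * q⁻¹ := by group
          _ = q * s * q⁻¹ := by rw [hys']; group
          _ = b * s := hqs
      · calc q * y' * a * (q * y')⁻¹ = q * (y' * a * y'⁻¹) * q⁻¹ := by group
          _ = (q * b * q⁻¹) * (q * a * q⁻¹) := by rw [hya']; group
          _ = b * (b * a) := by rw [hqb, h4]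
          _ = a := h.UU_cancel' hbU a
  -- `x' ∈ Q s`, `b^x' = s b`, `a^x' = a`
  obtain ⟨x', hx', hxb', hxa'⟩ : ∃ x ∈ Q s, x * b * x⁻¹ = s * b ∧ x * a * x⁻¹ = a := by
    have hcm : ∀ y ∈ Q s, ∀ x ∈ Q s, y * x * y⁻¹ = x ∨ y * x * y⁻¹ = s * x := by
      intro y hy x hx
      rcases h.comm_Q hS hy hx with h3 | h3
      · left; exact mul_inv_eq_one.1 h3
      · right; exact mul_inv_eq_iff_eq_mul.1 h3
    have hQs : ∀ y ∈ Q s, y * s * y⁻¹ = s := by
      intro y hy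
      rw [← h.ZC_comm (h.mem_ZC hS) hy, mul_inv_cancel_right]
    obtain ⟨q, hq, hqb⟩ := h.Adj_q hb
    rcases hcm q hq a (h.Adj_mem ha) with h3 | h3
    · exact ⟨q, hq, hqb, h3⟩
    · -- an element moving exactly one of `a, b`
      by_contra hcon
      push Not at hcon
      have h4 : a * b ∈ ZC Q s := by
        rw [mem_centralizer_iff]
        intro x hx
        apply mul_inv_eq_iff_eq_mul.1
        have e : x * (a * b) * x⁻¹ = (x * a * x⁻¹) * (x * b * x⁻¹) := by group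
        rw [e]
        rcases hcm x hx a (h.Adj_mem ha) with h5 | h5
        · rcases hcm x hx b (h.Adj_mem hb) with h6 | h6
          · rw [h5, h6]
          · exact absurd h5 (hcon x hx h6)
        · rcases hcm x hx b (h.Adj_mem hb) with h6 | h6
          · exfalso
            refine hcon (q * x) (mul_mem hq hx) ?_ ?_
            · calc q * x * b * (q * x)⁻¹ = q * (x * b * x⁻¹) * q⁻¹ := by group
                _ = s * b := by rw [h6, hqb]
            · calc q * x * a * (q * x)⁻¹ = q * (x * a * x⁻¹) * q⁻¹ := by group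
                _ = (q * s * q⁻¹) * (q * a * q⁻¹) := by rw [h5]; group
                _ = s * (s * a) := by rw [hQs q hq, h3]
                _ = a := h.UU_cancel' hsU a
          · rw [h5, h6]
            calc s * a * (s * b) = (s * a * s) * b := by group
              _ = a * b := by rw [h.UU_cancel hsU haU]
      rcases h.noPar_at ha hb h4 with h6 | h6
      · exact h1 h6
      · exact h2 h6
  have r2 : Adj M r t a (b * s) := by
    rw [← hxs]
    exact hconj (h.Q_le_M hB hx) (mul_inv_eq_iff_eq_mul.1 hxa) (h.Adj_symm ha)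
  have r3 := hconj (h.Q_le_M hS hx') (mul_inv_eq_iff_eq_mul.1 hxa') r2
  have e : x' * (b * s) * x'⁻¹ = b := by
    have hs' : x' * s * x'⁻¹ = s := by
      rw [← h.ZC_comm (h.mem_ZC hS) hx', mul_inv_cancel_right]
    calc x' * (b * s) * x'⁻¹ = (x' * b * x'⁻¹) * (x' * s * x'⁻¹) := by group
      _ = s * b * s := by rw [hxb', hs']
      _ = b := h.UU_cancel hsU hbU
  rwa [e] at r3

end TvH

end Cfsg.Agent.Omega.HOne.TvDef

end

section


/-!
# II.0h1, `q = 2`, case (β): the dichotomy (7) of the transvection statement (helper865)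

The residue at a point `s`, abstractly: `K ≤ W` subgroups of an abelian group `U` of exponent two, `Γ` a set of
representatives of the lines on `s` (`W - K = ⋃_{t ∈ Γ} tK`), `N t` acts on `W / K` by transvections with centre `tK`.

* `relIndex_le_two`: three subgroups of the same order covering `W` have index at most two;
* `Res`: the hypotheses, `Res.opp`: opposite lines;
* `Res.dich`: either all pairs of distinct lines are opposite, or `n ∈ N t` moves all the opposites of `t` as soon as it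
  moves one of them.
-/

set_option autoImplicit false

namespace Cfsg.Agent.Omega.HOne.TvLin

open Subgroup

variable {G : Type*} [Group G]

/-- Three subgroups of the same order covering `W` have index at most two in `W`. -/
theorem card_le_two_mul [Finite G] {A B C W : Subgroup G} (hA : A ≤ W)
    (h : ∀ w ∈ W, w ∈ A ∨ w ∈ B ∨ w ∈ C) (hB : Nat.card B = Nat.card A) (hC : Nat.card C = Nat.card A) :
    Nat.card W ≤ 2 * Nat.card A := by
  classical
  have hfin : ∀ H : Subgroup G, (H : Set G).Finite := fun H => Set.toFinite _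
  have hsub : (W : Set G) ⊆ {1} ∪ (((A : Set G) \ {1}) ∪ ((B : Set G) \ {1}) ∪ ((C : Set G) \ {1})) := by
    intro w hw
    by_cases h1 : w = 1
    · exact Or.inl h1
    · right
      rcases h w hw with h2 | h2 | h2
      · exact Or.inl (Or.inl ⟨h2, h1⟩)
      · exact Or.inl (Or.inr ⟨h2, h1⟩)
      · exact Or.inr ⟨h2, h1⟩
  have hc : ∀ H : Subgroup G, ((H : Set G) \ {1}).ncard = Nat.card H - 1 := by
    intro H
    rw [Set.ncard_sdiff_singleton_of_mem H.one_mem]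
    rfl
  have h1 : (W : Set G).ncard ≤ 1 + (Nat.card A - 1 + (Nat.card B - 1) + (Nat.card C - 1)) := by
    refine (Set.ncard_le_ncard hsub (Set.toFinite _)).trans ((Set.ncard_union_le _ _).trans ?_)
    rw [Set.ncard_singleton]
    refine Nat.add_le_add_left ((Set.ncard_union_le _ _).trans ?_) 1
    rw [hc C]
    refine Nat.add_le_add_right ((Set.ncard_union_le _ _).trans ?_) _
    rw [hc A, hc B]
  have hpos : 0 < Nat.card A := Nat.card_pos
  have hW : (W : Set G).ncard = Nat.card W := rfl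
  rw [hW, hB, hC] at h1
  obtain ⟨k, hk⟩ := card_dvd_of_le hA
  rw [hk] at h1 ⊢
  have h3 : k < 3 := by
    by_contra h3
    have h4 : Nat.card A * 3 ≤ Nat.card A * k := Nat.mul_le_mul le_rfl (not_lt.mp h3)
    omega
  rw [mul_comm 2]
  exact Nat.mul_le_mul le_rfl (by omega)

/-- The residue at a point. -/
structure Res (U K W : Subgroup G) (Γ : Set G) (N : G → Subgroup G) : Prop where
  comm : ∀ a ∈ U, ∀ b ∈ U, a * b = b * a
  sq : ∀ a ∈ U, a * a = 1
  WU : W ≤ U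
  KW : K ≤ W
  ΓW : ∀ t ∈ Γ, t ∈ W
  ΓK : ∀ t ∈ Γ, t ∉ K
  /-- the nonzero vectors of `W / K` are the lines -/
  cov : ∀ w ∈ W, w ∉ K → ∃ t ∈ Γ, t * w ∈ K
  /-- `N t` normalises `K` -/
  NK : ∀ t ∈ Γ, ∀ n ∈ N t, ∀ k ∈ K, n * k * n⁻¹ ∈ K
  /-- transvections with centre `tK` -/
  tv : ∀ t ∈ Γ, ∀ n ∈ N t, ∀ w ∈ W, n * w * n⁻¹ * w ∈ K ∨ n * w * n⁻¹ * w * t ∈ K
  /-- `N t` centralises `t` -/
  Nt : ∀ t ∈ Γ, ∀ n ∈ N t, n * t = t * n
  /-- if `n ∈ N t` fixes the line of `t'`, it centralises `t'` -/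
  fix : ∀ t ∈ Γ, ∀ n ∈ N t, ∀ t' ∈ Γ, n * t' * n⁻¹ * t' ∈ K → n * t' = t' * n
  /-- if `m ∈ N t'` centralises `t`, it normalises `N t` -/
  norm : ∀ t ∈ Γ, ∀ t' ∈ Γ, ∀ m ∈ N t', m * t = t * m → ∀ n ∈ N t, m * n * m⁻¹ ∈ N t
  /-- opposite is symmetric -/
  symm : ∀ t ∈ Γ, ∀ t' ∈ Γ, (∃ n ∈ N t, n * t' ≠ t' * n) → ∃ n ∈ N t', n * t ≠ t * n
  /-- the lines are conjugate -/
  tran : ∀ t ∈ Γ, ∀ t' ∈ Γ, ∃ g : G, (∀ x, x ∈ K ↔ g * x * g⁻¹ ∈ K) ∧ (∀ x, x ∈ W ↔ g * x * g⁻¹ ∈ W) ∧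
    ∀ x, x ∈ N t ↔ g * x * g⁻¹ ∈ N t'

namespace Res

variable {U K W : Subgroup G} {Γ : Set G} {N : G → Subgroup G} (h : Res U K W Γ N)

include h

/-- `C_W(N t mod K)` -/
def _root_.Cfsg.Agent.Omega.HOne.TvLin.fixSet (K W : Subgroup G) (T : Set G) : Set G :=
  {w | w ∈ W ∧ ∀ n ∈ T, n * w * n⁻¹ * w ∈ K}

theorem conj_mem {t : G} (ht : t ∈ Γ) {n : G} (hn : n ∈ N t) {w : G} (hw : w ∈ W) : n * w * n⁻¹ ∈ W := by
  have hwU := h.WU hw
  rcases h.tv t ht n hn w hw with h1 | h1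
  · have h2 : n * w * n⁻¹ = (n * w * n⁻¹ * w) * w := by rw [mul_assoc (n * w * n⁻¹) w w, h.sq w hwU, mul_one]
    rw [h2]
    exact W.mul_mem (h.KW h1) hw
  · have h2 : n * w * n⁻¹ = (n * w * n⁻¹ * w * t) * (t * w) := by
      have h3 := h.sq t (h.WU (h.ΓW t ht))
      have h4 := h.sq w hwU
      calc n * w * n⁻¹ = n * w * n⁻¹ * (w * w) := by rw [h4, mul_one]
        _ = n * w * n⁻¹ * w * (t * t) * w := by rw [h3, mul_one]; group
        _ = _ := by group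
    rw [h2]
    exact W.mul_mem (h.KW h1) (W.mul_mem (h.ΓW t ht) hw)

/-- The subgroup `C_W(T mod K)`. -/
def _root_.Cfsg.Agent.Omega.HOne.TvLin.Res.fixK (h : Res U K W Γ N) {t : G} (ht : t ∈ Γ) (T : Set G)
    (hT : T ⊆ N t) : Subgroup G where
  carrier := fixSet K W T
  one_mem' := ⟨W.one_mem, fun n _ => by
    rw [mul_one, mul_one, mul_inv_cancel]
    exact K.one_mem⟩
  mul_mem' := by
    rintro a b ⟨ha, ha'⟩ ⟨hb, hb'⟩
    refine ⟨W.mul_mem ha hb, fun n hn => ?_⟩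
    have h1 := h.comm a (h.WU ha) (n * b * n⁻¹) (h.WU (h.conj_mem ht (hT hn) hb))
    have h2 : n * (a * b) * n⁻¹ * (a * b) = (n * a * n⁻¹ * a) * (n * b * n⁻¹ * b) := by
      calc n * (a * b) * n⁻¹ * (a * b) = (n * a * n⁻¹) * ((n * b * n⁻¹) * a) * b := by group
        _ = (n * a * n⁻¹) * (a * (n * b * n⁻¹)) * b := by rw [h1]
        _ = _ := by group
    rw [h2]
    exact K.mul_mem (ha' n hn) (hb' n hn)
  inv_mem' := by
    rintro a ⟨ha, ha'⟩
    have h1 : a⁻¹ = a := inv_eq_of_mul_eq_one_left (h.sq a (h.WU ha))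
    rw [h1]
    exact ⟨ha, ha'⟩

theorem mem_fixK {t : G} (ht : t ∈ Γ) {T : Set G} (hT : T ⊆ N t) {w : G} :
    w ∈ h.fixK ht T hT ↔ w ∈ W ∧ ∀ n ∈ T, n * w * n⁻¹ * w ∈ K := Iff.rfl

/-- `A_t` -/
def _root_.Cfsg.Agent.Omega.HOne.TvLin.Res.A (h : Res U K W Γ N) {t : G} (ht : t ∈ Γ) : Subgroup G :=
  h.fixK ht (N t) subset_rfl

theorem mem_A {t : G} (ht : t ∈ Γ) {w : G} : w ∈ h.A ht ↔ w ∈ W ∧ ∀ n ∈ N t, n * w * n⁻¹ * w ∈ K := Iff.rfl

theorem K_le {t : G} (ht : t ∈ Γ) {T : Set G} (hT : T ⊆ N t) : K ≤ h.fixK ht T hT :=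
  fun k hk => ⟨h.KW hk, fun n hn => K.mul_mem (h.NK t ht n (hT hn) k hk) hk⟩

theorem self_mem {t : G} (ht : t ∈ Γ) : t ∈ h.A ht := ⟨h.ΓW t ht, fun n hn => by
  rw [h.Nt t ht n hn, mul_inv_cancel_right, h.sq t (h.WU (h.ΓW t ht))]
  exact K.one_mem⟩

/-- `t' ∈ A_t` iff `N t` centralises `t'` -/
theorem mem_A_iff {t t' : G} (ht : t ∈ Γ) (ht' : t' ∈ Γ) : t' ∈ h.A ht ↔ ∀ n ∈ N t, n * t' = t' * n := by
  constructor
  · rintro ⟨-, h1⟩ n hn
    exact h.fix t ht n hn t' ht' (h1 n hn)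
  · intro h1
    refine ⟨h.ΓW t' ht', fun n hn => ?_⟩
    rw [h1 n hn, mul_inv_cancel_right, h.sq t' (h.WU (h.ΓW t' ht'))]
    exact K.one_mem

theorem mem_A_comm {t t' : G} (ht : t ∈ Γ) (ht' : t' ∈ Γ) : t' ∈ h.A ht ↔ t ∈ h.A ht' := by
  rw [h.mem_A_iff ht ht', h.mem_A_iff ht' ht]
  constructor
  · intro h1
    by_contra h2
    push Not at h2
    obtain ⟨n, hn, hn'⟩ := h.symm t' ht' t ht h2
    exact hn' (h1 n hn)
  · intro h1
    by_contra h2
    push Not at h2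
    obtain ⟨n, hn, hn'⟩ := h.symm t ht t' ht' h2
    exact hn' (h1 n hn)

/-- membership only depends on the coset of `K` -/
theorem mem_A_congr {t : G} (ht : t ∈ Γ) {w w' : G} (hw : w * w' ∈ K) (hw' : w' ∈ W) :
    w ∈ h.A ht ↔ w' ∈ h.A ht := by
  have hK : w * w' ∈ h.A ht := h.K_le ht subset_rfl hw
  have h1 : w = w * w' * w' := by rw [mul_assoc, h.sq w' (h.WU hw'), mul_one]
  constructor
  · intro h2
    exact (mul_mem_cancel_left h2).1 hK
  · intro h2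
    rw [h1]
    exact (h.A ht).mul_mem hK h2

/-- `N t` normalises `K`, both ways -/
theorem conj_K_iff {t : G} (ht : t ∈ Γ) {n : G} (hn : n ∈ N t) {x : G} : n * x * n⁻¹ ∈ K ↔ x ∈ K := by
  constructor
  · intro h1
    have h2 := h.NK t ht n⁻¹ ((N t).inv_mem hn) _ h1
    have h3 : n⁻¹ * (n * x * n⁻¹) * n⁻¹⁻¹ = x := by group
    rwa [h3] at h2
  · exact h.NK t ht n hn x

/-- **Step 1.** `m ∈ N t'` centralising `t` fixes all of `A_t` modulo `K`, for `t'` opposite to `t`. -/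
theorem step {t t' : G} (ht : t ∈ Γ) (ht' : t' ∈ Γ) (ho : t' ∉ h.A ht) {m : G} (hm : m ∈ N t')
    (hmt : m * t = t * m) {w : G} (hw : w ∈ h.A ht) : m * w * m⁻¹ * w ∈ K := by
  by_contra hcon
  obtain ⟨hwW, hw'⟩ := hw
  have hwU := h.WU hwW
  have htU := h.WU (h.ΓW t ht)
  have ht'U := h.WU (h.ΓW t' ht')
  -- `w ^ m = w t'` modulo `K`
  have h1 : m * w * m⁻¹ * w * t' ∈ K := (h.tv t' ht' m hm w hwW).resolve_left hcon
  -- `n ∈ N t` moving `t'`
  have h2 : ∃ n ∈ N t, n * t' * n⁻¹ * t' ∉ K := by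
    by_contra h3
    push Not at h3
    exact ho ⟨h.ΓW t' ht', h3⟩
  obtain ⟨n, hn, hnt'⟩ := h2
  have h3 : n * t' * n⁻¹ * t' * t ∈ K := (h.tv t ht n hn t' (h.ΓW t' ht')).resolve_left hnt'
  -- `m n m⁻¹ n⁻¹ ∈ N t` moves `w`
  have h4 : m * n * m⁻¹ * n⁻¹ ∈ N t := (N t).mul_mem (h.norm t ht t' ht' m hm hmt n hn) ((N t).inv_mem hn)
  have h5 := hw' _ h4
  -- the cosets
  set k1 := m * w * m⁻¹ * w * t' with hk1
  set k2 := n * t' * n⁻¹ * t' * t with hk2
  have sqt := h.sq t htU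
  have sqt' := h.sq t' ht'U
  have sqw := h.sq w hwU
  have e1 : m * w * m⁻¹ = k1 * (t' * w) := by
    rw [hk1]
    calc m * w * m⁻¹ = m * w * m⁻¹ * (w * w) := by rw [sqw, mul_one]
      _ = m * w * m⁻¹ * w * (t' * t') * w := by rw [sqt', mul_one]; group
      _ = _ := by group
  have e2 : n * t' * n⁻¹ = k2 * (t * t') := by
    rw [hk2]
    calc n * t' * n⁻¹ = n * t' * n⁻¹ * (t' * t') := by rw [sqt', mul_one]
      _ = n * t' * n⁻¹ * t' * (t * t) * t' := by rw [sqt, mul_one]; group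
      _ = _ := by group
  -- `w ^ n = w` modulo `K`
  have h6 := hw' n⁻¹ ((N t).inv_mem hn)
  set k3 := n⁻¹ * w * n⁻¹⁻¹ * w with hk3
  have e3 : n⁻¹ * w * n⁻¹⁻¹ = k3 * w := by
    rw [hk3, mul_assoc _ w w, sqw, mul_one]
  have hmi : m⁻¹ ∈ N t' := (N t').inv_mem hm
  -- `w ^ (m⁻¹)`
  have h7 : m⁻¹ * w * m⁻¹⁻¹ * w * t' ∈ K := by
    refine (h.tv t' ht' m⁻¹ hmi w hwW).resolve_left fun h8 => hcon ?_
    have h9 := h.NK t' ht' m hm _ h8
    have h10 : m * (m⁻¹ * w * m⁻¹⁻¹ * w) * m⁻¹ = w * (m * w * m⁻¹) := by group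
    rw [h10, h.comm w hwU _ (h.WU (h.conj_mem ht' hm hwW))] at h9
    exact h9
  set k4 := m⁻¹ * w * m⁻¹⁻¹ * w * t' with hk4
  have e4 : m⁻¹ * w * m⁻¹⁻¹ = k4 * (t' * w) := by
    rw [hk4]
    calc m⁻¹ * w * m⁻¹⁻¹ = m⁻¹ * w * m⁻¹⁻¹ * (w * w) := by rw [sqw, mul_one]
      _ = m⁻¹ * w * m⁻¹⁻¹ * w * (t' * t') * w := by rw [sqt', mul_one]; group
      _ = _ := by group
  have hnt : n * t * n⁻¹ = t := by rw [h.Nt t ht n hn, mul_inv_cancel_right]
  have hmt1 : m * t * m⁻¹ = t := by rw [hmt, mul_inv_cancel_right]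
  have hmt' : m⁻¹ * t' * m⁻¹⁻¹ = t' := by
    have := h.Nt t' ht' m⁻¹ hmi
    rw [this, mul_inv_cancel_right]
  have hmt'' : m * t' * m⁻¹ = t' := by rw [h.Nt t' ht' m hm, mul_inv_cancel_right]
  -- conjugate `w` by `m n m⁻¹ n⁻¹`
  have e5 : m * n * m⁻¹ * n⁻¹ * w * (m * n * m⁻¹ * n⁻¹)⁻¹ =
      (m * (n * (m⁻¹ * k3 * m⁻¹⁻¹) * n⁻¹) * m⁻¹) * (m * (n * k4 * n⁻¹) * m⁻¹) *
        (m * k2 * m⁻¹) * (t * t') * (m * (n * w * n⁻¹) * m⁻¹) := by
    calc m * n * m⁻¹ * n⁻¹ * w * (m * n * m⁻¹ * n⁻¹)⁻¹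
        = m * (n * (m⁻¹ * (n⁻¹ * w * n⁻¹⁻¹) * m⁻¹⁻¹) * n⁻¹) * m⁻¹ := by group
      _ = m * (n * (m⁻¹ * (k3 * w) * m⁻¹⁻¹) * n⁻¹) * m⁻¹ := by rw [e3]
      _ = m * (n * ((m⁻¹ * k3 * m⁻¹⁻¹) * (m⁻¹ * w * m⁻¹⁻¹)) * n⁻¹) * m⁻¹ := by group
      _ = m * (n * ((m⁻¹ * k3 * m⁻¹⁻¹) * (k4 * (t' * w))) * n⁻¹) * m⁻¹ := by rw [e4]
      _ = (m * (n * (m⁻¹ * k3 * m⁻¹⁻¹) * n⁻¹) * m⁻¹) * (m * (n * k4 * n⁻¹) * m⁻¹) *
            (m * (n * t' * n⁻¹) * m⁻¹) * (m * (n * w * n⁻¹) * m⁻¹) := by group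
      _ = (m * (n * (m⁻¹ * k3 * m⁻¹⁻¹) * n⁻¹) * m⁻¹) * (m * (n * k4 * n⁻¹) * m⁻¹) *
            (m * (k2 * (t * t')) * m⁻¹) * (m * (n * w * n⁻¹) * m⁻¹) := by rw [e2]
      _ = (m * (n * (m⁻¹ * k3 * m⁻¹⁻¹) * n⁻¹) * m⁻¹) * (m * (n * k4 * n⁻¹) * m⁻¹) *
            ((m * k2 * m⁻¹) * ((m * t * m⁻¹) * (m * t' * m⁻¹))) * (m * (n * w * n⁻¹) * m⁻¹) := by group
      _ = _ := by rw [hmt1, hmt'']; group
  have h8 := hw' n hn
  set k5 := n * w * n⁻¹ * w with hk5
  have e6 : n * w * n⁻¹ = k5 * w := by rw [hk5, mul_assoc _ w w, sqw, mul_one]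
  have e7 : m * (n * w * n⁻¹) * m⁻¹ = (m * k5 * m⁻¹) * (k1 * (t' * w)) := by
    rw [e6, ← e1]
    group
  -- all the `k`'s are in `K`
  have c1 : m * (n * (m⁻¹ * k3 * m⁻¹⁻¹) * n⁻¹) * m⁻¹ ∈ K :=
    h.NK t' ht' m hm _ (h.NK t ht n hn _ (h.NK t' ht' m⁻¹ hmi _ h6))
  have c2 : m * (n * k4 * n⁻¹) * m⁻¹ ∈ K := h.NK t' ht' m hm _ (h.NK t ht n hn _ h7)
  have c3 : m * k2 * m⁻¹ ∈ K := h.NK t' ht' m hm _ h3
  have c4 : m * k5 * m⁻¹ ∈ K := h.NK t' ht' m hm _ h8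
  rw [e5, e7] at h5
  set a := m * (n * (m⁻¹ * k3 * m⁻¹⁻¹) * n⁻¹) * m⁻¹ with ha
  set b := m * (n * k4 * n⁻¹) * m⁻¹ with hb
  set c := m * k2 * m⁻¹ with hc
  set d := m * k5 * m⁻¹ with hd
  -- `a b c (t t') d k1 (t' w) w ∈ K`, so `t ∈ K`
  have KU : K ≤ U := h.KW.trans h.WU
  have h9 : a * b * c * (t * t') * (d * (k1 * (t' * w))) * w = (a * b * c * d * k1) * t := by
    have f1 : (t * t') * (d * k1) = (d * k1) * (t * t') :=
      h.comm _ (U.mul_mem htU ht'U) _ (KU (K.mul_mem c4 h1))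
    calc a * b * c * (t * t') * (d * (k1 * (t' * w))) * w
        = a * b * c * ((t * t') * (d * k1)) * t' * (w * w) := by group
      _ = a * b * c * ((d * k1) * (t * t')) * t' * (w * w) := by rw [f1]
      _ = a * b * c * (d * k1) * t * (t' * t') * (w * w) := by group
      _ = _ := by rw [sqt', sqw]; group
  rw [h9] at h5
  refine h.ΓK t ht ((mul_mem_cancel_left ?_).1 h5)
  exact K.mul_mem (K.mul_mem (K.mul_mem (K.mul_mem c1 c2) c3) c4) h1

/-- one element does not move two vectors and their product -/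
theorem mv_mul {t n : G} (ht : t ∈ Γ) (hn : n ∈ N t) {w w' : G} (hw : w ∈ W) (hw' : w' ∈ W)
    (h1 : n * w * n⁻¹ * w ∉ K) (h2 : n * w' * n⁻¹ * w' ∉ K) : n * (w * w') * n⁻¹ * (w * w') ∈ K := by
  have h3 := (h.tv t ht n hn w hw).resolve_left h1
  have h4 := (h.tv t ht n hn w' hw').resolve_left h2
  have htU := h.WU (h.ΓW t ht)
  have KU : K ≤ U := h.KW.trans h.WU
  have h5 := h.comm w (h.WU hw) (n * w' * n⁻¹) (h.WU (h.conj_mem ht hn hw'))
  have h6 := h.comm t htU (n * w' * n⁻¹ * w') (U.mul_mem (h.WU (h.conj_mem ht hn hw')) (h.WU hw'))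
  have h7 : n * (w * w') * n⁻¹ * (w * w') = (n * w * n⁻¹ * w * t) * (n * w' * n⁻¹ * w' * t) := by
    calc n * (w * w') * n⁻¹ * (w * w') = (n * w * n⁻¹) * ((n * w' * n⁻¹) * w) * w' := by group
      _ = (n * w * n⁻¹) * (w * (n * w' * n⁻¹)) * w' := by rw [h5]
      _ = (n * w * n⁻¹ * w) * (n * w' * n⁻¹ * w') := by group
      _ = (n * w * n⁻¹ * w) * (t * t) * (n * w' * n⁻¹ * w') := by rw [h.sq t htU, mul_one]
      _ = (n * w * n⁻¹ * w * t) * (t * (n * w' * n⁻¹ * w')) := by group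
      _ = _ := by rw [h6]
  rw [h7]
  exact K.mul_mem h3 h4

theorem mv_mul_left {t n : G} (ht : t ∈ Γ) (hn : n ∈ N t) {w w' : G} (hw : w ∈ W) (hw' : w' ∈ W)
    (h1 : n * w * n⁻¹ * w ∉ K) (h2 : n * w' * n⁻¹ * w' ∈ K) : n * (w * w') * n⁻¹ * (w * w') ∉ K := by
  intro h3
  have hT : {n} ⊆ (N t : Set G) := Set.singleton_subset_iff.mpr hn
  have h4 : w' ∈ h.fixK ht {n} hT := (h.mem_fixK ht hT).2 ⟨hw', fun m hm => by rw [Set.mem_singleton_iff.mp hm]; exact h2⟩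
  have h5 : w * w' ∈ h.fixK ht {n} hT :=
    (h.mem_fixK ht hT).2 ⟨W.mul_mem hw hw', fun m hm => by rw [Set.mem_singleton_iff.mp hm]; exact h3⟩
  have h6 := (mul_mem_cancel_right h4).1 h5
  exact h1 (((h.mem_fixK ht hT).1 h6).2 n rfl)

/-- composition: `n` not moving `w`, then `n n'` moves `w` iff `n'` does. -/
theorem mv_comp_right {t n n' : G} (ht : t ∈ Γ) (hn : n ∈ N t) {w : G} (hw : w ∈ W)
    (h1 : n * w * n⁻¹ * w ∈ K) : (n * n') * w * (n * n')⁻¹ * w ∈ K ↔ n' * w * n'⁻¹ * w ∈ K := by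
  have e : (n * n') * w * (n * n')⁻¹ * w = (n * (n' * w * n'⁻¹ * w) * n⁻¹) * (n * w * n⁻¹ * w)
      := by
    have h2 : (n * w * n⁻¹) * (n * w * n⁻¹) = 1 := by
      calc (n * w * n⁻¹) * (n * w * n⁻¹) = n * (w * w) * n⁻¹ := by group
        _ = 1 := by rw [h.sq w (h.WU hw)]; group
    calc (n * n') * w * (n * n')⁻¹ * w = (n * (n' * w * n'⁻¹) * n⁻¹) * 1 * w := by group
      _ = (n * (n' * w * n'⁻¹) * n⁻¹) * ((n * w * n⁻¹) * (n * w * n⁻¹)) * w := by rw [h2]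
      _ = _ := by group
  rw [e, mul_mem_cancel_right h1, h.conj_K_iff ht hn]

/-- two moving elements: their product does not move. -/
theorem mv_comp {t n n' : G} (ht : t ∈ Γ) (hn : n ∈ N t) (hn' : n' ∈ N t) {w : G} (hw : w ∈ W)
    (h1 : n * w * n⁻¹ * w ∉ K) (h2 : n' * w * n'⁻¹ * w ∉ K) : (n * n') * w * (n * n')⁻¹ * w ∈ K := by
  have h3 := (h.tv t ht n hn w hw).resolve_left h1
  have h4 := (h.tv t ht n' hn' w hw).resolve_left h2
  have hwU := h.WU hw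
  have htU := h.WU (h.ΓW t ht)
  have hnt : n * t * n⁻¹ = t := by rw [h.Nt t ht n hn, mul_inv_cancel_right]
  have e : (n * n') * w * (n * n')⁻¹ * w = (n * (n' * w * n'⁻¹ * w * t) * n⁻¹) * (n * w * n⁻¹ * w * t) := by
    have h5 : t * (n * w * n⁻¹) = (n * w * n⁻¹) * t := h.comm t htU _ (h.WU (h.conj_mem ht hn hw))
    have h2 : (n * w * n⁻¹) * (n * w * n⁻¹) = 1 := by
      calc (n * w * n⁻¹) * (n * w * n⁻¹) = n * (w * w) * n⁻¹ := by group
        _ = 1 := by rw [h.sq w hwU]; group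
    symm
    calc (n * (n' * w * n'⁻¹ * w * t) * n⁻¹) * (n * w * n⁻¹ * w * t)
        = (n * (n' * w * n'⁻¹) * n⁻¹) * (n * w * n⁻¹) * ((n * t * n⁻¹) * (n * w * n⁻¹)) * w * t := by group
      _ = (n * (n' * w * n'⁻¹) * n⁻¹) * (n * w * n⁻¹) * ((n * w * n⁻¹) * t) * w * t := by rw [hnt, h5]
      _ = (n * (n' * w * n'⁻¹) * n⁻¹) * ((n * w * n⁻¹) * (n * w * n⁻¹)) * (t * w) * t := by group
      _ = (n * (n' * w * n'⁻¹) * n⁻¹) * (w * t) * t := by rw [h2, mul_one, h.comm t htU w hwU]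
      _ = (n * (n' * w * n'⁻¹) * n⁻¹) * w * (t * t) := by group
      _ = _ := by rw [h.sq t htU]; group
  rw [e]
  exact K.mul_mem (h.NK t ht n hn _ h4) h3

/-- **Step 1'.** -/
theorem step' {t t' : G} (ht : t ∈ Γ) (ht' : t' ∈ Γ) (ho : t' ∉ h.A ht) {w : G} (hw : w ∈ h.A ht) :
    w ∈ h.A ht' ∨ w * t ∈ h.A ht' := by
  by_cases h1 : w ∈ h.A ht'
  · exact Or.inl h1
  right
  have hwW : w ∈ W := hw.1
  have htW := h.ΓW t ht
  have h2 : ∃ m ∈ N t', m * w * m⁻¹ * w ∉ K := by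
    by_contra h3
    push Not at h3
    exact h1 ⟨hwW, h3⟩
  obtain ⟨m₀, hm₀, hm₀w⟩ := h2
  have key : ∀ m ∈ N t', m * t * m⁻¹ * t ∈ K → m * w * m⁻¹ * w ∈ K := fun m hm hmt =>
    h.step ht ht' ho hm (h.fix t' ht' m hm t ht hmt) hw
  have hm₀t : m₀ * t * m₀⁻¹ * t ∉ K := fun h3 => hm₀w (key m₀ hm₀ h3)
  refine ⟨W.mul_mem hwW htW, fun m hm => ?_⟩
  by_cases hmt : m * t * m⁻¹ * t ∈ K
  · by_contra h3
    have h4 := h.mv_mul_left ht' hm (W.mul_mem hwW htW) htW h3 hmt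
    have h5 : w * t * t = w := by rw [mul_assoc, h.sq t (h.WU htW), mul_one]
    rw [h5] at h4
    exact h4 (key m hm hmt)
  · have h3 := key _ ((N t').mul_mem hm hm₀) (h.mv_comp ht' hm hm₀ htW hmt hm₀t)
    have h4 : m * w * m⁻¹ * w ∉ K := fun h5 => hm₀w ((h.mv_comp_right (n' := m₀) ht' hm hwW h5).1 h3)
    exact h.mv_mul ht' hm hwW htW h4 hmt

theorem card_A [Finite G] {t t' : G} (ht : t ∈ Γ) (ht' : t' ∈ Γ) : Nat.card (h.A ht) = Nat.card (h.A ht') := by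
  obtain ⟨g, hK, hW, hN⟩ := h.tran t ht t' ht'
  have h1 : ∀ w, w ∈ h.A ht ↔ g * w * g⁻¹ ∈ h.A ht' := by
    intro w
    rw [h.mem_A, h.mem_A, ← hW]
    refine and_congr Iff.rfl ⟨fun h2 n hn => ?_, fun h2 n hn => ?_⟩
    · have h3 := h2 (g⁻¹ * n * g) ((hN _).2 (by
        have : g * (g⁻¹ * n * g) * g⁻¹ = n := by group
        rwa [this]))
      have h4 := (hK _).1 h3
      have h5 : g * (g⁻¹ * n * g * w * (g⁻¹ * n * g)⁻¹ * w) * g⁻¹ = n * (g * w * g⁻¹) * n⁻¹ * (g * w * g⁻¹) := by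
        group
      rwa [h5] at h4
    · have h3 := h2 (g * n * g⁻¹) ((hN _).1 hn)
      rw [hK]
      have h5 : g * n * g⁻¹ * (g * w * g⁻¹) * (g * n * g⁻¹)⁻¹ * (g * w * g⁻¹) = g * (n * w * n⁻¹ * w) * g⁻¹ := by
        group
      rwa [h5] at h3
  refine Nat.card_congr
    { toFun := fun x => ⟨g * x * g⁻¹, (h1 x).1 x.2⟩
      invFun := fun x => ⟨g⁻¹ * x * g, (h1 _).2 (by
        have : g * (g⁻¹ * (x : G) * g) * g⁻¹ = x := by group
        rw [this]
        exact x.2)⟩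
      left_inv := fun x => Subtype.ext (by simp [mul_assoc])
      right_inv := fun x => Subtype.ext (by simp [mul_assoc]) }

/-- **The dichotomy (7).** Either two distinct lines are always opposite, or an element of `N t` that moves one of the
opposites of `t` moves all of them. -/
theorem dich [Finite G] :
    (∀ t ∈ Γ, ∀ t' ∈ Γ, t * t' ∉ K → ∃ n ∈ N t, n * t' ≠ t' * n) ∨
      ∀ t ∈ Γ, ∀ t' ∈ Γ, ∀ u ∈ Γ, (∃ n ∈ N t, n * t' ≠ t' * n) → (∃ n ∈ N t, n * u ≠ u * n) →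
        ∀ n ∈ N t, n * t' = t' * n → n * u = u * n := by
  by_cases hall : ∀ t ∈ Γ, ∀ t' ∈ Γ, t * t' ∉ K → ∃ n ∈ N t, n * t' ≠ t' * n
  · exact Or.inl hall
  right
  push Not at hall
  obtain ⟨x, hx, w, hw, hxw, hcen⟩ := hall
  have hwx : w ∈ h.A hx := (h.mem_A_iff hx hw).2 hcen
  obtain ⟨v, hv, hv'⟩ := h.cov (x * w) (W.mul_mem (h.ΓW x hx) (h.ΓW w hw)) hxw
  have hxwW : x * w ∈ W := W.mul_mem (h.ΓW x hx) (h.ΓW w hw)
  have hcov : ∀ y ∈ W, y ∈ h.A hx ∨ y ∈ h.A hw ∨ y ∈ h.A hv := by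
    intro y hy
    by_cases hyK : y ∈ K
    · exact Or.inl (h.K_le hx subset_rfl hyK)
    obtain ⟨t', ht', hty⟩ := h.cov y hy hyK
    have hc : ∀ {r : G} (hr : r ∈ Γ), t' ∈ h.A hr ↔ y ∈ h.A hr := fun hr => h.mem_A_congr hr hty hy
    rw [← hc hx, ← hc hw, ← hc hv]
    by_cases h1 : t' ∈ h.A hx
    · exact Or.inl h1
    right
    rcases h.step' hx ht' h1 hwx with h2 | h2
    · exact Or.inl ((h.mem_A_comm ht' hw).1 h2)
    · right
      refine (h.mem_A_comm ht' hv).1 ((h.mem_A_congr ht' hv' hxwW).2 ?_)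
      rwa [h.comm x (h.WU (h.ΓW x hx)) w (h.WU (h.ΓW w hw))]
  have hcard : Nat.card W ≤ 2 * Nat.card (h.A hx) :=
    card_le_two_mul (fun y hy => hy.1) hcov (h.card_A hw hx) (h.card_A hv hx)
  intro t ht t' ht' u hu ho' hou n hn hnt'
  by_contra hnu
  have hT : {n} ⊆ (N t : Set G) := Set.singleton_subset_iff.mpr hn
  have hF : h.A ht ≤ h.fixK ht {n} hT := fun y hy => ⟨hy.1, fun m hm => by
    rw [Set.mem_singleton_iff.mp hm]
    exact hy.2 n hn⟩
  have hFW : h.fixK ht {n} hT ≤ W := fun y hy => hy.1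
  have huF : u ∉ h.fixK ht {n} hT := fun h1 => hnu (h.fix t ht n hn u hu (h1.2 n rfl))
  have ht'F : t' ∈ h.fixK ht {n} hT := ⟨h.ΓW t' ht', fun m hm => by
    rw [Set.mem_singleton_iff.mp hm, hnt', mul_inv_cancel_right, h.sq t' (h.WU (h.ΓW t' ht'))]
    exact K.one_mem⟩
  have ht'A : t' ∉ h.A ht := by
    intro h1
    obtain ⟨m, hm, hm'⟩ := ho'
    exact hm' ((h.mem_A_iff ht ht').1 h1 m hm)
  have hcard' : Nat.card W ≤ 2 * Nat.card (h.A ht) := by rwa [h.card_A ht hx]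
  have h1 : Nat.card (h.fixK ht {n} hT) < Nat.card W := by
    refine lt_of_le_of_ne (Nat.le_of_dvd Nat.card_pos (card_dvd_of_le hFW)) fun h2 => huF ?_
    have h3 : h.fixK ht {n} hT = W := eq_of_le_of_card_ge hFW h2.ge
    rw [h3]
    exact h.ΓW u hu
  have h2 : Nat.card (h.A ht) < Nat.card (h.fixK ht {n} hT) := by
    refine lt_of_le_of_ne (Nat.le_of_dvd Nat.card_pos (card_dvd_of_le hF)) fun h2 => ht'A ?_
    have h3 : h.A ht = h.fixK ht {n} hT := eq_of_le_of_card_ge hF h2.ge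
    rw [h3]
    exact ht'F
  obtain ⟨a, ha⟩ := card_dvd_of_le hF
  obtain ⟨b, hb⟩ := card_dvd_of_le hFW
  have ha2 : 2 ≤ a := by
    by_contra h3
    have h4 : Nat.card (h.A ht) * a ≤ Nat.card (h.A ht) * 1 := Nat.mul_le_mul le_rfl (by omega)
    omega
  have hb2 : 2 ≤ b := by
    by_contra h3
    have h4 : Nat.card (h.fixK ht {n} hT) * b ≤ Nat.card (h.fixK ht {n} hT) * 1 :=
      Nat.mul_le_mul le_rfl (by omega)
    omega
  have h4 : Nat.card (h.A ht) * 2 ≤ Nat.card (h.fixK ht {n} hT) := by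
    rw [ha]
    exact Nat.mul_le_mul le_rfl ha2
  have h5 : Nat.card (h.fixK ht {n} hT) * 2 ≤ Nat.card W := by
    rw [hb]
    exact Nat.mul_le_mul le_rfl hb2
  have h6 : 0 < Nat.card (h.A ht) := Nat.card_pos
  omega

end Res

end Cfsg.Agent.Omega.HOne.TvLin

end

section


/-!
# II.0h1, `q = 2`, case (β): block (7) of the transvection statement #15959 (helper865)

* `Opp.conj`: opposite pairs are conjugate;
* `exists_opp`: every line has an opposite line (at every point);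
* `res`: the residue at a point in the sense of `TvLin.Res`;
* `dich`: JOINT (7), `AllOpp ∨ E1`.
-/

set_option autoImplicit false
set_option linter.unusedSectionVars false

namespace Cfsg.Agent.Omega.HOne.TvDef

open Subgroup

variable {G : Type*} [Group G] {M : Subgroup G} {r t : G} {Q N : G → Subgroup G}

namespace TvH

variable (h : TvH M r t Q N)
include h

theorem opp_conj {m s a b : G} (hm : m ∈ M) (ho : Opp M r t N s a b) :
    Opp M r t N (m * s * m⁻¹) (m * a * m⁻¹) (m * b * m⁻¹) := by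
  obtain ⟨h1, h2, n, hn, h3⟩ := ho
  refine ⟨h1.conj hm, h2.conj hm, m * n * m⁻¹, h.Nc m _ _ hn, fun h4 => h3 ?_⟩
  have h5 : m * n * m⁻¹ * (m * b * m⁻¹) * (m * n * m⁻¹)⁻¹ = m * (n * b * n⁻¹) * m⁻¹ := by group
  rw [h5] at h4
  exact (MulAut.conj m).injective h4

theorem opp_conj_iff {m s a b : G} (hm : m ∈ M) :
    Opp M r t N (m * s * m⁻¹) (m * a * m⁻¹) (m * b * m⁻¹) ↔ Opp M r t N s a b := by
  refine ⟨fun h1 => ?_, h.opp_conj hm⟩
  have h2 := h.opp_conj (M.inv_mem hm) h1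
  have e : ∀ x : G, m⁻¹ * (m * x * m⁻¹) * m⁻¹⁻¹ = x := fun x => by group
  rwa [e, e, e] at h2

/-- **Every line has an opposite line.** -/
theorem exists_opp (hN : JNon M r t N) {s a : G} (hsa : Adj M r t s a) : ∃ b, Opp M r t N s a b := by
  by_contra hno
  push Not at hno
  -- no opposite pairs at all
  have hno' : ∀ x y z, ¬ Opp M r t N x y z := by
    intro x y z ho
    obtain ⟨m, hm, rfl, rfl⟩ := hsa
    obtain ⟨p, hp, h1, h2⟩ := ho.1
    apply hno (m * p⁻¹ * z * (m * p⁻¹)⁻¹)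
    have h3 := h.opp_conj (M.mul_mem hm (M.inv_mem hp)) ho
    have e1 : m * p⁻¹ * x * (m * p⁻¹)⁻¹ = m * r * m⁻¹ := by rw [← h1]; group
    have e2 : m * p⁻¹ * y * (m * p⁻¹)⁻¹ = m * t * m⁻¹ := by rw [← h2]; group
    rwa [e1, e2] at h3
  -- the closed neighbourhoods of collinear points are equal
  have key : ∀ x y z, Adj M r t x y → (z = x ∨ Adj M r t x z) → z = y ∨ Adj M r t y z := by
    intro x y z hxy hz
    rcases hz with rfl | hz
    · exact Or.inr (h.Adj_symm hxy)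
    by_cases h1 : z = y
    · exact Or.inl h1
    right
    by_cases h2 : z = x * y
    · rw [h2]
      exact h.Adj_mul' hxy
    · exact (hN x y z hxy hz h1 h2 (hno' x y z)).2
  have hall : ∀ z ∈ Om M r, z = r ∨ Adj M r t r z := by
    intro z hz
    refine h.conn_ind (P := fun z => ∀ y, (y = z ∨ Adj M r t z y) → y = r ∨ Adj M r t r y) ?_ ?_ hz z
      (Or.inl rfl)
    · exact fun y hy => hy
    · intro x y hxy hx w hw
      exact hx w (key y x w (h.Adj_symm hxy) hw)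
  obtain ⟨u, hu, hu'⟩ := h.beta
  apply hu'
  have hle : UU M r ≤ Q r := by
    unfold UU
    rw [Subgroup.closure_le]
    intro z hz
    rcases hall z hz with rfl | h1
    · exact h.mem_Q Om_base
    · exact h.Adj_mem h1
  exact hle hu

/-- the full preimage of the set of the lines on `s` -/
def _root_.Cfsg.Agent.Omega.HOne.TvDef.TvH.WW (h : TvH M r t Q N) (hO : JOpp M r t Q N) (hN : JNon M r t N)
    (s : G) (hs : s ∈ Om M r) : Subgroup G where
  carrier := {w | w ∈ UU M r ∧ (w ∈ ZC Q s ∨ ∃ a, Adj M r t s a ∧ a * w ∈ ZC Q s)}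
  one_mem' := ⟨(UU M r).one_mem, Or.inl (ZC Q s).one_mem⟩
  mul_mem' := by
    rintro x y ⟨hx, hx'⟩ ⟨hy, hy'⟩
    refine ⟨(UU M r).mul_mem hx hy, ?_⟩
    rcases hx' with hx' | ⟨a, ha, hax⟩ <;> rcases hy' with hy' | ⟨b, hb, hby⟩
    · exact Or.inl (mul_mem hx' hy')
    · right
      refine ⟨b, hb, ?_⟩
      have e : b * (x * y) = x * (b * y) := by
        rw [← mul_assoc, h.UU_comm (Om_le_UU (h.Adj_right hb)) hx, mul_assoc]
      rw [e]
      exact mul_mem hx' hby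
    · right
      refine ⟨a, ha, ?_⟩
      rw [← mul_assoc]
      exact mul_mem hax hy'
    · have haU := Om_le_UU (h.Adj_right ha)
      have hbU := Om_le_UU (h.Adj_right hb)
      have e : ∀ c ∈ UU M r, (a * b * c) * (x * y) = (a * x) * (b * y) * c := by
        intro c hc
        have e1 := h.UU_comm hbU hx
        have e2 := h.UU_comm hc ((UU M r).mul_mem hx hy)
        calc (a * b * c) * (x * y) = a * b * (c * (x * y)) := by group
          _ = a * (b * x) * y * c := by rw [e2]; group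
          _ = _ := by rw [e1]; group
      by_cases h1 : b = a
      · left
        subst h1
        have h2 := e 1 (UU M r).one_mem
        rw [mul_one, mul_one, h.Om_sq (h.Adj_right hb), one_mul] at h2
        rw [h2]
        exact mul_mem hax hby
      by_cases h2 : b = s * a
      · left
        have hsU := Om_le_UU hs
        have h3 : a * b = s := by
          rw [h2, ← mul_assoc, h.UU_comm haU hsU, mul_assoc, h.Om_sq (h.Adj_right ha), mul_one]
        have h4 := e s hsU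
        rw [h3, h.Om_sq hs, one_mul] at h4
        rw [h4]
        exact mul_mem (mul_mem hax hby) (h.mem_ZC hs)
      right
      by_cases ho : Opp M r t N s a b
      · obtain ⟨-, -, -, -, -, c, -, hcU, hcs, -, -, -, habc, -, -⟩ := hO s a b ho
        refine ⟨a * b * c, habc, ?_⟩
        rw [e c hcU]
        exact mul_mem (mul_mem hax hby) hcs
      · refine ⟨a * b, (hN s a b ha hb h1 h2 ho).1, ?_⟩
        have h3 := e 1 (UU M r).one_mem
        rw [mul_one, mul_one] at h3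
        rw [h3]
        exact mul_mem hax hby
  inv_mem' := by
    rintro x ⟨hx, hx'⟩
    rw [h.UU_inv hx]
    exact ⟨hx, hx'⟩

theorem mem_WW (hO : JOpp M r t Q N) (hN : JNon M r t N) {s : G} (hs : s ∈ Om M r) {w : G} :
    w ∈ h.WW hO hN s hs ↔ w ∈ UU M r ∧ (w ∈ ZC Q s ∨ ∃ a, Adj M r t s a ∧ a * w ∈ ZC Q s) := Iff.rfl

theorem WW_le_Q (hO : JOpp M r t Q N) (hN : JNon M r t N) {s : G} (hs : s ∈ Om M r) {w : G}
    (hw : w ∈ h.WW hO hN s hs) : w ∈ Q s := by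
  rcases hw.2 with h1 | ⟨a, ha, h1⟩
  · exact h.ZC_le_Q hs h1
  · exact (mul_mem_cancel_left (h.Adj_mem ha)).1 (h.ZC_le_Q hs h1)

/-- **The residue at `s`.** -/
theorem res (hO : JOpp M r t Q N) (hN : JNon M r t N) {s : G} (hs : s ∈ Om M r) :
    TvLin.Res (UU M r) (UU M r ⊓ ZC Q s) (h.WW hO hN s hs) {a | Adj M r t s a} N := by
  have hcom : ∀ {x y : G}, x ∈ UU M r → y ∈ UU M r → x * y = y * x := fun hx hy => h.UU_comm hx hy
  have conjU : ∀ {a : G}, Adj M r t s a → ∀ {n : G}, n ∈ N a → ∀ {u : G}, u ∈ UU M r → n * u * n⁻¹ ∈ UU M r :=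
    fun ha _ hn _ hu => UU_conj (h.N_le_M (h.Adj_right ha) hn) hu
  -- `[w, n] = w (n w n⁻¹)`
  have comm_eq : ∀ {a : G}, Adj M r t s a → ∀ {n : G}, n ∈ N a → ∀ {u : G}, u ∈ UU M r →
      u * n * u⁻¹ * n⁻¹ = n * u * n⁻¹ * u := by
    intro a ha n hn u hu
    have h1 := hcom hu (conjU ha hn hu)
    rw [h.UU_inv hu, ← h1]
    group
  refine
    { comm := fun a ha b hb => hcom ha hb
      sq := fun a ha => h.UU_sq ha
      WU := fun w hw => hw.1
      KW := fun k hk => ⟨hk.1, Or.inl hk.2⟩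
      ΓW := fun a ha => ⟨Om_le_UU (h.Adj_right ha), Or.inr ⟨a, ha, by
        rw [h.Om_sq (h.Adj_right ha)]
        exact (ZC Q s).one_mem⟩⟩
      ΓK := fun a ha hk => h.Adj_not_mem ha hk.2
      cov := ?_
      NK := fun a ha n hn k hk => ⟨conjU ha hn hk.1, (h.ZC_fix (h.N_comm ha hn)).2 hk.2⟩
      tv := ?_
      Nt := fun a ha n hn => h.N_self (h.Adj_right ha) hn
      fix := ?_
      norm := fun a ha b hb m hm hma n hn => (h.N_fix hma).2 hn
      symm := ?_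
      tran := ?_ }
  · intro w hw hwK
    rcases hw.2 with h1 | ⟨a, ha, h1⟩
    · exact absurd ⟨hw.1, h1⟩ hwK
    · exact ⟨a, ha, (UU M r).mul_mem (Om_le_UU (h.Adj_right ha)) hw.1, h1⟩
  · intro a ha n hn w hw
    have hwU : w ∈ UU M r := hw.1
    have haU := Om_le_UU (h.Adj_right ha)
    have h1 := h.comm_IN ha hwU (h.WW_le_Q hO hN hs hw) hn
    rw [comm_eq ha hn hwU] at h1
    have hU : n * w * n⁻¹ * w ∈ UU M r := (UU M r).mul_mem (conjU ha hn hwU) hwU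
    rcases h1.2.2 with h2 | h2
    · exact Or.inl ⟨hU, h2⟩
    · right
      rw [← hcom haU hU]
      exact ⟨(UU M r).mul_mem haU hU, h2⟩
  · intro a ha n hn b hb hK
    have hbU := Om_le_UU (h.Adj_right hb)
    have haU := Om_le_UU (h.Adj_right ha)
    have hsU := Om_le_UU hs
    rcases h.noPar_at (h.Adj_N ha hb hn) hb hK.2 with h1 | h1
    · have h2 : n * b * n⁻¹ * n = b * n := by rw [← h1]
      rwa [inv_mul_cancel_right] at h2
    · exfalso
      -- `[b, n] = s`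
      have h2 := (h.comm_IN ha hbU (h.Adj_mem hb) hn).1
      rw [comm_eq ha hn hbU] at h2
      have h3 : n * b * n⁻¹ * b = s := by
        have h4 : s * b = n * b * n⁻¹ := by
          conv_lhs => rw [h1]
          exact h.mul_cancel hs _
        rw [← h4, mul_assoc, h.Om_sq (h.Adj_right hb), mul_one]
      rw [h3] at h2
      exact h.not_both ha h2
  · rintro a ha b hb ⟨n, hn, hne⟩
    have ho : Opp M r t N s a b := ⟨ha, hb, n, hn, fun h1 => hne (by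
      have h2 : n * b * n⁻¹ * n = b * n := by rw [h1]
      rwa [inv_mul_cancel_right] at h2)⟩
    obtain ⟨-, -, m, hm, h1⟩ := (hO s a b ho).1
    exact ⟨m, hm, fun h2 => h1 (by rw [h2, mul_inv_cancel_right])⟩
  · intro a ha b hb
    obtain ⟨m, hm, hmr, hmt⟩ := ha
    obtain ⟨p, hp, hpr, hpt⟩ := hb
    have hgM : p * m⁻¹ ∈ M := M.mul_mem hp (M.inv_mem hm)
    have hgs : p * m⁻¹ * s * (p * m⁻¹)⁻¹ = s := by
      conv_lhs => rw [← hmr]
      conv_rhs => rw [← hpr]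
      group
    have hga : p * m⁻¹ * a * (p * m⁻¹)⁻¹ = b := by
      rw [← hmt, ← hpt]
      group
    set g := p * m⁻¹ with hg
    have hgs' : g * s = s * g := by
      have h1 : g * s * g⁻¹ * g = s * g := by rw [hgs]
      rwa [inv_mul_cancel_right] at h1
    have hUU : ∀ x, x ∈ UU M r ↔ g * x * g⁻¹ ∈ UU M r := by
      intro x
      refine ⟨UU_conj hgM, fun h1 => ?_⟩
      have h2 := UU_conj (M.inv_mem hgM) h1
      have e : g⁻¹ * (g * x * g⁻¹) * g⁻¹⁻¹ = x := by group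
      rwa [e] at h2
    have hZ : ∀ x, x ∈ ZC Q s ↔ g * x * g⁻¹ ∈ ZC Q s := fun x => (h.ZC_fix hgs').symm
    refine ⟨g, fun x => and_congr (hUU x) (hZ x), fun x => ?_, fun x => ?_⟩
    · refine and_congr (hUU x) (or_congr (hZ x) ⟨?_, ?_⟩)
      · rintro ⟨c, hc, hcx⟩
        refine ⟨g * c * g⁻¹, ?_, ?_⟩
        · have := hc.conj hgM
          rwa [hgs] at this
        · have := (hZ _).1 hcx
          have e : g * c * g⁻¹ * (g * x * g⁻¹) = g * (c * x) * g⁻¹ := by group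
          rwa [e]
      · rintro ⟨c, hc, hcx⟩
        refine ⟨g⁻¹ * c * g⁻¹⁻¹, ?_, ?_⟩
        · have h1 := hc.conj (M.inv_mem hgM)
          have e : g⁻¹ * s * g⁻¹⁻¹ = s := by
            conv_lhs => rw [← hgs]
            group
          rwa [e] at h1
        · refine (hZ _).2 ?_
          have e : g * (g⁻¹ * c * g⁻¹⁻¹ * x) * g⁻¹ = c * (g * x * g⁻¹) := by group
          rwa [e]
    · have h1 := h.N_conj (g := g) (s := a) (x := x)
      rw [hga] at h1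
      exact h1.symm

/-- **JOINT (7).** -/
theorem dich [Finite G] (hO : JOpp M r t Q N) (hN : JNon M r t N) : JDich M r t N := by
  have key : ∀ {n b : G}, n * b * n⁻¹ = b ↔ n * b = b * n := fun {n b} => mul_inv_eq_iff_eq_mul
  rcases (h.res hO hN Om_base).dich with h1 | h1
  · left
    rintro s a b ⟨m, hm, rfl, rfl⟩ hb hne hne'
    have hb' : Adj M r t r (m⁻¹ * b * m) := by
      have := hb.conj (M.inv_mem hm)
      simpa [mul_assoc] using this
    have hK : t * (m⁻¹ * b * m) ∉ UU M r ⊓ ZC Q r := by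
      intro hK
      rcases h.noPar_at Adj_base hb' hK.2 with h2 | h2
      · apply hne
        rw [← h2]
        group
      · apply hne'
        have : b = m * (m⁻¹ * b * m) * m⁻¹ := by group
        rw [this, h2]
        group
    obtain ⟨n, hn, hnb⟩ := h1 t Adj_base _ hb' hK
    have h3 : Opp M r t N r t (m⁻¹ * b * m) := ⟨Adj_base, hb', n, hn, fun h4 => hnb (key.1 h4)⟩
    have h4 := h.opp_conj hm h3
    have e : m * (m⁻¹ * b * m) * m⁻¹ = b := by group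
    rwa [e] at h4
  · right
    rintro s a b c hb hc n hn
    have main : ∀ x y, Opp M r t N s a x → Opp M r t N s a y → n * x = x * n → n * y = y * n := by
      intro x y hx hy hnx
      obtain ⟨m, hm, rfl, rfl⟩ := hx.1
      have hx' := h.opp_conj (M.inv_mem hm) hx
      have hy' := h.opp_conj (M.inv_mem hm) hy
      have e : ∀ z : G, m⁻¹ * (m * z * m⁻¹) * m⁻¹⁻¹ = z := fun z => by group
      rw [e, e] at hx' hy'
      have hn' : m⁻¹ * n * m⁻¹⁻¹ ∈ N t := by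
        have := h.Nc m⁻¹ _ _ hn
        rwa [e] at this
      obtain ⟨-, hx1, p, hp, hp'⟩ := hx'
      obtain ⟨-, hy1, q, hq, hq'⟩ := hy'
      have h2 := h1 t Adj_base _ hx1 _ hy1 ⟨p, hp, fun h4 => hp' (key.2 h4)⟩ ⟨q, hq, fun h4 => hq' (key.2 h4)⟩
        _ hn' (by
          have e1 : m⁻¹ * n * m⁻¹⁻¹ * (m⁻¹ * x * m⁻¹⁻¹) = m⁻¹ * (n * x) * m⁻¹⁻¹ := by group
          have e2 : m⁻¹ * x * m⁻¹⁻¹ * (m⁻¹ * n * m⁻¹⁻¹) = m⁻¹ * (x * n) * m⁻¹⁻¹ := by group
          rw [e1, e2, hnx])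
      have e1 : m⁻¹ * n * m⁻¹⁻¹ * (m⁻¹ * y * m⁻¹⁻¹) = m⁻¹ * (n * y) * m⁻¹⁻¹ := by group
      have e2 : m⁻¹ * y * m⁻¹⁻¹ * (m⁻¹ * n * m⁻¹⁻¹) = m⁻¹ * (y * n) * m⁻¹⁻¹ := by group
      rw [e1, e2] at h2
      exact (MulAut.conj m⁻¹).injective h2
    exact ⟨main b c hb hc, main c b hc hb⟩

end TvH

end Cfsg.Agent.Omega.HOne.TvDef

end

section


/-!
# II.0h1, `q = 2`, case (beta): (13) of #15959

`j13` : if `u₀ ∈ U` centralises `N0` (index 2 in `N r`, normalised by `S`) and `[u₀, n₁] = r c`, then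
`[w, n₁] ∈ {1, r c}` for every `w ∈ C_U(N0)`.
-/

set_option autoImplicit false
set_option linter.unusedSectionVars false

namespace Cfsg.Agent.Omega.HOne.TvThirteen

open Subgroup Cfsg.Agent.Omega.HOne.TvDef

variable {G : Type*} [Group G] {M S : Subgroup G} {r t : G} {Q N : G → Subgroup G}

theorem le_norm_of {H : Subgroup G} {S : Subgroup G} (hS : ∀ x ∈ S, ∀ y ∈ H, x * y * x⁻¹ ∈ H) :
    S ≤ normalizer (H : Set G) := by
  intro x hx
  rw [mem_normalizer_iff]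
  intro y
  refine ⟨hS x hx y, fun hy => ?_⟩
  have := hS x⁻¹ (inv_mem hx) _ hy
  simpa [mul_assoc] using this

/-- a nontrivial section `B / A` has a nontrivial fixed point under a 2-group -/
theorem exists_fixed_mod [Finite G] {S B A : Subgroup G} (hS : IsPGroup 2 S) (hB2 : IsPGroup 2 B)
    (hBn : ∀ x ∈ S, ∀ b ∈ B, x * b * x⁻¹ ∈ B) (hAn : ∀ x ∈ S, ∀ b ∈ A, x * b * x⁻¹ ∈ A)
    (hAB : ∀ x ∈ B, ∀ b ∈ A, x * b * x⁻¹ ∈ A) (hne : ¬ B ≤ A) :
    ∃ m ∈ B, m ∉ A ∧ ∀ t ∈ S, t * m * t⁻¹ * m⁻¹ ∈ A := by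
  have : Fact (Nat.Prime 2) := ⟨Nat.prime_two⟩
  set T : Subgroup G := S ⊔ B with hTdef
  have hSB : S ≤ normalizer (B : Set G) := le_norm_of hBn
  have hT : IsPGroup 2 T := IsPGroup.to_sup_of_normal_right' hS hB2 hSB
  have hBT : B ≤ T := le_sup_right
  have hB : T ≤ normalizer (B : Set G) := sup_le hSB le_normalizer
  have hA : T ≤ normalizer (A : Set G) := sup_le (le_norm_of hAn) (le_norm_of hAB)
  have hnA : (A.subgroupOf T).Normal := normal_subgroupOf_of_le_normalizer hA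
  have hnB : (B.subgroupOf T).Normal := normal_subgroupOf_of_le_normalizer hB
  have hp : IsPGroup 2 (T ⧸ A.subgroupOf T) := hT.to_quotient _
  have : Group.IsNilpotent (T ⧸ A.subgroupOf T) := hp.isNilpotent
  let K : Subgroup (T ⧸ A.subgroupOf T) := (B.subgroupOf T).map (QuotientGroup.mk' (A.subgroupOf T))
  have hK : K.Normal := hnB.map _ (QuotientGroup.mk'_surjective _)
  have hK1 : K ≠ ⊥ := by
    intro h
    apply hne
    intro x hx
    have h1 : QuotientGroup.mk' (A.subgroupOf T) ⟨x, hBT hx⟩ ∈ K := ⟨⟨x, hBT hx⟩, hx, rfl⟩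
    rw [h, mem_bot] at h1
    exact (QuotientGroup.eq_one_iff (⟨x, hBT hx⟩ : T)).1 h1
  have h2 := Lib.NormalAbelian.normal_inf_center_ne_bot K hK1
  obtain ⟨⟨y, hy⟩, hy1⟩ := Subgroup.ne_bot_iff_exists_ne_one.1 h2
  obtain ⟨⟨m, hm, rfl⟩, hyc⟩ := mem_inf.1 hy
  refine ⟨m, hm, fun h => hy1 ?_, fun t ht => ?_⟩
  · apply Subtype.ext
    exact (QuotientGroup.eq_one_iff m).2 h
  · have ht' : t ∈ T := (le_sup_left : S ≤ T) ht
    have h3 := mem_center_iff.1 hyc (QuotientGroup.mk' (A.subgroupOf T) ⟨t, ht'⟩)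
    rw [← map_mul, ← map_mul] at h3
    have h4 : QuotientGroup.mk' (A.subgroupOf T) (⟨t, ht'⟩ * m * (⟨t, ht'⟩ : T)⁻¹ * m⁻¹) = 1 := by
      rw [mul_assoc, map_mul, h3, ← map_mul]
      rw [show m * ⟨t, ht'⟩ * ((⟨t, ht'⟩ : T)⁻¹ * m⁻¹) = 1 by group, map_one]
    have h5 := (QuotientGroup.eq_one_iff ((⟨t, ht'⟩ : T) * m * (⟨t, ht'⟩ : T)⁻¹ * m⁻¹)).1 h4
    exact h5

/-- (13), general form: only `c ∈ U ∩ C_V` fixed by `S` -/
theorem j13' [Finite G] (h : TvH M r t Q N) (hS : TvS M S r t N) {c : G} (hcU : c ∈ UU M r)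
    (hcr : c ∈ ZC Q r) (hct : c ∈ ZC Q t) (hcS : ∀ x ∈ S, x * c = c * x)
    {N0 : Subgroup G} {n1 u0 : G} (hN0 : N0 ≤ N r) (hn1 : n1 ∈ N r)
    (hcov : ∀ n ∈ N r, n ∈ N0 ∨ n1 * n ∈ N0) (hSN : ∀ x ∈ S, ∀ n ∈ N0, x * n * x⁻¹ ∈ N0)
    (hu0 : u0 ∈ UU M r) (hu0N : ∀ n ∈ N0, u0 * n = n * u0) (hu0n : u0 * n1 * u0⁻¹ = n1 * (r * c)) :
    ∀ w ∈ UU M r, (∀ n ∈ N0, w * n = n * w) → w * n1 * w⁻¹ = n1 ∨ w * n1 * w⁻¹ = n1 * (r * c) := by
  have hrU : r ∈ UU M r := Om_le_UU Om_base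
  have hrcU : r * c ∈ UU M r := mul_mem hrU hcU
  have hrcZ : r * c ∈ ZC Q r := mul_mem (h.mem_ZC Om_base) hcr
  have hNM : N r ≤ M := h.N_le_M Om_base
  have hNQ : N r ≤ Q r := h.N_le_Q Om_base
  -- `r c ∉ ZC t`
  have hrct : r * c ∉ ZC Q t := by
    intro h1
    have h2 : r ∈ ZC Q t := by
      have : r = (r * c) * c⁻¹ := by group
      rw [this]; exact mul_mem h1 (inv_mem hct)
    exact h.not_both Adj_base h2
  have hrc1 : r * c ≠ 1 := fun e => hrct (e ▸ one_mem _)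
  -- the group of commutators
  let CC : Subgroup G :=
    { carrier := {a | a ∈ UU M r ∧ a ∈ ZC Q r ∧ ∃ w ∈ UU M r, (∀ n ∈ N0, w * n = n * w) ∧
        w * n1 * w⁻¹ = n1 * a}
      one_mem' := ⟨one_mem _, one_mem _, 1, one_mem _, fun n _ => by simp, by simp⟩
      mul_mem' := by
        rintro a b ⟨ha, ha', w, hw, hwN, hwa⟩ ⟨hb, hb', v, hv, hvN, hvb⟩
        refine ⟨mul_mem ha hb, mul_mem ha' hb', v * w, mul_mem hv hw, ?_, ?_⟩
        · intro n hn
          calc v * w * n = v * (w * n) := by group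
            _ = (v * n) * w := by rw [hwN n hn]; group
            _ = n * (v * w) := by rw [hvN n hn]; group
        · calc v * w * n1 * (v * w)⁻¹ = v * (w * n1 * w⁻¹) * v⁻¹ := by group
            _ = (v * n1 * v⁻¹) * (v * a * v⁻¹) := by rw [hwa]; group
            _ = n1 * b * a := by rw [hvb, h.UU_comm hv ha]; group
            _ = n1 * (a * b) := by rw [h.UU_comm ha hb]; group
      inv_mem' := by
        rintro a ⟨ha, ha', w, hw, hwN, hwa⟩
        have : a⁻¹ = a := h.UU_inv ha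
        rw [this]
        exact ⟨ha, ha', w, hw, hwN, hwa⟩ }
  have memCC : ∀ w ∈ UU M r, (∀ n ∈ N0, w * n = n * w) → n1⁻¹ * (w * n1 * w⁻¹) ∈ CC := by
    intro w hw hwN
    have e1 : n1⁻¹ * (w * n1 * w⁻¹) = n1⁻¹ * w * n1⁻¹⁻¹ * w⁻¹ := by group
    refine ⟨?_, ?_, w, hw, hwN, by group⟩
    · rw [e1]; exact UU_comm_mem (M.inv_mem (hNM hn1)) hw
    · have hwr : w * r = r * w := h.UU_comm hw hrU
      exact mul_mem (inv_mem (h.N_le_ZC Om_base hn1)) ((h.ZC_fix hwr).2 (h.N_le_ZC Om_base hn1))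
  -- `r ∉ CC`
  have hrCC : r ∉ CC := by
    rintro ⟨-, -, w, hw, hwN, hwa⟩
    have hwr : w * r = r * w := h.UU_comm hw hrU
    have hn1r : n1 * r = r * n1 := h.N_self Om_base hn1
    have h1 := h.red w hw (by
      intro n hn
      rcases hcov n hn with h2 | h2
      · left
        rw [hwN n h2]; group
      · right
        have h3 := hwN _ h2
        -- w n w⁻¹ = (w n1 w⁻¹)⁻¹ (n1 n)
        have h4 : w * n * w⁻¹ = (w * n1 * w⁻¹)⁻¹ * (n1 * n) := by
          calc w * n * w⁻¹ = (w * n1 * w⁻¹)⁻¹ * (w * (n1 * n) * w⁻¹) := by group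
            _ = _ := by rw [h3]; group
        have h5 : (r : G)⁻¹ = r := h.UU_inv hrU
        rw [h4, hwa]
        calc (n1 * r)⁻¹ * (n1 * n) * n⁻¹ = r⁻¹ := by group
          _ = r := h5)
    have h2 := h1 n1 hn1
    apply h.r_ne
    have h3 : n1 * r = n1 * 1 := by
      rw [← hwa, h2]; group
    exact mul_left_cancel h3
  -- `S`-invariance
  have hSCC : ∀ x ∈ S, ∀ a ∈ CC, x * a * x⁻¹ ∈ CC := by
    rintro x hx a ⟨ha, ha', w, hw, hwN, hwa⟩
    have hxM := hS.S_le hx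
    have hxr := hS.S_r x hx
    have hax : x * a * x⁻¹ ∈ UU M r := UU_conj hxM ha
    have hax' : x * a * x⁻¹ ∈ ZC Q r := (h.ZC_fix hxr).2 ha'
    have hwx : x * w * x⁻¹ ∈ UU M r := UU_conj hxM hw
    have hxn : x * n1 * x⁻¹ ∈ N r := (h.N_fix hxr).2 hn1
    have hwN' : ∀ n ∈ N0, (x * w * x⁻¹) * n = n * (x * w * x⁻¹) := by
      intro n hn
      have h1 : x⁻¹ * n * x ∈ N0 := by
        have := hSN x⁻¹ (inv_mem hx) n hn
        simpa using this
      have h2 := hwN _ h1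
      calc (x * w * x⁻¹) * n = x * (w * (x⁻¹ * n * x)) * x⁻¹ := by group
        _ = x * ((x⁻¹ * n * x) * w) * x⁻¹ := by rw [h2]
        _ = _ := by group
    refine ⟨hax, hax', x * w * x⁻¹, hwx, hwN', ?_⟩
    have key : (x * w * x⁻¹) * (x * n1 * x⁻¹) * (x * w * x⁻¹)⁻¹ = (x * n1 * x⁻¹) * (x * a * x⁻¹) := by
      calc (x * w * x⁻¹) * (x * n1 * x⁻¹) * (x * w * x⁻¹)⁻¹ = x * (w * n1 * w⁻¹) * x⁻¹ := by group
        _ = _ := by rw [hwa]; group
    rcases hcov _ hxn with h1 | h1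
    · -- then `n1 ∈ N0`, `a = 1`
      have h2 : n1 ∈ N0 := by
        have := hSN x⁻¹ (inv_mem hx) _ h1
        simpa [mul_assoc] using this
      have h3 : a = 1 := by
        have h4 : n1 * a = n1 * 1 := by
          rw [← hwa, hwN n1 h2]; group
        exact mul_left_cancel h4
      have h5 := hwN' n1 h2
      rw [h5, h3]; group
    · have h2 := hwN' _ h1
      -- w' n1 w'⁻¹ = n1 * ...
      have h3 : (x * w * x⁻¹) * n1 * (x * w * x⁻¹)⁻¹ =
          (n1 * (x * n1 * x⁻¹)) * ((x * w * x⁻¹) * (x * n1 * x⁻¹) * (x * w * x⁻¹)⁻¹)⁻¹ := by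
        calc (x * w * x⁻¹) * n1 * (x * w * x⁻¹)⁻¹ =
            ((x * w * x⁻¹) * (n1 * (x * n1 * x⁻¹)) * (x * w * x⁻¹)⁻¹) *
              ((x * w * x⁻¹) * (x * n1 * x⁻¹) * (x * w * x⁻¹)⁻¹)⁻¹ := by group
          _ = _ := by rw [h2]; group
      rw [h3, key]
      have h4 : (x * n1 * x⁻¹) * (x * a * x⁻¹) = (x * a * x⁻¹) * (x * n1 * x⁻¹) :=
        (h.ZC_comm hax' (hNQ hxn)).symm
      rw [h4]
      have h5 : (x * a * x⁻¹)⁻¹ = x * a * x⁻¹ := h.UU_inv hax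
      calc (n1 * (x * n1 * x⁻¹)) * ((x * a * x⁻¹) * (x * n1 * x⁻¹))⁻¹ = n1 * (x * a * x⁻¹)⁻¹ := by group
        _ = _ := by rw [h5]
  intro w hw hwN
  by_contra hno
  push Not at hno
  set a0 := n1⁻¹ * (w * n1 * w⁻¹) with ha0
  have ha0CC : a0 ∈ CC := memCC w hw hwN
  have ha0' : w * n1 * w⁻¹ = n1 * a0 := by rw [ha0]; group
  have ha01 : a0 ≠ 1 := by
    intro e; apply hno.1; rw [ha0', e, mul_one]
  have ha02 : a0 ≠ r * c := by
    intro e; apply hno.2; rw [ha0', e]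
  let A : Subgroup G := Subgroup.zpowers (r * c)
  have hA : ∀ x, x ∈ A ↔ x = 1 ∨ x = r * c := by
    intro x
    constructor
    · rintro ⟨k, rfl⟩
      have h2 : (r * c) ^ (2 : ℤ) = 1 := by
        rw [zpow_two]; exact h.UU_sq hrcU
      rcases Int.even_or_odd k with ⟨l, hl⟩ | ⟨l, hl⟩
      · left
        show (r * c) ^ k = 1
        rw [hl, ← two_mul, zpow_mul, h2, one_zpow]
      · right
        show (r * c) ^ k = r * c
        rw [hl, zpow_add, zpow_mul, h2, one_zpow, one_mul, zpow_one]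
    · rintro (rfl | rfl)
      · exact one_mem _
      · exact Subgroup.mem_zpowers _
  have hSrc : ∀ x ∈ S, x * (r * c) = (r * c) * x := by
    intro x hx
    have h1 := hS.S_r x hx
    have h2 := hcS x hx
    calc x * (r * c) = (x * r) * c := by group
      _ = r * (x * c) := by rw [h1]; group
      _ = _ := by rw [h2]; group
  have hCC2 : IsPGroup 2 CC := by
    intro g
    refine ⟨1, ?_⟩
    apply Subtype.ext
    have : (g : G) * g = 1 := h.UU_sq g.2.1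
    simpa [pow_two] using this
  obtain ⟨a, haCC, haA, haS⟩ := exists_fixed_mod (A := A) hS.S_p hCC2 hSCC
    (by
      intro x hx b hb
      rw [hA] at hb ⊢
      rcases hb with rfl | rfl
      · left; group
      · right; rw [hSrc x hx]; group)
    (by
      intro x hx b hb
      rw [hA] at hb ⊢
      rcases hb with rfl | rfl
      · left; group
      · right; rw [h.UU_comm hx.1 hrcU]; group)
    (by
      intro hle
      have := hle ha0CC
      rw [hA] at this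
      rcases this with h1 | h1
      · exact ha01 h1
      · exact ha02 h1)
  have haU := haCC.1
  have haZ := haCC.2.1
  have ha1 : a ≠ 1 := by rintro rfl; exact haA (one_mem _)
  have ha2 : a ≠ r * c := by rintro rfl; exact haA (Subgroup.mem_zpowers _)
  have haS' : ∀ x ∈ S, x * a * x⁻¹ = a ∨ x * a * x⁻¹ = a * (r * c) := by
    intro x hx
    have h1 := haS x hx
    rw [hA] at h1
    rcases h1 with h1 | h1
    · left
      calc x * a * x⁻¹ = (x * a * x⁻¹ * a⁻¹) * a := by group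
        _ = a := by rw [h1, one_mul]
    · right
      calc x * a * x⁻¹ = (x * a * x⁻¹ * a⁻¹) * a := by group
        _ = a * (r * c) := by rw [h1, h.UU_comm hrcU haU]
  -- `N t` centralises `a`
  have haN : ∀ n ∈ N t, a * n = n * a := by
    intro n hn
    have h1 := h.comm_KN Adj_base haU haZ hn
    rcases haS' n (hS.N_S hn) with h2 | h2
    · calc a * n = (n * a * n⁻¹) * n := by rw [h2]
        _ = _ := by group
    · exfalso
      -- a n a⁻¹ n⁻¹ = a (n a⁻¹ n⁻¹)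
      have h3 : a * n * a⁻¹ * n⁻¹ = r * c := by
        have ha' : a⁻¹ = a := h.UU_inv haU
        calc a * n * a⁻¹ * n⁻¹ = a * (n * a * n⁻¹) := by rw [ha']; group
          _ = (a * a) * (r * c) := by rw [h2]; group
          _ = r * c := by rw [h.UU_sq haU, one_mul]
      rw [h3] at h1
      exact hrct h1.1
  have haQt : a ∈ Q t := h.UN_at h.t_Om haU haN
  -- `S` centralises `a`
  have haC : ∀ x ∈ S, x * a = a * x := by
    intro x hx
    rcases haS' x hx with h1 | h1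
    · calc x * a = (x * a * x⁻¹) * x := by group
        _ = a * x := by rw [h1]
    · exfalso
      have hxr := hS.S_r x hx
      have hxM := hS.S_le hx
      -- C_V is `x`-invariant
      have inv : ∀ b, b ∈ ZC Q r → b ∈ ZC Q t → x * b * x⁻¹ ∈ ZC Q t := by
        intro b hb hb'
        have h2 : x * b * x⁻¹ ∈ ZC Q r := (h.ZC_fix hxr).2 hb
        have h3 : x * b * x⁻¹ ∈ ZC Q (x * t * x⁻¹) := h.ZC_conj.2 hb'
        rcases hS.S_t x hx with h4 | h4
        · rwa [h4] at h3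
        · rw [h4] at h3
          have h5 := h.Adj_CV h.Adj_mul_base h2 h3
          rwa [h.mul_cancel Om_base] at h5
      rcases h.Adj_ZQ Adj_base haZ haQt with h2 | h2
      · have h3 := inv a haZ h2
        rw [h1] at h3
        apply hrct
        have : r * c = a⁻¹ * (a * (r * c)) := by group
        rw [this]; exact mul_mem (inv_mem h2) h3
      · have h3 := inv (r * a) (mul_mem (h.mem_ZC Om_base) haZ) h2
        have h4 : x * (r * a) * x⁻¹ = r * a * (r * c) := by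
          calc x * (r * a) * x⁻¹ = (x * r) * a * x⁻¹ := by group
            _ = r * (x * a * x⁻¹) := by rw [hxr]; group
            _ = _ := by rw [h1]; group
        rw [h4] at h3
        apply hrct
        have : r * c = (r * a)⁻¹ * (r * a * (r * c)) := by group
        rw [this]; exact mul_mem (inv_mem h2) h3
  obtain ⟨-, -, u1, hu1, hu1N, hu1a⟩ := haCC
  -- memberships in `N0`
  have inN0 : ∀ b u, b ∈ UU M r → u ∈ UU M r → u * n1 * u⁻¹ = n1 * b → b ∈ N0 := by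
    intro b u hb hu hub
    have hur : u * r = r * u := h.UU_comm hu hrU
    have h1 : b ∈ N r := by
      have : b = n1⁻¹ * (u * n1 * u⁻¹) := by rw [hub]; group
      rw [this]
      exact mul_mem (inv_mem hn1) ((h.N_fix hur).2 hn1)
    rcases hcov b h1 with h2 | h2
    · exact h2
    · exfalso
      have h3 := hu0N _ h2
      have h4 : u0 * (n1 * b) * u0⁻¹ = n1 * (r * c) * b := by
        calc u0 * (n1 * b) * u0⁻¹ = (u0 * n1 * u0⁻¹) * (u0 * b * u0⁻¹) := by group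
          _ = n1 * (r * c) * b := by rw [hu0n, h.UU_comm hu0 hb]; group
      rw [h3] at h4
      apply hrc1
      have h5 : n1 * (r * c) * b = n1 * 1 * b := by rw [← h4]; group
      exact mul_left_cancel (mul_right_cancel h5)
  refine hS.hside N0 n1 u0 u1 (r * c) a hN0 hn1 hcov ?_ ?_ hu0N hu1N hu0n hu1a
    (inN0 _ u0 hrcU hu0 hu0n) (inN0 _ u1 haU hu1 hu1a) hSrc haC hrc1 ha1 ha2
  · rw [mem_centralizer_singleton_iff]
    exact h.UU_comm hu0 hrU
  · rw [mem_centralizer_singleton_iff]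
    exact h.UU_comm hu1 hrU

/-- (13) -/
theorem j13 [Finite G] (h : TvH M r t Q N) (hS : TvS M S r t N) {c : G} (hc : JConst M r t Q N c)
    {N0 : Subgroup G} {n1 u0 : G} (hN0 : N0 ≤ N r) (hn1 : n1 ∈ N r)
    (hcov : ∀ n ∈ N r, n ∈ N0 ∨ n1 * n ∈ N0) (hSN : ∀ x ∈ S, ∀ n ∈ N0, x * n * x⁻¹ ∈ N0)
    (hu0 : u0 ∈ UU M r) (hu0N : ∀ n ∈ N0, u0 * n = n * u0) (hu0n : u0 * n1 * u0⁻¹ = n1 * (r * c)) :
    ∀ w ∈ UU M r, (∀ n ∈ N0, w * n = n * w) → w * n1 * w⁻¹ = n1 ∨ w * n1 * w⁻¹ = n1 * (r * c) :=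
  j13' h hS hc.2.1 (hc.2.2.1 r Om_base) (hc.2.2.1 t h.t_Om) (fun x hx => hc.2.2.2.1 x (hS.S_le hx))
    hN0 hn1 hcov hSN hu0 hu0N hu0n

end Cfsg.Agent.Omega.HOne.TvThirteen

end
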