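import Cfsg.Agent.Mrg.Omega.HOne.QuadAbs
import Cfsg.Agent.Mrg.Omega.HOne.TvOpp
import Cfsg.Agent.Mrg.Omega.HTwo.TComp
import Cfsg.Agent.Mrg.Omega.HOne.TvTail

section


/-!
# II.0h1, `q = 2`, case (beta): the transvection statement, assembly (#15959)

`main` : `TvH`, `TvS`, `JEleven` give `c` with `JConst`, `JEnd`.
-/

set_option autoImplicit false
set_option linter.unusedSectionVars false

namespace Cfsg.Agent.Omega.HOne.Tv

open Subgroup Cfsg.Agent.Omega.HOne.TvDef Cfsg.Agent.Omega.HOne.TvPath

variable {G : Type*} [Group G] {M S : Subgroup G} {r t : G} {Q N : G → Subgroup G}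

/-- three lines on a point: `E1` -/
theorem e1_of_eleven (h : TvH M r t Q N) (hO : JOpp M r t Q N) (h11 : JEleven M r t Q N)
    (hA : AllOpp M r t N) : E1 M r t N := by
  have key : ∀ s a b c, Opp M r t N s a b → Opp M r t N s a c → ∀ n ∈ N a, n * b = b * n →
      n * c = c * n := by
    intro s a b c o o' n hn hb
    have ha := o.1
    have hns : n * s = s * n := h.N_comm ha hn
    have hna : n * a = a * n := h.N_self (h.Adj_right ha) hn
    rcases h11 hA s a b c o o'.2.1 with e | e | e | e | e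
    · rw [e]; exact hna
    · rw [e]
      calc n * (s * a) = (n * s) * a := by group
        _ = s * (n * a) := by rw [hns]; group
        _ = s * a * n := by rw [hna]; group
    · rw [e]; exact hb
    · rw [e]
      calc n * (s * b) = (n * s) * b := by group
        _ = s * (n * b) := by rw [hns]; group
        _ = s * b * n := by rw [hb]; group
    · -- third line
      have hcadj := o'.2.1
      have haU := Om_le_UU (h.Adj_right ha)
      have hbU := Om_le_UU (h.Adj_right o.2.1)
      have hcU := Om_le_UU (h.Adj_right hcadj)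
      have hadj := h.Adj_N ha hcadj hn
      have hz : n * (a * b * c) * n⁻¹ ∈ ZC Q s := (h.ZC_fix hns).2 e
      have e1 : n * (a * b * c) * n⁻¹ = a * b * (n * c * n⁻¹) := by
        calc n * (a * b * c) * n⁻¹ = (n * a) * b * c * n⁻¹ := by group
          _ = a * (n * b) * c * n⁻¹ := by rw [hna]; group
          _ = a * b * (n * c * n⁻¹) := by rw [hb]; group
      rw [e1] at hz
      have hprod : c * (n * c * n⁻¹) ∈ ZC Q s := by
        have h1 := mul_mem (inv_mem e) hz
        have e2 : (a * b * c)⁻¹ * (a * b * (n * c * n⁻¹)) = c⁻¹ * (n * c * n⁻¹) := by group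
        rw [e2, h.UU_inv hcU] at h1
        exact h1
      rcases h.noPar_at hcadj hadj hprod with h2 | h2
      · calc n * c = (n * c * n⁻¹) * n := by group
          _ = c * n := by rw [h2]
      · exfalso
        obtain ⟨-, -, -, -, -, d, -, -, hd, -, -, -, -, hmv, -⟩ := hO s a c o'
        rcases hmv n hn with h3 | h3
        · rw [h3] at h2
          apply h.Om_ne ha.left
          have : s * c = 1 * c := by rw [one_mul]; exact h2.symm
          exact mul_right_cancel this
        · rw [h3] at h2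
          -- a c d = s c
          apply h.Adj_not_mem ha
          have h4 : a * d = s := by
            have h5 : c * (a * d) = c * s := by
              calc c * (a * d) = (c * a) * d := by group
                _ = a * c * d := by rw [h.UU_comm hcU haU]
                _ = s * c := h2
                _ = c * s := h.UU_comm (Om_le_UU ha.left) hcU
            exact mul_left_cancel h5
          have h6 : a = s * d⁻¹ := by rw [← h4]; group
          rw [h6]
          exact mul_mem (h.mem_ZC ha.left) (inv_mem hd)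
  intro s a b c o o' n hn
  exact ⟨key s a b c o o' n hn, key s a c b o' o n hn⟩

/-- (13): the polar property if all pairs of lines are opposite -/
theorem polar_of_allOpp [Finite G] (h : TvH M r t Q N) (hS : TvS M S r t N) (hO : JOpp M r t Q N)
    (hN : JNon M r t N) (hE : E1 M r t N) {c : G} (hC : JConst M r t Q N c)
    (h11 : JEleven M r t Q N) (hA : AllOpp M r t N) : (pol h hO hN hC).Polar := by
  have D := pol h hO hN hC
  have hcM := hC.2.2.2.1
  have hcZ := hC.2.2.1
  have hcU := hC.2.1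
  -- first the base point
  have base : ∀ s w, Om2 N (Adj M r t) r s → Adj M r t s w → ∀ n ∈ N r,
      n * w * n⁻¹ = w ∨ n * w * n⁻¹ = w * (r * c) := by
    intro s w hs hw
    have hsOm := D.om2_s hs
    have hrU := Om_le_UU (M := M) (r := r) Om_base
    have hsU := Om_le_UU hsOm
    have hwU := Om_le_UU (h.Adj_right hw)
    have hrcU : r * c ∈ UU M r := mul_mem hrU hcU
    have hrcZ : r * c ∈ ZC Q r := mul_mem (h.mem_ZC Om_base) (hcZ r Om_base)
    obtain ⟨x, hxr, hxs, n1, hn1, hn1s⟩ := id hs
    have hrx := h.Adj_symm hxr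
    have hsx := h.Adj_symm hxs
    have hsQ : s ∉ Q r := fun e => hn1s ((h.mem_Q_iff Om_base hsU).1 e n1 hn1).symm
    have e1 : n1 * s * n1⁻¹ = s * (r * c) := by
      refine (D.om2_act hs hn1).resolve_left fun e => hn1s (Pol.of_conj_eq e)
    -- `N0 = C_{N r}(s)`
    let N0 : Subgroup G := N r ⊓ centralizer {s}
    have memN0 : ∀ n, n ∈ N0 ↔ n ∈ N r ∧ n * s = s * n := by
      intro n
      rw [mem_inf, mem_centralizer_singleton_iff]
    have hcov : ∀ n ∈ N r, n ∈ N0 ∨ n1 * n ∈ N0 := by
      intro n hn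
      rcases D.om2_act hs hn with h1 | h1
      · left
        exact (memN0 n).2 ⟨hn, Pol.of_conj_eq h1⟩
      · right
        refine (memN0 _).2 ⟨mul_mem hn1 hn, Pol.of_conj_eq ?_⟩
        calc n1 * n * s * (n1 * n)⁻¹ = n1 * (n * s * n⁻¹) * n1⁻¹ := by group
          _ = (n1 * s * n1⁻¹) * (n1 * (r * c) * n1⁻¹) := by rw [h1]; group
          _ = s * (r * c) * (r * c) := by
            rw [e1, Pol.conj_eq (h.ZC_comm hrcZ (h.N_le_Q Om_base hn1)).symm]
          _ = s * ((r * c) * (r * c)) := by group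
          _ = s := by rw [h.UU_sq hrcU, mul_one]
    have hSN : ∀ y ∈ S, ∀ n ∈ N0, y * n * y⁻¹ ∈ N0 := by
      intro y hy n hn
      obtain ⟨hn, hns⟩ := (memN0 n).1 hn
      have hyM := hS.S_le hy
      have hyr := hS.S_r y hy
      have hyn : y * n * y⁻¹ ∈ N r := (h.N_fix hyr).2 hn
      refine (memN0 _).2 ⟨hyn, ?_⟩
      -- `y s y⁻¹ ∈ Ω₂(r)`
      have hs' : Om2 N (Adj M r t) r (y * s * y⁻¹) := by
        have e2 : y * r * y⁻¹ = r := Pol.conj_eq hyr
        refine ⟨y * x * y⁻¹, ?_, hxs.conj hyM, y * n1 * y⁻¹, (h.N_fix hyr).2 hn1, ?_⟩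
        · have := hxr.conj hyM
          rwa [e2] at this
        · intro e
          apply hn1s
          have h2 : y * (n1 * s) * y⁻¹ = y * (s * n1) * y⁻¹ := by
            calc y * (n1 * s) * y⁻¹ = (y * n1 * y⁻¹) * (y * s * y⁻¹) := by group
              _ = (y * s * y⁻¹) * (y * n1 * y⁻¹) := e
              _ = _ := by group
          exact mul_left_cancel (mul_right_cancel h2)
      have h3 : (y * n * y⁻¹) * (y * s * y⁻¹) = (y * s * y⁻¹) * (y * n * y⁻¹) := by
        calc (y * n * y⁻¹) * (y * s * y⁻¹) = y * (n * s) * y⁻¹ := by group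
          _ = y * (s * n) * y⁻¹ := by rw [hns]
          _ = _ := by group
      exact (nu h hO hN hE hC hs' hs hyn).1 h3
    -- `w` centralises `N0`
    have hwN : ∀ n ∈ N0, w * n = n * w := by
      intro n hn
      obtain ⟨hn, hns⟩ := (memN0 n).1 hn
      have hnx : n * x = x * n := D.N_Adj _ _ hrx n hn
      by_cases k1 : w = x
      · rw [k1]; exact hnx.symm
      by_cases k2 : w = s * x
      · rw [k2]
        calc s * x * n = s * (x * n) := by group
          _ = (s * n) * x := by rw [← hnx]; group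
          _ = n * (s * x) := by rw [← hns]; group
      have o := hA s x w hsx hw k1 k2
      have hnM := h.N_le_M Om_base hn
      have hwn : Adj M r t s (n * w * n⁻¹) := by
        have := hw.conj hnM
        rwa [Pol.conj_eq hns] at this
      have hxU := Om_le_UU (h.Adj_right hrx)
      -- `[w,n] ∈ ZC r`
      have hwr : w * r = r * w := h.UU_comm hwU hrU
      have hcomm : n * w * n⁻¹ * w⁻¹ ∈ ZC Q r := by
        have h1 : w * n⁻¹ * w⁻¹ ∈ ZC Q r := (h.ZC_fix hwr).2 (inv_mem (h.N_le_ZC Om_base hn))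
        have e2 : n * w * n⁻¹ * w⁻¹ = n * (w * n⁻¹ * w⁻¹) := by group
        rw [e2]; exact mul_mem (h.N_le_ZC Om_base hn) h1
      have hxZ : x ∉ ZC Q r := h.Adj_not_mem hrx
      have hxQ : x ∈ Q r := h.Adj_mem hrx
      have hcQ : c ∈ Q r := h.ZC_le_Q Om_base (hcZ r Om_base)
      have fin : n * w * n⁻¹ = w → w * n = n * w := fun e => (Pol.of_conj_eq e).symm
      rcases h11 hA s x w (n * w * n⁻¹) o hwn with e | e | e | e | e
      · exfalso
        apply k1
        have h2 : n * w * n⁻¹ = n * x * n⁻¹ := by rw [e, Pol.conj_eq hnx]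
        exact mul_left_cancel (mul_right_cancel h2)
      · exfalso
        apply k2
        have h2 : n * w * n⁻¹ = n * (s * x) * n⁻¹ := by
          rw [e]
          calc s * x = (n * s * n⁻¹) * (n * x * n⁻¹) := by rw [Pol.conj_eq hns, Pol.conj_eq hnx]
            _ = n * (s * x) * n⁻¹ := by group
        exact mul_left_cancel (mul_right_cancel h2)
      · exact fin e
      · exfalso
        rw [e] at hcomm
        have h2 : s * w * w⁻¹ = s := by group
        rw [h2] at hcomm
        exact hsQ (h.ZC_le_Q Om_base hcomm)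
      · exfalso
        have hadj := (hC.2.2.2.2 s x w o).1
        have hz : (x * w * c) * (n * w * n⁻¹) ∈ ZC Q s := by
          have h2 : (x * w * c) * (n * w * n⁻¹) = (x * w * (n * w * n⁻¹)) * c := by
            have h3 := h.UU_comm hcU (Om_le_UU (h.Adj_right hwn))
            calc (x * w * c) * (n * w * n⁻¹) = x * w * (c * (n * w * n⁻¹)) := by group
              _ = x * w * ((n * w * n⁻¹) * c) := by rw [h3]
              _ = _ := by group
          rw [h2]; exact mul_mem e (hcZ s hsOm)
        have hxwc : n * w * n⁻¹ = x * w * c ∨ n * w * n⁻¹ = s * (x * w * c) :=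
          h.noPar_at hadj hwn hz
        rcases hxwc with h2 | h2
        · -- `[w,n] = x c`
          apply hxZ
          have h3 : n * w * n⁻¹ * w⁻¹ = x * c := by
            rw [h2]
            calc x * w * c * w⁻¹ = x * (w * c) * w⁻¹ := by group
              _ = x * c := by rw [h.UU_comm hwU hcU]; group
          rw [h3] at hcomm
          have h4 := mul_mem hcomm (inv_mem (hcZ r Om_base))
          rwa [mul_inv_cancel_right] at h4
        · apply hsQ
          have h3 : n * w * n⁻¹ * w⁻¹ = s * x * c := by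
            rw [h2]
            calc s * (x * w * c) * w⁻¹ = s * x * (w * c) * w⁻¹ := by group
              _ = s * x * c := by rw [h.UU_comm hwU hcU]; group
          rw [h3] at hcomm
          have h4 : s = (s * x * c) * c⁻¹ * x⁻¹ := by group
          rw [h4]
          exact mul_mem (mul_mem (h.ZC_le_Q Om_base hcomm) (inv_mem hcQ)) (inv_mem hxQ)
    have hsn1 : s * n1 * s⁻¹ = n1 * (r * c) := by
      have h1 : n1 * s = s * (r * c) * n1 := by
        calc n1 * s = (n1 * s * n1⁻¹) * n1 := by group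
          _ = _ := by rw [e1]
      have h2 : (r * c) * n1 = n1 * (r * c) := h.ZC_comm hrcZ (h.N_le_Q Om_base hn1)
      have hss : s⁻¹ = s := h.UU_inv hsU
      calc s * n1 * s⁻¹ = s * (n1 * s) := by rw [hss]; group
        _ = s * (s * (r * c) * n1) := by rw [h1]
        _ = (s * s) * ((r * c) * n1) := by group
        _ = n1 * (r * c) := by rw [h.UU_sq hsU, one_mul, h2]
    have h13 := TvThirteen.j13 h hS hC (N0 := N0) (n1 := n1) (u0 := s) inf_le_left hn1 hcov hSN hsU
      (fun n hn => ((memN0 n).1 hn).2.symm) hsn1 w hwU hwN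
    -- conclusion
    have hn1w : n1 * w * n1⁻¹ = w ∨ n1 * w * n1⁻¹ = w * (r * c) := by
      have hww : w⁻¹ = w := h.UU_inv hwU
      rcases h13 with h1 | h1
      · left
        have h2 : w * n1 = n1 * w := Pol.of_conj_eq h1
        exact Pol.conj_eq h2.symm
      · right
        have h2 : w * n1 = n1 * (r * c) * w := by
          calc w * n1 = (w * n1 * w⁻¹) * w := by group
            _ = _ := by rw [h1]
        have h3 : n1⁻¹ * w * n1 = w * (r * c) := by
          calc n1⁻¹ * w * n1 = n1⁻¹ * (w * n1) := by group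
            _ = (r * c) * w := by rw [h2]; group
            _ = _ := h.UU_comm hrcU hwU
        -- conjugate by `n1` : `n1 w n1⁻¹ = w (r c)`
        have h4 : n1 * (r * c) * n1⁻¹ = r * c :=
          Pol.conj_eq (h.ZC_comm hrcZ (h.N_le_Q Om_base hn1)).symm
        have h5 : w = (n1 * w * n1⁻¹) * (r * c) := by
          calc w = n1 * (n1⁻¹ * w * n1) * n1⁻¹ := by group
            _ = n1 * (w * (r * c)) * n1⁻¹ := by rw [h3]
            _ = (n1 * w * n1⁻¹) * (n1 * (r * c) * n1⁻¹) := by group
            _ = _ := by rw [h4]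
        calc n1 * w * n1⁻¹ = (n1 * w * n1⁻¹) * ((r * c) * (r * c)) := by rw [h.UU_sq hrcU, mul_one]
          _ = ((n1 * w * n1⁻¹) * (r * c)) * (r * c) := by group
          _ = w * (r * c) := by rw [← h5]
    intro n hn
    rcases hcov n hn with h1 | h1
    · left
      exact Pol.conj_eq (hwN n h1).symm
    · have h2 : n1 * n * w * (n1 * n)⁻¹ = w := Pol.conj_eq (hwN _ h1).symm
      have h4 : n1⁻¹ * (r * c) * n1 = r * c := by
        have := h.ZC_comm hrcZ (h.N_le_Q Om_base hn1)
        calc n1⁻¹ * (r * c) * n1 = n1⁻¹ * ((r * c) * n1) := by group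
          _ = r * c := by rw [this]; group
      have h3 : n * w * n⁻¹ = n1⁻¹ * w * n1 := by
        calc n * w * n⁻¹ = n1⁻¹ * (n1 * n * w * (n1 * n)⁻¹) * n1 := by group
          _ = _ := by rw [h2]
      rw [h3]
      rcases hn1w with h5 | h5
      · left
        calc n1⁻¹ * w * n1 = n1⁻¹ * (n1 * w * n1⁻¹) * n1 := by rw [h5]
          _ = w := by group
      · right
        -- w = n1⁻¹ (w rc) n1
        have h6 : w = (n1⁻¹ * w * n1) * (r * c) := by
          calc w = n1⁻¹ * (n1 * w * n1⁻¹) * n1 := by group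
            _ = n1⁻¹ * (w * (r * c)) * n1 := by rw [h5]
            _ = (n1⁻¹ * w * n1) * (n1⁻¹ * (r * c) * n1) := by group
            _ = _ := by rw [h4]
        calc n1⁻¹ * w * n1 = (n1⁻¹ * w * n1) * ((r * c) * (r * c)) := by rw [h.UU_sq hrcU, mul_one]
          _ = ((n1⁻¹ * w * n1) * (r * c)) * (r * c) := by group
          _ = w * (r * c) := by rw [← h6]
  -- all points
  intro y s w hs hw n hn
  obtain ⟨m, hm, rfl⟩ := D.om2_r hs
  have hm' := M.inv_mem hm
  have e0 : m⁻¹ * (m * r * m⁻¹) * m⁻¹⁻¹ = r := by group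
  have hs' : Om2 N (Adj M r t) r (m⁻¹ * s * m⁻¹⁻¹) := by
    obtain ⟨x, h1, h2, k, hk, hk'⟩ := hs
    have h3 := h1.conj hm'
    rw [e0] at h3
    have h4 : m⁻¹ * k * m⁻¹⁻¹ ∈ N r := by
      have := h.Nc m⁻¹ _ _ hk
      rwa [e0] at this
    refine ⟨_, h3, h2.conj hm', _, h4, ?_⟩
    intro e
    apply hk'
    have h5 : m⁻¹ * (k * s) * m⁻¹⁻¹ = m⁻¹ * (s * k) * m⁻¹⁻¹ := by
      calc m⁻¹ * (k * s) * m⁻¹⁻¹ = (m⁻¹ * k * m⁻¹⁻¹) * (m⁻¹ * s * m⁻¹⁻¹) := by group
        _ = (m⁻¹ * s * m⁻¹⁻¹) * (m⁻¹ * k * m⁻¹⁻¹) := e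
        _ = _ := by group
    exact mul_left_cancel (mul_right_cancel h5)
  have hn' : m⁻¹ * n * m⁻¹⁻¹ ∈ N r := by
    have := h.Nc m⁻¹ _ _ hn
    rwa [e0] at this
  have hmc : m * c * m⁻¹ = c := Pol.conj_eq (hcM m hm)
  rcases base _ _ hs' (hw.conj hm') _ hn' with h1 | h1
  · left
    calc n * w * n⁻¹ = m * ((m⁻¹ * n * m⁻¹⁻¹) * (m⁻¹ * w * m⁻¹⁻¹) * (m⁻¹ * n * m⁻¹⁻¹)⁻¹) * m⁻¹ := by
          group
      _ = w := by rw [h1]; group
  · right
    calc n * w * n⁻¹ = m * ((m⁻¹ * n * m⁻¹⁻¹) * (m⁻¹ * w * m⁻¹⁻¹) * (m⁻¹ * n * m⁻¹⁻¹)⁻¹) * m⁻¹ := by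
          group
      _ = w * (m * r * m⁻¹ * (m * c * m⁻¹)) := by rw [h1]; group
      _ = _ := by rw [hmc]

/-- **THE TRANSVECTION STATEMENT** (#15959): `1 ≠ c ∈ U`, centralised by `M` and all `Q s`,
`[U, N r] ≤ ⟨r c⟩`, `|U : U ∩ Q r| = 2 = |N r : C_{N r}(U)|` -/
theorem main [Finite G] (h : TvH M r t Q N) (hS : TvS M S r t N) (h11 : JEleven M r t Q N) :
    ∃ c, JConst M r t Q N c ∧ JEnd M r Q N c := by
  have hO := h.jOpp
  have hN := h.jNon
  have hE : E1 M r t N := by
    rcases h.dich hO hN with h1 | h1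
    · exact e1_of_eleven h hO h11 h1
    · exact h1
  obtain ⟨c, hC⟩ := TvConst.jconst h hO hN hE
  refine ⟨c, hC, ?_⟩
  by_cases hA : AllOpp M r t N
  · exact jEnd_of_polar h hO hN hE hC (polar_of_allOpp h hS hO hN hE hC h11 hA)
  · exact jEnd_of_not_allOpp h hO hN hE hC hA

end Cfsg.Agent.Omega.HOne.Tv

end

section


/-!
# II.0h1, `q = 2`, case (β): the transvection statement, without hypotheses on joints (helper865)
-/

set_option autoImplicit false

namespace Cfsg.Agent.Omega.HOne.TvMain

open Cfsg.Agent.Omega.HOne.TvDef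

variable {G : Type*} [Group G] {M S : Subgroup G} {r t : G} {Q N : G → Subgroup G}

/-- **The transvection statement #15959.** -/
theorem main [Finite G] (h : TvH M r t Q N) (hS : TvS M S r t N) (hQS : Q r ≤ S) :
    ∃ c, JConst M r t Q N c ∧ JEnd M r Q N c :=
  Tv.main h hS (h.jEleven hS hQS h.jOpp h.jNon)

end Cfsg.Agent.Omega.HOne.TvMain

end
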