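import Cfsg.Agent.Mrg.Omega.HOne.ModZ
import Mathlib

section


/-!
# The frame of `M = W i / Z(W i)` (II.0h1; II.a): instance of `EigAbs`

`al`: `N ≅ A`, `k ↦ a_k` (`a_k` the image of `u ∈ U j` with `P2 u = k`); `exists_frame`.
-/

set_option autoImplicit false
set_option linter.unusedSectionVars false

namespace Cfsg.Agent.Omega.HOne.ModZ

open Subgroup Cfsg.Agent.Omega.BTwo Cfsg.Agent.Omega.Lie Cfsg.Agent.Omega.Lie.Quot

universe u v w

variable {G : Type u} [Group G] {ι : Type w} {V : Subgroup G} {R : ι → Subgroup G} {i j : ι}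
  {F : Type v} [Field F] {v : F → F → G} {w1 w2 t : F → G}

section al

variable {N : Type u} [AddCommGroup N] [Module F N] {P1 P2 : G → N}
variable (b : BT V R) (c : Coord V R i j v w1 w2) (y : YPair V R i j w1 w2 N P1 P2)

include b in
theorem D_le_QQ (i : ι) : DD V R ≤ QQ (R i) := (D_le_W V R i).trans (b.W_le_Q i)

include y in
theorem exists_u (k : N) : ∃ u ∈ UU V R j, P2 u = k := by
  obtain ⟨u, hu, h1, h2⟩ := y.surj 0 k
  exact ⟨u, (y.mem_U2 u hu).2 h1, h2⟩

/-- `a_k` -/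
noncomputable def al (k : N) : HQ (R i) :=
  pr (R i) ⟨(exists_u y k).choose, b.cen_le_N i (UU_le_cen j (exists_u y k).choose_spec.1)⟩

theorem pr_U {u : G} (hu : u ∈ UU V R j) (hN : u ∈ normalizer (R i : Set G)) :
    pr (R i) ⟨u, hN⟩ = al b y (P2 u) := by
  unfold al
  rw [pr_eq_pr]
  obtain ⟨h1, h2⟩ := (exists_u y (P2 u)).choose_spec
  set u' := (exists_u y (P2 u)).choose
  apply D_le_QQ b i
  have hY := UU_le_YY j hu
  have hY' := UU_le_YY j h1
  rw [y.eq_iff hY' hY]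
  exact ⟨((y.mem_U2 _ hY').1 h1).trans ((y.mem_U2 _ hY).1 hu).symm, h2⟩

theorem al_add (k k' : N) : al b y (k + k') = al b y k * al b y k' := by
  obtain ⟨u, hu, rfl⟩ := exists_u y k
  obtain ⟨u', hu', rfl⟩ := exists_u y k'
  have hN := b.cen_le_N i (UU_le_cen j hu)
  have hN' := b.cen_le_N i (UU_le_cen j hu')
  rw [← y.mul2 _ (UU_le_YY j hu) _ (UU_le_YY j hu'), ← pr_U b y (mul_mem hu hu') (mul_mem hN hN'),
    ← pr_U b y hu hN, ← pr_U b y hu' hN', ← map_mul]
  rfl

theorem al_zero : al b y (0 : N) = 1 := by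
  have h := al_add b y (0 : N) 0
  rw [add_zero] at h
  exact left_eq_mul.1 h

theorem al_mem (k : N) : al b y k ∈ AA V R i j := by
  obtain ⟨h1, h2⟩ := (exists_u y k).choose_spec
  exact pr_mem_im _ h1

theorem mem_AA {h : HQ (R i)} : h ∈ AA V R i j ↔ ∃ k, al b y k = h := by
  constructor
  · intro hh
    obtain ⟨u, hN, hu, rfl⟩ := mem_im.1 hh
    exact ⟨P2 u, (pr_U b y hu hN).symm⟩
  · rintro ⟨k, rfl⟩
    exact al_mem b y k

include b y in
theorem al_T [Finite F] [CharP F 2] (c : Coord V R i j v w1 w2) (τ : TorD V R i j v t) (a : Fˣ) (k : N) :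
    pr (R i) ⟨t a, τ.normR a.ne_zero⟩ * al b y k * (pr (R i) ⟨t a, τ.normR a.ne_zero⟩)⁻¹ =
      al b y ((a : F)⁻¹ • k) := by
  obtain ⟨u, hu, rfl⟩ := exists_u y k
  have hN := b.cen_le_N i (UU_le_cen j hu)
  have h1 : t a * u * (t a)⁻¹ ∈ UU V R j := by
    rw [← b.cj_UU (b.X_le_NV (τ.memX _ a.ne_zero)) (cj_eq_self_iff.2 (τ.normR' a.ne_zero))]
    exact conj_mem_cj hu
  have hN' : t a * u * (t a)⁻¹ ∈ normalizer (R i : Set G) := b.cen_le_N i (UU_le_cen j h1)
  rw [← (t_Y b c τ y a.ne_zero (UU_le_YY j hu)).2, ← pr_U b y h1 hN', ← pr_U b y hu hN, ← map_inv, ← map_mul,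
    ← map_mul]
  rfl

end al

namespace Fq

variable {M : Type u} [AddCommGroup M] [Module F M] [DistribMulAction (HQ (R i)) M] {p : G → M}
  {f : M →ₗ[F] M →ₗ[F] F} {e : F →ₗ[F] M} {ω : M →ₗ[F] F} {σ : HQ (R i) →* RingAut F} {κ : HQ (R i) → F}

/-- the action of `T` as linear maps -/
def TL (q : Fq V R i v M p f e ω σ κ) (c : Coord V R i j v w1 w2) (τ : TorD V R i j v t) (a : Fˣ) : M →ₗ[F] M where
  toFun x := pr (R i) ⟨t a, τ.normR a.ne_zero⟩ • x
  map_add' x y := smul_add _ _ _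
  map_smul' s x := q.t_smul c τ a s x

theorem TL_apply (q : Fq V R i v M p f e ω σ κ) (c : Coord V R i j v w1 w2) (τ : TorD V R i j v t) (a : Fˣ) (x : M) :
    q.TL c τ a x = pr (R i) ⟨t a, τ.normR a.ne_zero⟩ • x := rfl

section

variable {N : Type u} [AddCommGroup N] [Module F N] {P1 P2 : G → N}

theorem al_H0 (q : Fq V R i v M p f e ω σ κ) (b : BT V R) (c : Coord V R i j v w1 w2)
    (y : YPair V R i j w1 w2 N P1 P2) (k : N) : al b y k ∈ H0 R i := by
  obtain ⟨h1, h2⟩ := (exists_u y k).choose_spec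
  exact q.cenV_H0 c _ (UU_le_cen j h1)

/-- `a_k - 1` as a linear map -/
noncomputable def AL (q : Fq V R i v M p f e ω σ κ) (b : BT V R) (c : Coord V R i j v w1 w2)
    (y : YPair V R i j w1 w2 N P1 P2) (k : N) : M →ₗ[F] M where
  toFun x := al b y k • x - x
  map_add' x z := by rw [smul_add]; abel
  map_smul' s x := by
    rw [q.H0_smul c (q.al_H0 b c y k)]
    exact (smul_sub _ _ _).symm

theorem AL_apply (q : Fq V R i v M p f e ω σ κ) (b : BT V R) (c : Coord V R i j v w1 w2)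
    (y : YPair V R i j w1 w2 N P1 P2) (k : N) (x : M) : q.AL b c y k x = al b y k • x - x := rfl

variable [Finite F] [CharP F 2]

/-- **the frame** -/
theorem exists_pre (q : Fq V R i v M p f e ω σ κ) (b : BTS V R) (c : Coord V R i j v w1 w2) (τ : TorD V R i j v t)
    (y : YPair V R i j w1 w2 N P1 P2) (hF : ∃ a : F, a ≠ 0 ∧ a ≠ 1) :
    ∃ (π : LinearMap.ker ω →ₗ[F] N ⧸ N0 b.toBT c y) (Λ : q.DS b.toBT c τ y hF →ₗ[F] N →ₗ[F] F),
      EigAbs.Pre f e ω (q.TL c τ) (q.DS b.toBT c τ y hF) (N0 b.toBT c y) π Λ (q.AL b.toBT c y) ∧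
      (∀ u (_ : u ∈ UU V R i) (h : ω (p u) = 0), π ⟨p u, h⟩ = (N0 b.toBT c y).mkQ (P1 u)) ∧
      (∀ d (_ : d ∈ DD V R) (h : p d ∈ q.DS b.toBT c τ y hF), Λ ⟨p d, h⟩ = y.lam b.toBT c d) := by
  obtain ⟨π, πs, πk, πU, πA, πT⟩ := q.exists_pi b.toBT c τ y hF
  obtain ⟨Λ, ΛD, Λ0, Λe, ΛA, fΛ⟩ := q.exists_lam b c τ y hF
  have hAω : ∀ k x, ω (q.AL b.toBT c y k x) = 0 := by
    intro k x
    obtain ⟨h1, h2⟩ := (exists_u y k).choose_spec
    rw [q.AL_apply, map_sub]
    unfold al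
    rw [q.cenV_ω c _ (UU_le_cen j h1), sub_self]
  refine ⟨π, Λ, ?_, πU, ΛD⟩
  exact
    { four := by
        obtain ⟨a, ha, ha1⟩ := hF
        exact ⟨Units.mk0 a ha, ha1⟩
      two := CharTwo.two_eq_zero
      alt := q.alt
      symm := q.symm
      fe := q.fe
      e_inj := fun γ h => (injective_iff_map_eq_zero e).1 (q.e_inj c b.toBT) γ h
      ω1 := ⟨p (w1 1), q.ω_w1 c 1⟩
      Te := q.t_e c τ
      Tf := q.t_f c τ
      Tω := q.t_ω c τ
      TT := by
        intro a a' x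
        rw [q.TL_apply, q.TL_apply, q.TL_apply, q.TL_apply, smul_smul, smul_smul, ← map_mul, ← map_mul]
        have h1 : (⟨t a, τ.normR a.ne_zero⟩ * ⟨t a', τ.normR a'.ne_zero⟩ : ↥(normalizer (R i : Set G))) =
            ⟨t a', τ.normR a'.ne_zero⟩ * ⟨t a, τ.normR a.ne_zero⟩ :=
          Subtype.ext (τ.comm a.ne_zero a'.ne_zero)
        rw [h1]
      Dω := fun x hx => q.DS_le b.toBT c τ y hF hx
      eD := q.e_mem_DS b.toBT c τ y hF
      TD := fun a x hx => by
        obtain ⟨γ, hγ⟩ := q.t_D b.toBT c τ y a hx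
        exact ⟨γ, hγ.symm⟩
      DT := fun a ha x hx h => by
        obtain ⟨γ, hγ⟩ := h
        exact q.mem_D_of b.toBT c τ y ha hx ⟨γ, hγ.symm⟩
      fDD := by
        rintro _ ⟨d, hd, hdW, rfl⟩ _ ⟨d', hd', hdW', rfl⟩
        have h1 := q.f_eq d hdW d' hdW'
        rw [b.D_comm hd hd', mul_inv_cancel_right, mul_inv_cancel, ← c.v_zero] at h1
        exact ((c.v_inj h1).1).symm
      πs := πs
      πk := πk
      πT := fun a x h => πT a x h
      Λ0 := fun x k hk => Λ0 x k hk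
      Λe := fun x hx => by
        obtain ⟨γ, hγ⟩ := (Λe x).1 hx
        exact ⟨γ, hγ.symm⟩
      fΛ := by
        rintro x ⟨x', hx'⟩ k hk
        obtain ⟨u, hu, huW, rfl⟩ := (q.mem_P' c).1 hx'
        rw [fΛ x (p u) u hu rfl]
        have h1 := (πU u hu hx').symm.trans hk
        rw [Submodule.mkQ_apply, Submodule.mkQ_apply, Submodule.Quotient.eq] at h1
        have h2 := Λ0 x _ h1
        rw [map_sub, sub_eq_zero] at h2
        exact h2
      Aω := hAω
      Aπ := by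
        intro k x
        have h1 := (exists_u y k).choose_spec
        exact (πA _ h1.1 x (hAω k x)).trans (congrArg (fun z => ω x • (N0 b.toBT c y).mkQ z) h1.2)
      AΛ := by
        intro k x
        have h1 := (exists_u y k).choose_spec
        exact (ΛA _ h1.1 x).trans (congrArg (fun z => e (Λ x z)) h1.2)
      Ae := by
        intro k γ
        have h1 := (exists_u y k).choose_spec
        rw [q.AL_apply]
        unfold al
        rw [q.cenV_e c _ (UU_le_cen j h1.1), sub_self]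
      Af := by
        intro k x x'
        rw [q.AL_apply, q.AL_apply, add_sub_cancel, add_sub_cancel]
        exact q.H0_isom c (q.al_H0 b.toBT c y k) x x'
      Aadd := by
        intro k k' x
        rw [q.AL_apply, q.AL_apply, q.AL_apply, q.AL_apply, al_add, mul_smul, smul_sub]
        abel
      AT := by
        intro a k x
        rw [q.TL_apply, q.TL_apply, q.AL_apply, q.AL_apply, ← al_T b.toBT y c τ, smul_sub, mul_smul, mul_smul,
          inv_smul_smul] }

end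

end Fq

end Cfsg.Agent.Omega.HOne.ModZ

end

section


/-!
# II.0h1, SPLIT (bb #14148 section 4, #14405): `M' = W / Z(W)` is an irreducible `E T`-module, abstract form

`H` acts on `M` (`= W₁ / Z(W₁)`), `E` normal in `H`, `A ≤ E` (quadratic-like group), `T` the torus, flag `e ≤ D ≤ P = e^⊥`, `f` the
form.  `Dat.top` : every nonzero subgroup of `M` which is invariant under `E` and `T` is `M`.  No weights, `q = 4` included.
-/

set_option autoImplicit false

namespace Cfsg.Agent.Omega.HOne.SimpleMod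

variable {H : Type*} [Group H] {M : Type*} [AddCommGroup M] [DistribMulAction H M] {B : Type*} [AddCommGroup B]

/-- invariance of a subgroup of `M` -/
def Inv (K : Subgroup H) (L : AddSubgroup M) : Prop := ∀ g ∈ K, ∀ x ∈ L, g • x ∈ L

/-- the data of section 4 -/
structure Dat (A E T : Subgroup H) (e D P : AddSubgroup M) (f : M → M → B) : Prop where
  normal : ∀ g ∈ E, ∀ h : H, h * g * h⁻¹ ∈ E
  A_le : A ≤ E
  /-- `E = ⟨A^E⟩` -/
  gen : ∀ K : Subgroup H, A ≤ K → (∀ g ∈ E, ∀ k ∈ K, g * k * g⁻¹ ∈ K) → E ≤ K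
  sq : ∀ a ∈ A, a * a = 1
  eD : e ≤ D
  DP : D ≤ P
  ene : e ≠ ⊥
  A2 : ∀ a ∈ A, ∀ m ∈ P, a • m - m ∈ D
  A1 : ∀ a ∈ A, ∀ m, a • m - m ∈ P
  A3 : ∀ a ∈ A, ∀ m ∈ D, a • m - m ∈ e
  A4 : ∀ a ∈ A, ∀ m ∈ e, a • m = m
  surj : ∀ m ∉ P, ∀ x ∈ P, ∃ a ∈ A, x - (a • m - m) ∈ D
  ker0 : ∀ d ∈ D, (∀ a ∈ A, a • d = d) → d ∈ e
  Tinv : ∀ t ∈ T, ∀ y ∈ e, t • y ∈ e
  Te : ∀ L : AddSubgroup M, Inv T L → L ≤ e → L = ⊥ ∨ L = e
  TP : ∀ L : AddSubgroup M, Inv T L → L ≤ P ∨ L ⊔ P = ⊤
  fadd : ∀ x y z, f x (y + z) = f x y + f x z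
  fadd' : ∀ x y z, f (x + y) z = f x z + f y z
  fnd : ∀ x, (∀ y, f x y = 0) → x = 0
  fA : ∀ a ∈ A, ∀ x y, f (a • x) (a • y) = f x y
  fH : ∀ (h : H) x y, f x y = 0 → f (h • x) (h • y) = 0
  fP : ∀ x ∈ P, ∀ y ∈ e, f x y = 0
  fPP : ∀ x, (∀ y ∈ P, f x y = 0) → x ∈ e
  fDD : ∀ x ∈ D, ∀ y ∈ D, f x y = 0
  span : ∀ L : AddSubgroup M, (∀ h : H, ∀ y ∈ e, h • y ∈ L) → L = ⊤
  /-- `C_A(M) = 1` -/
  faithful : ∀ a ∈ A, (∀ m : M, a • m = m) → a = 1
  /-- the image of `Z(W₂)` -/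
  AZ : ∃ a ∈ A, a ≠ 1 ∧ ∀ d ∈ D, a • d = d

namespace Dat

variable {A E T : Subgroup H} {e D P : AddSubgroup M} {f : M → M → B} (d : Dat A E T e D P f)
include d

theorem f_zero (x : M) : f x 0 = 0 := by
  have h := d.fadd x 0 0
  rw [add_zero] at h
  exact left_eq_add.1 h

theorem f_neg (x y : M) : f x (-y) = - f x y := by
  have h := d.fadd x y (-y)
  rw [add_neg_cancel, d.f_zero] at h
  exact (neg_eq_of_add_eq_zero_right h.symm).symm

theorem f_sub (x y z : M) : f x (y - z) = f x y - f x z := by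
  rw [sub_eq_add_neg, d.fadd, d.f_neg, ← sub_eq_add_neg]

theorem f_zero' (y : M) : f 0 y = 0 := by
  have h := d.fadd' 0 0 y
  rw [add_zero] at h
  exact left_eq_add.1 h

theorem f_neg' (x y : M) : f (-x) y = - f x y := by
  have h := d.fadd' x (-x) y
  rw [add_neg_cancel, d.f_zero'] at h
  exact (neg_eq_of_add_eq_zero_right h.symm).symm

theorem f_sub' (x y z : M) : f (x - y) z = f x z - f y z := by
  rw [sub_eq_add_neg, d.fadd', d.f_neg', ← sub_eq_add_neg]

theorem adj {a : H} (ha : a ∈ A) (x y : M) : f (a • x - x) y = f x (a • y - y) := by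
  rw [d.f_sub', d.f_sub, sub_left_inj]
  have h := d.fA a ha (a • x) y
  rw [smul_smul, d.sq a ha, one_smul] at h
  exact h.symm

/-- if `A` centralises an `E`-invariant subgroup, so does `E` -/
theorem cen_E {L : AddSubgroup M} (hL : Inv E L) (h : ∀ a ∈ A, ∀ x ∈ L, a • x = x) :
    ∀ g ∈ E, ∀ x ∈ L, g • x = x := by
  let K : Subgroup H :=
    { carrier := {k | ∀ x ∈ L, k • x = x}
      one_mem' := fun x _ => one_smul _ x
      mul_mem' := fun {a b} ha hb x hx => by rw [mul_smul, hb x hx, ha x hx]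
      inv_mem' := fun {a} ha x hx => by rw [inv_smul_eq_iff, ha x hx] }
  refine fun g hg => d.gen K (fun a ha => h a ha) ?_ hg
  intro g hg k hk x hx
  have h1 : g⁻¹ • x ∈ L := hL _ (inv_mem hg) x hx
  rw [mul_smul, mul_smul, hk _ h1, smul_inv_smul]

/-- (4.1) -/
theorem fix_E {m : M} (hm : ∀ g ∈ E, g • m = m) : m = 0 := by
  let C : AddSubgroup M :=
    { carrier := {m | ∀ g ∈ E, g • m = m}
      zero_mem' := fun g _ => smul_zero g
      add_mem' := fun {x y} hx hy g hg => by rw [smul_add, hx g hg, hy g hg]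
      neg_mem' := fun {x} hx g hg => by rw [smul_neg, hx g hg] }
  have hC : ∀ h : H, ∀ x ∈ C, h • x ∈ C := by
    intro h x hx g hg
    have h1 := hx (h⁻¹ * g * h) (by simpa using d.normal g hg h⁻¹)
    rw [mul_smul, mul_smul, inv_smul_eq_iff] at h1
    exact h1
  by_cases h : C ≤ P
  · apply d.fnd
    have key : ∀ x ∈ C, ∀ y, f x y = 0 := by
      intro x hx y
      let L : AddSubgroup M :=
        { carrier := {y | f x y = 0}
          zero_mem' := d.f_zero x
          add_mem' := fun {y z} hy hz => by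
            change f x (y + z) = 0
            rw [d.fadd, (show f x y = 0 from hy), (show f x z = 0 from hz), add_zero]
          neg_mem' := fun {y} hy => by
            change f x (-y) = 0
            rw [d.f_neg, (show f x y = 0 from hy), neg_zero] }
      have hL : L = ⊤ := d.span L (by
        intro g y hy
        have h2 := d.fH g (g⁻¹ • x) y (d.fP _ (h (hC _ x hx)) y hy)
        rwa [smul_inv_smul] at h2)
      have : y ∈ L := by rw [hL]; trivial
      exact this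
    exact key m hm
  · obtain ⟨c, hc, hcP⟩ := Set.not_subset.1 (fun h' => h h')
    exfalso
    have h' := (d.TP C (fun t _ x hx => hC t x hx)).resolve_left h
    obtain ⟨a, ha, ha1, haD⟩ := d.AZ
    have hPD : P ≤ D := by
      intro x hx
      obtain ⟨a', ha', h1⟩ := d.surj c hcP x hx
      rwa [hc a' (d.A_le ha'), sub_self, sub_zero] at h1
    have hPe : P ≤ e := fun x hx => d.fPP x fun y hy => d.fDD x (hPD hx) y (hPD hy)
    refine ha1 (d.faithful a ha fun m => ?_)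
    have hm : m ∈ C ⊔ P := by rw [h']; trivial
    obtain ⟨x, hx, y, hy, rfl⟩ := AddSubgroup.mem_sup.1 hm
    rw [smul_add, hx a (d.A_le ha), d.A4 a ha y (hPe hy)]

theorem sub_mem_of_inv {K : Subgroup H} {L : AddSubgroup M} (hL : Inv K L) {g : H} (hg : g ∈ K) {x : M} (hx : x ∈ L) :
    g • x - x ∈ L := by
  have _ := d
  exact L.sub_mem (hL g hg x hx) hx

/-- (4.3): a nonzero `E T`-invariant subgroup contains `e` -/
theorem e_le {L : AddSubgroup M} (hE : Inv E L) (hT : Inv T L) (hL : L ≠ ⊥) : e ≤ L := by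
  have hAL : Inv A L := fun a ha => hE a (d.A_le ha)
  have heT : Inv T (e ⊓ L) := fun t ht x hx => ⟨d.Tinv t ht x hx.1, hT t ht x hx.2⟩
  rcases d.Te (e ⊓ L) heT inf_le_left with h0 | h0
  swap
  · exact inf_eq_left.1 h0
  exfalso
  have h0' : ∀ x ∈ e, x ∈ L → x = 0 := fun x h1 h2 => by
    have : x ∈ e ⊓ L := ⟨h1, h2⟩
    rw [h0] at this
    exact AddSubgroup.mem_bot.1 this
  -- `L ⊓ D = 0`
  have h1 : ∀ x ∈ L, x ∈ D → x = 0 := by
    intro x hx hxD
    refine h0' x (d.ker0 x hxD fun a ha => ?_) hx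
    exact sub_eq_zero.1 (h0' _ (d.A3 a ha x hxD) (d.sub_mem_of_inv hAL ha hx))
  -- `[L ⊓ P, A] = 0`
  have h2 : ∀ x ∈ L, x ∈ P → ∀ a ∈ A, a • x = x := fun x hx hxP a ha =>
    sub_eq_zero.1 (h1 _ (d.sub_mem_of_inv hAL ha hx) (d.A2 a ha x hxP))
  -- `L` is not contained in `P`
  have h3 : ¬ L ≤ P := by
    intro h
    have h4 := d.cen_E hE fun a ha x hx => h2 x hx (h hx) a ha
    apply hL
    rw [eq_bot_iff]
    intro x hx
    exact d.fix_E fun g hg => h4 g hg x hx
  obtain ⟨m₀, hm₀, hm₀P⟩ := Set.not_subset.1 (fun h' => h3 h')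
  have h4 := (d.TP L hT).resolve_left h3
  -- `M = L + D`
  have h5 : ∀ m : M, ∃ x ∈ L, ∃ y ∈ D, x + y = m := by
    intro m
    have hm : m ∈ L ⊔ P := by rw [h4]; trivial
    obtain ⟨x, hx, y, hy, rfl⟩ := AddSubgroup.mem_sup.1 hm
    obtain ⟨a, ha, h6⟩ := d.surj m₀ hm₀P y hy
    exact ⟨x + (a • m₀ - m₀), L.add_mem hx (d.sub_mem_of_inv hAL ha hm₀), _, h6, by abel⟩
  obtain ⟨a, ha, ha1, haD⟩ := d.AZ
  refine ha1 (d.faithful a ha fun m => ?_)
  -- `a` centralises `L`
  have h6 : ∀ x ∈ L, a • x = x := by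
    intro x hx
    refine sub_eq_zero.1 (h0' _ (d.fPP _ fun y hy => ?_) (d.sub_mem_of_inv hAL ha hx))
    obtain ⟨z, hz, w, hw, rfl⟩ := h5 y
    have hzP : z ∈ P := by
      have := P.sub_mem hy (d.DP hw)
      rwa [add_sub_cancel_right] at this
    rw [d.fadd, d.adj ha, d.adj ha, h2 z hz hzP a ha, haD w hw, sub_self, sub_self, d.f_zero, add_zero]
  obtain ⟨x, hx, y, hy, rfl⟩ := h5 m
  rw [smul_add, h6 x hx, haD y hy]

/-- the `E`-span of `e` -/
def M1 (E : Subgroup H) (e : AddSubgroup M) : AddSubgroup M :=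
  AddSubgroup.closure {x | ∃ g ∈ E, ∃ y ∈ e, g • y = x}

omit d in
theorem mem_M1 {g : H} (hg : g ∈ E) {y : M} (hy : y ∈ e) : g • y ∈ M1 E e :=
  AddSubgroup.subset_closure ⟨g, hg, y, hy, rfl⟩

omit d in
theorem e_le_M1 : e ≤ M1 E e := fun y hy => by
  have := mem_M1 (one_mem E) hy
  rwa [one_smul] at this

omit d in
theorem M1_le {L : AddSubgroup M} (hL : Inv E L) (he : e ≤ L) : M1 E e ≤ L := by
  rw [M1, AddSubgroup.closure_le]
  rintro _ ⟨g, hg, y, hy, rfl⟩
  exact hL g hg y (he hy)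

omit d in
theorem inv_closure {K : Subgroup H} {S : Set M} (h : ∀ g ∈ K, ∀ x ∈ S, g • x ∈ AddSubgroup.closure S) :
    Inv K (AddSubgroup.closure S) := by
  intro g hg x hx
  induction hx using AddSubgroup.closure_induction with
  | mem x hx => exact h g hg x hx
  | zero => rw [smul_zero]; exact zero_mem _
  | add x y _ _ ihx ihy => rw [smul_add]; exact add_mem ihx ihy
  | neg x _ ih => rw [smul_neg]; exact neg_mem ih

omit d in
theorem M1_invE : Inv E (M1 E e) := inv_closure (by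
  rintro g hg _ ⟨g', hg', y, hy, rfl⟩
  rw [smul_smul]
  exact mem_M1 (mul_mem hg hg') hy)

theorem M1_invT : Inv T (M1 E e) := inv_closure (by
  rintro t ht _ ⟨g, hg, y, hy, rfl⟩
  have h1 : t • g • y = (t * g * t⁻¹) • t • y := by rw [smul_smul, smul_smul, inv_mul_cancel_right]
  rw [h1]
  exact mem_M1 (d.normal g hg t) (d.Tinv t ht y hy))

/-- the translate of a subgroup -/
def tr (x : H) (S : AddSubgroup M) : AddSubgroup M := S.map (DistribSMul.toAddMonoidHom M x)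

omit d in
theorem mem_tr {x : H} {S : AddSubgroup M} {m : M} : m ∈ tr x S ↔ x⁻¹ • m ∈ S := by
  constructor
  · rintro ⟨y, hy, rfl⟩
    change x⁻¹ • x • y ∈ S
    rwa [inv_smul_smul]
  · intro h
    exact ⟨_, h, by change x • x⁻¹ • m = m; rw [smul_inv_smul]⟩

theorem tr_inv {x : H} {S : AddSubgroup M} (hS : Inv E S) : Inv E (tr x S) := by
  intro g hg m hm
  rw [mem_tr] at hm ⊢
  have := hS _ (d.normal g hg x⁻¹) _ hm
  rw [inv_inv, smul_smul] at this
  rwa [show x⁻¹ * g * x * x⁻¹ = x⁻¹ * g by group, mul_smul] at this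

omit d in
theorem tr_tr (x y : H) (S : AddSubgroup M) : tr x (tr y S) = tr (x * y) S := by
  ext m
  rw [mem_tr, mem_tr, mem_tr, smul_smul, mul_inv_rev]

omit d in
theorem tr_one (S : AddSubgroup M) : tr (1 : H) S = S := by
  ext m
  rw [mem_tr, inv_one, one_smul]

omit d in
theorem tr_mono {x : H} {S S' : AddSubgroup M} (h : S ≤ S') : tr x S ≤ tr x S' := by
  intro m hm
  rw [mem_tr] at hm ⊢
  exact h hm

/-- a minimal `E`-invariant subgroup -/
def Min (E : Subgroup H) (S : AddSubgroup M) : Prop :=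
  S ≠ ⊥ ∧ Inv E S ∧ ∀ L : AddSubgroup M, Inv E L → L ≤ S → L = ⊥ ∨ L = S

theorem tr_min {x : H} {S : AddSubgroup M} (hS : Min E S) : Min E (tr x S) := by
  refine ⟨fun h => hS.1 ?_, d.tr_inv hS.2.1, fun L hL hLS => ?_⟩
  · rw [eq_bot_iff]
    intro y hy
    have : x • y ∈ tr x S := by rw [mem_tr, inv_smul_smul]; exact hy
    rw [h, AddSubgroup.mem_bot, smul_eq_zero_iff_eq] at this
    exact this
  · have h1 := hS.2.2 (tr x⁻¹ L) (d.tr_inv hL) (by
      have := tr_mono (x := x⁻¹) hLS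
      rwa [tr_tr, inv_mul_cancel, tr_one] at this)
    rcases h1 with h1 | h1
    · left
      have : tr x (tr x⁻¹ L) = tr x ⊥ := by rw [h1]
      rw [tr_tr, mul_inv_cancel, tr_one] at this
      rw [this, eq_bot_iff]
      intro m hm
      rw [mem_tr, AddSubgroup.mem_bot, smul_eq_zero_iff_eq] at hm
      exact hm
    · right
      have : tr x (tr x⁻¹ L) = tr x S := by rw [h1]
      rwa [tr_tr, mul_inv_cancel, tr_one] at this

theorem exists_min [Finite M] {L : AddSubgroup M} (hL : Inv E L) (h0 : L ≠ ⊥) : ∃ S, Min E S ∧ S ≤ L := by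
  have _ := d
  obtain ⟨S, ⟨hS1, hS2, hS3⟩, hmin⟩ := exists_minimal_of_wellFoundedLT
    (fun S : AddSubgroup M => S ≠ ⊥ ∧ Inv E S ∧ S ≤ L) ⟨L, h0, hL, le_rfl⟩
  refine ⟨S, ⟨hS1, hS2, fun L' hL' hle => ?_⟩, hS3⟩
  by_cases h : L' = ⊥
  · exact Or.inl h
  · exact Or.inr (le_antisymm hle (hmin ⟨h, hL', hle.trans hS3⟩ hle))

omit d in
theorem inv_sup {K : Subgroup H} {L L' : AddSubgroup M} (h : Inv K L) (h' : Inv K L') : Inv K (L ⊔ L') := by
  intro g hg m hm
  obtain ⟨x, hx, y, hy, rfl⟩ := AddSubgroup.mem_sup.1 hm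
  rw [smul_add]
  exact add_mem (AddSubgroup.mem_sup_left (h g hg x hx)) (AddSubgroup.mem_sup_right (h' g hg y hy))

omit d in
theorem inv_inf {K : Subgroup H} {L L' : AddSubgroup M} (h : Inv K L) (h' : Inv K L') : Inv K (L ⊓ L') :=
  fun g hg m hm => ⟨h g hg m hm.1, h' g hg m hm.2⟩

/-- there is a minimal `E`-invariant `S ≤ M1` such that `M` is generated by its translates -/
theorem exists_S [Finite M] : ∃ S : AddSubgroup M, Min E S ∧ S ≤ M1 E e ∧
    ∀ L : AddSubgroup M, (∀ x : H, tr x S ≤ L) → L = ⊤ := by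
  have hne : M1 E e ≠ ⊥ := fun h => d.ene (by
    rw [eq_bot_iff, ← h]
    exact e_le_M1)
  obtain ⟨S, hS, hSM⟩ := d.exists_min (M1_invE (e := e)) hne
  refine ⟨S, hS, hSM, fun L hL => ?_⟩
  -- the sum of the `T`-translates of `S`
  let S' : AddSubgroup M := ⨆ t : T, tr (t : H) S
  have hS'E : Inv E S' := by
    intro g hg m hm
    refine AddSubgroup.iSup_induction (fun t : T => tr (t : H) S) (C := fun m => g • m ∈ S') hm ?_ ?_ ?_
    · intro t x hx
      exact (le_iSup (fun t : T => tr (t : H) S) t) (d.tr_inv hS.2.1 g hg x hx)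
    · rw [smul_zero]; exact zero_mem _
    · intro x y hx hy
      rw [smul_add]; exact add_mem hx hy
  have hS'T : Inv T S' := by
    intro g hg m hm
    refine AddSubgroup.iSup_induction (fun t : T => tr (t : H) S) (C := fun m => g • m ∈ S') hm ?_ ?_ ?_
    · intro t x hx
      refine (le_iSup (fun t : T => tr (t : H) S) (⟨g, hg⟩ * t)) ?_
      rw [mem_tr] at hx ⊢
      change ((g * t : H))⁻¹ • g • x ∈ S
      rwa [mul_inv_rev, mul_smul, inv_smul_smul]
    · rw [smul_zero]; exact zero_mem _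
    · intro x y hx hy
      rw [smul_add]; exact add_mem hx hy
  have hS'0 : S' ≠ ⊥ := by
    intro h
    apply hS.1
    rw [eq_bot_iff, ← h]
    have := le_iSup (fun t : T => tr (t : H) S) 1
    rwa [OneMemClass.coe_one, tr_one] at this
  have h1 : e ≤ S' := d.e_le hS'E hS'T hS'0
  refine d.span L fun h y hy => ?_
  have h2 := h1 hy
  refine AddSubgroup.iSup_induction (fun t : T => tr (t : H) S) (C := fun m => h • m ∈ L) h2 ?_ ?_ ?_
  · intro t x hx
    refine hL (h * t) ?_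
    rw [mem_tr] at hx ⊢
    rwa [mul_inv_rev, mul_smul, inv_smul_smul]
  · rw [smul_zero]; exact zero_mem _
  · intro x y hx hy
    rw [smul_add]; exact add_mem hx hy

/-- `M1` has an `E`-invariant complement -/
theorem exists_compl [Finite M] : ∃ C : AddSubgroup M, Inv E C ∧ C ⊓ M1 E e = ⊥ ∧ C ⊔ M1 E e = ⊤ := by
  obtain ⟨S, hS, hSM, hgen⟩ := d.exists_S
  obtain ⟨C, ⟨hC1, hC2⟩, hmax⟩ := exists_maximal_of_wellFoundedGT
    (fun C : AddSubgroup M => Inv E C ∧ C ⊓ M1 E e = ⊥) ⟨⊥, fun g _ x hx => by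
      rw [AddSubgroup.mem_bot] at hx ⊢; rw [hx, smul_zero], bot_inf_eq _⟩
  refine ⟨C, hC1, hC2, hgen _ fun x => ?_⟩
  by_contra hx
  have hm := d.tr_min (x := x) hS
  have h1 := hm.2.2 _ (inv_inf hm.2.1 (inv_sup hC1 (M1_invE (e := e)))) inf_le_left
  have h2 : tr x S ⊓ (C ⊔ M1 E e) = ⊥ := h1.resolve_right fun h => hx (inf_eq_left.1 h)
  have h3 : (C ⊔ tr x S) ⊓ M1 E e = ⊥ := by
    rw [eq_bot_iff]
    rintro m ⟨hm1, hm2⟩
    obtain ⟨c, hc, s, hs, rfl⟩ := AddSubgroup.mem_sup.1 hm1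
    have h4 : s ∈ tr x S ⊓ (C ⊔ M1 E e) := ⟨hs, by
      have := add_mem (neg_mem (AddSubgroup.mem_sup_left hc : c ∈ C ⊔ M1 E e)) (AddSubgroup.mem_sup_right hm2)
      rwa [neg_add_cancel_left] at this⟩
    rw [h2, AddSubgroup.mem_bot] at h4
    subst h4
    have h5 : c ∈ C ⊓ M1 E e := ⟨hc, by simpa using hm2⟩
    rw [hC2, AddSubgroup.mem_bot] at h5
    rw [h5, add_zero]
    exact zero_mem _
  have h4 := hmax ⟨inv_sup hC1 hm.2.1, h3⟩ le_sup_left
  exact hx ((le_sup_right.trans h4).trans le_sup_left)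

/-- (4.4): `M` is the `E`-span of `e` -/
theorem M1_eq_top [Finite M] [Finite T] (hodd : Odd (Nat.card T)) (h2 : ∀ m : M, m + m = 0) : M1 E e = ⊤ := by
  classical
  obtain ⟨C, hCE, hC0, hCtop⟩ := d.exists_compl
  have _ : Fintype T := Fintype.ofFinite T
  -- the projection
  have hdec : ∀ m : M, ∃ c ∈ C, ∃ x ∈ M1 E e, c + x = m := fun m =>
    AddSubgroup.mem_sup.1 (by rw [hCtop]; trivial)
  choose c hc π hπ hcπ using hdec
  have huniq : ∀ {m c' x' : M}, c' ∈ C → x' ∈ M1 E e → c' + x' = m → π m = x' := by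
    intro m c' x' hc' hx' h
    have h3 : π m - x' = c' - c m := by
      have h4 := (hcπ m).trans h.symm
      rw [sub_eq_sub_iff_add_eq_add, add_comm (π m), h4]
    have h4 : π m - x' ∈ C ⊓ M1 E e := ⟨by rw [h3]; exact AddSubgroup.sub_mem _ hc' (hc m), AddSubgroup.sub_mem _ (hπ m) hx'⟩
    rw [hC0, AddSubgroup.mem_bot] at h4
    exact sub_eq_zero.1 h4
  have hadd : ∀ x y, π (x + y) = π x + π y := fun x y =>
    huniq (add_mem (hc x) (hc y)) (add_mem (hπ x) (hπ y)) (by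
      rw [add_add_add_comm, hcπ, hcπ])
  have hE : ∀ g ∈ E, ∀ x, π (g • x) = g • π x := fun g hg x =>
    huniq (hCE g hg _ (hc x)) (M1_invE g hg _ (hπ x)) (by rw [← smul_add, hcπ])
  have hid : ∀ x ∈ M1 E e, π x = x := fun x hx => huniq (zero_mem _) hx (zero_add x)
  -- its average
  let ρ : M → M := fun x => ∑ t : T, (t : H)⁻¹ • π ((t : H) • x)
  have hρadd : ∀ x y, ρ (x + y) = ρ x + ρ y := by
    intro x y
    simp only [ρ, smul_add, hadd, Finset.sum_add_distrib]
  have hρ1 : ∀ x, ρ x ∈ M1 E e := fun x =>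
    sum_mem fun t _ => d.M1_invT _ (inv_mem t.2) _ (hπ _)
  have hρid : ∀ x ∈ M1 E e, ρ x = x := by
    intro x hx
    have h3 : ∀ t : T, (t : H)⁻¹ • π ((t : H) • x) = x := fun t => by
      rw [hid _ (d.M1_invT _ t.2 _ hx), inv_smul_smul]
    simp only [ρ, h3, Finset.sum_const, Finset.card_univ]
    obtain ⟨k, hk⟩ := hodd
    rw [← Nat.card_eq_fintype_card, hk, add_smul, one_smul, mul_comm, mul_smul, two_smul, h2, smul_zero, zero_add]
  have hρE : ∀ g ∈ E, ∀ x, ρ (g • x) = g • ρ x := by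
    intro g hg x
    simp only [ρ, Finset.smul_sum]
    refine Finset.sum_congr rfl fun t _ => ?_
    have h3 : (t : H) • g • x = ((t : H) * g * (t : H)⁻¹) • (t : H) • x := by
      rw [smul_smul, smul_smul, inv_mul_cancel_right]
    rw [h3, hE _ (d.normal g hg t), smul_smul, smul_smul]
    congr 1
    group
  have hρT : ∀ s ∈ T, ∀ x, ρ (s • x) = s • ρ x := by
    intro s hs x
    simp only [ρ, Finset.smul_sum]
    refine Fintype.sum_bijective (fun t : T => t * ⟨s, hs⟩) (Group.mulRight_bijective _) _ _ fun t => ?_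
    rw [smul_smul, smul_smul]
    change (t : H)⁻¹ • π (((t : H) * s) • x) = (s * ((t : H) * s)⁻¹) • π (((t : H) * s) • x)
    rw [mul_inv_rev, mul_inv_cancel_left]
  -- its kernel
  let L : AddSubgroup M :=
    { carrier := {x | ρ x = 0}
      zero_mem' := by
        have h3 := hρadd 0 0
        rw [add_zero] at h3
        exact left_eq_add.1 h3
      add_mem' := fun {x y} hx hy => by
        change ρ (x + y) = 0
        rw [hρadd, (show ρ x = 0 from hx), (show ρ y = 0 from hy), add_zero]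
      neg_mem' := fun {x} hx => by
        have h3 : -x = x := neg_eq_of_add_eq_zero_left (h2 x)
        change ρ (-x) = 0
        rw [h3]; exact hx }
  have hL : L = ⊥ := by
    by_contra h0
    have h3 : e ≤ L := d.e_le (fun g hg x hx => by
      change ρ (g • x) = 0
      rw [hρE g hg, (show ρ x = 0 from hx), smul_zero]) (fun g hg x hx => by
      change ρ (g • x) = 0
      rw [hρT g hg, (show ρ x = 0 from hx), smul_zero]) h0
    apply d.ene
    rw [eq_bot_iff]
    intro y hy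
    rw [AddSubgroup.mem_bot, ← hρid y (e_le_M1 hy)]
    exact h3 hy
  rw [eq_top_iff]
  intro x _
  have h3 : x - ρ x ∈ L := by
    change ρ (x - ρ x) = 0
    have h4 := hρadd (x - ρ x) (ρ x)
    rw [sub_add_cancel, hρid _ (hρ1 x)] at h4
    exact right_eq_add.1 h4
  rw [hL, AddSubgroup.mem_bot, sub_eq_zero] at h3
  rw [h3]
  exact hρ1 x

/-- **(4)**: `M` is an irreducible `E T`-module. -/
theorem eq_top [Finite M] [Finite T] (hodd : Odd (Nat.card T)) (h2 : ∀ m : M, m + m = 0) {L : AddSubgroup M}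
    (hE : Inv E L) (hT : Inv T L) (hL : L ≠ ⊥) : L = ⊤ := by
  rw [eq_top_iff, ← d.M1_eq_top hodd h2]
  exact M1_le hE (d.e_le hE hT hL)

end Dat

end Cfsg.Agent.Omega.HOne.SimpleMod

end
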