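import Cfsg.Agent.Mrg.Omega.HOne.SameOf
import Cfsg.Agent.Mrg.Omega.Lie.End.Real
import Cfsg.Agent.Mrg.Omega.HOne.Cut
import Cfsg.Agent.Mrg.Omega.HOneEnd.OfPre
import Cfsg.Agent.Mrg.Omega.Lie.End.KSys


/-!
# II.0h1, SPLIT, same type, `q ≥ 4`: the cut of `Cut.StFour`

Sockets:
* `LayH K`, `FrH K`, `DH K` (`SameOf.lean`);
* `RsH K` : the enumeration `RS` of the moved components with their parabolic systems (helper835);
* `NVH K` : `pr g ∈ N(A)` implies `g ∈ N(V)` (helper866);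
* `ResH K` : the residues `(0, k)` of the moved nodes (helper976, 493, 843, 759; 551, 725; 43);
* `GamH K` : no node of type `(γ)` (helper493, 910, 678).

`PreIn.endIn` : `EndIn` from the parabolic system (after helper678's `HOneEnd/OfPre.lean`), `S` any 2-group.

`stFour_of` : `Cut.StFour K`.
-/

set_option autoImplicit false
set_option linter.unusedSectionVars false

namespace Cfsg.Agent.Omega.HOne.SameCut

open Subgroup Cfsg Cfsg.Agent.ZN Cfsg.Agent.Omega.MinPar Cfsg.Agent.Omega.Frame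
open Cfsg.Agent.Omega.FrameFF Cfsg.Agent.Omega.HOne.Main
open Cfsg.Agent.Omega.FrameLE (AllIn)
open Cfsg.Agent.Omega.NatPair (NatMod)
open Cfsg.Agent.Omega.BTwo Cfsg.Agent.Omega.Lie Cfsg.Agent.Omega.Lie.Quot Cfsg.Agent.Omega.Lie.End
open Cfsg.Agent.Omega.IIa4 (LayAll)
open Cfsg.Agent.Omega.IIa4.Moved (EE NR_le_NEE EE_le_cen Y_le_EE)
open Cfsg.Agent.Omega.HOneEnd (EndIn)
open Cfsg.Agent.Omega.HOne.SameOf

universe u

/-! ### `X E` is generated by its 2-elements -/

theorem gen2 {G : Type u} [Group G] [Finite G] {ι : Type*} {V : Subgroup G} {R : ι → Subgroup G} {i j : ι}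
    (b : BT V R) (H : Subgroup G)
    (hH : ∀ x ∈ XX V R ⊔ EE V R i j, (∃ n : ℕ, x ^ 2 ^ n = 1) → x ∈ H) : XX V R ⊔ EE V R i j ≤ H := by
  have key : ∀ L : Subgroup G, IsPGroup 2 L → L ≤ XX V R ⊔ EE V R i j → L ≤ H := by
    intro L hL hle x hx
    obtain ⟨n, hn⟩ := hL ⟨x, hx⟩
    exact hH x (hle hx) ⟨n, congrArg Subtype.val hn⟩
  have hQ2 : ∀ k, IsPGroup 2 (QQ (R k)) := fun k => (Lib.Cores.pCore_isPGroup 2).map _
  refine sup_le (iSup_le fun k => ?_) ?_
  · exact key _ ((hQ2 k).to_le (b.W_le_Q k)) ((le_iSup (fun k => WW V (R k)) k).trans le_sup_left)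
  · have hQE : QQ (R i) ≤ EE V R i j := IIa4.Moved.QQ_le_up
    have hQH : QQ (R i) ≤ H := key _ (hQ2 i) (hQE.trans le_sup_right)
    have hQHE : QQ (R i) ≤ H ⊓ EE V R i j := le_inf hQH hQE
    have hnc : normalClosure (AA V R i j : Set (HQ (R i))) ≤ im (R i) (H ⊓ EE V R i j) := by
      unfold normalClosure
      rw [closure_le]
      intro x hx
      obtain ⟨a, ha, hax⟩ := Group.mem_conjugatesOfSet_iff.1 hx
      obtain ⟨y, rfl⟩ := isConj_iff.1 hax
      obtain ⟨u, hu, rfl⟩ := (mem_AA b).1 ha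
      obtain ⟨g, hg, rfl⟩ := exists_pr y
      have huE : u ∈ EE V R i j := IIa4.Moved.U_le_EE b hu
      have h1 : g * u * g⁻¹ ∈ EE V R i j := BTwo.conj_mem_of_normalizer (NR_le_NEE hg) huE
      have h2 : g * u * g⁻¹ ∈ H := by
        refine hH _ (mem_sup_right h1) ?_
        obtain ⟨n, hn⟩ := ((hQ2 j).to_le ((UU_le_WW j).trans (b.W_le_Q j))) ⟨u, hu⟩
        refine ⟨n, ?_⟩
        have hn' : u ^ 2 ^ n = 1 := congrArg Subtype.val hn
        rw [conj_pow, hn', mul_one, mul_inv_cancel]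
      exact pr_mem_im (mul_mem (mul_mem hg (U_le_N b i j hu)) (inv_mem hg)) (mem_inf.2 ⟨h2, h1⟩)
    intro g hg
    obtain ⟨h1, h2⟩ := IIa4.Moved.mem_up.1 hg
    exact (mem_inf.1 ((pr_mem_im_iff hQHE h1).1 (hnc h2))).1

/-! ### The interface to the END -/

/-- what is known of `G₀ = X E` and of its parabolic system `P` over `B`, `U`; `o` the node `0` -/
structure PreIn {G : Type u} [Group G] (S V G₀ B U R : Subgroup G) (v : G) {I : Type} (P : I → Subgroup G)
    (m : I → I → ℕ) (o : I) : Prop where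
  pre : Pre 2 B U P m
  sup : ⨆ i, P i = G₀
  three : 3 ≤ Nat.card I
  conn : ∀ J : Set I, J.Nonempty → Jᶜ.Nonempty → ∃ i ∈ J, ∃ j ∈ Jᶜ, 3 ≤ m i j
  gen : ∀ H : Subgroup G, (∀ x ∈ G₀, (∃ n : ℕ, x ^ 2 ^ n = 1) → x ∈ H) → G₀ ≤ H
  B_R : B ≤ normalizer (R : Set G)
  P_R : ∀ i, i ≠ o → P i ≤ normalizer (R : Set G)
  o_R : ¬ P o ≤ normalizer (R : Set G)
  S_two : IsPGroup 2 S
  U_S : U ≤ S
  S_G₀ : S ≤ normalizer (G₀ : Set G)
  S_R : S ≤ normalizer (R : Set G)
  N_V : normalizer (V : Set G) ≤ normalizer (G₀ : Set G)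
  N_R : normalizer (R : Set G) ≤ normalizer (G₀ : Set G)
  cent : centralizer (G₀ : Set G) = ⊥
  R_U : R ≤ U
  U_R : U ≤ centralizer (R : Set G)
  R_ne : R ≠ ⊥
  v_U : v ∈ U
  U_v : U ≤ centralizer {v}
  v_ne : v ≠ 1
  v_R : ∃ x ∈ G₀, x ∈ centralizer {v} ∧ x ∉ normalizer (R : Set G)
  nonab : ∃ W ≤ U, normalizer (R : Set G) ≤ normalizer (W : Set G) ∧ ¬ W ≤ centralizer (W : Set G)
  nonloc : ∀ M ≤ U, normalizer (V : Set G) ≤ normalizer (M : Set G) →
    normalizer (R : Set G) ≤ normalizer (M : Set G) → M = ⊥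

/-- **`EndIn` from `PreIn`**, for any 2-group `S` (helper678's `endIn_of_chain`) -/
theorem PreIn.endIn {G : Type u} [Group G] [Finite G] {S V G₀ B U R : Subgroup G} {v : G} {I : Type} [Finite I]
    {P : I → Subgroup G} {m : I → I → ℕ} {o : I} (h : PreIn S V G₀ B U R v P m o) : EndIn S G₀ U R v := by
  have hfact : Fact (Nat.Prime 2) := ⟨Nat.prime_two⟩
  have hPG : ∀ i, P i ≤ G₀ := fun i => by rw [← h.sup]; exact le_iSup P i
  have hUG : U ≤ G₀ := h.pre.U_le.trans ((h.pre.le o).trans (hPG o))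
  have hodd : Odd (U.relIndex G₀) := by
    have hr : ∀ i, P i ≤ G₀.subtype.range := fun i => by rw [range_subtype]; exact hPG i
    have D' := h.pre.comap (φ := G₀.subtype) (by rw [ker_subtype]; exact IsPGroup.of_bot)
      ((h.pre.le o).trans (hr o)) hr
    have hgen' : ⨆ i, (P i).comap G₀.subtype = ⊤ := by
      have e : (⨆ i, (P i).comap G₀.subtype).map G₀.subtype = (⊤ : Subgroup ↥G₀).map G₀.subtype := by
        rw [Subgroup.map_iSup, ← MonoidHom.range_eq_map, range_subtype]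
        have e1 : ∀ i, ((P i).comap G₀.subtype).map G₀.subtype = P i := fun i => map_comap_eq_self (hr i)
        simp only [e1]
        exact h.sup
      exact map_injective (subtype_injective _) e
    obtain ⟨Q, -, hb, -⟩ := HOneEnd.exists_bn D' hgen' h.conn
    exact hb.odd
  have hnd : ¬ 2 ∣ (U.subgroupOf G₀).index := by
    rw [← even_iff_two_dvd, Nat.not_even_iff_odd]
    exact hodd
  have S_inf : S ⊓ G₀ = U := by
    apply le_antisymm _ (le_inf h.U_S hUG)
    set T : Sylow 2 ↥G₀ := (h.pre.isP.comap_of_injective G₀.subtype G₀.subtype_injective).toSylow hnd with hT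
    have h2 : IsPGroup 2 (S.subgroupOf G₀) := h.S_two.comap_of_injective _ G₀.subtype_injective
    have h4 : (T : Subgroup ↥G₀) ≤ S.subgroupOf G₀ := fun x hx =>
      mem_subgroupOf.2 (h.U_S (mem_subgroupOf.1 hx))
    have h5 := T.3 h2 h4
    rintro x ⟨hxS, hxG⟩
    have h6 : (⟨x, hxG⟩ : ↥G₀) ∈ S.subgroupOf G₀ := mem_subgroupOf.2 hxS
    rw [h5] at h6
    exact mem_subgroupOf.1 h6
  have hside : HOneEnd.EndSide S G₀ U R v := {
    cent := h.cent
    S_two := h.S_two
    S_G₀ := h.S_G₀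
    S_R := h.S_R
    S_inf := S_inf
    N_R := h.N_R
    R_U := h.R_U
    U_R := h.U_R
    R_ne := h.R_ne
    v_U := h.v_U
    U_v := h.U_v
    v_ne := h.v_ne
    v_R := by
      obtain ⟨x, hx, hxv, hxR⟩ := h.v_R
      exact fun h => hxR (h ⟨hx, hxv⟩)
    nonab := by
      obtain ⟨W, hWU, hNW, hW⟩ := h.nonab
      exact ⟨W, hWU.trans hUG, h.pre.isP.to_le hWU, inf_le_right.trans hNW, hW⟩ }
  refine HOneEnd.endIn_of_pre h.pre h.three h.conn h.sup hside ?_
    (HOneEnd.hO_of_nonloc hUG h.pre.isP hodd h.N_V h.N_R h.nonloc) h.P_R h.o_R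
  apply h.gen
  intro x hx hn
  exact subset_closure ⟨hx, hn⟩

section out

variable {G : Type u} [Group G] {ι : Type*} {V : Subgroup G} {R : ι → Subgroup G} {i j : ι} {F : Type*} [Field F]
  {v : F → F → G} {w1 w2 : F → G} {B U : Subgroup G} {J : Type} {P : J → Subgroup G} {m : J → J → ℕ}

/-- **The output of SAME4** -/
theorem exists_preIn [Finite G] [Finite F] [CharP F 2] [Finite J] (b : BTS V R) (c : Coord V R i j v w1 w2)
    (hF : ∃ a : F, a ≠ 0 ∧ a ≠ 1) (hij : i ≠ j)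
    (hfr : ∀ x ∈ normalizer (R i : Set G), ∃ e ∈ EE V R i j, e * x ∈ normalizer (V : Set G))
    (D : RealSys V R i (EE V R i j) B U P m) (hg : ∀ k, ¬ GamT V (P k))
    (hPR : ∀ k, P k ≤ normalizer (R i : Set G))
    (hr : ∀ k, ¬ P k ≤ normalizer (V : Set G) → ∃ m0, 3 ≤ m0 ∧ Res0 V R B U P k m0)
    (hD : DD V R ⊓ CenX V R ≠ ⊥) {S : Subgroup G} (hS2 : IsPGroup 2 S) (hSV : S ≤ normalizer (V : Set G))
    (hSR : S ≤ normalizer (R i : Set G)) (hUS : U ≤ S) :
    ∃ (x : G) (m' : Option J → Option J → ℕ),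
      PreIn S V (XX V R ⊔ EE V R i j) B U (R i) x (PPo V R B P) m' none := by
  classical
  have hfact : Fact (Nat.Prime 2) := ⟨Nat.prime_two⟩
  -- `|J| ≥ 2`
  obtain ⟨-, -, -, -, -, -, -, -, hJ⟩ := EndBN.exists_bn_real b.toBT c hF hij hfr D hg hr
  have O := gOut b c hF hij hfr D hg hPR hr hD
  have hne : Nonempty J := by
    by_contra h1
    rw [not_nonempty_iff] at h1
    rw [Nat.card_of_isEmpty] at hJ
    omega
  choose! m0 hm0 using hr
  have hpre := D.pre0 b.toBT c hF (m0 := m0) hm0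
  have hconn := D.conn0 (m0 := m0) fun k hk => (hm0 k hk).1
  have hcard : 3 ≤ Nat.card (Option J) := by
    have := Fintype.ofFinite J
    rw [Nat.card_eq_fintype_card, Fintype.card_option, ← Nat.card_eq_fintype_card]
    omega
  obtain ⟨y, hy, hy1, hyU, x, hx, hxy, hxR⟩ := O.v
  have hUN : U ≤ normalizer (V : Set G) := D.pre.U_le.trans D.dat.BV
  refine ⟨y, MMo V P m m0, {
    pre := hpre
    sup := D.iSup_eq hne
    three := hcard
    conn := hconn
    gen := gen2 b.toBT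
    B_R := D.dat.BR
    P_R := fun k hk => ?_
    o_R := fun h => ?_
    S_two := hS2
    U_S := hUS
    S_G₀ := hSV.trans O.NV
    S_R := hSR
    N_V := O.NV
    N_R := O.NR
    cent := O.cen
    R_U := O.R_le
    U_R := fun u hu => mem_centralizer_iff.2 fun r hr => (O.R_cen u hu r hr).symm
    R_ne := O.R_ne
    v_U := hy
    U_v := fun u hu => mem_centralizer_singleton_iff.2 (hyU u hu)
    v_ne := hy1
    v_R := ⟨x, hx, mem_centralizer_singleton_iff.2 hxy, hxR⟩
    nonab := ?_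
    nonloc := fun M hM h1 h2 => b.nonloc i _ (D.pre.isP.to_le hM) (hM.trans hUN)
      (hM.trans (D.pre.U_le.trans D.dat.BR)) h1 h2 }⟩
  · rcases k with _ | k
    · exact absurd rfl hk
    · exact hPR k
  · exact not_norm (i := i) b.toBT (E := ⊥) (by
      rw [sup_bot_eq]
      exact (le_sup_left : XX V R ≤ Zero.P0 V R B).trans h)
  · obtain ⟨W, hW, hN, a, ha, a', ha', hne'⟩ := O.w
    exact ⟨W, hW, hN, fun h => hne' (mem_centralizer_iff.1 (h ha') a ha)⟩

end out

/-! ### The sockets -/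

section sockets

variable (K : Cls.{u})

/-- **The moved components with their systems** (helper835) -/
def RsH : Prop :=
  ∀ (G : Type u) [Group G] [Finite G], K G → ∀ (S : Sylow 2 G) (P : Subgroup G) (g : G) (F : Type) [Field F]
    [Finite F] [CharP F 2] (N : Subgroup G) (M : NatMod F N), Sit4 S P g M → LayAll N (pt M) F →
      (∀ i j : Pt M, i ≠ j → ∀ x ∈ normalizer (pt M i : Set G), ∃ e ∈ EE N (pt M) i j,
        e * x ∈ normalizer (N : Set G)) →
      ∀ (i j : Pt M) (v : F → F → G) (w1 w2 t : F → G), Coord N (pt M) i j v w1 w2 →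
        ∀ τ : Lie.TorD N (pt M) i j v t, (S : Subgroup G) ≤ normalizer (pt M i : Set G) →
          ∃ (n : ℕ) (C : Fin n → Subgroup (HQ (pt M i))) (J : Fin n → Type) (Q : ∀ a, J a → Subgroup (C a))
            (m : ∀ a, J a → J a → ℕ), (∀ a, Finite (J a)) ∧ Nonempty (Fin n) ∧
              RS N (pt M) i j (TT τ) (SS (pt M) i S) C J Q m ∧ ∀ a, OneL (C a) (J a)

/-- **`N_H(A) ≤ N(V)`** (helper866) -/
def NVH : Prop :=
  ∀ (G : Type u) [Group G] [Finite G], K G → ∀ (S : Sylow 2 G) (P : Subgroup G) (g : G) (F : Type) [Field F]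
    [Finite F] [CharP F 2] (N : Subgroup G) (M : NatMod F N), Sit4 S P g M → LayAll N (pt M) F →
      (∀ i j : Pt M, i ≠ j → ∀ x ∈ normalizer (pt M i : Set G), ∃ e ∈ EE N (pt M) i j,
        e * x ∈ normalizer (N : Set G)) →
      ∀ i j : Pt M, i ≠ j → ∀ (x : G) (hx : x ∈ normalizer (pt M i : Set G)),
        pr (pt M i) ⟨x, hx⟩ ∈ normalizer (AA N (pt M) i j : Set (HQ (pt M i))) → x ∈ normalizer (N : Set G)

/-- **The residues `(0, k)` of the moved nodes** -/
def ResH : Prop :=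
  ∀ (G : Type u) [Group G] [Finite G], K G → ∀ (S : Sylow 2 G) (P : Subgroup G) (g : G) (F : Type) [Field F]
    [Finite F] [CharP F 2] (N : Subgroup G) (M : NatMod F N), Sit4 S P g M → LayAll N (pt M) F →
      (∀ i j : Pt M, i ≠ j → ∀ x ∈ normalizer (pt M i : Set G), ∃ e ∈ EE N (pt M) i j,
        e * x ∈ normalizer (N : Set G)) →
      (∀ i j : Pt M, i ≠ j → ∀ (x : G) (hx : x ∈ normalizer (pt M i : Set G)),
        pr (pt M i) ⟨x, hx⟩ ∈ normalizer (AA N (pt M) i j : Set (HQ (pt M i))) → x ∈ normalizer (N : Set G)) →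
      ∀ (i j : Pt M) (v : F → F → G) (w1 w2 t : F → G), Coord N (pt M) i j v w1 w2 →
        ∀ τ : Lie.TorD N (pt M) i j v t, (S : Subgroup G) ≤ normalizer (pt M i : Set G) →
          ∀ (n : ℕ) (C : Fin n → Subgroup (HQ (pt M i))) (J : Fin n → Type) (Q : ∀ a, J a → Subgroup (C a))
            (m : ∀ a, J a → J a → ℕ), (∀ a, Finite (J a)) → Nonempty (Fin n) →
              RS N (pt M) i j (TT τ) (SS (pt M) i S) C J Q m → (∀ a, OneL (C a) (J a)) →
                ∀ x : Σ a, J a,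
                  ¬ PG C (TT τ) (SS (pt M) i S) Q x ≤ normalizer (N : Set G) →
                  ¬ GamT N (PG C (TT τ) (SS (pt M) i S) Q x) →
                    ∃ m0, 3 ≤ m0 ∧ Res0 N (pt M) (BG C (TT τ) (SS (pt M) i S)) (UG C (SS (pt M) i S))
                      (PG C (TT τ) (SS (pt M) i S) Q) x m0

/-- **No node of type `(γ)`** -/
def GamH : Prop :=
  ∀ (G : Type u) [Group G] [Finite G], K G → ∀ (S : Sylow 2 G) (P : Subgroup G) (g : G) (F : Type) [Field F]
    [Finite F] [CharP F 2] (N : Subgroup G) (M : NatMod F N), Sit4 S P g M → LayAll N (pt M) F →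
      (∀ i j : Pt M, i ≠ j → ∀ x ∈ normalizer (pt M i : Set G), ∃ e ∈ EE N (pt M) i j,
        e * x ∈ normalizer (N : Set G)) →
      (∀ i j : Pt M, i ≠ j → ∀ (x : G) (hx : x ∈ normalizer (pt M i : Set G)),
        pr (pt M i) ⟨x, hx⟩ ∈ normalizer (AA N (pt M) i j : Set (HQ (pt M i))) → x ∈ normalizer (N : Set G)) →
      ∀ (i j : Pt M) (v : F → F → G) (w1 w2 t : F → G), Coord N (pt M) i j v w1 w2 →
        ∀ τ : Lie.TorD N (pt M) i j v t, (S : Subgroup G) ≤ normalizer (pt M i : Set G) →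
          ∀ (n : ℕ) (C : Fin n → Subgroup (HQ (pt M i))) (J : Fin n → Type) (Q : ∀ a, J a → Subgroup (C a))
            (m : ∀ a, J a → J a → ℕ), (∀ a, Finite (J a)) → Nonempty (Fin n) →
              RS N (pt M) i j (TT τ) (SS (pt M) i S) C J Q m → (∀ a, OneL (C a) (J a)) →
                ∀ x : Σ a, J a, ¬ GamT N (PG C (TT τ) (SS (pt M) i S) Q x)

variable {K}

/-- **The socket `Cut.StFour` from its parts.** -/
theorem stFour_of (hL : LayH K) (hF : FrH K) (hD : DH K) (hRs : RsH K) (hNV : NVH K) (hRes : ResH K)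
    (hGa : GamH K) : Cut.StFour K := by
  intro G _ _ hG hK S hFu hI hSi hs P g F _ _ _ N M hM h4
  have h : Sit4 S P g M := ⟨hG, hFu, hI, hSi, hs, hM, h4⟩
  have hl := hL G hK S P g F N M h
  have hfr := hF G hK S P g F N M h hl
  have hnv := hNV G hK S P g F N M h hl hfr
  obtain ⟨i, hSi'⟩ := HOneQ.exists_pt M S h.le_N
  obtain ⟨j, hji, -⟩ := h.bt.third i i
  have hij : i ≠ j := Ne.symm hji
  obtain ⟨v, w1, w2, c⟩ := h.exists_coord hij
  obtain ⟨t, τ⟩ := h.exists_torD c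
  obtain ⟨n, C, J, Q, m, hfin, hne, D, hone⟩ := hRs G hK S P g F N M h hl hfr i j v w1 w2 t c τ hSi'
  have hfinJ : Finite (Σ a, J a) := inferInstance
  have hreal := RealOf.realSysS D h.exists_ne h.bts c τ hij rfl (hnv i j hij)
  have hga := hGa G hK S P g F N M h hl hfr hnv i j v w1 w2 t c τ hSi' n C J Q m hfin hne D hone
  have hres := hRes G hK S P g F N M h hl hfr hnv i j v w1 w2 t c τ hSi' n C J Q m hfin hne D hone
  obtain ⟨y, m', hin⟩ := exists_preIn h.bts c h.exists_ne hij (hfr i j hij) hreal hga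
    (fun k => RealOf.PG_le_NR D k) (fun k hk => hres k hk (hga k)) (hD G hK S P g F N M h hl) S.isPGroup' h.le_N hSi'
    (RealOf.UG_le D hSi' rfl)
  have hfinO : Finite (Option (Σ a, J a)) := inferInstance
  have hend := hin.endIn
  refine ⟨i, hSi', _, _, y, hend, ?_, (norm_G0 h.bt (hfr i j hij)).1⟩
  have h1 : N ≤ WW N (pt M i) := V_le_WW N (pt M i)
  exact (h1.trans (W_le_X N (pt M) i)).trans le_sup_left

end sockets

end Cfsg.Agent.Omega.HOne.SameCut
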