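import Cfsg.Agent.Mrg.Omega.HOne.SitT
import Cfsg.Agent.Mrg.Omega.HOne.SameCut
import Cfsg.Agent.Mrg.Omega.IId.M4.Graph
import Cfsg.Agent.Mrg.Omega.IId.Cv.Cut
import Cfsg.Agent.Mrg.Omega.IId.Cv.Syl
import Cfsg.Agent.Mrg.Omega.IId.M4.Entry
import Cfsg.Agent.Mrg.Omega.IId.Cv.TwoBTwo
import Cfsg.Agent.Mrg.Omega.IId.ThmCD.Cor
import Cfsg.Agent.Mrg.Omega.IId.Cv.CvMix4

section


/-!
# The split chain, `q ≥ 4`, over a 2-group `T`: the cut (II.0h1 `Same4` and II.d `WrMain4`)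

Sockets over `SitT T M` (no class `K`, no Sylow group of `G`):
* `FrT` : `N(R i) = E (N(R i) ∩ N(V))`;
* `DT` : `D ∩ C(X) ≠ 1`;
* `RsT` : the enumeration of the moved components with their parabolic systems;
* `NVT` : `pr g ∈ N(A)` implies `g ∈ N(V)`;
* `ResT` : the residues `(0, k)` of the moved nodes;
* `GaT` : no node of type `(γ)`.

* `endT` : `EndIn T (X E) U (R i) v` at a point `R i` with `TSyl N (pt M) i T`, `O₂(N(R i)) ≤ G₀`, `X ≤ G₀`,
  `N(V), N(R i) ≤ N(G₀)`;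
* `stFour` : `Cut.StFour K`; `Ent.endIn` : for `WrMain4` (with `IId.M4.Chain`).
-/

set_option autoImplicit false
set_option linter.unusedSectionVars false

namespace Cfsg.Agent.Omega.HOne.TLift

open Subgroup Cfsg Cfsg.Agent.ZN Cfsg.Agent.Omega.MinPar Cfsg.Agent.Omega.Frame
open Cfsg.Agent.Omega.NatPair (NatMod)
open Cfsg.Agent.Omega.BTwo Cfsg.Agent.Omega.Lie Cfsg.Agent.Omega.Lie.Quot Cfsg.Agent.Omega.Lie.End
open Cfsg.Agent.Omega.IIa4 (Lay LayAll)
open Cfsg.Agent.Omega.IIa4.Moved (EE NR_le_NEE EE_le_cen Y_le_EE)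
open Cfsg.Agent.Omega.HOneEnd (EndIn)
open Cfsg.Agent.Omega.HOne.SameOf (Sit4 norm_G0)
open Cfsg.Agent.Omega.HOneQ.SylIOf (TSyl)
open Cfsg.Agent.Omega.HOneQ.ECen (SylI)
open Cfsg.Agent.Omega.Lie.LayerMain (KRows)

universe u

/-! ### The statements at the level of `V`, `R` -/

section defs

variable {G : Type u} [Group G] {ι : Type*} (V : Subgroup G) (R : ι → Subgroup G)

/-- LAYER for every `SylI` -/
def LayS (F : Type) [Field F] : Prop :=
  ∀ (i j : ι) (v : F → F → G) (w1 w2 t : F → G), Coord V R i j v w1 w2 → ∀ τ : TorD V R i j v t,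
    ∀ S : Subgroup (HQ (R i)), SylI τ S → Lay V R i j (TT τ) S

/-- `N(R i) = E (N(R i) ∩ N(V))` -/
def Frt : Prop :=
  ∀ i j : ι, i ≠ j → ∀ x ∈ normalizer (R i : Set G), ∃ e ∈ EE V R i j, e * x ∈ normalizer (V : Set G)

/-- `pr g ∈ N(A)` implies `g ∈ N(V)` -/
def NVp : Prop :=
  ∀ i j : ι, i ≠ j → ∀ (x : G) (hx : x ∈ normalizer (R i : Set G)),
    pr (R i) ⟨x, hx⟩ ∈ normalizer (AA V R i j : Set (HQ (R i))) → x ∈ normalizer (V : Set G)

end defs

theorem SitT.layS {G : Type u} [Group G] [Finite G] {T : Subgroup G} {F : Type} [Field F] [Finite F] [CharP F 2]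
    {N : Subgroup G} {M : NatMod F N} (h : SitT T M) (KR : KRows.{u}) : LayS N (pt M) F :=
  fun _ _ _ _ _ _ c τ _ I => h.lay KR c τ I

/-- LAYER of `IIa4` from `LayS` -/
theorem LayS.layAll {G : Type u} [Group G] [Finite G] {ι : Type*} {V : Subgroup G} {R : ι → Subgroup G} {F : Type}
    [Field F] (l : LayS V R F) (b : BT V R) : LayAll V R F :=
  fun i j hij v w1 w2 t c τ S₁ hV hR =>
    l i j v w1 w2 t c τ _ ((TSyl.of_sylow S₁ hV hR).sylI b τ (CrdOf.crd c) hij)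

/-! ### The sockets -/

section sockets

/-- **`N(R i) = E (N(R i) ∩ N(V))`** -/
def FrT : Prop :=
  ∀ (G : Type u) [Group G] [Finite G] (T : Subgroup G) (F : Type) [Field F] [Finite F] [CharP F 2] (N : Subgroup G)
    (M : NatMod F N), SitT T M → LayS N (pt M) F → Frt N (pt M)

/-- **`D ∩ C(X) ≠ 1`** -/
def DT : Prop :=
  ∀ (G : Type u) [Group G] [Finite G] (T : Subgroup G) (F : Type) [Field F] [Finite F] [CharP F 2] (N : Subgroup G)
    (M : NatMod F N), SitT T M → LayS N (pt M) F → DD N (pt M) ⊓ CenX N (pt M) ≠ ⊥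

/-- **`N_H(A) ≤ N(V)`** -/
def NVT : Prop :=
  ∀ (G : Type u) [Group G] [Finite G] (T : Subgroup G) (F : Type) [Field F] [Finite F] [CharP F 2] (N : Subgroup G)
    (M : NatMod F N), SitT T M → LayS N (pt M) F → Frt N (pt M) → NVp N (pt M)

/-- **The moved components with their systems** -/
def RsT : Prop :=
  ∀ (G : Type u) [Group G] [Finite G] (T : Subgroup G) (F : Type) [Field F] [Finite F] [CharP F 2] (N : Subgroup G)
    (M : NatMod F N), SitT T M → LayS N (pt M) F → Frt N (pt M) →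
      ∀ (i j : Pt M) (v : F → F → G) (w1 w2 t : F → G), Coord N (pt M) i j v w1 w2 →
        ∀ τ : Lie.TorD N (pt M) i j v t, TSyl N (pt M) i T →
          ∃ (n : ℕ) (C : Fin n → Subgroup (HQ (pt M i))) (J : Fin n → Type) (Q : ∀ a, J a → Subgroup (C a))
            (m : ∀ a, J a → J a → ℕ), (∀ a, Finite (J a)) ∧ Nonempty (Fin n) ∧
              RS N (pt M) i j (TT τ) (SS (pt M) i T) C J Q m ∧ ∀ a, OneL (C a) (J a)

/-- **The residues `(0, k)` of the moved nodes** -/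
def ResT : Prop :=
  ∀ (G : Type u) [Group G] [Finite G] (T : Subgroup G) (F : Type) [Field F] [Finite F] [CharP F 2] (N : Subgroup G)
    (M : NatMod F N), SitT T M → LayS N (pt M) F → Frt N (pt M) → NVp N (pt M) →
      ∀ (i j : Pt M) (v : F → F → G) (w1 w2 t : F → G), Coord N (pt M) i j v w1 w2 →
        ∀ τ : Lie.TorD N (pt M) i j v t, TSyl N (pt M) i T →
          ∀ (n : ℕ) (C : Fin n → Subgroup (HQ (pt M i))) (J : Fin n → Type) (Q : ∀ a, J a → Subgroup (C a))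
            (m : ∀ a, J a → J a → ℕ), (∀ a, Finite (J a)) → Nonempty (Fin n) →
              RS N (pt M) i j (TT τ) (SS (pt M) i T) C J Q m → (∀ a, OneL (C a) (J a)) →
                ∀ x : Σ a, J a,
                  ¬ PG C (TT τ) (SS (pt M) i T) Q x ≤ normalizer (N : Set G) →
                  ¬ GamT N (PG C (TT τ) (SS (pt M) i T) Q x) →
                    ∃ m0, 3 ≤ m0 ∧ Res0 N (pt M) (BG C (TT τ) (SS (pt M) i T)) (UG C (SS (pt M) i T))
                      (PG C (TT τ) (SS (pt M) i T) Q) x m0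

/-- **No node of type `(γ)`** -/
def GaT : Prop :=
  ∀ (G : Type u) [Group G] [Finite G] (T : Subgroup G) (F : Type) [Field F] [Finite F] [CharP F 2] (N : Subgroup G)
    (M : NatMod F N), SitT T M → LayS N (pt M) F → Frt N (pt M) → NVp N (pt M) →
      ∀ (i j : Pt M) (v : F → F → G) (w1 w2 t : F → G), Coord N (pt M) i j v w1 w2 →
        ∀ τ : Lie.TorD N (pt M) i j v t, TSyl N (pt M) i T →
          ∀ (n : ℕ) (C : Fin n → Subgroup (HQ (pt M i))) (J : Fin n → Type) (Q : ∀ a, J a → Subgroup (C a))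
            (m : ∀ a, J a → J a → ℕ), (∀ a, Finite (J a)) → Nonempty (Fin n) →
              RS N (pt M) i j (TT τ) (SS (pt M) i T) C J Q m → (∀ a, OneL (C a) (J a)) →
                ∀ x : Σ a, J a, ¬ GamT N (PG C (TT τ) (SS (pt M) i T) Q x)

end sockets

/-- the preimage of `im T` lies in `T` -/
theorem up_SS_le {G : Type u} [Group G] [Finite G] {ι : Type*} {V : Subgroup G} {R : ι → Subgroup G} {i : ι}
    {T : Subgroup G} (h : TSyl V R i T) : up (R i) (SS R i T) ≤ T := by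
  intro g hg
  obtain ⟨a, ha, -, h1⟩ := mem_up_im.1 hg
  have e : g = a * (a⁻¹ * g) := by group
  rw [e]
  exact mul_mem (mem_inf.1 ha).1 (h.QQ_le h1)

/-- The output of the chain over `T`. -/
structure OutT {G : Type u} [Group G] (T : Subgroup G) {F : Type} [Field F] {N : Subgroup G} (M : NatMod F N) (i : Pt M)
    (G₀ U : Subgroup G) (x : G) : Prop where
  endIn : EndIn T G₀ U (pt M i) x
  X_le : XX N (pt M) ≤ G₀
  Q_le : QQ (pt M i) ≤ G₀
  NV : normalizer (N : Set G) ≤ normalizer (G₀ : Set G)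

/-- **The chain over `T`** -/
theorem SitT.out {G : Type u} [Group G] [Finite G] {T : Subgroup G} {F : Type} [Field F] [Finite F] [CharP F 2]
    {N : Subgroup G} {M : NatMod F N} (h : SitT T M) (hL : LayS N (pt M) F) (hF : FrT.{u}) (hD : DT.{u})
    (hRs : RsT.{u}) (hNV : NVT.{u}) (hRes : ResT.{u}) (hGa : GaT.{u}) {i : Pt M} (hi : TSyl N (pt M) i T) :
    ∃ (G₀ U : Subgroup G) (x : G), OutT T M i G₀ U x := by
  have hfr := hF G T F N M h hL
  have hnv := hNV G T F N M h hL hfr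
  obtain ⟨j, hji, -⟩ := h.bt.third i i
  have hij : i ≠ j := Ne.symm hji
  obtain ⟨v, w1, w2, c⟩ := h.exists_coord hij
  obtain ⟨t, τ⟩ := h.exists_torD c
  obtain ⟨n, C, J, Q, m, hfin, hne, D, hone⟩ := hRs G T F N M h hL hfr i j v w1 w2 t c τ hi
  have hfinJ : Finite (Σ a, J a) := inferInstance
  have hreal := RealOf.realSysS D h.exists_ne h.bts c τ hij rfl (hnv i j hij)
  have hga := hGa G T F N M h hL hfr hnv i j v w1 w2 t c τ hi n C J Q m hfin hne D hone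
  have hres := hRes G T F N M h hL hfr hnv i j v w1 w2 t c τ hi n C J Q m hfin hne D hone
  obtain ⟨y, m', hin⟩ := SameCut.exists_preIn h.bts c h.exists_ne hij (hfr i j hij) hreal hga
    (fun k => RealOf.PG_le_NR D k) (fun k hk => hres k hk (hga k)) (hD G T F N M h hL) hi.p2 hi.leV hi.leR
    ((IIa4.Moved.up_mono D.UE_le_S).trans (up_SS_le hi))
  have hfinO : Finite (Option (Σ a, J a)) := inferInstance
  have hQE : QQ (pt M i) ≤ EE N (pt M) i j := IIa4.Moved.QQ_le_up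
  exact ⟨_, _, y, hin.endIn, le_sup_left, hQE.trans le_sup_right, (norm_G0 h.bt (hfr i j hij)).1⟩

/-! ### The two instances -/

/-- **`Cut.StFour K`** (II.0h1, same type, `q ≥ 4`) -/
theorem stFour {K : Cls.{u}} (KR : KRows.{u}) (hF : FrT.{u}) (hD : DT.{u}) (hRs : RsT.{u}) (hNV : NVT.{u})
    (hRes : ResT.{u}) (hGa : GaT.{u}) : Cut.StFour K := by
  intro G _ _ hG hK S hFu hI hSi hs P g F _ _ _ N M hM h4
  have h4' : Sit4 S P g M := ⟨hG, hFu, hI, hSi, hs, hM, h4⟩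
  have h := SitT.of_sit4 h4'
  obtain ⟨i, hi⟩ := HOneQ.exists_pt M S h4'.le_N
  obtain ⟨G₀, U, x, o⟩ := h.out (h.layS KR) hF hD hRs hNV hRes hGa (TSyl.of_sylow S h4'.le_N hi)
  refine ⟨i, hi, G₀, U, x, o.endIn, ?_, o.NV⟩
  have h1 : N ≤ WW N (pt M i) := V_le_WW N (pt M i)
  exact (h1.trans (W_le_X N (pt M) i)).trans o.X_le

open Cfsg.Agent.Omega.IId.FourSide Cfsg.Agent.Omega.IId.M4 in
/-- **`EndIn` and `Chain` for `WrMain4`** -/
theorem ent_out {K : Cls.{u}} {G : Type u} [Group G] [Finite G] {S : Sylow 2 G} {P : Subgroup G} {F : Type}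
    [Field F] [Finite F] [CharP F 2] {M : FFThm.NatK F (S : Subgroup G) P (zl (S : Subgroup G) P) ⊥ 2} {i j : Fin 2}
    {N : NatMod F (IId.fac M i)} (h : Ent K S P M i j N) (KR : KRows.{u}) (hF : FrT.{u}) (hD : DT.{u})
    (hRs : RsT.{u}) (hNV : NVT.{u}) (hRes : ResT.{u}) (hGa : GaT.{u}) :
    ∃ (G₀ U : Subgroup G) (x : G), EndIn (IId.stab M i) G₀ U (IId.line M i) x ∧ Chain M i N G₀ ∧
      normalizer (IId.fac M i : Set G) ≤ normalizer (G₀ : Set G) := by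
  obtain ⟨k, hk⟩ := h.exists_pt
  have h' := SitT.of_ent h
  have hi : TSyl (IId.fac M i) (pt N) k (IId.stab M i) := by
    refine ⟨h'.two, h'.le_N, ?_, ?_⟩
    · rw [hk]
      exact IId.stab_normalizes_line M h.four.le i
    · rw [hk, ← Nat.not_even_iff_odd, even_iff_two_dvd]
      exact h.four.syl
  obtain ⟨G₀, U, x, o⟩ := h'.out (h'.layS KR) hF hD hRs hNV hRes hGa hi
  have h1 := o.endIn
  have h2 := o.Q_le
  rw [hk] at h1 h2
  exact ⟨G₀, U, x, h1, ⟨h1.simple, o.X_le, h2, h1.N_R⟩, o.NV⟩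

end Cfsg.Agent.Omega.HOne.TLift

end

section


/-!
# II.d, `V_P = V × D`, an unmixed factor, `q ≥ 4`: `CvOneA4`, `CvTwoB`, `CvOne` from the chain over `T`

* `ChainT` : the chain SAME4 over a 2-group `T` (`TLift.SitT`, `TLift.OutT`: helper400, `HOne/CutT.lean`);
  `IdT` : the identification with the K-facts `M4.SpK`, `M4.FK`;
* `cvOneA4_of : ChainT → IdT → CvOneA4 K`;
* `known_four` : `BTS` over a Sylow 2-subgroup of `G`, `q ≥ 4`, from `ChainT`, `EndL`.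
-/

set_option autoImplicit false
set_option linter.unusedSectionVars false

namespace Cfsg.Agent.Omega.IId.Cv

open Subgroup Pointwise Cfsg Cfsg.Agent.ZN Cfsg.Agent.ZN.ChoiceBase
open Cfsg.Agent.Omega.MinPar Cfsg.Agent.Omega.Frame Cfsg.Agent.Omega.FFThm Cfsg.Agent.Omega.FrameMulti
open Cfsg.Agent.Omega.FrameLE (AllIn)
open Cfsg.Agent.Omega.NatPair (ap NatMod exists_ap)
open Cfsg.Agent.Omega.HOneEnd (EndIn)
open Cfsg.Agent.Omega.HOne.Cut (TS0 Three0 More0 EndL known_of_pos)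
open Cfsg.Agent.Omega.HTwo.Entry (Pos)
open Cfsg.Agent.Omega.IId.M4 (FK SpK SylN mem_other swap_false swap_X)
open Cfsg.Agent.Omega.HOne.TLift (SitT OutT FrT RsT NVT ResT GaT)
open Cfsg.Agent.Omega.HOneQ.SylIOf (TSyl)
open Cfsg.Agent.Omega.Lie.LayerMain (KRows)
open Cfsg.Agent.MinSimple

universe u

/-! ### The sockets -/

/-- **The chain SAME4 over `T`** (helper400, 441, 811, 835): `HOne/CutT.lean`. -/
def ChainT : Prop :=
  ∀ (G : Type u) [Group G] [Finite G] (T : Subgroup G) (F : Type) [Field F] [Finite F] [CharP F 2] (V : Subgroup G)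
    (N : NatMod F V), SitT T N → ∀ o : BTwo.Pt N, TSyl V (BTwo.pt N) o T →
      ∃ (G₀ U : Subgroup G) (v : G), OutT T N o G₀ U v

/-- the chain from the sockets of `HOne/CutT.lean` -/
theorem chainT_of (KR : KRows.{u}) (hF : FrT.{u}) (hD : HOne.TLift.DT.{u}) (hRs : RsT.{u}) (hNV : NVT.{u})
    (hRes : ResT.{u}) (hGa : GaT.{u}) : ChainT.{u} :=
  fun _ _ _ _ _ _ _ _ _ _ h _ hi => h.out (h.layS KR) hF hD hRs hNV hRes hGa hi

/-- **THEOREM ID with the K-facts over `T`** (helper124, 384, 38, 588, 866). -/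
def IdT : Prop :=
  ∀ (G : Type u) [Group G] [Finite G], IsCharacteristicTwoType G → ∀ (T G₀ U R : Subgroup G) (v : G),
    EndIn T G₀ U R v → 4 ≤ Nat.card R →
      (∃ Xb Ca Cb Qa Qb Ua : Subgroup G, SpK T G₀ R Xb Ca Cb Qa Qb Ua) ∨
        ∃ Xb Ca Cb Qa Qb Ua Ub : Subgroup G, FK T G₀ R Xb Ca Cb Qa Qb Ua Ub

theorem compl_two {i j : Fin 2} (h : i ≠ j) : ({i}ᶜ : Set (Fin 2)) = {j} := by
  ext x
  simp only [Set.mem_compl_iff, Set.mem_singleton_iff]
  omega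

theorem vec_one_ne {F : Type} [Field F] : (![1, 0] : Fin 2 → F) ≠ 0 := by
  intro h
  have := congrFun h 0
  simp at this

/-! ### Elements of `Z(T ∩ G₀)` -/

section bts

variable {G : Type u} [Group G] {F : Type} [Field F] {V : Subgroup G} {N : NatMod F V} {o : BTwo.Pt N}

/-- `X` moves every point. -/
theorem X_not (b : BTwo.BTS V (BTwo.pt N)) (o : BTwo.Pt N) :
    ¬ BTwo.XX V (BTwo.pt N) ≤ normalizer (BTwo.pt N o : Set G) := by
  intro h0
  obtain ⟨l, hl, -⟩ := b.third o o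
  obtain ⟨x, hx, h1⟩ := b.toBT.trans_X_one o l
  have h2 : cj x (BTwo.pt N o) = BTwo.pt N o := cj_eq_of_mem_normalizer (h0 hx)
  have h3 : BTwo.pt N l = BTwo.pt N o := by
    rw [← h1]
    exact h2
  have h4 := b.R_inf l o hl
  rw [h3, inf_idem] at h4
  exact b.R_ne o h4

/-- an element of `Z(T)` in `G₀` which centralises `X` and is not in `R` lies in `X_b` -/
theorem mem_b (b : BTwo.BTS V (BTwo.pt N)) {T G₀ Xb : Subgroup G}
    (zU : ∀ z ∈ T ⊓ G₀, T ⊓ G₀ ≤ centralizer ({z} : Set G) → ∃ x ∈ BTwo.pt N o, ∃ y ∈ Xb, z = x * y)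
    (mix : ∀ x ∈ BTwo.pt N o, ∀ y ∈ Xb, x ≠ 1 → y ≠ 1 →
      G₀ ⊓ centralizer ({x * y} : Set G) ≤ normalizer (BTwo.pt N o : Set G))
    (hX : BTwo.XX V (BTwo.pt N) ≤ G₀) {z : G} (hz : z ∈ zc T) (hG : z ∈ G₀)
    (hc : z ∈ BTwo.CenX V (BTwo.pt N)) (hn : z ∉ BTwo.pt N o) : z ∈ Xb := by
  obtain ⟨h1, h2, -⟩ := VModule.mem_zc.1 hz
  refine mem_other zU mix ⟨h1, hG⟩ ?_ hn ?_
  · rintro t ⟨ht, -⟩
    exact mem_centralizer_singleton_iff.2 (h2 t ht)
  · intro h3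
    apply X_not b o
    refine le_trans (le_inf hX fun x hx => ?_) h3
    rw [mem_centralizer_singleton_iff]
    exact mem_centralizer_iff.1 hc x hx

end bts

/-! ### `CvOneA4` -/

section four

variable {G : Type u} [Group G] [Finite G] {F : Type} [Field F] [CharP F 2] {S : Sylow 2 G} {P V D : Subgroup G}

/-- CASE 1: `stab M i` is Sylow in `N_G(line M i)`. -/
theorem sylN_of (M : NatD F S P V D 2) {i : Fin 2}
    (hd : ¬ 2 ∣ (NV.stab M.toNatV i).relIndex (normalizer (NV.line M.toNatV i : Set G))) :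
    SylN (S : Subgroup G) (NV.stab M.toNatV i) (NV.line M.toNatV i) where
  le := NV.stab_le _ _
  card := ((NV.blk_two M i).card).le
  max K hK hTK hKX := by
    have h1 := SideOf.card_dvd_of (NV.stab_normalizes_line M.toNatV (NV.SP M) i) hd hK hKX
    exact (Subgroup.eq_of_le_of_card_ge hTK (Nat.le_of_dvd Nat.card_pos h1)).ge

/-- `s r s⁻¹ ∈ V_j ∩ Ω₁(Z(T))`, not in `R`, for `s ∈ S`, `s ∉ T = stab M i`, `1 ≠ r ∈ C_R(T)` -/
theorem swap_r (M : NatD F S P V D 2) {i j : Fin 2} (hij : i ≠ j) {s r : G} (hs : s ∈ (S : Subgroup G))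
    (hs1 : s ∉ NV.stab M.toNatV i) (hsT : s ∈ normalizer (NV.stab M.toNatV i : Set G))
    (hr : r ∈ NV.line M.toNatV i) (hrz : r ∈ zc (NV.stab M.toNatV i)) (hr1 : r ≠ 1) :
    s * r * s⁻¹ ∈ NV.fac M.toNatV j ∧ s * r * s⁻¹ ∈ zc (NV.stab M.toNatV i) ∧
      s * r * s⁻¹ ∉ NV.line M.toNatV i := by
  obtain ⟨h1, h2, h3⟩ := VModule.mem_zc.1 hrz
  have hj : s * r * s⁻¹ ∈ NV.fac M.toNatV j := by
    have h4 := (NV.blk_two M i).swap hs hs1 (NV.line_le M.toNatV i hr)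
    rwa [compl_two hij] at h4
  refine ⟨hj, VModule.mem_zc.2 ⟨(mem_normalizer_iff.1 hsT r).1 h1, fun t ht => ?_, ?_⟩, fun h4 => ?_⟩
  · have h4 : s⁻¹ * t * s ∈ NV.stab M.toNatV i := by
      have := (mem_normalizer_iff.1 (inv_mem hsT) t).1 ht
      rwa [inv_inv] at this
    have h5 := h2 _ h4
    calc t * (s * r * s⁻¹) = s * ((s⁻¹ * t * s) * r) * s⁻¹ := by group
      _ = s * r * s⁻¹ * t := by rw [h5]; group
  · rw [pow_two] at h3 ⊢
    calc s * r * s⁻¹ * (s * r * s⁻¹) = s * (r * r) * s⁻¹ := by group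
      _ = 1 := by rw [h3]; group
  · have h5 : s * r * s⁻¹ ∈ NV.fac M.toNatV i ⊓ NV.fac M.toNatV j := ⟨NV.line_le _ _ h4, hj⟩
    rw [NV.fac_inf M.toNatV hij, mem_bot] at h5
    apply hr1
    have e1 : r = s⁻¹ * (s * r * s⁻¹) * s := by group
    rw [e1, h5]; group

end four

/-- **`CvOneA4`** from the chain over `T` and the identification. -/
theorem cvOneA4_of {K : Cls.{u}} (hC : ChainT.{u}) (hI : IdT.{u}) : CvOneA4 K := by
  intro G _ _ S hH P F _ _ _ V D M i hD hu hd h4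
  obtain ⟨j, hji⟩ := exists_ne i
  obtain ⟨N, e⟩ := NV.bts_four M hji.symm (NV.syl_fac_one M hd) hu
  have hG := hH.ctx.char2
  have hSP := NV.SP M
  have hB2 := NV.blk_two M i
  have hTR := NV.stab_normalizes_line M.toNatV hSP i
  have N1 := sylN_of M hd
  obtain ⟨o, ho⟩ : ∃ o, BTwo.pt N o = NV.line M.toNatV i := ⟨⟨N.line ![1, 0], _, vec_one_ne, rfl⟩, e.line⟩
  obtain ⟨d, hd1⟩ := (Subgroup.ne_bot_iff_exists_ne_one).1 hD
  have hd0 : (d : G) ≠ 1 := fun h => hd1 (Subtype.ext h)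
  rw [← ho] at hd hTR N1
  have hodd : Odd ((NV.stab M.toNatV i).relIndex (normalizer (BTwo.pt N o : Set G))) := by
    rw [← Nat.not_even_iff_odd, even_iff_two_dvd]
    exact hd
  have hX0 : BTwo.CenX (NV.fac M.toNatV i) (BTwo.pt N) ≠ ⊥ := fun h => hD (le_bot_iff.1 (e.cenD.trans h.le))
  obtain ⟨G₀, U, v, O⟩ := hC G (NV.stab M.toNatV i) F (NV.fac M.toNatV i) N
    { ctx := hH.ctx
      two := N1.isPGroup
      le_N := NV.stab_normalizes _ _
      exists_pt := ⟨o, hTR, hodd⟩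
      bts := e.bts
      four := h4
      CenX_ne := hX0 } o ⟨N1.isPGroup, NV.stab_normalizes _ _, hTR, hodd⟩
  have hE := O.endIn
  have hX := O.X_le
  have hQ := O.Q_le
  have hQ' : ZN.o2 (normalizer (NV.line M.toNatV i : Set G)) ≤ G₀ := by
    rw [← ho]; exact hQ
  have hR4 : 4 ≤ Nat.card (BTwo.pt N o) := by
    rw [ho, ← e.line, N.card_line vec_one_ne]
    exact h4
  -- `s`, `r`
  obtain ⟨s, hs, hs1⟩ := hB2.exists_swap
  have hsT : s ∈ normalizer (NV.stab M.toNatV i : Set G) :=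
    M4.swap_norm_T (NV.stab_le _ _) (Two.two_cosets (NV.stab_le _ _) hB2.card) hs
  -- `d`
  have hdz : (d : G) ∈ zc (NV.stab M.toNatV i) := ((NV.mem_DT M (i := i)).1 (NV.D_le_DT M d.2)).1
  have hdn : (d : G) ∉ BTwo.pt N o := by
    intro h
    rw [ho] at h
    have h1 : (d : G) ∈ V ⊓ D := ⟨NV.fac_le _ _ (NV.line_le _ _ h), d.2⟩
    rw [M.inf, mem_bot] at h1
    exact hd0 h1
  rcases hI G hG _ G₀ U _ v hE hR4 with ⟨Xb, Ca, Cb, Qa, Qb, Ua, k⟩ | ⟨Xb, Ca, Cb, Qa, Qb, Ua, Ub, k⟩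
  · obtain ⟨r, hrz, hr, hr1⟩ := N1.exists_z k.side_a
    obtain ⟨h1, h2, h3⟩ := swap_r M hji.symm hs hs1 hsT (ho ▸ hr) hrz hr1
    have h5 := mem_b e.bts k.zU k.mix hX h2 (hQ' (NV.zc_stab_le_o2_line M hji.symm h2).1) (e.cen h1)
      (by rw [ho]; exact h3)
    exact swap_false N1 k.side_a k.C_Qa hG hsT hr hr1 h5 k.C_X k.T_C k.Q_max k.fld k.abel
  · obtain ⟨r, hrz, hr, hr1⟩ := N1.exists_z k.side_a
    obtain ⟨h1, h2, h3⟩ := swap_r M hji.symm hs hs1 hsT (ho ▸ hr) hrz hr1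
    have h5 := mem_b e.bts k.zU k.mix hX h2 (hQ' (NV.zc_stab_le_o2_line M hji.symm h2).1) (e.cen h1)
      (by rw [ho]; exact h3)
    have h6 := swap_X N1 k.side_a k.C_Qa hG hsT hr hr1 h5 k.side_b
    have h7 : (d : G) ∈ Xb := mem_b e.bts k.zU k.mix hX hdz
      (hQ' (NV.zc_stab_le_o2_line M hji.symm hdz).1) (e.cenD d.2) hdn
    rw [← h6, mem_cj_iff] at h7
    apply hdn
    have h8 : s * (d : G) = d * s := (mem_centralizer_iff.1 (M.cD (hSP hs)) d d.2).symm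
    have e1 : s⁻¹ * (d : G) * s = d := by
      calc s⁻¹ * (d : G) * s = s⁻¹ * (d * s) := by group
        _ = d := by rw [← h8]; group
    rwa [e1] at h7

/-! ### `BTS` over a Sylow 2-subgroup of `G` -/

/-- `q ≥ 4` -/
theorem known_four {K : Cls.{u}} (hC : ChainT.{u}) (hE : EndL.{u}) {G : Type u} [Group G] [Finite G] {T : Sylow 2 G}
    (hH : Hyp K T) {F : Type} [Field F] [Finite F] [CharP F 2] (h4 : 4 ≤ Nat.card F) {V : Subgroup G}
    (N : NatMod F V) (b : BTwo.BTS V (BTwo.pt N)) {o : BTwo.Pt N} (hTV : (T : Subgroup G) ≤ normalizer (V : Set G))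
    (hTR : (T : Subgroup G) ≤ normalizer (BTwo.pt N o : Set G)) (hX : BTwo.CenX V (BTwo.pt N) ≠ ⊥) :
    IsKnownSimple' G := by
  have h := TSyl.of_sylow T hTV hTR
  obtain ⟨G₀, U, v, O⟩ := hC G (T : Subgroup G) F V N
    { ctx := hH.ctx
      two := T.isPGroup'
      le_N := hTV
      exists_pt := ⟨o, hTR, h.odd⟩
      bts := b
      four := h4
      CenX_ne := hX } o h
  exact hE G hH.ctx T hH.full hH.allIn G₀ U _ v O.endIn

end Cfsg.Agent.Omega.IId.Cv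


end

section


/-!
# II.d, `V_P = V × D`: `CvTwoB`, `CvOne` for `q ≥ 4`

* `DNe` : `D' ≠ 1` for `k = 2`, `k' = 1`;
* `cvTwoB4`, `cvOne4` : from `ChainT`, `EndL` (and `DNe`).
-/

set_option autoImplicit false
set_option linter.unusedSectionVars false

namespace Cfsg.Agent.Omega.IId.Cv

open Subgroup Pointwise Cfsg Cfsg.Agent.ZN Cfsg.Agent.ZN.ChoiceBase
open Cfsg.Agent.Omega.MinPar Cfsg.Agent.Omega.Frame Cfsg.Agent.Omega.FFThm Cfsg.Agent.Omega.FrameMulti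
open Cfsg.Agent.Omega.NatPair (NatMod)
open Cfsg.Agent.Omega.HOne.Cut (EndL)

universe u

/-- `D' ≠ 1` for `k = 2`, `k' = 1`. -/
def DNe : Prop :=
  ∀ (G : Type u) [Group G] [Finite G] (S S' : Sylow 2 G) (P P' : Subgroup G) (F F' : Type) [Field F] [Finite F]
    [CharP F 2] [Field F'] [Finite F'] [CharP F' 2] (V V' D D' : Subgroup G) (M : NatD F S P V D 2)
    (M' : NatD F' S' P' V' D' 1) (i : Fin 2) (i' : Fin 1), LineD M M' i i' → D ≠ ⊥ ∨ D' ≠ ⊥ → D' ≠ ⊥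

/-- **CASE 2b, `q ≥ 4`** -/
theorem cvTwoB4 {K : Cls.{u}} (hC : ChainT.{u}) (hE : EndL.{u}) : CvTwoB4 K := by
  intro G _ _ S hH P F _ _ _ V D M i hD hu T₁ _ hT h4
  obtain ⟨j, hji⟩ := exists_ne i
  obtain ⟨N, e⟩ := NV.bts_of M hji.symm (NV.nm_of_unM M (Or.inr rfl) i hu) hu
  obtain ⟨o, ho⟩ : ∃ o, BTwo.pt N o = NV.line M.toNatV i := ⟨⟨N.line ![1, 0], _, vec_one_ne, rfl⟩, e.line⟩
  refine known_four hC hE (hH.conj T₁).toHyp h4 N e.bts (o := o) (hT.trans inf_le_left) ?_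
    fun h => hD (le_bot_iff.1 (e.cenD.trans h.le))
  rw [ho]
  exact hT.trans inf_le_right

/-- **`k' = 1`, `q ≥ 4`** -/
theorem cvOne4 {K : Cls.{u}} (hC : ChainT.{u}) (hE : EndL.{u}) (hDn : DNe.{u}) : CvOne4 K := by
  intro G _ _ S S' hH P P' _ F F' _ _ _ _ _ _ V V' D D' M M' hDD i i' L hu h4
  have hD := hDn G S S' P P' F F' V V' D D' M M' i i' L hDD
  obtain ⟨N, e⟩ := NV.bts_of_one M' (NV.nm_of_unM M' (Or.inl rfl) i' hu) hu
  obtain ⟨o, ho⟩ : ∃ o, BTwo.pt N o = NV.line M'.toNatV i' := ⟨⟨N.line ![1, 0], _, vec_one_ne, rfl⟩, e.line⟩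
  refine known_four hC hE (hH.conj S').toHyp (L.card ▸ h4) N e.bts (o := o)
    ((NV.SP M').trans (NV.P_le_fac M' i')) ?_ fun h => hD (le_bot_iff.1 (e.cenD.trans h.le))
  rw [ho]
  exact NV.S_le_line M' i'

end Cfsg.Agent.Omega.IId.Cv

end

section


/-!
# CvBig, `k' = 1`, `V'` unmixed: `BigOne2`, `BigOne4`

* `exists_vec_cent` : an element of `C_{V_i}(stab M i)` is the component of an element of `C_V(S)`, any `k`;
* `card_zc_ge` : `|C_R(T)| |D| ≤ |Ω₁(Z(S))|`, any `k`;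
* `D'_ne_bot` : `D' ≠ 1` for `k' = 1`;
* `bigOne2`, `bigOne4`.
-/

set_option autoImplicit false
set_option linter.unusedSectionVars false

namespace Cfsg.Agent.Omega.IId.CvBig

open Subgroup Cfsg
open Cfsg.Agent.ZN (o2 zc zl)
open Cfsg.Agent.Lib.SL2Mat Cfsg.Agent.MinSimple
open Cfsg.Agent.Omega.MinPar Cfsg.Agent.Omega.FFThm
open Cfsg.Agent.Omega.Frame (Cls)
open Cfsg.Agent.Omega.IId.M4 (exists_cj_eq)
open Cfsg.Agent.Omega.IId.Cv

universe u

section vec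

open Cfsg.Agent.ZN.ChoiceBase

variable {G : Type u} [Group G] {F : Type} [Field F] {S P V : Subgroup G} {k : ℕ} (N : NatV F S P V k)

/-- The norm of `f ∈ C_{V_i}(stab N i)`. -/
theorem exists_vec_cent (hSP : S ≤ P) {i : Fin k} {f : G} (hf : f ∈ NV.fac N i) (hc : ∀ t ∈ NV.stab N i, t * f = f * t) :
    ∃ z ∈ V, N.e z i = N.e f i ∧ ∀ s ∈ S, s * z = z * s := by
  choose s hs hsl using fun l => NV.exists_trans N hSP i l
  have key : ∀ x ∈ S, ∀ l, ∀ y ∈ S, cj y (NV.fac N i) = NV.fac N l → cj x (NV.fac N i) = NV.fac N l →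
      x * f * x⁻¹ = y * f * y⁻¹ := by
    intro x hx l y hy h1 h2
    have h3 : y⁻¹ * x ∈ NV.stab N i := by
      refine mem_inf.2 ⟨mul_mem (inv_mem hy) hx, ?_⟩
      rw [mem_normalizer_iff_cj, ← cj_cj, h2, ← h1, cj_cj, inv_mul_cancel, cj_one]
    have h4 := hc _ h3
    calc x * f * x⁻¹ = y * (y⁻¹ * x * f) * x⁻¹ := by group
      _ = y * (f * (y⁻¹ * x)) * x⁻¹ := by rw [h4]
      _ = y * f * y⁻¹ := by group
  have ha : ∀ l, s l * f * (s l)⁻¹ ∈ NV.fac N l := by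
    intro l
    rw [← hsl l, mem_cj]
    have e : (s l)⁻¹ * (s l * f * (s l)⁻¹) * s l = f := by group
    rwa [e]
  obtain ⟨z, hz, hez⟩ := N.surj fun l => N.e (s l * f * (s l)⁻¹) l
  refine ⟨z, hz, ?_, fun t ht => ?_⟩
  · rw [hez]
    have h1 : s i * f * (s i)⁻¹ = 1 * f * 1⁻¹ := key _ (hs i) i 1 (one_mem _) (cj_one _) (hsl i)
    simp only [one_mul, inv_one, mul_one] at h1
    simp only [h1]
  · have hzt : t * z * t⁻¹ = z := by
      refine NV.e_inj N (NV.cj_mem N (hSP ht) hz) hz (funext fun j => ?_)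
      obtain ⟨l, rfl⟩ := (NV.sg N (hSP ht)).surjective j
      have h0 : N.e ((s l * f * (s l)⁻¹)⁻¹ * z) l = 0 := by
        rw [N.mul _ (inv_mem (ha l).1) _ hz, NV.e_inv N (ha l).1, hez, Pi.add_apply, Pi.neg_apply, neg_add_cancel]
      have h1 := (NV.sg_spec N (hSP ht) (mul_mem (inv_mem (ha l).1) hz) l).2 h0
      have e1 : t * ((s l * f * (s l)⁻¹)⁻¹ * z) * t⁻¹ = (t * s l * f * (t * s l)⁻¹)⁻¹ * (t * z * t⁻¹) := by group
      have h2 : t * s l * f * (t * s l)⁻¹ = s (NV.sg N (hSP ht) l) * f * (s (NV.sg N (hSP ht) l))⁻¹ := by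
        refine key _ (mul_mem ht (hs l)) _ _ (hs _) (hsl _) ?_
        rw [← cj_cj, hsl l, ← NV.sg_eq_iff N (hSP ht)]
      rw [e1, h2, N.mul _ (inv_mem (ha _).1) _ (NV.cj_mem N (hSP ht) hz), NV.e_inv N (ha _).1, Pi.add_apply,
        Pi.neg_apply, neg_add_eq_zero] at h1
      rw [← h1, hez]
    calc t * z = t * z * t⁻¹ * t := by group
      _ = z * t := by rw [hzt]

end vec

section one

open Cfsg.Agent.Omega.IId.NV (zl_le_zz o2_le_S SP V_le_S inf_D S_le_line fac_one exists_sylow_over)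
open Cfsg.Agent.Omega.BTwo (cj mem_cj cj_mono cj_eq_self_iff conj_mem_cj card_cj)

variable {G : Type u} [Group G] [Finite G] {F F' : Type} [Field F] [Finite F] [CharP F 2] [Field F'] [Finite F']
  [CharP F' 2] {S S' : Sylow 2 G} {P P' V V' D D' : Subgroup G} {k : ℕ} (M : NatD F S P V D k)

theorem D_le_zcS (M : NatD F S P V D k) : D ≤ zc (S : Subgroup G) := by
  intro d hd
  have h1 := (zl_le_zz M) (M.D_le hd)
  rw [VModule.mem_zc]
  refine ⟨o2_le_S M (VModule.zc_le _ h1), fun t ht => ?_, (VModule.mem_zc.1 h1).2.2⟩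
  exact (mem_centralizer_iff.1 (M.cD (SP M ht)) d hd).symm

/-- `|C_R(T)| |D| ≤ |Ω₁(Z(S))|`, `T = stab M i`, `R = line M i`, any `k` -/
theorem card_zc_ge (i : Fin k) :
    Nat.card (NV.line M.toNatV i ⊓ centralizer (NV.stab M.toNatV i : Set G) : Subgroup G) * Nat.card D ≤
      Nat.card (zc (S : Subgroup G)) := by
  have hex : ∀ f : (NV.line M.toNatV i ⊓ centralizer (NV.stab M.toNatV i : Set G) : Subgroup G),
      ∃ z ∈ V, M.e z i = M.e (f : G) i ∧ ∀ s ∈ (S : Subgroup G), s * z = z * s := fun f =>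
    exists_vec_cent M.toNatV (SP M) (NV.line_le _ _ f.2.1) fun t ht => mem_centralizer_iff.1 f.2.2 t ht
  choose z hzV hze hzc using hex
  rw [← Nat.card_prod]
  refine Nat.card_le_card_of_injective (fun p => (⟨z p.1 * p.2, mul_mem (VModule.mem_zc.2
    ⟨V_le_S M (hzV p.1), hzc p.1, by rw [pow_two]; exact NV.sq M.toNatV (hzV p.1)⟩) (D_le_zcS M p.2.2)⟩ :
      zc (S : Subgroup G))) ?_
  rintro ⟨p, q⟩ ⟨p', q'⟩ heq
  have h4 : z p * q = z p' * q' := congrArg Subtype.val heq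
  have h5 : (z p')⁻¹ * z p = q' * (q : G)⁻¹ := by
    calc (z p')⁻¹ * z p = (z p')⁻¹ * (z p * q) * (q : G)⁻¹ := by group
      _ = (z p')⁻¹ * (z p' * q') * (q : G)⁻¹ := by rw [h4]
      _ = q' * (q : G)⁻¹ := by group
  have h6 : (z p')⁻¹ * z p = 1 := inf_D (M := M)
    (mul_mem (inv_mem (hzV p')) (hzV p)) (by rw [h5]; exact mul_mem q'.2 (inv_mem q.2))
  have h7 : (q' : G) = q := by
    rw [h6] at h5
    exact mul_inv_eq_one.1 h5.symm
  have h8 : z p' = z p := inv_mul_eq_one.1 h6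
  have h9 : (p : G) = p' := by
    refine NV.ext_fac M.toNatV (NV.line_le _ _ p.2.1) (NV.line_le _ _ p'.2.1) ?_
    rw [← hze p, ← hze p', h8]
  exact Prod.ext (Subtype.ext h9) (Subtype.ext h7.symm)

/-- **`D' ≠ 1`** for `k' = 1`, any `k` -/
theorem D'_ne_bot (M' : NatD F' S' P' V' D' 1) {i : Fin k} {i' : Fin 1}
    (hl : NV.line M.toNatV i = NV.line M'.toNatV i') (hD : D ≠ ⊥ ∨ D' ≠ ⊥) : D' ≠ ⊥ := by
  have : Fact (Nat.Prime 2) := ⟨Nat.prime_two⟩
  intro hD'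
  have hD1 : D ≠ ⊥ := hD.resolve_right fun h => h hD'
  have hS'R : (S' : Subgroup G) ≤ normalizer (NV.line M.toNatV i : Set G) := by
    rw [hl]; exact S_le_line M' i'
  have hT2 : IsPGroup 2 (NV.stab M.toNatV i) := S.isPGroup'.to_le (NV.stab_le _ _)
  obtain ⟨Q, hTQ, hQN⟩ := exists_sylow_over (T₁ := S') hT2 (NV.stab_normalizes_line M.toNatV (SP M) i) hS'R
  obtain ⟨g, hg, hgQ⟩ := exists_cj_eq hS'R hQN S'.isPGroup' Q.isPGroup' (MinSimple.Basic.not_dvd_relIndex S' hS'R)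
    (MinSimple.Basic.not_dvd_relIndex Q hQN)
  have hgR : cj g (NV.line M.toNatV i) = NV.line M.toNatV i := cj_eq_self_iff.2 hg
  -- `Ω₁(Z(S')) ≤ (C_R(T))^g`
  have h1 : zc (S' : Subgroup G) ≤ cj g (NV.line M.toNatV i ⊓ centralizer (NV.stab M.toNatV i : Set G)) := by
    intro z hz
    have hzV : z ∈ V' := by
      obtain ⟨n, hn, d, hd, rfl⟩ := M'.dec z (VModule.zc_le_zl _ _ hz)
      rw [hD', mem_bot] at hd
      subst hd
      rwa [mul_one]
    have hzR : z ∈ NV.line M.toNatV i := by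
      rw [hl]
      refine NV.fix_le_line M'.toNatV (SP M') (by rwa [fac_one M' i']) fun t ht => ?_
      exact (VModule.mem_zc.1 hz).2.1 t (NV.stab_le _ _ ht)
    rw [mem_cj]
    refine mem_inf.2 ⟨?_, mem_centralizer_iff.2 fun t ht => ?_⟩
    · rw [← mem_cj, hgR]; exact hzR
    · have h2 : g * t * g⁻¹ ∈ (S' : Subgroup G) := by
        rw [← hgQ]; exact conj_mem_cj (hTQ ht)
      have h3 := (VModule.mem_zc.1 hz).2.1 _ h2
      calc t * (g⁻¹ * z * g) = g⁻¹ * (g * t * g⁻¹ * z) * g := by group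
        _ = g⁻¹ * (z * (g * t * g⁻¹)) * g := by rw [h3]
        _ = g⁻¹ * z * g * t := by group
  have h2 := Subgroup.card_le_of_le h1
  rw [card_cj] at h2
  have h3 := card_zc_ge M i
  have h4 : Nat.card (zc (S' : Subgroup G)) = Nat.card (zc (S : Subgroup G)) :=
    Half.card_zc_of_card_eq S S'.isPGroup' (by rw [S.card_eq_multiplicity, S'.card_eq_multiplicity])
  have h5 : 1 < Nat.card D := (Subgroup.one_lt_card_iff_ne_bot _).2 hD1
  have h6 : 0 < Nat.card (NV.line M.toNatV i ⊓ centralizer (NV.stab M.toNatV i : Set G) : Subgroup G) := Nat.card_pos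
  nlinarith

end one

open Cfsg.Agent.Omega.IId.NV (pos_one)
open Cfsg.Agent.Omega.NatPair (NatMod)
open Cfsg.Agent.Omega.HOne.Cut (TS0 Three0 More0 EndL known_of_pos)

/-- **`BigOne2`** : `k' = 1`, `V'` unmixed, `q = 2`. -/
theorem bigOne2 {K : Cls.{u}} (hT : TS0.{u, u}) (h3 : Three0.{u, u}) (hm : More0.{u, u})
    (hE : EndL.{u}) : BigOne2 K := by
  intro G _ _ S S' hH P P' hp F F' _ _ _ _ _ _ V V' D D' k M M' hk hC hD i i' L hu hF
  have hL := lineD_of_ent L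
  have hF' : Nat.card F' = 2 := hL.card.trans hF
  have hD' : D' ≠ ⊥ := D'_ne_bot M M' hL.eq' hD
  obtain ⟨N, P₁, o, r, z, p⟩ := pos_one M' hF' hD' hu
  exact known_of_pos hT h3 hm hE (hH.conj S').ctx (hH.conj S').full (hH.conj S').allIn p

/-- **`BigOne4`** : `k' = 1`, `V'` unmixed, `q ≥ 4`. -/
theorem bigOne4 {K : Cls.{u}} (hC : ChainT.{u}) (hE : EndL.{u}) : BigOne4 K := by
  intro G _ _ S S' hH P P' hp F F' _ _ _ _ _ _ V V' D D' k M M' hk hCC hDD i i' L hu h4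
  have hL := lineD_of_ent L
  have hD := D'_ne_bot M M' hL.eq' hDD
  obtain ⟨N, e⟩ := NV.bts_of_one M' (NV.nm_of_unM M' (Or.inl rfl) i' hu) hu
  obtain ⟨o, ho⟩ : ∃ o, BTwo.pt N o = NV.line M'.toNatV i' := ⟨⟨N.line ![1, 0], _, vec_one_ne, rfl⟩, e.line⟩
  refine known_four hC hE (hH.conj S').toHyp (hL.card ▸ h4) N e.bts (o := o)
    ((NV.SP M').trans (NV.P_le_fac M' i')) ?_ fun h => hD (le_bot_iff.1 (e.cenD.trans h.le))
  rw [ho]
  exact NV.S_le_line M' i'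

end Cfsg.Agent.Omega.IId.CvBig

end
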