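import Cfsg.Agent.Mrg.ParSys.Par
import Cfsg.Agent.Mrg.RankTwoClose.Braid
import Cfsg.Agent.Solvable.Glauberman

section


/-!
# II.0h1, END: residues of rank two, from PATH and BRAID to a generalised polygon

`Duo`: two minimal parabolic subgroups `P false`, `P true` over a common Borel subgroup `B` with a torus `H` and
reflections `n i` normalising `H`.  `Duo.frame` is the corresponding `RankTwoClose.Frame`; with PATH and BRAID it
gives a `ParSys.Polygon` (`Duo.exists_polygon`).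
-/

set_option autoImplicit false

namespace Cfsg.Agent.Omega.HOne.End

open Subgroup Cfsg.Agent.ParSys Cfsg.Agent.RankTwoClose
open Cfsg.Agent.LieExceptional.BNPairCore

variable {G : Type*} [Group G]

/-- Two minimal parabolic subgroups with a common Borel subgroup and a torus. -/
structure Duo (p : ℕ) (B U H : Subgroup G) (P : Bool → Subgroup G) (n : Bool → G) : Prop where
  hall : Hall.HallData p B U H
  le : ∀ i, B ≤ P i
  ptr : ∀ i, Hall.HallData.PTr B U (P i)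
  fix : ∀ i, ∀ c ∈ U, c ∈ centralizer (H : Set G) → c ∈ Qk B (P i)
  inf : P false ⊓ P true = B
  n_mem : ∀ i, n i ∈ P i
  n_not : ∀ i, n i ∉ B
  n_norm : ∀ i, n i ∈ normalizer (H : Set G)
  thick : ∀ i, ∃ b ∈ B, n i * b * (n i)⁻¹ ∉ B

namespace Duo

variable {p : ℕ} {B U H : Subgroup G} {P : Bool → Subgroup G} {n : Bool → G}

/-- two `H`-fixed chambers `≠ B` of a panel coincide -/
theorem panel_unique [Finite G] [Fact p.Prime] (D : Duo p B U H P n) (i : Bool) {g g' : G} (hg : g ∈ P i)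
    (hgB : g ∉ B) (hg' : g' ∈ P i) (hgB' : g' ∉ B)
    (hfix : ∀ a ∈ H, g⁻¹ * a * g ∈ B) (hfix' : ∀ a ∈ H, g'⁻¹ * a * g' ∈ B) : g⁻¹ * g' ∈ B := by
  obtain ⟨u, hu, b, hb, he⟩ := D.ptr i g hg hgB g' hg' hgB'
  obtain ⟨c, hcU, hcC, hc⟩ := D.hall.fixed_trans (X := G ⧸ B) ((g : G) : G ⧸ B) ((g' : G) : G ⧸ B) (by
      intro a ha
      change ((a * g : G) : G ⧸ B) = _
      refine (QuotientGroup.eq.mpr ?_).symm
      rw [← mul_assoc]
      exact hfix a ha) (by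
      intro a ha
      change ((a * g' : G) : G ⧸ B) = _
      refine (QuotientGroup.eq.mpr ?_).symm
      rw [← mul_assoc]
      exact hfix' a ha) hu (by
      change ((u * g : G) : G ⧸ B) = _
      rw [he]
      exact (QuotientGroup.mk_mul_of_mem _ hb).symm)
  have h1 : ((c * g : G) : G ⧸ B) = ((g' : G) : G ⧸ B) := hc
  have h2 := QuotientGroup.eq.1 h1
  have h3 := D.fix i c hcU hcC g hg
  have h4 := mul_mem h3 h2
  have e : g⁻¹ * c * g * ((c * g)⁻¹ * g') = g⁻¹ * g' := by group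
  rwa [e] at h4

/-- the frame -/
def frame [Finite G] [Fact p.Prime] (D : Duo p B U H P n) : Frame G where
  B := B
  H := H
  P := P
  n := n
  memP i x := by
    constructor
    · intro hx
      by_cases hxB : x ∈ B
      · exact Or.inl hxB
      · obtain ⟨u, hu, b, hb, e⟩ := D.ptr i (n i) (D.n_mem i) (D.n_not i) x hx hxB
        exact Or.inr ⟨u, D.hall.U_le hu, b, hb, e⟩
    · rintro (hx | ⟨b, hb, c, hc, rfl⟩)
      · exact D.le i hx
      · exact mul_mem (mul_mem (D.le i hb) (D.n_mem i)) (D.le i hc)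
  inter := D.inf
  H_le := D.hall.H_le
  n_norm := D.n_norm
  n_not := D.n_not
  two i g hg h := by
    by_cases hgB : g ∈ B
    · exact Or.inl hgB
    · refine Or.inr (D.panel_unique i (D.n_mem i) (D.n_not i) hg hgB (fun a ha => ?_) h)
      have := (Subgroup.mem_normalizer_iff.mp (inv_mem (D.n_norm i)) a).mp ha
      rw [inv_inv] at this
      exact D.hall.H_le this

variable [Finite G] [Fact p.Prime] (D : Duo p B U H P n)

@[simp] theorem frame_B : D.frame.B = B := rfl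
@[simp] theorem frame_H : D.frame.H = H := rfl
@[simp] theorem frame_P (i : Bool) : D.frame.P i = P i := rfl
@[simp] theorem frame_n (i : Bool) : D.frame.n i = n i := rfl

include D in
/-- The (B,N)-pair of rank two of `P false ⊔ P true`. -/
theorem exists_bnPair {m : ℕ} (hbr : D.frame.Braid m) (hm : 1 ≤ m) (hp : ∀ k < m, D.frame.PathTo k) :
    ∃ (Q : Cfsg.BNPair ↥(P false ⊔ P true)) (s : Bool → ↥(P false ⊔ P true)),
      Q.B = B.subgroupOf (P false ⊔ P true) ∧ Q.S = {s false, s true} ∧ s false ≠ s true ∧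
      (∀ i, (s i : G) = n i) ∧ ∀ i, (P i).subgroupOf (P false ⊔ P true) = Q.parabolic {s i} := by
  set X := P false ⊔ P true with hX
  have hX' : ∀ i, D.frame.P i ≤ X := by
    rintro (_ | _)
    · exact le_sup_left
    · exact le_sup_right
  set R := D.frame.restrict X hX' with hR
  have hBX : B ≤ X := (D.le false).trans (hX' false)
  have g1 : R.P false ⊔ R.P true = ⊤ := by
    show (P false).subgroupOf X ⊔ (P true).subgroupOf X = ⊤
    have h0 : P false ≤ X := hX' false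
    have h1 : P true ≤ X := hX' true
    rw [← Subgroup.subgroupOf_sup h0 h1, ← hX]
    exact Subgroup.subgroupOf_self X
  have g2 : ∀ i, ∃ b ∈ R.B, R.n i * b * (R.n i)⁻¹ ∉ R.B := by
    intro i
    obtain ⟨b, hb, hnb⟩ := D.thick i
    exact ⟨⟨b, hBX hb⟩, Subgroup.mem_subgroupOf.2 hb, fun h => hnb (Subgroup.mem_subgroupOf.1 h)⟩
  set Q := R.toBNPair (m := m) hbr.restrict hm (fun k hk => (hp k hk).restrict) g1 g2 with hQ
  have hS : Q.S = {R.n false, R.n true} := rfl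
  refine ⟨Q, R.n, rfl, hS, R.n_ne, fun i => rfl, fun i => ?_⟩
  have hRn : R.n i ∈ Q.S := by
    rw [hS]; cases i <;> simp
  have hRP : (P i).subgroupOf X = R.P i := rfl
  rw [hRP]
  apply le_antisymm
  · intro x hx
    rcases (R.memP i x).1 hx with h | ⟨b, hb, c, hc, rfl⟩
    · exact (le_sup_left : Q.B ≤ _) h
    · exact mul_mem (mul_mem ((le_sup_left : Q.B ≤ _) hb)
        ((le_sup_right : closure {R.n i} ≤ _) (subset_closure rfl))) ((le_sup_left : Q.B ≤ _) hc)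
  · refine sup_le (R.B_le i) ?_
    rw [Subgroup.closure_le, Set.singleton_subset_iff]
    exact R.n_mem i

/-- **PATH and BRAID give a generalised polygon.** -/
theorem exists_polygon {m : ℕ} (hbr : D.frame.Braid m) (hm : 1 ≤ m) (hp : ∀ k < m, D.frame.PathTo k)
    {I : Type*} {R : I → Subgroup G} {a b : I} (ha : R a = P false) (hb : R b = P true) :
    ∃ k, 2 ≤ k ∧ Polygon B R a b k ∧
      (3 ≤ k ↔ n false * n true * (n false)⁻¹ * (n true)⁻¹ ∉ B) := by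
  obtain ⟨Q, s, hB, hS, hne, hs, hP⟩ := D.exists_bnPair hbr hm hp
  generalize hX0 : P false ⊔ P true = X at Q s hB hS hne hs hP
  obtain ⟨k, h2, hr, hbk, hlt⟩ := LieRecognition.FeitHigmanGroup.exists_max_red hS hne
  have hs0 : s false ∈ Q.S := by rw [hS]; simp
  have hs1 : s true ∈ Q.S := by rw [hS]; simp
  have hpol : Polygon Q.B (fun i => (R i).subgroupOf X) a b k := by
    refine polygon_of_red hs0 hs1 ?_ ?_ hr hbk
    · show (R a).subgroupOf X = _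
      rw [ha]; exact hP false
    · show (R b).subgroupOf X = _
      rw [hb]; exact hP true
  have hPX : ∀ i, i = a ∨ i = b → R i ≤ X := by
    rintro i (rfl | rfl)
    · rw [ha, ← hX0]; exact le_sup_left
    · rw [hb, ← hX0]; exact le_sup_right
  have hBR : ∀ i, i = a ∨ i = b → B ≤ R i := by
    rintro i (rfl | rfl)
    · rw [ha]; exact D.le false
    · rw [hb]; exact D.le true
  have hlink : Link B R a b Q.B (fun i => (R i).subgroupOf X)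
      (fun g e => ∃ h : g ∈ X, ((MonoidHom.id X) ⟨g, h⟩)⁻¹ * (MonoidHom.id X) e ∈ Q.B) := by
    refine link_of_hom X (MonoidHom.id X) (MonoidHom.id X) Q.B (fun i => (R i).subgroupOf X) hPX ?_ ?_ ?_ ?_ ?_ ?_ ?_
    · intro x
      rw [hB]; exact Iff.rfl
    · intro i _ x
      exact Iff.rfl
    · intro e; exact Iff.rfl
    · intro i _ e; exact Iff.rfl
    · intro i hi x hx
      rw [hB] at hx
      exact hBR i hi hx
    · intro e; exact ⟨e, rfl⟩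
    · intro i _ y _
      exact ⟨y, 1, one_mem _, by simp⟩
  refine ⟨k, h2, hlink.polygon hpol, ?_⟩
  -- the commutator of the reflections
  have e : (LieRecognition.FeitHigmanGroup.alt 2 (s false) (s true))⁻¹ *
      LieRecognition.FeitHigmanGroup.alt 2 (s true) (s false) =
      (s true)⁻¹ * (s false)⁻¹ * s true * s false := by
    simp only [LieRecognition.FeitHigmanGroup.alt_succ, LieRecognition.FeitHigmanGroup.alt_zero, mul_one]
    group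
  have hst : s false * s true ∈ Q.N := mul_mem (mem_N hs0) (mem_N hs1)
  have hts : s true * s false ∈ Q.N := mul_mem (mem_N hs1) (mem_N hs0)
  have key : s false * s true * (s false)⁻¹ * (s true)⁻¹ ∈ Q.B ↔
      (s true)⁻¹ * (s false)⁻¹ * s true * s false ∈ Q.B := by
    constructor
    · intro h1
      have h3 : s false * s true * (s false)⁻¹ * (s true)⁻¹ ∈ Q.N :=
        mul_mem (mul_mem hst (inv_mem (mem_N hs0))) (inv_mem (mem_N hs1))
      have h4 := conj_mem_inv (P := Q) hts h1 h3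
      have h5 := inv_mem h4
      have e1 : ((s true * s false)⁻¹ * (s false * s true * (s false)⁻¹ * (s true)⁻¹) *
          (s true * s false))⁻¹ = (s true)⁻¹ * (s false)⁻¹ * s true * s false := by group
      rwa [e1] at h5
    · intro h1
      have h3 : (s true)⁻¹ * (s false)⁻¹ * s true * s false ∈ Q.N :=
        mul_mem (mul_mem (mul_mem (inv_mem (mem_N hs1)) (inv_mem (mem_N hs0)))
        (mem_N hs1)) (mem_N hs0)
      have h4 := conj_mem' (P := Q) hts h1 h3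
      have h5 := inv_mem h4
      have e1 : (s true * s false * ((s true)⁻¹ * (s false)⁻¹ * s true * s false) *
          (s true * s false)⁻¹)⁻¹ = s false * s true * (s false)⁻¹ * (s true)⁻¹ := by group
      rwa [e1] at h5
  have hcoe : n false * n true * (n false)⁻¹ * (n true)⁻¹ ∈ B ↔
      s false * s true * (s false)⁻¹ * (s true)⁻¹ ∈ Q.B := by
    rw [hB, Subgroup.mem_subgroupOf]
    push_cast
    rw [hs, hs]
  rw [hcoe, key]
  constructor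
  · intro h3 h4
    exact hlt 2 (by omega) (by omega) (by rw [e]; exact h4)
  · intro h3
    by_contra h4
    obtain rfl : k = 2 := by omega
    rw [e] at hbk
    exact h3 hbk

end Duo

end Cfsg.Agent.Omega.HOne.End

end

section


/-!
# II.0h1, END: braid relations from a kernel which is central modulo a subgroup of the Borel subgroup

`CenMod L C J`: `C` and `J` are normal in `L` and `C / J` is central.  `braid_three`, `braid_four`: the braid relations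
of length three and four in a `RankTwoClose.Frame` from relations which are known modulo `C`.
-/

set_option autoImplicit false

namespace Cfsg.Agent.Omega.HOne.End

open Subgroup Cfsg.Agent.RankTwoClose
open scoped commutatorElement

variable {G : Type*} [Group G]

/-- `C` is normal in `L` and central modulo the normal subgroup `J` of `L`. -/
structure CenMod (L C J : Subgroup G) : Prop where
  C_le : C ≤ L
  J_le : J ≤ L
  J_norm : ∀ x ∈ L, ∀ c ∈ J, x * c * x⁻¹ ∈ J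
  comm : ∀ x ∈ L, ∀ c ∈ C, x * c * x⁻¹ * c⁻¹ ∈ J

namespace CenMod

variable {L C J : Subgroup G} (h : CenMod L C J)

include h

theorem comm_inv {x c : G} (hx : x ∈ L) (hc : c ∈ C) : x * c⁻¹ * x⁻¹ * c ∈ J := by
  have := h.comm x hx c⁻¹ (inv_mem hc)
  rwa [inv_inv] at this

theorem norm' {x c : G} (hx : x ∈ L) (hc : c ∈ J) : x⁻¹ * c * x ∈ J := by
  have := h.J_norm x⁻¹ (inv_mem hx) c hc
  rwa [inv_inv] at this

/-- Commutators do not change modulo `J` if the entries are multiplied by elements of `C`. -/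
theorem commutator_mul {c c' d d' : G} (hc : c ∈ C) (hc' : c' ∈ C) (hd : d ∈ L) (hd' : d' ∈ L) :
    ⁅c * d, c' * d'⁆ * ⁅d, d'⁆⁻¹ ∈ J := by
  have hcL := h.C_le hc
  have hcL' := h.C_le hc'
  have j1 := h.comm d hd c' hc'
  have j2 := h.comm_inv (x := d * d' * d⁻¹) (mul_mem (mul_mem hd hd') (inv_mem hd)) hc
  have j3 := h.comm_inv (x := ⁅d, d'⁆) (by
    rw [commutatorElement_def]
    exact mul_mem (mul_mem (mul_mem hd hd') (inv_mem hd)) (inv_mem hd')) hc'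
  have j4 := h.comm c hcL c' hc'
  have k1 := h.J_norm c hcL _ j1
  have k2 := h.J_norm (c * c') (mul_mem hcL hcL') _ j2
  have k3 := h.J_norm (c * c' * c⁻¹) (mul_mem (mul_mem hcL hcL') (inv_mem hcL)) _ j3
  have := mul_mem (mul_mem (mul_mem k1 k2) k3) j4
  have e : c * (d * c' * d⁻¹ * c'⁻¹) * c⁻¹ *
      (c * c' * (d * d' * d⁻¹ * c⁻¹ * (d * d' * d⁻¹)⁻¹ * c) * (c * c')⁻¹) *
      (c * c' * c⁻¹ * (⁅d, d'⁆ * c'⁻¹ * ⁅d, d'⁆⁻¹ * c') * (c * c' * c⁻¹)⁻¹) *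
      (c * c' * c⁻¹ * c'⁻¹) = ⁅c * d, c' * d'⁆ * ⁅d, d'⁆⁻¹ := by
    simp only [commutatorElement_def]
    group
  rwa [e] at this

/-- `C` is normal in `L` if `J ≤ C`. -/
theorem C_norm (hJ : J ≤ C) {x c : G} (hx : x ∈ L) (hc : c ∈ C) : x * c * x⁻¹ ∈ C := by
  have := mul_mem (hJ (h.comm x hx c hc)) hc
  rwa [inv_mul_cancel_right] at this

theorem commutator_sup (hJ : J ≤ C) {D : Subgroup G} (hD : D ≤ L) : ⁅D ⊔ C, D ⊔ C⁆ ≤ ⁅D, D⁆ ⊔ J := by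
  have hn : D ≤ normalizer (C : Set G) := by
    intro x hx
    rw [Subgroup.mem_normalizer_iff]
    intro c
    refine ⟨h.C_norm hJ (hD hx), fun hc => ?_⟩
    have := h.C_norm hJ (inv_mem (hD hx)) hc
    have e : x⁻¹ * (x * c * x⁻¹) * x⁻¹⁻¹ = c := by group
    rwa [e] at this
  rw [Subgroup.commutator_le]
  intro x hx y hy
  obtain ⟨c, hc, d, hd, rfl⟩ := Solvable.Glauberman.exists_mul_of_mem_sup D C hn hx
  obtain ⟨c', hc', d', hd', rfl⟩ := Solvable.Glauberman.exists_mul_of_mem_sup D C hn hy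
  have h1 := h.commutator_mul hc hc' (hD hd) (hD hd')
  have h2 : ⁅d, d'⁆ ∈ ⁅D, D⁆ := Subgroup.commutator_mem_commutator hd hd'
  have h3 := mul_mem ((le_sup_right : J ≤ ⁅D, D⁆ ⊔ J) h1) ((le_sup_left : ⁅D, D⁆ ≤ _ ⊔ J) h2)
  rwa [inv_mul_cancel_right] at h3

/-- If `t` centralises the perfect group `M` modulo `C`, then it centralises it modulo `J`. -/
theorem perfect {M : Subgroup G} (hM : M ≤ L) (hp : ⁅M, M⁆ = M) {t : G} (_ : t ∈ L)
    (hc : ∀ m ∈ M, t * m * t⁻¹ * m⁻¹ ∈ C) {m : G} (hm : m ∈ M) : t * m * t⁻¹ * m⁻¹ ∈ J := by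
  let K : Subgroup G :=
    { carrier := {x | x ∈ L ∧ t * x * t⁻¹ * x⁻¹ ∈ J}
      one_mem' := ⟨one_mem _, by simp⟩
      mul_mem' := by
        rintro a b ⟨ha, ha'⟩ ⟨hb, hb'⟩
        refine ⟨mul_mem ha hb, ?_⟩
        have h1 := mul_mem ha' (h.J_norm a ha _ hb')
        have e : t * a * t⁻¹ * a⁻¹ * (a * (t * b * t⁻¹ * b⁻¹) * a⁻¹) = t * (a * b) * t⁻¹ * (a * b)⁻¹ := by group
        rwa [e] at h1
      inv_mem' := by
        rintro a ⟨ha, ha'⟩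
        refine ⟨inv_mem ha, ?_⟩
        have h1 := h.norm' ha (inv_mem ha')
        have e : a⁻¹ * (t * a * t⁻¹ * a⁻¹)⁻¹ * a = t * a⁻¹ * t⁻¹ * a⁻¹⁻¹ := by group
        rwa [e] at h1 }
  have key : ⁅M, M⁆ ≤ K := by
    rw [Subgroup.commutator_le]
    intro x hx y hy
    have hxL := hM hx
    have hyL := hM hy
    refine ⟨by
      rw [commutatorElement_def]
      exact mul_mem (mul_mem (mul_mem hxL hyL) (inv_mem hxL)) (inv_mem hyL), ?_⟩
    have h1 := h.commutator_mul (hc x hx) (hc y hy) hxL hyL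
    have e : ⁅t * x * t⁻¹ * x⁻¹ * x, t * y * t⁻¹ * y⁻¹ * y⁆ * ⁅x, y⁆⁻¹ = t * ⁅x, y⁆ * t⁻¹ * ⁅x, y⁆⁻¹ := by
      simp only [commutatorElement_def]
      group
    rwa [e] at h1
  rw [hp] at key
  exact (key hm).2

end CenMod

/-- `Bf` : a subgroup of `B` normalised by the reflections (the elements of `B` fixing the whole frame). -/
structure FixPart (F : Frame G) (Bf : Subgroup G) : Prop where
  le : Bf ≤ F.B
  norm : ∀ i, F.n i ∈ normalizer (Bf : Set G)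

namespace FixPart

variable {F : Frame G} {Bf : Subgroup G} (hf : FixPart F Bf)

include hf

theorem conj (i : Bool) {b : G} (hb : b ∈ Bf) : F.n i * b * (F.n i)⁻¹ ∈ Bf :=
  (Subgroup.mem_normalizer_iff.1 (hf.norm i) b).1 hb

theorem conj' (i : Bool) {b : G} (hb : b ∈ Bf) : (F.n i)⁻¹ * b * F.n i ∈ Bf := by
  have := (Subgroup.mem_normalizer_iff.1 (inv_mem (hf.norm i)) b).1 hb
  rwa [inv_inv] at this

end FixPart

variable (F : Frame G)

theorem braid_of_conj {m : ℕ} {i : Bool}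
    (hm : (alt F.n (!i) m)⁻¹ * F.n i * alt F.n (!i) m ∈ F.P (nxt (!i) m)) : F.Braid (m + 1) :=
  F.braid_of_mem (i := i) (l := F.n i) (by rw [inv_mul_cancel]; exact one_mem _) hm

/-- **The braid relation of length three**: `D ≤ P i` is conjugate, modulo `C`, to `D' ≤ P (!i)` under
`w = n (!i) n i`; `n i` lies in `[D, D] Bf`. -/
theorem braid_three {L C J Bf D D' : Subgroup G} (h : CenMod L C J) (hJC : J ≤ C) (hJ : J ≤ F.B)
    (hf : FixPart F Bf) (i : Bool) (hD' : D' ≤ F.P (!i)) (hD'L : D' ≤ L)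
    (hconj : ∀ x ∈ D, (F.n (!i) * F.n i)⁻¹ * x * (F.n (!i) * F.n i) ∈ D' ⊔ C)
    {l : G} (hl : l ∈ ⁅D, D⁆) (hb : (F.n i)⁻¹ * l ∈ Bf) : F.Braid 3 := by
  have hw : alt F.n (!i) 2 = F.n (!i) * F.n i := by simp [alt_succ]
  apply braid_of_conj F (m := 2) (i := i)
  have hnxt : nxt (!i) 2 = !i := by simp [nxt]
  rw [hnxt, hw]
  set w := F.n (!i) * F.n i with hwdef
  -- `w⁻¹ l w ∈ P (!i)`
  have h1 : ⁅D, D⁆ ≤ (⁅D' ⊔ C, D' ⊔ C⁆ : Subgroup G).comap (MulAut.conj w⁻¹).toMonoidHom := by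
    rw [Subgroup.commutator_le]
    intro x hx y hy
    rw [Subgroup.mem_comap]
    have e : (MulAut.conj w⁻¹).toMonoidHom ⁅x, y⁆ = ⁅w⁻¹ * x * w, w⁻¹ * y * w⁆ := by
      rw [MulEquiv.coe_toMonoidHom, map_commutatorElement, MulAut.conj_apply, MulAut.conj_apply, inv_inv]
    rw [e]
    exact Subgroup.commutator_mem_commutator (hconj x hx) (hconj y hy)
  have h2 : w⁻¹ * l * w ∈ ⁅D' ⊔ C, D' ⊔ C⁆ := by
    have := h1 hl
    rw [Subgroup.mem_comap] at this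
    have e : (MulAut.conj w⁻¹).toMonoidHom l = w⁻¹ * l * w := by
      rw [MulEquiv.coe_toMonoidHom, MulAut.conj_apply, inv_inv]
    rwa [e] at this
  have h3 : w⁻¹ * l * w ∈ F.P (!i) := by
    refine (sup_le ?_ (hJ.trans (F.B_le _))) (h.commutator_sup hJC hD'L h2)
    exact (Subgroup.commutator_le.2 fun x hx y hy => by
      rw [commutatorElement_def]
      exact mul_mem (mul_mem (mul_mem (hD' hx) (hD' hy)) (inv_mem (hD' hx))) (inv_mem (hD' hy)))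
  -- `w⁻¹ b w ∈ B`
  have h4 : w⁻¹ * ((F.n i)⁻¹ * l) * w ∈ F.B := by
    have := hf.le (hf.conj' i (hf.conj' (!i) hb))
    have e : (F.n i)⁻¹ * ((F.n (!i))⁻¹ * ((F.n i)⁻¹ * l) * F.n (!i)) * F.n i =
        w⁻¹ * ((F.n i)⁻¹ * l) * w := by rw [hwdef]; group
    rwa [e] at this
  have h5 := mul_mem h3 (F.B_le (!i) (inv_mem h4))
  have e : w⁻¹ * l * w * (w⁻¹ * ((F.n i)⁻¹ * l) * w)⁻¹ = w⁻¹ * F.n i * w := by group
  rwa [e] at h5

/-- **The braid relation of length four**: `M ≤ P i` perfect, `l ∈ M` represents the reflection `n i`, and the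
conjugate of `l` under `n (!i)` centralises `M` modulo `C`. -/
theorem braid_four {L C J Bf M : Subgroup G} (h : CenMod L C J) (hJ : J ≤ F.B)
    (hf : FixPart F Bf) (i : Bool) (hM : M ≤ F.P i) (hML : M ≤ L) (hp : ⁅M, M⁆ = M)
    {l : G} (hl : l ∈ M) (hb : (F.n i)⁻¹ * l ∈ Bf) (hsq : F.n (!i) * F.n (!i) ∈ Bf)
    (hlL : (F.n (!i))⁻¹ * l * F.n (!i) ∈ L)
    (hcomm : ∀ m ∈ M, ((F.n (!i))⁻¹ * l * F.n (!i)) * m * ((F.n (!i))⁻¹ * l * F.n (!i))⁻¹ * m⁻¹ ∈ C) :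
    F.Braid 4 := by
  have hw : alt F.n (!i) 3 = F.n (!i) * (F.n i * F.n (!i)) := by simp [alt_succ]
  apply braid_of_conj F (m := 3) (i := i)
  have hnxt : nxt (!i) 3 = i := by simp [nxt]
  rw [hnxt, hw]
  set s := F.n (!i) with hs
  set t := F.n i with ht
  set l' := s⁻¹ * l * s with hl'
  have h1 : l' * l * l'⁻¹ * l⁻¹ ∈ J := h.perfect hML hp hlL hcomm hl
  -- `l'⁻¹ l l' ∈ P i`
  have h2 : l'⁻¹ * l * l' ∈ F.P i := by
    have h3 := F.B_le i (hJ (h.norm' hlL h1))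
    -- `l'⁻¹ (l' l l'⁻¹ l⁻¹) l' = l l'⁻¹ l⁻¹ l'`
    have h4 := mul_mem (inv_mem h3) (hM hl)
    have e : (l'⁻¹ * (l' * l * l'⁻¹ * l⁻¹) * l')⁻¹ * l = l'⁻¹ * l * l' := by group
    rwa [e] at h4
  -- conjugation by `l'` maps `Bf` into `Bf`
  have hBf : ∀ b ∈ Bf, l'⁻¹ * b * l' ∈ Bf := by
    intro b hb'
    have k1 := (Subgroup.mem_normalizer_iff.1 (hf.norm (!i)) b).1 hb'
    have k2 := hf.conj' i k1
    have k3 := mul_mem (mul_mem (inv_mem hb) k2) hb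
    have k4 := hf.conj' (!i) k3
    have e : (F.n (!i))⁻¹ * (((F.n i)⁻¹ * l)⁻¹ * ((F.n i)⁻¹ * (F.n (!i) * b * (F.n (!i))⁻¹) * F.n i) *
        ((F.n i)⁻¹ * l)) * F.n (!i) = l'⁻¹ * b * l' := by rw [hl', hs]; group
    rwa [e] at k4
  -- `w = s² l' b'`
  have hb' : s⁻¹ * ((t⁻¹ * l)⁻¹) * s ∈ Bf := hf.conj' (!i) (inv_mem hb)
  set b' := s⁻¹ * ((t⁻¹ * l)⁻¹) * s with hb'def
  have hwe : s * (t * s) = s * s * l' * b' := by rw [hb'def, hl']; group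
  -- `y = t⁻¹ (s²)⁻¹ t s²`
  have hy : t⁻¹ * (s * s)⁻¹ * t * (s * s) ∈ Bf := mul_mem (hf.conj' i (inv_mem hsq)) hsq
  have h5 := hBf _ (mul_mem (inv_mem hb) hy)
  have h6 := mul_mem (mul_mem (F.B_le i (hf.le (inv_mem hb'))) (mul_mem h2 (F.B_le i (hf.le h5))))
    (F.B_le i (hf.le hb'))
  have e : b'⁻¹ * (l'⁻¹ * l * l' * (l'⁻¹ * ((t⁻¹ * l)⁻¹ * (t⁻¹ * (s * s)⁻¹ * t * (s * s))) * l')) * b' =
      (s * (t * s))⁻¹ * t * (s * (t * s)) := by
    rw [hwe]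
    group
  rwa [e] at h6

end Cfsg.Agent.Omega.HOne.End

end

section


/-!
# II.0h1, END: the residue of type A2

`Pl`: the points of `N` and their `κ`-conjugates form an `L`-invariant family `Ω`; this determines the groups of
elations of the frame `R₁, R₂, R₃` modulo the kernel `C`, and gives the braid relation of length three.
-/

set_option autoImplicit false

namespace Cfsg.Agent.Omega.HOne.End

open Subgroup Cfsg.Agent.RankTwoClose
open scoped commutatorElement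

variable {G : Type*} [Group G]

/-- The conjugate `g⁻¹ A g`. -/
def rc (A : Subgroup G) (g : G) : Subgroup G := A.comap (MulAut.conj g).toMonoidHom

theorem mem_rc {A : Subgroup G} {g x : G} : x ∈ rc A g ↔ g * x * g⁻¹ ∈ A := Iff.rfl

theorem rc_rc (A : Subgroup G) (g h : G) : rc (rc A g) h = rc A (g * h) := by
  ext x
  rw [mem_rc, mem_rc, mem_rc]
  have e : g * (h * x * h⁻¹) * g⁻¹ = g * h * x * (g * h)⁻¹ := by group
  rw [e]

@[simp] theorem rc_one (A : Subgroup G) : rc A 1 = A := by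
  ext x; rw [mem_rc]; simp

theorem rc_mono {A A' : Subgroup G} (h : A ≤ A') (g : G) : rc A g ≤ rc A' g := fun _ hx => h hx

theorem rc_inj {A A' : Subgroup G} {g : G} (h : rc A g = rc A' g) : A = A' := by
  have := congrArg (fun K => rc K g⁻¹) h
  simpa [rc_rc] using this

theorem rc_bot (g : G) : rc (⊥ : Subgroup G) g = ⊥ := by
  ext x
  rw [mem_rc, Subgroup.mem_bot, Subgroup.mem_bot]
  constructor
  · intro h
    have e : x = g⁻¹ * (g * x * g⁻¹) * g := by group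
    rw [e, h]; group
  · rintro rfl; group

theorem mem_rc_conj {A : Subgroup G} {g x : G} (hx : x ∈ A) : g⁻¹ * x * g ∈ rc A g := by
  rw [mem_rc]
  have e : g * (g⁻¹ * x * g) * g⁻¹ = x := by group
  rwa [e]

theorem rc_sup (A A' : Subgroup G) (g : G) : rc (A ⊔ A') g = rc A g ⊔ rc A' g := by
  apply le_antisymm
  · intro x hx
    rw [mem_rc] at hx
    have key : A ⊔ A' ≤ rc (rc A g ⊔ rc A' g) g⁻¹ := by
      refine sup_le (fun y hy => ?_) (fun y hy => ?_)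
      · exact (rc_mono (le_sup_left : rc A g ≤ rc A g ⊔ rc A' g) g⁻¹) (by rw [rc_rc]; simpa using hy)
      · exact (rc_mono (le_sup_right : rc A' g ≤ rc A g ⊔ rc A' g) g⁻¹) (by rw [rc_rc]; simpa using hy)
    have := key hx
    rw [mem_rc] at this
    have e : g⁻¹ * (g * x * g⁻¹) * g⁻¹⁻¹ = x := by group
    rwa [e] at this
  · exact sup_le (rc_mono le_sup_left g) (rc_mono le_sup_right g)

theorem rc_eq_of_mem_normalizer {A : Subgroup G} {g : G} (h : g ∈ normalizer (A : Set G)) : rc A g = A := by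
  ext x
  rw [mem_rc]
  exact (Subgroup.mem_normalizer_iff.1 h x).symm

theorem mem_normalizer_of_rc_eq {A : Subgroup G} {g : G} (h : rc A g = A) : g ∈ normalizer (A : Set G) := by
  rw [Subgroup.mem_normalizer_iff]
  intro x
  have : x ∈ rc A g ↔ x ∈ A := by rw [h]
  exact this.symm

/-- `g` centralises `A`. -/
def Ce (A : Subgroup G) (g : G) : Prop := ∀ r ∈ A, g * r = r * g

theorem Ce.conj {A : Subgroup G} {g : G} (h : Ce A g) (k : G) : Ce (rc A k) (k⁻¹ * g * k) := by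
  intro r hr
  have h1 := h _ hr
  have e1 : k⁻¹ * g * k * r = k⁻¹ * (g * (k * r * k⁻¹)) * k := by group
  have e2 : r * (k⁻¹ * g * k) = k⁻¹ * ((k * r * k⁻¹) * g) * k := by group
  rw [e1, e2]
  exact congrArg (fun z => k⁻¹ * z * k) h1

theorem Ce.mul {A : Subgroup G} {g h : G} (hg : Ce A g) (hh : Ce A h) : Ce A (g * h) := by
  intro r hr
  rw [mul_assoc, hh r hr, ← mul_assoc, hg r hr, mul_assoc]

theorem Ce.inv {A : Subgroup G} {g : G} (hg : Ce A g) : Ce A g⁻¹ := by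
  intro r hr
  have := hg r hr
  calc g⁻¹ * r = g⁻¹ * (r * g) * g⁻¹ := by group
    _ = g⁻¹ * (g * r) * g⁻¹ := by rw [this]
    _ = r * g⁻¹ := by group

theorem Ce.rc_eq {A : Subgroup G} {g : G} (hg : Ce A g) : rc A g = A := by
  ext x
  rw [mem_rc]
  constructor
  · intro h
    have h1 := hg.inv _ h
    have e : g⁻¹ * (g * x * g⁻¹) = x * g⁻¹ := by group
    rw [e] at h1
    have h2 : x = g * x * g⁻¹ := by
      have := congrArg (· * g) h1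
      simpa [mul_assoc] using this
    rwa [h2]
  · intro h
    rw [hg x h, mul_inv_cancel_right]
    exact h

/-- `g` is an elation: it centralises `A` and `D` and moves `B` inside `A B`. -/
structure Mv (L A B D : Subgroup G) (g : G) : Prop where
  mem : g ∈ L
  fixA : Ce A g
  fixD : Ce D g
  move : ∀ r ∈ B, r⁻¹ * (g⁻¹ * r * g) ∈ A

theorem Mv.conj {L A B D : Subgroup G} {g : G} (h : Mv L A B D g) {k : G} (hk : k ∈ normalizer (L : Set G)) :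
    Mv L (rc A k) (rc B k) (rc D k) (k⁻¹ * g * k) where
  mem := by
    have := (Subgroup.mem_normalizer_iff.1 (inv_mem hk) g).1 h.mem
    rwa [inv_inv] at this
  fixA := h.fixA.conj k
  fixD := h.fixD.conj k
  move := by
    intro r hr
    rw [mem_rc] at hr ⊢
    have := h.move _ hr
    have e : (k * r * k⁻¹)⁻¹ * (g⁻¹ * (k * r * k⁻¹) * g) =
        k * (r⁻¹ * ((k⁻¹ * g * k)⁻¹ * r * (k⁻¹ * g * k))) * k⁻¹ := by group
    rwa [e] at this

/-- **Elations modulo the kernel.** -/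
theorem Mv.mem_mul {L A B D Y : Subgroup G} {Ω : Set (Subgroup G)}
    (hΩ : ∀ g ∈ L, ∀ p ∈ Ω, rc p g ∈ Ω) (hB : B ∈ Ω) (hAB : A ⊓ B = ⊥) (hA : A ≠ ⊥)
    (hY : ∀ y ∈ Y, Mv L A B D y)
    (htr : ∀ p ∈ Ω, p ≤ A ⊔ B → p ≠ A → ∃ y ∈ Y, rc p y = B) {g : G} (hg : Mv L A B D g) :
    ∃ y ∈ Y, ∃ c ∈ L, Ce A c ∧ Ce B c ∧ Ce D c ∧ g = c * y := by
  have h1 : rc B g ≤ A ⊔ B := by
    intro x hx
    rw [mem_rc] at hx
    have h2 := hg.move _ hx
    have h3 : (g * x * g⁻¹) * ((g * x * g⁻¹)⁻¹ * (g⁻¹ * (g * x * g⁻¹) * g)) = x := by group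
    rw [← h3]
    exact mul_mem (Subgroup.mem_sup_right hx) (Subgroup.mem_sup_left h2)
  have h2 : rc B g ≠ A := by
    intro h3
    have h4 : rc A g = A := hg.fixA.rc_eq
    have h5 : B = A := rc_inj (h3.trans h4.symm)
    rw [h5, inf_idem] at hAB
    exact hA hAB
  obtain ⟨y, hy, hyB⟩ := htr _ (hΩ g hg.mem B hB) h1 h2
  have hyM := hY y hy
  refine ⟨y⁻¹, inv_mem hy, g * y, mul_mem hg.mem hyM.mem, hg.fixA.mul hyM.fixA, ?_, hg.fixD.mul hyM.fixD, by group⟩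
  rw [rc_rc] at hyB
  intro r hr
  -- `r⁻¹ (gy)⁻¹ r (gy) ∈ A ∩ B`
  have h3 : (g * y)⁻¹ * r * (g * y) ∈ B := by
    have h4 := mem_rc_conj (g := g * y) hr
    rwa [hyB] at h4
  have h5 : r⁻¹ * ((g * y)⁻¹ * r * (g * y)) ∈ A := by
    have h6 := hg.move r hr
    -- `y⁻¹ (g⁻¹ r g) y = y⁻¹ r (r⁻¹ g⁻¹ r g) y`
    have h7 := hyM.move r hr
    have h8 := hyM.fixA.inv _ h6
    have e : r⁻¹ * ((g * y)⁻¹ * r * (g * y)) = (r⁻¹ * (y⁻¹ * r * y)) * (y⁻¹ * (r⁻¹ * (g⁻¹ * r * g)) * y) := by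
      group
    rw [e, h8, inv_mul_cancel_right]
    exact mul_mem h7 h6
  have h9 : r⁻¹ * ((g * y)⁻¹ * r * (g * y)) ∈ A ⊓ B := Subgroup.mem_inf.2 ⟨h5, mul_mem (inv_mem hr) h3⟩
  rw [hAB, Subgroup.mem_bot] at h9
  have h10 : (g * y)⁻¹ * r * (g * y) = r := by
    have := congrArg (r * ·) h9
    simpa using this
  have h11 := congrArg ((g * y) * ·) h10
  have e : (g * y) * ((g * y)⁻¹ * r * (g * y)) = r * (g * y) := by group
  rw [← e]
  exact h11.symm ▸ rfl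

/-- The stabiliser of a family of subgroups. -/
def StO (Ω : Set (Subgroup G)) : Subgroup G where
  carrier := {b | ∀ q, rc q b ∈ Ω ↔ q ∈ Ω}
  one_mem' := fun q => by simp
  mul_mem' := fun {a b} ha hb q => by rw [← rc_rc, hb, ha]
  inv_mem' := fun {a} ha q => by rw [← ha (rc q a⁻¹), rc_rc, inv_mul_cancel, rc_one]

theorem mem_StO {Ω : Set (Subgroup G)} {b : G} : b ∈ StO Ω ↔ ∀ q, rc q b ∈ Ω ↔ q ∈ Ω := Iff.rfl

theorem mem_StO_of {Ω : Set (Subgroup G)} {b : G} (h : ∀ q ∈ Ω, rc q b ∈ Ω) (h' : ∀ q ∈ Ω, rc q b⁻¹ ∈ Ω) :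
    b ∈ StO Ω := by
  intro q
  refine ⟨fun hq => ?_, h q⟩
  have := h' _ hq
  rwa [rc_rc, mul_inv_cancel, rc_one] at this

theorem mem_StO_of_finite [Finite G] {Ω : Set (Subgroup G)} {b : G} (h : ∀ q ∈ Ω, rc q b ∈ Ω) : b ∈ StO Ω := by
  refine mem_StO_of h ?_
  have h1 : ∀ n : ℕ, ∀ q ∈ Ω, rc q (b ^ n) ∈ Ω := by
    intro n
    induction n with
    | zero => intro q hq; simpa using hq
    | succ n ih => intro q hq; rw [pow_succ, ← rc_rc]; exact h _ (ih q hq)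
  have e : b⁻¹ = b ^ (orderOf b - 1) := by
    rw [inv_eq_iff_mul_eq_one, ← pow_succ', Nat.sub_add_cancel (orderOf_pos b), pow_orderOf_eq_one]
  rw [e]
  exact h1 _

/-- The local data for a residue of type A2: `pts` = the points of `N`, `κ` = the perfect group of the node `j`. -/
structure Pl (L κ Pf U₁ U₂ : Subgroup G) (pts : Set (Subgroup G)) (R₁ R₂ R₃ : Subgroup G) (n₁ n₂ : G) : Prop where
  /-- `L` is generated by `κ`, a group `Pf` fixing `N` and normalising `κ`, and `n₁` -/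
  gen : L ≤ (Pf ⊔ κ) ⊔ zpowers n₁
  Pf_norm : ∀ b ∈ Pf, ∀ k ∈ κ, b⁻¹ * k * b ∈ κ
  Pf_pts : ∀ b ∈ Pf, ∀ p ∈ pts, rc p b ∈ pts
  n₁_pts : ∀ p ∈ pts, rc p n₁ ∈ pts
  U₁_le : U₁ ≤ Pf
  U₂_le : U₂ ≤ Pf
  U₁_n₁ : rc U₁ n₁ = U₂
  U₂_n₁ : rc U₂ n₁ = U₁
  R₁_n₁ : rc R₁ n₁ = R₂
  R₂_n₁ : rc R₂ n₁ = R₁
  R₃_n₁ : rc R₃ n₁ = R₃
  mem₁ : R₁ ∈ pts
  mem₂ : R₂ ∈ pts
  /-- `κ` moves `N` to `N` or, up to `U₂`, to `N n₂` -/
  line : ∀ k ∈ κ, (∀ p ∈ pts, rc p k ∈ pts) ∨ ∃ u ∈ U₂, ∀ p ∈ pts, ∃ p' ∈ pts, rc p (k * u) = rc p' n₂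
  /-- `U₁` is transitive on the points `≠ R₁` of `N n₂` -/
  point : ∀ p ∈ pts, rc p n₂ = R₁ ∨ ∃ u ∈ U₁, rc (rc p n₂) u = R₃
  n₂_mem : n₂ ∈ κ ⊔ Pf
  R₁_n₂ : rc R₁ n₂ = R₁
  R₂_n₂ : rc R₂ n₂ = R₃
  R₃_n₂ : rc R₃ n₂ = R₂
  /-- `N` -/
  N_Y : ∀ b ∈ U₁ ⊔ U₂, rc (R₁ ⊔ R₂) b = R₁ ⊔ R₂
  R₃_not : ¬ R₃ ≤ R₁ ⊔ R₂

namespace Pl

variable {L κ Pf U₁ U₂ : Subgroup G} {pts : Set (Subgroup G)} {R₁ R₂ R₃ : Subgroup G} {n₁ n₂ : G}
  (D : Pl L κ Pf U₁ U₂ pts R₁ R₂ R₃ n₁ n₂)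

/-- All points of the plane. -/
def Om (κ : Subgroup G) (pts : Set (Subgroup G)) : Set (Subgroup G) := {q | ∃ p ∈ pts, ∃ k ∈ κ, q = rc p k}

theorem pts_sub {p : Subgroup G} (hp : p ∈ pts) : p ∈ Om κ pts := ⟨p, hp, 1, one_mem _, by simp⟩

theorem Om_κ {k : G} (hk : k ∈ κ) {q : Subgroup G} (hq : q ∈ Om κ pts) : rc q k ∈ Om κ pts := by
  obtain ⟨p, hp, k', hk', rfl⟩ := hq
  exact ⟨p, hp, k' * k, mul_mem hk' hk, rc_rc _ _ _⟩

include D

theorem Om_Pf {b : G} (hb : b ∈ Pf) {q : Subgroup G} (hq : q ∈ Om κ pts) : rc q b ∈ Om κ pts := by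
  obtain ⟨p, hp, k, hk, rfl⟩ := hq
  refine ⟨rc p b, D.Pf_pts b hb p hp, b⁻¹ * k * b, D.Pf_norm b hb k hk, ?_⟩
  rw [rc_rc, rc_rc]
  congr 1
  group

theorem Om_sup {b : G} (hb : b ∈ κ ⊔ Pf) {q : Subgroup G} (hq : q ∈ Om κ pts) : rc q b ∈ Om κ pts := by
  have key : κ ⊔ Pf ≤ StO (Om κ pts) := by
    refine sup_le (fun b hb => mem_StO_of (fun q hq => Om_κ hb hq) (fun q hq => Om_κ (inv_mem hb) hq))
      (fun b hb => mem_StO_of (fun q hq => D.Om_Pf hb hq) (fun q hq => D.Om_Pf (inv_mem hb) hq))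
  exact (key hb q).2 hq

theorem R₃_mem : R₃ ∈ Om κ pts := by
  rw [← D.R₂_n₂]
  exact D.Om_sup D.n₂_mem (pts_sub D.mem₂)

/-- The points outside `N` are conjugate to `R₃` under `Y = U₁ U₂`. -/
theorem cases {q : Subgroup G} (hq : q ∈ Om κ pts) : q ∈ pts ∨ ∃ y ∈ U₁ ⊔ U₂, rc q y = R₃ := by
  obtain ⟨p, hp, k, hk, rfl⟩ := hq
  rcases D.line k hk with h | ⟨u, hu, h⟩
  · exact Or.inl (h p hp)
  · obtain ⟨p', hp', e⟩ := h p hp
    rcases D.point p' hp' with h1 | ⟨v, hv, h1⟩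
    · -- `rc p (k u) = R₁`
      left
      rw [h1] at e
      have e2 : rc p k = rc R₁ u⁻¹ := by
        rw [← e, rc_rc]; congr 1; group
      rw [e2]
      exact D.Pf_pts _ (D.U₂_le (inv_mem hu)) _ D.mem₁
    · right
      refine ⟨u * v, mul_mem (Subgroup.mem_sup_right hu) (Subgroup.mem_sup_left hv), ?_⟩
      rw [rc_rc, ← mul_assoc, ← rc_rc, e, h1]

theorem Om_n₁ {q : Subgroup G} (hq : q ∈ Om κ pts) : rc q n₁ ∈ Om κ pts := by
  rcases D.cases hq with h | ⟨y, hy, h⟩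
  · exact pts_sub (D.n₁_pts q h)
  · -- `rc q n₁ = rc R₃ (y⁻¹ n₁) = rc R₃ (n₁⁻¹ y⁻¹ n₁)`
    have hY : n₁⁻¹ * y⁻¹ * n₁ ∈ U₁ ⊔ U₂ := by
      have h1 : rc (U₁ ⊔ U₂) n₁ = U₁ ⊔ U₂ := by rw [rc_sup, D.U₁_n₁, D.U₂_n₁, sup_comm]
      have h2 := mem_rc_conj (g := n₁) (inv_mem hy)
      rwa [h1] at h2
    have hYPf : n₁⁻¹ * y⁻¹ * n₁ ∈ Pf := (sup_le D.U₁_le D.U₂_le) hY
    have e : rc q n₁ = rc R₃ (n₁⁻¹ * y⁻¹ * n₁) := by
      have e1 : rc R₃ n₁⁻¹ = R₃ := by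
        conv_lhs => rw [← D.R₃_n₁]
        rw [rc_rc, mul_inv_cancel, rc_one]
      rw [mul_assoc, ← rc_rc R₃ n₁⁻¹, e1, ← h, rc_rc]
      congr 1
      group
    rw [e]
    exact D.Om_Pf hYPf D.R₃_mem

/-- **The plane is invariant under `⟨B, κ, n₁⟩`.** -/
theorem Om_all [Finite G] {g : G} (hg : g ∈ (Pf ⊔ κ) ⊔ zpowers n₁) {q : Subgroup G} (hq : q ∈ Om κ pts) :
    rc q g ∈ Om κ pts := by
  have key : (Pf ⊔ κ) ⊔ zpowers n₁ ≤ StO (Om κ pts) := by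
    refine sup_le (sup_le (fun b hb => mem_StO_of_finite fun q hq => D.Om_Pf hb hq)
      (fun b hb => mem_StO_of_finite fun q hq => Om_κ hb hq)) ?_
    rw [Subgroup.zpowers_le]
    exact mem_StO_of_finite fun q hq => D.Om_n₁ hq
  exact (key hg q).2 hq

/-- **The plane is invariant under `L`.** -/
theorem Om_L [Finite G] {g : G} (hg : g ∈ L) {q : Subgroup G} (hq : q ∈ Om κ pts) : rc q g ∈ Om κ pts :=
  D.Om_all (D.gen hg) hq

/-- the points of the plane contained in `N` -/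
theorem mem_pts {q : Subgroup G} (hq : q ∈ Om κ pts) (hN : q ≤ R₁ ⊔ R₂) : q ∈ pts := by
  rcases D.cases hq with h | ⟨y, hy, h⟩
  · exact h
  · exfalso
    apply D.R₃_not
    rw [← h, ← D.N_Y y hy]
    exact rc_mono hN y

/-- `U₂` is transitive on the points `≠ R₂` of `R₂ R₃` -/
theorem trans₂₃ [Finite G] {q : Subgroup G} (hq : q ∈ Om κ pts) (h : q ≤ R₂ ⊔ R₃)
    (hne : q ≠ R₂) : ∃ y ∈ U₂, rc q y = R₃ := by
  have e1 : rc (R₁ ⊔ R₃) n₁ = R₂ ⊔ R₃ := by rw [rc_sup, D.R₁_n₁, D.R₃_n₁]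
  have e2 : rc (R₁ ⊔ R₂) n₂ = R₁ ⊔ R₃ := by rw [rc_sup, D.R₁_n₂, D.R₂_n₂]
  set q1 := rc q n₁⁻¹ with hq1
  have hq1' : rc q1 n₁ = q := by rw [hq1, rc_rc, inv_mul_cancel, rc_one]
  have h1 : q1 ≤ R₁ ⊔ R₃ := by
    have := rc_mono h n₁⁻¹
    rwa [← e1, rc_rc (R₁ ⊔ R₃), mul_inv_cancel, rc_one] at this
  have hq1m : q1 ∈ Om κ pts := D.Om_all (Subgroup.mem_sup_right (inv_mem (Subgroup.mem_zpowers n₁))) hq
  set q2 := rc q1 n₂⁻¹ with hq2
  have hq2' : rc q2 n₂ = q1 := by rw [hq2, rc_rc, inv_mul_cancel, rc_one]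
  have h2 : q2 ≤ R₁ ⊔ R₂ := by
    have := rc_mono h1 n₂⁻¹
    rwa [← e2, rc_rc (R₁ ⊔ R₂), mul_inv_cancel, rc_one] at this
  have hq2m : q2 ∈ pts := D.mem_pts (D.Om_sup (inv_mem D.n₂_mem) hq1m) h2
  rcases D.point q2 hq2m with h3 | ⟨u, hu, h3⟩
  · exfalso
    apply hne
    rw [hq2'] at h3
    rw [← hq1', h3, D.R₁_n₁]
  · rw [hq2'] at h3
    refine ⟨n₁⁻¹ * u * n₁, ?_, ?_⟩
    · have := mem_rc_conj (g := n₁) hu
      rwa [D.U₁_n₁] at this
    · have e : rc q (n₁⁻¹ * u * n₁) = rc (rc q1 u) n₁ := by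
        rw [hq1, rc_rc, rc_rc, mul_assoc]
      rw [e, h3, D.R₃_n₁]

/-- **The braid relation of length three.** -/
theorem braid [Finite G] {F : Frame G} {C J Bf : Subgroup G} {i : Bool} (hi : F.n i = n₁) (hi' : F.n (!i) = n₂)
    (hL : CenMod L C J) (hJC : J ≤ C) (hJ : J ≤ F.B) (hf : FixPart F Bf)
    (hC : ∀ c ∈ L, Ce R₁ c → Ce R₂ c → Ce R₃ c → c ∈ C) (hn₁ : n₁ ∈ normalizer (L : Set G))
    (hn₂ : n₂ ∈ normalizer (L : Set G)) (hCn : rc C n₂ ≤ C)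
    (hU₂B : U₂ ≤ F.B) (hU₂ : ∀ u ∈ U₂, Mv L R₂ R₃ R₁ u) (hsq : rc U₁ (n₂ * n₂) = U₁)
    (h23 : R₂ ⊓ R₃ = ⊥) (hR₂ : R₂ ≠ ⊥)
    {l : G} (hl : l ∈ ⁅rc U₁ n₂ ⊔ rc U₁ (n₂ * n₁), rc U₁ n₂ ⊔ rc U₁ (n₂ * n₁)⁆) (hb : n₁⁻¹ * l ∈ Bf) :
    F.Braid 3 := by
  -- elations
  have k23 : ∀ g, Mv L R₂ R₃ R₁ g → g ∈ U₂ ⊔ C := by
    intro g hg
    obtain ⟨y, hy, c, hc, c1, c2, c3, rfl⟩ := Mv.mem_mul (Ω := Om κ pts) (fun g hg p hp => D.Om_L hg hp) D.R₃_mem h23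
      hR₂ hU₂ (fun p hp h1 h2 => D.trans₂₃ hp h1 h2) hg
    exact mul_mem (Subgroup.mem_sup_right (hC c hc c3 c1 c2)) (Subgroup.mem_sup_left hy)
  have k32 : ∀ g, Mv L R₃ R₂ R₁ g → g ∈ rc U₂ n₂ ⊔ C := by
    intro g hg
    have h1 := hg.conj (k := n₂⁻¹) (inv_mem hn₂)
    have e1 : rc R₃ n₂⁻¹ = R₂ := by rw [← D.R₂_n₂, rc_rc, mul_inv_cancel, rc_one]
    have e2 : rc R₂ n₂⁻¹ = R₃ := by
      conv_lhs => rw [← D.R₃_n₂]
      rw [rc_rc, mul_inv_cancel, rc_one]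
    have e3 : rc R₁ n₂⁻¹ = R₁ := by
      conv_lhs => rw [← D.R₁_n₂]
      rw [rc_rc, mul_inv_cancel, rc_one]
    rw [e1, e2, e3] at h1
    have h2 := mem_rc_conj (g := n₂) (k23 _ h1)
    have e : n₂⁻¹ * (n₂⁻¹⁻¹ * g * n₂⁻¹) * n₂ = g := by group
    rw [e, rc_sup] at h2
    exact (sup_le_sup_left hCn _ : rc U₂ n₂ ⊔ rc C n₂ ≤ rc U₂ n₂ ⊔ C) h2
  have hU₁ : ∀ u ∈ U₁, Mv L R₁ R₃ R₂ u := by
    intro u hu
    have h1 : n₁⁻¹ * u * n₁ ∈ U₂ := by
      have := mem_rc_conj (g := n₁) hu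
      rwa [D.U₁_n₁] at this
    have h2 := (hU₂ _ h1).conj (k := n₁⁻¹) (inv_mem hn₁)
    have e1 : rc R₂ n₁⁻¹ = R₁ := by rw [← D.R₁_n₁, rc_rc, mul_inv_cancel, rc_one]
    have e2 : rc R₁ n₁⁻¹ = R₂ := by
      conv_lhs => rw [← D.R₂_n₁]
      rw [rc_rc, mul_inv_cancel, rc_one]
    have e3 : rc R₃ n₁⁻¹ = R₃ := by
      conv_lhs => rw [← D.R₃_n₁]
      rw [rc_rc, mul_inv_cancel, rc_one]
    rw [e1, e2, e3] at h2
    have e : n₁⁻¹⁻¹ * (n₁⁻¹ * u * n₁) * n₁⁻¹ = u := by group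
    rwa [e] at h2
  have w1 : rc R₁ (n₂ * n₁) = R₂ := by rw [← rc_rc, D.R₁_n₂, D.R₁_n₁]
  have w2 : rc R₂ (n₂ * n₁) = R₃ := by rw [← rc_rc, D.R₂_n₂, D.R₃_n₁]
  have w3 : rc R₃ (n₂ * n₁) = R₁ := by rw [← rc_rc, D.R₃_n₂, D.R₂_n₁]
  have hU₂L : U₂ ≤ L := fun u hu => (hU₂ u hu).mem
  have hn₂P : n₂ ∈ F.P (!i) := hi' ▸ F.n_mem (!i)
  subst hi hi'
  refine braid_three F hL hJC hJ hf i (D := rc U₁ (F.n (!i)) ⊔ rc U₁ (F.n (!i) * F.n i))
    (D' := U₂ ⊔ rc U₂ (F.n (!i))) ?_ ?_ ?_ hl hb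
  · refine sup_le (hU₂B.trans (F.B_le _)) ?_
    intro x hx
    rw [mem_rc] at hx
    have := mul_mem (mul_mem (inv_mem hn₂P) (F.B_le _ (hU₂B hx))) hn₂P
    have e : (F.n (!i))⁻¹ * (F.n (!i) * x * (F.n (!i))⁻¹) * F.n (!i) = x := by group
    rwa [e] at this
  · refine sup_le hU₂L ?_
    intro x hx
    rw [mem_rc] at hx
    have := (Subgroup.mem_normalizer_iff.1 (inv_mem hn₂) _).1 (hU₂L hx)
    have e : (F.n (!i))⁻¹ * (F.n (!i) * x * (F.n (!i))⁻¹) * (F.n (!i))⁻¹⁻¹ = x := by group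
    rwa [e] at this
  · have key : rc U₁ (F.n (!i)) ⊔ rc U₁ (F.n (!i) * F.n i) ≤
        rc ((U₂ ⊔ rc U₂ (F.n (!i))) ⊔ C) (F.n (!i) * F.n i)⁻¹ := by
      refine sup_le (fun x hx => ?_) (fun x hx => ?_)
      · rw [mem_rc]
        have h1 := mem_rc_conj (g := F.n (!i) * F.n i) hx
        rw [rc_rc, ← mul_assoc, ← rc_rc, hsq, D.U₁_n₁] at h1
        rw [inv_inv]
        exact Subgroup.mem_sup_left (Subgroup.mem_sup_left h1)
      · rw [mem_rc, inv_inv]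
        rw [mem_rc] at hx
        have h1 := ((hU₁ _ hx).conj (k := F.n (!i) * F.n i) (mul_mem hn₂ hn₁)).conj
          (k := F.n (!i) * F.n i) (mul_mem hn₂ hn₁)
        rw [w1, w2, w3, w1] at h1
        have e : (F.n (!i) * F.n i)⁻¹ * ((F.n (!i) * F.n i)⁻¹ * (F.n (!i) * F.n i * x * (F.n (!i) * F.n i)⁻¹) *
          (F.n (!i) * F.n i)) * (F.n (!i) * F.n i) = (F.n (!i) * F.n i)⁻¹ * x * (F.n (!i) * F.n i) := by group
        rw [e] at h1
        have h2 := k32 _ h1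
        exact (sup_le_sup_right le_sup_right C) h2
    intro x hx
    have := key hx
    rwa [mem_rc, inv_inv] at this

end Pl

end Cfsg.Agent.Omega.HOne.End

end

section


/-!
# II.0h1, END: the residue of type C2, and the PATH conditions

`braid_quad`: the braid relation of length four for the residue `Sp4(q)` from the frame `R₁, R₂, R₋₂, R₋₁` of `V / Z`.
`path_three`, `path_four`: the conditions `PathTo k` for `k < 3`, `k < 4`.
-/

set_option autoImplicit false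

namespace Cfsg.Agent.Omega.HOne.End

open Subgroup Cfsg.Agent.RankTwoClose
open scoped commutatorElement

variable {G : Type*} [Group G]

/-- Elements which act on complementary pieces commute modulo the kernel. -/
theorem comm_of_pieces {L A B Z : Subgroup G} (hZ : ∀ g ∈ L, ∀ z ∈ Z, g * z = z * g) (hZL : Z ≤ L) (hAL : A ≤ L) (hBL : B ≤ L)
    {g h : G} (hg : g ∈ L) (hh : h ∈ L)
    (gA : ∀ r ∈ A, r⁻¹ * (g⁻¹ * r * g) ∈ Z) (gB : ∀ r ∈ B, g⁻¹ * r * g ∈ B ⊔ Z)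
    (hB : ∀ r ∈ B, r⁻¹ * (h⁻¹ * r * h) ∈ Z) (hA : ∀ r ∈ A, h⁻¹ * r * h ∈ A ⊔ Z) :
    ∀ r ∈ A ⊔ B ⊔ Z, r⁻¹ * ((h * g * h⁻¹ * g⁻¹)⁻¹ * r * (h * g * h⁻¹ * g⁻¹)) ∈ Z := by
  -- conjugation is trivial on `Z`
  have cz : ∀ x ∈ L, ∀ z ∈ Z, x⁻¹ * z * x = z := by
    intro x hx z hz
    have := hZ x hx z hz
    calc x⁻¹ * z * x = x⁻¹ * (z * x) := by group
      _ = x⁻¹ * (x * z) := by rw [this]
      _ = z := by group
  have hZn : ∀ x ∈ L, ∀ z ∈ Z, x⁻¹ * z * x ∈ Z := fun x hx z hz => by rw [cz x hx z hz]; exact hz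
  -- the set of `r` on which `x` is trivial modulo `Z`, as a subgroup of `L`
  have triv : ∀ (x : G), x ∈ L → ∀ (K : Subgroup G), K ≤ L → (∀ r ∈ K, r⁻¹ * (x⁻¹ * r * x) ∈ Z) →
      ∀ r ∈ K ⊔ Z, r⁻¹ * (x⁻¹ * r * x) ∈ Z := by
    intro x hx K hK hr r hrK
    have hn : K ≤ normalizer (Z : Set G) := by
      intro k hk
      rw [Subgroup.mem_normalizer_iff]
      intro z
      constructor
      · intro hz
        have := cz k⁻¹ (inv_mem (hK hk)) z hz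
        rw [inv_inv] at this
        rwa [this]
      · intro hz
        have := cz k (hK hk) _ hz
        have e : k⁻¹ * (k * z * k⁻¹) * k = z := by group
        rw [e] at this
        rwa [this]
    obtain ⟨z, hz, k, hk, rfl⟩ := Solvable.Glauberman.exists_mul_of_mem_sup K Z hn hrK
    have h1 := hr k hk
    have e : (z * k)⁻¹ * (x⁻¹ * (z * k) * x) = k⁻¹ * (z⁻¹ * (x⁻¹ * z * x)) * k * (k⁻¹ * (x⁻¹ * k * x)) := by group
    rw [e, cz x hx z hz, inv_mul_cancel, mul_one, inv_mul_cancel, one_mul]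
    exact h1
  -- `r^(hg) ≡ r^(gh)`
  have keyA : ∀ r ∈ A, ((h * g)⁻¹ * r * (h * g)) * ((g * h)⁻¹ * r * (g * h))⁻¹ ∈ Z := by
    intro r hr
    have h1 := triv g hg A hAL gA _ (hA r hr)
    have h2 := gA r hr
    -- `r^(hg) = r^h z`, `r^(gh) = r^h z'`
    have h3 := cz h hh _ h2
    have e : ((h * g)⁻¹ * r * (h * g)) * ((g * h)⁻¹ * r * (g * h))⁻¹ =
        (h⁻¹ * r * h) * (((h⁻¹ * r * h)⁻¹ * (g⁻¹ * (h⁻¹ * r * h) * g)) *
          (h⁻¹ * (r⁻¹ * (g⁻¹ * r * g)) * h)⁻¹) * (h⁻¹ * r * h)⁻¹ := by group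
    rw [e, h3]
    have h4 := mul_mem h1 (inv_mem h2)
    have hrL : (h⁻¹ * r * h) ∈ L := mul_mem (mul_mem (inv_mem hh) (hAL hr)) hh
    have h5 := hZn _ (inv_mem hrL) _ h4
    rwa [inv_inv] at h5
  have keyB : ∀ r ∈ B, ((h * g)⁻¹ * r * (h * g)) * ((g * h)⁻¹ * r * (g * h))⁻¹ ∈ Z := by
    intro r hr
    have h1 := triv h hh B hBL hB _ (gB r hr)
    have h2 := hB r hr
    have h3 := cz g hg _ h2
    have e : ((h * g)⁻¹ * r * (h * g)) * ((g * h)⁻¹ * r * (g * h))⁻¹ =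
        (g⁻¹ * r * g) * ((g⁻¹ * (r⁻¹ * (h⁻¹ * r * h)) * g) *
          ((g⁻¹ * r * g)⁻¹ * (h⁻¹ * (g⁻¹ * r * g) * h))⁻¹) * (g⁻¹ * r * g)⁻¹ := by group
    rw [e, h3]
    have h4 := mul_mem h2 (inv_mem h1)
    have hrL : (g⁻¹ * r * g) ∈ L := mul_mem (mul_mem (inv_mem hg) (hBL hr)) hg
    have h5 := hZn _ (inv_mem hrL) _ h4
    rwa [inv_inv] at h5
  -- translate
  have key : ∀ r ∈ L, ((h * g)⁻¹ * r * (h * g)) * ((g * h)⁻¹ * r * (g * h))⁻¹ ∈ Z →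
      r⁻¹ * ((h * g * h⁻¹ * g⁻¹)⁻¹ * r * (h * g * h⁻¹ * g⁻¹)) ∈ Z := by
    intro r hrL h1
    have hgh : (g * h)⁻¹ ∈ L := inv_mem (mul_mem hg hh)
    have h2 := hZn _ hgh _ h1
    have h3 := hZn _ hrL _ h2
    have e : r⁻¹ * ((g * h)⁻¹⁻¹ * (((h * g)⁻¹ * r * (h * g)) * ((g * h)⁻¹ * r * (g * h))⁻¹) * (g * h)⁻¹) * r =
        r⁻¹ * ((h * g * h⁻¹ * g⁻¹)⁻¹ * r * (h * g * h⁻¹ * g⁻¹)) := by group
    rwa [e] at h3
  have hc : h * g * h⁻¹ * g⁻¹ ∈ L := mul_mem (mul_mem (mul_mem hh hg) (inv_mem hh)) (inv_mem hg)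
  refine triv _ hc (A ⊔ B) (sup_le hAL hBL) ?_
  -- the set is a subgroup
  let K : Subgroup G :=
    { carrier := {r | r ∈ L ∧ r⁻¹ * ((h * g * h⁻¹ * g⁻¹)⁻¹ * r * (h * g * h⁻¹ * g⁻¹)) ∈ Z}
      one_mem' := ⟨one_mem _, by
        have e : (1 : G)⁻¹ * ((h * g * h⁻¹ * g⁻¹)⁻¹ * 1 * (h * g * h⁻¹ * g⁻¹)) = 1 := by group
        rw [e]; exact one_mem _⟩
      mul_mem' := by
        rintro a b ⟨ha, ha'⟩ ⟨hb, hb'⟩
        refine ⟨mul_mem ha hb, ?_⟩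
        have h1 := mul_mem (hZn b hb _ ha') hb'
        have e : b⁻¹ * (a⁻¹ * ((h * g * h⁻¹ * g⁻¹)⁻¹ * a * (h * g * h⁻¹ * g⁻¹))) * b *
            (b⁻¹ * ((h * g * h⁻¹ * g⁻¹)⁻¹ * b * (h * g * h⁻¹ * g⁻¹))) =
            (a * b)⁻¹ * ((h * g * h⁻¹ * g⁻¹)⁻¹ * (a * b) * (h * g * h⁻¹ * g⁻¹)) := by
          have hz := hZ _ hb _ ha'
          have hz2 : b⁻¹ * (a⁻¹ * ((h * g * h⁻¹ * g⁻¹)⁻¹ * a * (h * g * h⁻¹ * g⁻¹))) * b =
              a⁻¹ * ((h * g * h⁻¹ * g⁻¹)⁻¹ * a * (h * g * h⁻¹ * g⁻¹)) := cz b hb _ ha'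
          have hz3 := hZ b⁻¹ (inv_mem hb) _ ha'
          rw [hz2]
          calc a⁻¹ * ((h * g * h⁻¹ * g⁻¹)⁻¹ * a * (h * g * h⁻¹ * g⁻¹)) *
              (b⁻¹ * ((h * g * h⁻¹ * g⁻¹)⁻¹ * b * (h * g * h⁻¹ * g⁻¹)))
              = (a⁻¹ * ((h * g * h⁻¹ * g⁻¹)⁻¹ * a * (h * g * h⁻¹ * g⁻¹)) * b⁻¹) *
                ((h * g * h⁻¹ * g⁻¹)⁻¹ * b * (h * g * h⁻¹ * g⁻¹)) := by group
            _ = (b⁻¹ * (a⁻¹ * ((h * g * h⁻¹ * g⁻¹)⁻¹ * a * (h * g * h⁻¹ * g⁻¹)))) *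
                ((h * g * h⁻¹ * g⁻¹)⁻¹ * b * (h * g * h⁻¹ * g⁻¹)) := by rw [hz3]
            _ = _ := by group
        rwa [e] at h1
      inv_mem' := by
        rintro a ⟨ha, ha'⟩
        refine ⟨inv_mem ha, ?_⟩
        have h1 := hZn _ (inv_mem ha) _ (inv_mem ha')
        have e : a⁻¹⁻¹ * (a⁻¹ * ((h * g * h⁻¹ * g⁻¹)⁻¹ * a * (h * g * h⁻¹ * g⁻¹)))⁻¹ * a⁻¹ =
            a⁻¹⁻¹ * ((h * g * h⁻¹ * g⁻¹)⁻¹ * a⁻¹ * (h * g * h⁻¹ * g⁻¹)) := by group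
        rwa [e] at h1 }
  have hK : A ⊔ B ≤ K := by
    refine sup_le (fun r hr => ⟨hAL hr, key r (hAL hr) (keyA r hr)⟩) (fun r hr => ⟨hBL hr, key r (hBL hr) (keyB r hr)⟩)
  exact fun r hr => (hK hr).2

/-- **The braid relation of length four for the residue `Sp4(q)`.**  `A = R₁ R₋₁`, `B = R₂ R₋₂`. -/
theorem braid_quad {F : Frame G} {L C J Bf M A B Z : Subgroup G} (h : CenMod L C J) (hJ : J ≤ F.B)
    (hf : FixPart F Bf) (i : Bool) (hM : M ≤ F.P i) (hML : M ≤ L) (hp : ⁅M, M⁆ = M)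
    {l : G} (hl : l ∈ M) (hb : (F.n i)⁻¹ * l ∈ Bf) (hsq : F.n (!i) * F.n (!i) ∈ Bf)
    (hnL : F.n (!i) ∈ normalizer (L : Set G)) (hZ : ∀ g ∈ L, ∀ z ∈ Z, g * z = z * g) (hZL : Z ≤ L)
    (hAL : A ≤ L) (hBL : B ≤ L)
    (gA : ∀ m ∈ M, ∀ r ∈ A, r⁻¹ * (m⁻¹ * r * m) ∈ Z) (gB : ∀ m ∈ M, ∀ r ∈ B, m⁻¹ * r * m ∈ B ⊔ Z)
    (hAn : rc A (F.n (!i)) = B) (hBn : rc B (F.n (!i)) = A) (hZn : rc Z (F.n (!i)) = Z)
    (hC : ∀ c ∈ L, (∀ r ∈ A ⊔ B ⊔ Z, r⁻¹ * (c⁻¹ * r * c) ∈ Z) → c ∈ C) : F.Braid 4 := by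
  have hlL : (F.n (!i))⁻¹ * l * F.n (!i) ∈ L := by
    have := (Subgroup.mem_normalizer_iff.1 (inv_mem hnL) l).1 (hML hl)
    rwa [inv_inv] at this
  refine braid_four F h hJ hf i hM hML hp hl hb hsq hlL ?_
  intro m hm
  set s := F.n (!i) with hs
  refine hC _ ?_ ?_
  · exact mul_mem (mul_mem (mul_mem hlL (hML hm)) (inv_mem hlL)) (inv_mem (hML hm))
  · -- `m` plays the role of `g`, `l' = s⁻¹ l s` that of `h`
    refine comm_of_pieces (g := m) (h := s⁻¹ * l * s) hZ hZL hAL hBL (hML hm) hlL (gA m hm) (gB m hm) ?_ ?_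
    · intro r hr
      rw [← hAn, mem_rc] at hr
      have h1 := gA l hl _ hr
      have h2 := mem_rc_conj (g := s) h1
      rw [hZn] at h2
      have e : s⁻¹ * ((s * r * s⁻¹)⁻¹ * (l⁻¹ * (s * r * s⁻¹) * l)) * s =
          r⁻¹ * ((s⁻¹ * l * s)⁻¹ * r * (s⁻¹ * l * s)) := by group
      rwa [e] at h2
    · intro r hr
      rw [← hBn, mem_rc] at hr
      have h1 := gB l hl _ hr
      have h2 := mem_rc_conj (g := s) h1
      rw [rc_sup, hBn, hZn] at h2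
      have e : s⁻¹ * (l⁻¹ * (s * r * s⁻¹) * l) * s = (s⁻¹ * l * s)⁻¹ * r * (s⁻¹ * l * s) := by group
      rwa [e] at h2

/-! ### PATH -/

section path

variable {F : Frame G}

/-- conjugation by `g` on the left: `x ∈ rc A g` gives `g x g⁻¹ ∈ A` -/
theorem conj_of_rc {A A' : Subgroup G} {g x : G} (h : rc A g = A') (hx : x ∈ A') : g * x * g⁻¹ ∈ A := by
  rw [← h] at hx
  exact hx

theorem mem_of_rc_eq {A A' : Subgroup G} {g x : G} (h : rc A g = A') (hx : x ∈ A) : g⁻¹ * x * g ∈ A' := by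
  rw [← h]
  exact mem_rc_conj hx

/-- **PATH for a residue of type A2** (`a` = the node of `N`). -/
theorem path_three {U₁ U₂ : Subgroup G} (a : Bool)
    (h12 : rc U₁ (F.n a) = U₂) (h21 : rc U₂ (F.n a) = U₁) (hU₁ : U₁ ≤ F.B) (hU₂ : U₂ ≤ F.B)
    (hn : ∀ x ∈ U₁, F.n (!a) * x * (F.n (!a))⁻¹ ∈ F.B) (hn' : rc U₁ (F.n (!a)) ≤ F.B)
    (t₁ : ∀ b ∈ F.B, ∃ x ∈ rc U₁ (F.n (!a)), ∃ c ∈ F.B, b = x * c ∧ (F.n a)⁻¹ * c * F.n a ∈ F.B)
    (t₂ : ∀ b ∈ F.B, ∃ x ∈ U₂, ∃ c ∈ F.B, b = x * c ∧ (F.n (!a))⁻¹ * c * F.n (!a) ∈ F.B) :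
    ∀ k < 3, F.PathTo k := by
  set X : Bool → Set G := fun i => if i = a then (rc U₁ (F.n (!a)) : Set G) else (U₂ : Set G) with hX
  have hXa : X a = (rc U₁ (F.n (!a)) : Set G) := by simp [hX]
  have hXb : X (!a) = (U₂ : Set G) := by simp [hX]
  have hXt : ∀ i, ∀ b ∈ F.B, ∃ x ∈ X i, ∃ c ∈ F.B, b = x * c ∧ (F.n i)⁻¹ * c * F.n i ∈ F.B := by
    intro i
    rcases Bool.eq_or_eq_not i a with rfl | h
    · rw [hXa]; exact t₁
    · rw [h, hXb]; exact t₂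
  intro k hk
  refine F.pathTo_of_root X hXt ?_
  intro i x hx
  interval_cases k
  · rw [nxt_zero] at hx
    have : x ∈ F.B := by
      rcases Bool.eq_or_eq_not i a with rfl | h
      · rw [hXa] at hx; exact hn' hx
      · rw [h, hXb] at hx; exact hU₂ hx
    simpa using this
  · have e1 : nxt i 1 = !i := by simp [nxt]
    rw [e1] at hx
    rw [alt_one]
    rcases Bool.eq_or_eq_not i a with rfl | h
    · rw [hXb] at hx
      exact hU₁ (conj_of_rc h12 hx)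
    · rw [h, Bool.not_not, hXa] at hx
      rw [h]
      exact hU₁ hx
  · have e1 : nxt i 2 = i := by simp [nxt]
    rw [e1] at hx
    have e2 : alt F.n i 2 = F.n i * F.n (!i) := by simp [alt_succ]
    have e3 : alt F.n i 2 * x * (alt F.n i 2)⁻¹ = F.n i * (F.n (!i) * x * (F.n (!i))⁻¹) * (F.n i)⁻¹ := by
      rw [e2]; group
    rw [e3]
    rcases Bool.eq_or_eq_not i a with rfl | h
    · rw [hXa] at hx
      exact hU₂ (conj_of_rc h21 hx)
    · rw [h, hXb] at hx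
      rw [h, Bool.not_not]
      exact hn _ (conj_of_rc h12 hx)

/-- **PATH for a residue of type C2** (`a` = the node of `N`). -/
theorem path_four {D Z₁ Z₂ : Subgroup G} (a : Bool)
    (hD : rc D (F.n a) = D) (h12 : rc Z₁ (F.n a) = Z₂) (h21 : rc Z₂ (F.n a) = Z₁)
    (hZ₁ : rc Z₁ (F.n (!a)) = Z₁) (hDB : D ≤ F.B) (hZ₁B : Z₁ ≤ F.B) (hZ₂B : Z₂ ≤ F.B)
    (hn : ∀ x ∈ D, F.n (!a) * x * (F.n (!a))⁻¹ ∈ F.B) (hn' : rc D (F.n (!a)) ≤ F.B)
    (t₁ : ∀ b ∈ F.B, ∃ x ∈ rc D (F.n (!a)), ∃ c ∈ F.B, b = x * c ∧ (F.n a)⁻¹ * c * F.n a ∈ F.B)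
    (t₂ : ∀ b ∈ F.B, ∃ x ∈ Z₂, ∃ c ∈ F.B, b = x * c ∧ (F.n (!a))⁻¹ * c * F.n (!a) ∈ F.B) :
    ∀ k < 4, F.PathTo k := by
  set X : Bool → Set G := fun i => if i = a then (rc D (F.n (!a)) : Set G) else (Z₂ : Set G) with hX
  have hXa : X a = (rc D (F.n (!a)) : Set G) := by simp [hX]
  have hXb : X (!a) = (Z₂ : Set G) := by simp [hX]
  have hXt : ∀ i, ∀ b ∈ F.B, ∃ x ∈ X i, ∃ c ∈ F.B, b = x * c ∧ (F.n i)⁻¹ * c * F.n i ∈ F.B := by
    intro i
    rcases Bool.eq_or_eq_not i a with rfl | h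
    · rw [hXa]; exact t₁
    · rw [h, hXb]; exact t₂
  intro k hk
  refine F.pathTo_of_root X hXt ?_
  intro i x hx
  interval_cases k
  · rw [nxt_zero] at hx
    have : x ∈ F.B := by
      rcases Bool.eq_or_eq_not i a with rfl | h
      · rw [hXa] at hx; exact hn' hx
      · rw [h, hXb] at hx; exact hZ₂B hx
    simpa using this
  · have e1 : nxt i 1 = !i := by simp [nxt]
    rw [e1] at hx
    rw [alt_one]
    rcases Bool.eq_or_eq_not i a with rfl | h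
    · rw [hXb] at hx
      exact hZ₁B (conj_of_rc h12 hx)
    · rw [h, Bool.not_not, hXa] at hx
      rw [h]
      exact hDB hx
  · have e1 : nxt i 2 = i := by simp [nxt]
    rw [e1] at hx
    have e2 : alt F.n i 2 = F.n i * F.n (!i) := by simp [alt_succ]
    have e3 : alt F.n i 2 * x * (alt F.n i 2)⁻¹ = F.n i * (F.n (!i) * x * (F.n (!i))⁻¹) * (F.n i)⁻¹ := by
      rw [e2]; group
    rw [e3]
    rcases Bool.eq_or_eq_not i a with rfl | h
    · rw [hXa] at hx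
      exact hDB (conj_of_rc hD hx)
    · rw [h, hXb] at hx
      rw [h, Bool.not_not]
      exact hZ₁B (conj_of_rc hZ₁ (conj_of_rc h12 hx))
  · have e1 : nxt i 3 = !i := by simp [nxt]
    rw [e1] at hx
    have e2 : alt F.n i 3 = F.n i * (F.n (!i) * F.n i) := by simp [alt_succ]
    have e3 : alt F.n i 3 * x * (alt F.n i 3)⁻¹ =
        F.n i * (F.n (!i) * (F.n i * x * (F.n i)⁻¹) * (F.n (!i))⁻¹) * (F.n i)⁻¹ := by
      rw [e2]; group
    rw [e3]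
    rcases Bool.eq_or_eq_not i a with rfl | h
    · rw [hXb] at hx
      exact hZ₂B (conj_of_rc h21 (conj_of_rc hZ₁ (conj_of_rc h12 hx)))
    · rw [h, Bool.not_not, hXa] at hx
      rw [h, Bool.not_not]
      exact hn _ (conj_of_rc hD hx)

end path

end Cfsg.Agent.Omega.HOne.End

end
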