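import Cfsg.Agent.Mrg.Omega.HOne.EndNode
import Cfsg.Agent.Mrg.Omega.HOne.EndPoly
import Cfsg.Agent.Mrg.Omega.BTwo.QuadGrp

section


/-!
# II.0h1, END: the node of `V` and another node, common part

`Base`: the node of `V` (`P₁ = XX V R ⊔ B`) and a second minimal parabolic subgroup `P₂ ≤ N(R i₁)` which moves `V`.
`Base.exists_fr`: reflections `n₁`, `n₂` which normalise `H`, and the second point `R i₂` fixed by `H`.
-/

set_option autoImplicit false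
set_option linter.unusedSectionVars false

namespace Cfsg.Agent.Omega.HOne.End

open Subgroup Cfsg.Agent.Omega.BTwo Cfsg.Agent.Lib.SL2Mat
open Cfsg.Agent.ParSys (Qk FpfG SepG mem_Qk Qk_le Qk_conj Qk_conj')
open Cfsg.Agent.ParSys.Hall (HallData)
open Cfsg.Agent.ParSys.Hall.HallData (PTr)

variable {G : Type*} [Group G] {ι : Type*}

theorem rc_eq_cj (A : Subgroup G) (g : G) : rc A g = cj g⁻¹ A := by
  ext x
  rw [mem_rc, mem_cj, inv_inv]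

theorem rc_inv_eq_cj (A : Subgroup G) (g : G) : rc A g⁻¹ = cj g A := by rw [rc_eq_cj, inv_inv]

theorem rc_cj (A : Subgroup G) (g : G) : rc (cj g A) g = A := by rw [rc_eq_cj, cj_inv_cj]

theorem cj_eq_iff_rc {A A' : Subgroup G} {g : G} : cj g A = A' ↔ rc A' g = A := by
  rw [rc_eq_cj]
  constructor
  · rintro rfl; rw [cj_inv_cj]
  · rintro rfl; rw [cj_cj_inv]

/-! ### one panel -/

/-- two `H`-fixed chambers `≠ B` of a panel coincide -/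
theorem panel_unique [Finite G] [Fact (Nat.Prime 2)] {B U H P : Subgroup G} (hall : HallData 2 B U H)
    (ptr : PTr B U P) (fix : ∀ c ∈ U, c ∈ centralizer (H : Set G) → c ∈ Qk B P) {g g' : G} (hg : g ∈ P)
    (hgB : g ∉ B) (hg' : g' ∈ P) (hgB' : g' ∉ B)
    (hfix : ∀ a ∈ H, g⁻¹ * a * g ∈ B) (hfix' : ∀ a ∈ H, g'⁻¹ * a * g' ∈ B) : g⁻¹ * g' ∈ B := by
  obtain ⟨u, hu, b, hb, he⟩ := ptr g hg hgB g' hg' hgB'
  obtain ⟨c, hcU, hcC, hc⟩ := hall.fixed_trans (X := G ⧸ B) ((g : G) : G ⧸ B) ((g' : G) : G ⧸ B) (by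
      intro a ha
      change ((a * g : G) : G ⧸ B) = _
      refine (QuotientGroup.eq.mpr ?_).symm
      rw [← mul_assoc]
      exact hfix a ha) (by
      intro a ha
      change ((a * g' : G) : G ⧸ B) = _
      refine (QuotientGroup.eq.mpr ?_).symm
      rw [← mul_assoc]
      exact hfix' a ha) hu (by
      change ((u * g : G) : G ⧸ B) = _
      rw [he]
      exact (QuotientGroup.mk_mul_of_mem _ hb).symm)
  have h1 : ((c * g : G) : G ⧸ B) = ((g' : G) : G ⧸ B) := hc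
  have h2 := QuotientGroup.eq.1 h1
  have h3 := fix c hcU hcC g hg
  have h4 := mul_mem h3 h2
  have e : g⁻¹ * c * g * ((c * g)⁻¹ * g') = g⁻¹ * g' := by group
  rwa [e] at h4

section panel

variable [Finite G] [Fact (Nat.Prime 2)] {B U H P : Subgroup G} (hall : HallData 2 B U H)
    (ptr : PTr B U P) (fix : ∀ c ∈ U, c ∈ centralizer (H : Set G) → c ∈ Qk B P) (hle : B ≤ P)
    {n : G} (hn : n ∈ P) (hnB : n ∉ B) (hnH : n ∈ normalizer (H : Set G))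

include hall ptr fix hle hn hnB hnH

/-- elements of `B` normalising `H` -/
theorem conj_mem_of_norm {c : G} (hc : c ∈ B) (hcH : c ∈ normalizer (H : Set G)) : n⁻¹ * c * n ∈ B := by
  have h1 : ∀ a ∈ H, n⁻¹ * a * n ∈ B := fun a ha => hall.H_le (conj_inv_mem_of_normalizer hnH ha)
  have h2 : ∀ a ∈ H, (c * n)⁻¹ * a * (c * n) ∈ B := by
    intro a ha
    have := h1 _ (conj_inv_mem_of_normalizer hcH ha)
    have e : n⁻¹ * (c⁻¹ * a * c) * n = (c * n)⁻¹ * a * (c * n) := by group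
    rwa [e] at this
  have h3 : c * n ∉ B := fun h => hnB (by
    have := mul_mem (inv_mem hc) h
    rwa [inv_mul_cancel_left] at this)
  have := panel_unique hall ptr fix hn hnB (mul_mem (hle hc) hn) h3 h1 h2
  rwa [← mul_assoc] at this

theorem sq_mem_of_norm : n * n ∈ B := by
  have h1 : ∀ a ∈ H, n⁻¹ * a * n ∈ B := fun a ha => hall.H_le (conj_inv_mem_of_normalizer hnH ha)
  have h2 : ∀ a ∈ H, n⁻¹⁻¹ * a * n⁻¹ ∈ B := fun a ha => hall.H_le (by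
    rw [inv_inv]
    exact conj_mem_of_normalizer hnH ha)
  have h3 : n⁻¹ ∉ B := fun h => hnB (by simpa using inv_mem h)
  have := inv_mem (panel_unique hall ptr fix hn hnB (inv_mem hn) h3 h1 h2)
  simpa using this

/-- `n` normalises `B ∩ N(H)` -/
theorem norm_inf : n ∈ normalizer ((B ⊓ normalizer (H : Set G) : Subgroup G) : Set G) := by
  have key : ∀ n ∈ P, n ∉ B → n ∈ normalizer (H : Set G) → ∀ c ∈ B ⊓ normalizer (H : Set G),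
      n⁻¹ * c * n ∈ B ⊓ normalizer (H : Set G) := fun n hn hnB hnH c hc =>
    mem_inf.2 ⟨conj_mem_of_norm hall ptr fix hle hn hnB hnH (mem_inf.1 hc).1 (mem_inf.1 hc).2,
      mul_mem (mul_mem (inv_mem hnH) (mem_inf.1 hc).2) hnH⟩
  rw [Subgroup.mem_normalizer_iff]
  intro c
  constructor
  · intro hc
    have h3 : n⁻¹ ∉ B := fun h => hnB (by simpa using inv_mem h)
    have := key n⁻¹ (inv_mem hn) h3 (inv_mem hnH) c hc
    rwa [inv_inv] at this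
  · intro hc
    have := key n hn hnB hnH _ hc
    have e : n⁻¹ * (n * c * n⁻¹) * n = c := by group
    rwa [e] at this

end panel

/-- every chamber `≠ B` of a panel is `U`-conjugate to one fixed by `H`; the representative is changed by `U` only -/
theorem exists_n_of [Finite G] [Fact (Nat.Prime 2)] {B U H P : Subgroup G} (D : HallData 2 B U H) (hBP : B ≤ P)
    (htr : PTr B U P) {g : G} (hgP : g ∈ P) (hgB : g ∉ B) :
    ∃ u ∈ U, ∃ w ∈ U, u * g * w ∈ normalizer (H : Set G) := by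
  obtain ⟨u, hu, hfix⟩ := D.exists_fixed (X := G ⧸ B) ((g : G) : G ⧸ B) (by
    intro a ha
    have haB := D.H_le ha
    obtain ⟨v, hv, b, hb, hvb⟩ := htr g hgP hgB (a * g) (P.mul_mem (hBP haB) hgP)
      (fun h => hgB (by simpa using B.mul_mem (B.inv_mem haB) h))
    refine ⟨v, hv, ?_⟩
    change ((a * g : G) : G ⧸ B) = ((v * g : G) : G ⧸ B)
    rw [hvb]
    exact QuotientGroup.mk_mul_of_mem _ hb)
  have hHB : ∀ a ∈ H, (u * g)⁻¹ * a * (u * g) ∈ B := by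
    intro a ha
    have h1 : ((a * (u * g) : G) : G ⧸ B) = ((u * g : G) : G ⧸ B) := hfix a ha
    have h2 := QuotientGroup.eq.mp h1.symm
    rwa [← mul_assoc] at h2
  obtain ⟨w, hw, e⟩ := D.conj (K := cj (u * g)⁻¹ H) (by
      rintro _ ⟨a, ha, rfl⟩
      have := hHB a ha
      change (u * g)⁻¹ * a * (u * g)⁻¹⁻¹ ∈ B
      rwa [inv_inv]) (card_cj _ _)
  refine ⟨u, hu, w, hw, ?_⟩
  rw [← cj_eq_self_iff, cj_mul]
  have e' : cj w H = cj (u * g)⁻¹ H := by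
    rw [← e]; rfl
  rw [e', cj_cj_inv]

/-- **The node of `V` and a second node `P₂ ≤ N(R i₁)`.** -/
structure Base (F : Type*) [Field F] (V : Subgroup G) (R : ι → Subgroup G) (U B H P₂ : Subgroup G) (i₁ : ι) :
    Prop where
  bt : BT V R
  nod : Nod V R U B i₁
  hall : HallData 2 B U H
  sup : U ⊔ H = B
  U_UU : ∀ i, UU V R i ≤ U
  le₂ : B ≤ P₂
  three₂ : ∃ x ∈ P₂, ∃ y ∈ P₂, x ∉ B ∧ y ∉ B ∧ x⁻¹ * y ∉ B
  ptr₂ : PTr B U P₂
  reg₂ : ∀ u ∈ U, ∀ g ∈ P₂, g ∉ B → g⁻¹ * u * g ∈ B → u ∈ Qk B P₂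
  fix₂ : ∀ c ∈ U, c ∈ centralizer (H : Set G) → c ∈ Qk B P₂
  P₂_R : P₂ ≤ normalizer (R i₁ : Set G)
  NV₂ : P₂ ⊓ normalizer (V : Set G) ≤ B
  coord : ∀ j, i₁ ≠ j → ∃ (v : F → F → G) (w1 w2 : F → G), Coord V R i₁ j v w1 w2
  big : ∃ a : F, a ≠ 0 ∧ a ≠ 1

namespace Base

variable {F : Type*} [Field F] {V : Subgroup G} {R : ι → Subgroup G} {U B H P₂ : Subgroup G} {i₁ : ι}
  (D : Base F V R U B H P₂ i₁)
include D

/-- 2-elements of `B` lie in `U` -/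
theorem mem_U [Finite G] [Fact (Nat.Prime 2)] {x : G} (hx : x ∈ B) (h2 : ∃ k, x ^ 2 ^ k = 1) : x ∈ U := by
  obtain ⟨k, hk⟩ := h2
  exact D.hall.pgroup_le_of_le_sup (D.sup.symm ▸ hx) hk

theorem two_elt [Finite G] [Fact (Nat.Prime 2)] {u g : G} (hu : u ∈ U) (h : g⁻¹ * u * g ∈ B) : g⁻¹ * u * g ∈ U := by
  refine D.mem_U h ?_
  obtain ⟨k, hk⟩ := D.hall.U_pgroup ⟨u, hu⟩
  refine ⟨k, ?_⟩
  have hk' : u ^ 2 ^ k = 1 := by simpa using congrArg Subtype.val hk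
  have e : g⁻¹ * u * g = MulAut.conj g⁻¹ u := by rw [MulAut.conj_apply, inv_inv]
  rw [e, ← map_pow, hk', map_one]

theorem Bt : B ≤ XX V R ⊔ B := le_sup_right

theorem ptr₁ : PTr B U (XX V R ⊔ B) := D.nod.ptr D.bt

/-- every element of `B` is `u h` -/
theorem exists_uh [Finite G] [Fact (Nat.Prime 2)] {b : G} (hb : b ∈ B) : ∃ u ∈ U, ∃ h ∈ H, b = u * h := by
  rw [← D.sup, sup_comm] at hb
  obtain ⟨u, hu, h, hh, rfl⟩ := Solvable.Glauberman.exists_mul_of_mem_sup H U D.hall.H_norm_U hb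
  exact ⟨u, hu, h, hh, rfl⟩

/-- an element of `B` which fixes two points acts on `V` as an element of `H` -/
theorem exists_h [Finite G] [Fact (Nat.Prime 2)] {i₂ : ι} (h12 : i₁ ≠ i₂) (hH : H ≤ normalizer (R i₂ : Set G)) {b : G} (hb : b ∈ B)
    (hb2 : cj b (R i₂) = R i₂) : ∃ u ∈ U, u ∈ centralizer (V : Set G) ∧ ∃ h ∈ H, b = u * h := by
  obtain ⟨u, hu, h, hh, rfl⟩ := D.exists_uh hb
  refine ⟨u, hu, ?_, h, hh, rfl⟩
  refine D.nod.cen_of_fix D.bt hu h12.symm ?_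
  rw [cj_mul, cj_eq_self_iff.2 (hH hh)] at hb2
  exact hb2

/-- the second point fixed by `H`, before the choice of the coordinates -/
theorem exists_fixed [Finite G] [Fact (Nat.Prime 2)] :
    ∃ i₂, i₁ ≠ i₂ ∧ H ≤ normalizer (R i₂ : Set G) := by
  obtain ⟨x, hx, -, -, hxB, -, -⟩ := D.nod.three D.bt
  obtain ⟨n, hn, hnB, hnH⟩ := D.hall.exists_n (P := XX V R ⊔ B) le_sup_right ⟨x, hx, hxB⟩ D.ptr₁
  obtain ⟨k, hk⟩ := D.nod.exists_k D.bt hn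
  refine ⟨k, ?_, ?_⟩
  · rintro rfl
    exact hnB ((D.nod.mem_B_iff D.bt hn).2 hk)
  · intro h hh
    rw [← cj_eq_self_iff, ← hk, ← cj_mul]
    have h1 := conj_inv_mem_of_normalizer hnH hh
    have h2 := cj_eq_self_iff.2 (D.nod.B_R (D.hall.H_le h1))
    have e : h * n = n * (n⁻¹ * h * n) := by group
    rw [e, cj_mul, h2]

/-- a torus element: `h ∈ H` acts on `V` as `diag(a, a⁻¹)` -/
theorem exists_tor [Finite G] [Fact (Nat.Prime 2)] [CharP F 2] {i₂ : ι} (h12 : i₁ ≠ i₂)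
    (hH : H ≤ normalizer (R i₂ : Set G)) {v : F → F → G} {w1 w2 : F → G} (c : Coord V R i₁ i₂ v w1 w2)
    {a : F} (ha : a ≠ 0) : ∃ h ∈ H, (∀ x y, h * v x y * h⁻¹ = v (a * x) (a⁻¹ * y)) ∧
      ∃ u ∈ U, u ∈ centralizer (V : Set G) ∧ hh w1 w2 a = u * h := by
  have h1 : hh w1 w2 a ∈ B := D.nod.X_B ⟨c.hh_mem_X D.bt a, cj_eq_self_iff.1 (c.hh_R1 D.bt ha)⟩
  obtain ⟨u, hu, hc, h, hh', e⟩ := D.exists_h h12 hH h1 (c.hh_R2 D.bt ha)
  refine ⟨h, hh', fun x y => ?_, u, hu, hc, e⟩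
  rw [← c.hh_act ha x y, e]
  have h2 := mem_centralizer_iff.1 hc _ (c.v_mem (a * x) (a⁻¹ * y))
  have e2 : u * h * v x y * (u * h)⁻¹ = u * (h * v x y * h⁻¹) * u⁻¹ := by group
  rw [e2]
  have h3 : h * v x y * h⁻¹ ∈ V := conj_mem_of_normalizer (D.nod.B_V (D.hall.H_le hh')) (c.v_mem x y)
  rw [← mem_centralizer_iff.1 hc _ h3, mul_inv_cancel_right]

/-- an element with two different eigenvalues fixes only two points -/
theorem fix_two' {i₂ : ι} (h12 : i₁ ≠ i₂) {v : F → F → G} {w1 w2 : F → G}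
    (c : Coord V R i₁ i₂ v w1 w2) {a s : F} (ha1 : a ≠ s) {h : G}
    (hact : ∀ x y, h * v x y * h⁻¹ = v (a * x) (s * y)) (k : ι) (hk : cj h (R k) = R k) : k = i₁ ∨ k = i₂ := by
  by_contra hc
  push Not at hc
  obtain ⟨h1, h2⟩ := hc
  obtain ⟨w, hw, e⟩ := D.bt.trans i₁ (Ne.symm h12) h1
  obtain ⟨d, hd⟩ := c.W1_act w hw
  -- `R k = {v (d y) y}`
  have h3 : w * v 0 1 * w⁻¹ ∈ R k := by
    rw [← e]; exact conj_mem_cj ((c.mem_R2 _).2 ⟨1, rfl⟩)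
  rw [hd, zero_add, mul_one] at h3
  have h4 : h * v d 1 * h⁻¹ ∈ R k := by
    rw [← hk]; exact conj_mem_cj h3
  rw [hact, mul_one] at h4
  -- also `w v 0 s w⁻¹ ∈ R k`
  have h5 : w * v 0 s * w⁻¹ ∈ R k := by
    rw [← e]; exact conj_mem_cj ((c.mem_R2 _).2 ⟨_, rfl⟩)
  rw [hd, zero_add] at h5
  have h6 : v (a * d - d * s) 0 ∈ R k := by
    have h7 := mul_mem h4 (inv_mem h5)
    have h8 := c.v_add (a * d - d * s) 0 (d * s) s
    rw [sub_add_cancel, zero_add] at h8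
    rwa [h8, mul_inv_cancel_right] at h7
  have h9 := D.bt.eq_one h1 h6 ((c.mem_R1 _).2 ⟨_, rfl⟩)
  have h10 := (c.v_one _ _ h9).1
  have h11 : d ≠ 0 := by
    rintro rfl
    apply h2
    have h12' : v 0 1 = 1 := by
      refine D.bt.eq_one h2 h3 ((c.mem_R2 _).2 ⟨_, rfl⟩)
    exact absurd (c.v_one _ _ h12').2 one_ne_zero
  have h13 : (a - s) * d = 0 := by rw [← h10]; ring
  rcases mul_eq_zero.1 h13 with h14 | h14
  · exact ha1 (sub_eq_zero.1 h14)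
  · exact absurd h14 h11

/-- a torus element `≠ 1` fixes only two points -/
theorem fix_two [CharP F 2] {i₂ : ι} (h12 : i₁ ≠ i₂) {v : F → F → G} {w1 w2 : F → G}
    (c : Coord V R i₁ i₂ v w1 w2) {a : F} (ha : a ≠ 0) (ha1 : a ≠ 1) {h : G}
    (hact : ∀ x y, h * v x y * h⁻¹ = v (a * x) (a⁻¹ * y)) (k : ι) (hk : cj h (R k) = R k) : k = i₁ ∨ k = i₂ := by
  refine D.fix_two' h12 c ?_ hact k hk
  intro h14
  apply ha1
  have h15 : a * a = 1 := by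
    nth_rw 2 [h14]
    exact mul_inv_cancel₀ ha
  have h16 : (a - 1) * (a - 1) = 0 := by
    have h17 : (2 : F) = 0 := by exact_mod_cast CharP.cast_eq_zero F 2
    have : (a - 1) * (a - 1) = a * a - 1 + 2 * (1 - a) := by ring
    rw [this, h15, h17]; ring
  exact sub_eq_zero.1 (mul_self_eq_zero.1 h16)

/-- `C_U(H)` acts trivially on the panel of `V` -/
theorem fix₁ [Finite G] [Fact (Nat.Prime 2)] [CharP F 2] :
    ∀ c ∈ U, c ∈ centralizer (H : Set G) → c ∈ Qk B (XX V R ⊔ B) := by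
  obtain ⟨i₂, h12, hH⟩ := D.exists_fixed
  obtain ⟨v, w1, w2, c⟩ := D.coord i₂ h12
  obtain ⟨a, ha, ha1⟩ := D.big
  obtain ⟨h, hh', hact, -⟩ := D.exists_tor h12 hH c ha
  intro x hx hxC
  refine D.nod.fpf_of D.bt h12 (cj_eq_self_iff.2 (hH hh')) (fun k hk => D.fix_two h12 c ha ha1 hact k hk) x hx ?_
  have : h * x * h⁻¹ * x⁻¹ = 1 := by
    rw [mem_centralizer_iff.1 hxC h hh']; group
  rw [this]
  exact one_mem _

/-- `H` fixes only two points -/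
theorem fixed_unique [Finite G] [Fact (Nat.Prime 2)] [CharP F 2] {k l : ι} (hk : i₁ ≠ k) (hl : i₁ ≠ l)
    (hHk : H ≤ normalizer (R k : Set G)) (hHl : H ≤ normalizer (R l : Set G)) : k = l := by
  obtain ⟨x, hx, ex⟩ := D.bt.trans_X_one i₁ k
  obtain ⟨y, hy, ey⟩ := D.bt.trans_X_one i₁ l
  have hx' : x ∈ XX V R ⊔ B := mem_sup_left hx
  have hy' : y ∈ XX V R ⊔ B := mem_sup_left hy
  have key : ∀ {z : G} {m : ι}, z ∈ XX V R ⊔ B → cj z (R i₁) = R m → H ≤ normalizer (R m : Set G) →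
      ∀ a ∈ H, z⁻¹ * a * z ∈ B := by
    intro z m hz ez hm a ha
    have haP : a ∈ XX V R ⊔ B := mem_sup_right (D.hall.H_le ha)
    rw [D.nod.mem_B_iff D.bt (mul_mem (mul_mem (inv_mem hz) haP) hz), cj_mul, cj_mul, ez,
      cj_eq_self_iff.2 (hm ha), ← ez, cj_inv_cj]
  have hxB : x ∉ B := fun h => hk (D.bt.R_index (((D.nod.mem_B_iff D.bt hx').1 h).symm.trans ex))
  have hyB : y ∉ B := fun h => hl (D.bt.R_index (((D.nod.mem_B_iff D.bt hy').1 h).symm.trans ey))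
  have h1 := panel_unique D.hall D.ptr₁ D.fix₁ hx' hxB hy' hyB (key hx' ex hHk) (key hy' ey hHl)
  rw [D.nod.coset D.bt hx' hy', ex, ey] at h1
  exact D.bt.R_index h1

end Base

/-- The reflections. -/
structure Fr (V : Subgroup G) (R : ι → Subgroup G) (U B H P₂ : Subgroup G) (i₁ i₂ : ι) (n₁ n₂ : G) : Prop where
  ne : i₁ ≠ i₂
  H_R : H ≤ normalizer (R i₂ : Set G)
  n₁_mem : n₁ ∈ XX V R ⊔ B
  n₁_XU : n₁ ∈ XX V R ⊔ U
  n₁_not : n₁ ∉ B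
  n₁_H : n₁ ∈ normalizer (H : Set G)
  n₂_mem : n₂ ∈ P₂
  n₂_not : n₂ ∉ B
  n₂_H : n₂ ∈ normalizer (H : Set G)
  /-- `n₁` interchanges the two points -/
  n₁_1 : rc (R i₁) n₁ = R i₂
  n₁_2 : rc (R i₂) n₁ = R i₁

namespace Base

variable {F : Type*} [Field F] {V : Subgroup G} {R : ι → Subgroup G} {U B H P₂ : Subgroup G} {i₁ : ι}
  (D : Base F V R U B H P₂ i₁) [Finite G] [Fact (Nat.Prime 2)] [CharP F 2]
include D

/-- the reflections; `n₂` can be chosen in any coset `U g U` -/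
theorem exists_fr_of {y : G} (hy : y ∈ P₂) (hyB : y ∉ B) :
    ∃ i₂ n₁ n₂, Fr V R U B H P₂ i₁ i₂ n₁ n₂ ∧ ∃ u ∈ U, ∃ w ∈ U, n₂ = u * y * w := by
  obtain ⟨m, hm, -⟩ := D.bt.third i₁ i₁
  obtain ⟨x, hx, ex⟩ := D.bt.trans_X_one i₁ m
  have hxP : x ∈ XX V R ⊔ B := mem_sup_left hx
  have hxB : x ∉ B := fun h => hm (D.bt.R_index (ex.symm.trans ((D.nod.mem_B_iff D.bt hxP).1 h)))
  obtain ⟨u, hu, w, hw, hn₁H⟩ := exists_n_of D.hall le_sup_right D.ptr₁ hxP hxB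
  obtain ⟨u', hu', w', hw', hn₂H⟩ := exists_n_of D.hall D.le₂ D.ptr₂ hy hyB
  have hUB := D.nod.U_le
  set n₁ := u * x * w with hn₁def
  have hn₁ : n₁ ∈ XX V R ⊔ B := mul_mem (mul_mem (mem_sup_right (hUB hu)) hxP) (mem_sup_right (hUB hw))
  have hn₁U : n₁ ∈ XX V R ⊔ U := mul_mem (mul_mem (mem_sup_right hu) (mem_sup_left hx)) (mem_sup_right hw)
  have hn₁B : n₁ ∉ B := fun h => hxB (by
    have := mul_mem (mul_mem (inv_mem (hUB hu)) h) (inv_mem (hUB hw))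
    have e : u⁻¹ * n₁ * w⁻¹ = x := by rw [hn₁def]; group
    rwa [e] at this)
  have hn₂ : u' * y * w' ∈ P₂ := mul_mem (mul_mem (D.le₂ (hUB hu')) hy) (D.le₂ (hUB hw'))
  have hn₂B : u' * y * w' ∉ B := fun h => hyB (by
    have := mul_mem (mul_mem (inv_mem (hUB hu')) h) (inv_mem (hUB hw'))
    have e : u'⁻¹ * (u' * y * w') * w'⁻¹ = y := by group
    rwa [e] at this)
  have key : ∀ {n : G} {k : ι}, n ∈ XX V R ⊔ B → n ∉ B → n ∈ normalizer (H : Set G) → cj n (R i₁) = R k →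
      i₁ ≠ k ∧ H ≤ normalizer (R k : Set G) := by
    intro n k hn hnB hnH hk
    refine ⟨?_, ?_⟩
    · rintro rfl
      exact hnB ((D.nod.mem_B_iff D.bt hn).2 hk)
    · intro h hh
      rw [← cj_eq_self_iff, ← hk, ← cj_mul]
      have h1 := conj_inv_mem_of_normalizer hnH hh
      have h2 := cj_eq_self_iff.2 (D.nod.B_R (D.hall.H_le h1))
      have e : h * n = n * (n⁻¹ * h * n) := by group
      rw [e, cj_mul, h2]
  obtain ⟨k, hk⟩ := D.nod.exists_k D.bt hn₁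
  obtain ⟨l, hl⟩ := D.nod.exists_k D.bt (inv_mem hn₁)
  obtain ⟨k1, k2⟩ := key hn₁ hn₁B hn₁H hk
  obtain ⟨l1, l2⟩ := key (inv_mem hn₁) (fun h => hn₁B (by simpa using inv_mem h)) (inv_mem hn₁H) hl
  have hkl := D.fixed_unique k1 l1 k2 l2
  subst hkl
  refine ⟨k, n₁, u' * y * w', ⟨k1, k2, hn₁, hn₁U, hn₁B, hn₁H, hn₂, hn₂B, hn₂H, ?_, ?_⟩, u', hu', w', hw', rfl⟩
  · rw [rc_eq_cj, hl]
  · rw [← hk, rc_cj]

theorem exists_fr : ∃ i₂ n₁ n₂, Fr V R U B H P₂ i₁ i₂ n₁ n₂ := by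
  obtain ⟨y, hy, -, -, hyB, -, -⟩ := D.three₂
  obtain ⟨i₂, n₁, n₂, E, -⟩ := D.exists_fr_of hy hyB
  exact ⟨i₂, n₁, n₂, E⟩

/-- the reflections, `n₂` centralises `R i₁` -/
theorem exists_fr_cen (hC : P₂ ≤ (P₂ ⊓ centralizer (R i₁ : Set G)) ⊔ B) :
    ∃ i₂ n₁ n₂, Fr V R U B H P₂ i₁ i₂ n₁ n₂ ∧ n₂ ∈ centralizer (R i₁ : Set G) := by
  have h1 : ∃ y ∈ P₂ ⊓ centralizer (R i₁ : Set G), y ∉ B := by
    by_contra hc
    push Not at hc
    obtain ⟨y, hy, -, -, hyB, -, -⟩ := D.three₂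
    exact hyB ((hC.trans (sup_le hc le_rfl)) hy)
  obtain ⟨y, hy, hyB⟩ := h1
  obtain ⟨i₂, n₁, n₂, E, u, hu, w, hw, rfl⟩ := D.exists_fr_of (mem_inf.1 hy).1 hyB
  have hU : U ≤ centralizer (R i₁ : Set G) := by
    intro u hu
    rw [mem_centralizer_iff]
    intro r hr
    have := D.nod.UR u hu r hr
    rw [mul_inv_eq_iff_eq_mul] at this
    exact this.symm
  exact ⟨i₂, n₁, _, E, mul_mem (mul_mem (hU hu) (mem_inf.1 hy).2) (hU hw)⟩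

variable {i₂ : ι} {n₁ n₂ : G} (E : Fr V R U B H P₂ i₁ i₂ n₁ n₂)
include E

theorem n₁_sq : n₁ * n₁ ∈ B := sq_mem_of_norm D.hall D.ptr₁ D.fix₁ le_sup_right E.n₁_mem E.n₁_not E.n₁_H

theorem n₂_sq : n₂ * n₂ ∈ B := sq_mem_of_norm D.hall D.ptr₂ D.fix₂ D.le₂ E.n₂_mem E.n₂_not E.n₂_H

/-- an element of `B` normalising `H` fixes `R i₂` -/
theorem norm_R₂ {c : G} (hc : c ∈ B) (hcH : c ∈ normalizer (H : Set G)) : cj c (R i₂) = R i₂ := by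
  obtain ⟨k, hk⟩ := D.bt.perm c (D.nod.B_V hc) i₂
  have h1 : i₁ ≠ k := by
    rintro rfl
    have h2 := cj_eq_self_iff.2 (D.nod.B_R hc)
    exact E.ne (D.bt.R_index (cj_injective (h2.trans hk.symm)))
  have h2 : H ≤ normalizer (R k : Set G) := by
    intro h hh
    rw [← cj_eq_self_iff, ← hk, ← cj_mul]
    have h3 := conj_inv_mem_of_normalizer hcH hh
    have h4 := cj_eq_self_iff.2 (E.H_R h3)
    have e : h * c = c * (c⁻¹ * h * c) := by group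
    rw [e, cj_mul, h4]
  rw [hk, D.fixed_unique h1 E.ne h2 E.H_R]

theorem n₂_R : rc (R i₁) n₂ = R i₁ := rc_eq_of_mem_normalizer (D.P₂_R E.n₂_mem)

theorem n₂_V : n₂ ∉ normalizer (V : Set G) := fun h => E.n₂_not (D.NV₂ ⟨E.n₂_mem, h⟩)

theorem n₁_V : n₁ ∈ normalizer (V : Set G) := D.nod.P_V D.bt E.n₁_mem

theorem V_eq : V = R i₁ ⊔ R i₂ := (D.bt.R_sup i₁ i₂ E.ne).symm

/-- the inverse of `n₁` -/
theorem n₁_1' : rc (R i₁) n₁⁻¹ = R i₂ := by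
  rw [← E.n₁_2, rc_rc, mul_inv_cancel, rc_one]

theorem n₁_2' : rc (R i₂) n₁⁻¹ = R i₁ := by
  rw [← E.n₁_1, rc_rc, mul_inv_cancel, rc_one]

theorem U₁_n₁ : rc (UU V R i₁) n₁ = UU V R i₂ := by
  rw [rc_eq_cj]
  refine D.bt.cj_UU (inv_mem (D.n₁_V E)) ?_
  rw [← rc_eq_cj, E.n₁_1]

theorem U₂_n₁ : rc (UU V R i₂) n₁ = UU V R i₁ := by
  rw [rc_eq_cj]
  refine D.bt.cj_UU (inv_mem (D.n₁_V E)) ?_
  rw [← rc_eq_cj, E.n₁_2]

theorem W₁_n₁ : rc (WW V (R i₁)) n₁ = WW V (R i₂) := by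
  rw [rc_eq_cj]
  refine D.bt.cj_WW ?_
  rw [← rc_eq_cj, E.n₁_1]

theorem W₁_n₂ : rc (WW V (R i₁)) n₂ = WW V (R i₁) :=
  rc_eq_of_mem_normalizer (normalizer_le_WW V (R i₁) (D.P₂_R E.n₂_mem))

/-- `H` normalises `U₁` -/
theorem B_U₁ : B ≤ normalizer (UU V R i₁ : Set G) := by
  intro x hx
  rw [← cj_eq_self_iff]
  exact D.bt.cj_UU (D.nod.B_V hx) (cj_eq_self_iff.2 (D.nod.B_R hx))

theorem U₁_sq : rc (UU V R i₁) (n₂ * n₂) = UU V R i₁ :=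
  rc_eq_of_mem_normalizer (D.B_U₁ E (D.n₂_sq E))

theorem U₁_n₂_le : rc (UU V R i₁) n₂ ≤ WW V (R i₁) := by
  rw [← D.W₁_n₂ E]
  exact rc_mono (UU_le_WW i₁) n₂

theorem U₁_n₂_inv : rc (UU V R i₁) n₂⁻¹ = rc (UU V R i₁) n₂ := by
  conv_lhs => rw [← D.U₁_sq E]
  rw [rc_rc, mul_assoc, mul_inv_cancel, mul_one]

/-- `H` normalises `U₁^n₂` -/
theorem H_U₁ {h : G} (hh : h ∈ H) : rc (rc (UU V R i₁) n₂) h = rc (UU V R i₁) n₂ := by
  have h1 : n₂ * h * n₂⁻¹ ∈ H := conj_mem_of_normalizer E.n₂_H hh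
  have h2 := rc_eq_of_mem_normalizer (D.B_U₁ E (D.hall.H_le h1))
  have e : n₂ * h = (n₂ * h * n₂⁻¹) * n₂ := by group
  rw [rc_rc, e, ← rc_rc, h2]

/-- `U₁` and its conjugate generate `W₁` -/
theorem cover₁ [Finite F] (hU : ¬ rc (UU V R i₁) n₂ ≤ centralizer (V : Set G)) {w : G}
    (hw : w ∈ WW V (R i₁)) : ∃ x ∈ rc (UU V R i₁) n₂, x⁻¹ * w ∈ UU V R i₁ := by
  obtain ⟨v, w1, w2, c⟩ := D.coord i₂ E.ne
  obtain ⟨x, hx, hxV⟩ := Set.not_subset.1 hU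
  have hxV : x ∉ centralizer (V : Set G) := hxV
  have hxW := D.U₁_n₂_le E hx
  obtain ⟨a, ha⟩ := c.W1_act x hxW
  obtain ⟨d, hd⟩ := c.W1_act w hw
  have ha0 : a ≠ 0 := by
    rintro rfl
    apply hxV
    rw [mem_centralizer_iff]
    intro y hy
    obtain ⟨p, q, rfl⟩ := (c.mem_V y).1 hy
    have := ha p q
    rw [zero_mul, add_zero, mul_inv_eq_iff_eq_mul] at this
    exact this.symm
  by_cases hd0 : d = 0
  · refine ⟨1, one_mem _, ?_⟩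
    rw [inv_one, one_mul]
    refine mem_inf.2 ⟨hw, ?_⟩
    rw [mem_centralizer_iff]
    intro y hy
    obtain ⟨p, q, rfl⟩ := (c.mem_V y).1 hy
    have := hd p q
    rw [hd0, zero_mul, add_zero, mul_inv_eq_iff_eq_mul] at this
    exact this.symm
  -- `s² a = d`
  obtain ⟨s, hs⟩ := FiniteField.isSquare_of_char_two (F := F) (ringChar.eq F 2) (d / a)
  have hs' : s * s * a = d := by rw [← hs]; field_simp
  have hs0 : s ≠ 0 := by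
    rintro rfl
    apply hd0
    rw [← hs', zero_mul, zero_mul]
  obtain ⟨h, hh', hact, -⟩ := D.exists_tor E.ne E.H_R c hs0
  have h1 : h * x * h⁻¹ ∈ rc (UU V R i₁) n₂ := by
    have h2 := D.H_U₁ E (inv_mem hh')
    rw [← h2, mem_rc]
    have e : h⁻¹ * (h * x * h⁻¹) * h⁻¹⁻¹ = x := by group
    rwa [e]
  have hactinv : ∀ p q, h⁻¹ * v p q * h = v (s⁻¹ * p) (s * q) := by
    intro p q
    have h2 := hact (s⁻¹ * p) (s * q)
    rw [← mul_assoc, ← mul_assoc, mul_inv_cancel₀ hs0, inv_mul_cancel₀ hs0, one_mul, one_mul] at h2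
    rw [← h2]; group
  refine ⟨_, h1, ?_⟩
  refine mem_inf.2 ⟨mul_mem (inv_mem (D.U₁_n₂_le E h1)) hw, ?_⟩
  -- the action of `h x h⁻¹` is that of `w`
  have h2 : ∀ p q, h * x * h⁻¹ * v p q * (h * x * h⁻¹)⁻¹ = v (p + d * q) q := by
    intro p q
    have e : h * x * h⁻¹ * v p q * (h * x * h⁻¹)⁻¹ = h * (x * (h⁻¹ * v p q * h) * x⁻¹) * h⁻¹ := by group
    rw [e, hactinv, ha, hact]
    congr 1
    · rw [mul_add, ← mul_assoc, mul_inv_cancel₀ hs0, one_mul, ← hs']; ring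
    · rw [← mul_assoc, inv_mul_cancel₀ hs0, one_mul]
  rw [mem_centralizer_iff]
  intro y hy
  obtain ⟨p, q, rfl⟩ := (c.mem_V y).1 hy
  have h3 : w * v p q * w⁻¹ = h * x * h⁻¹ * v p q * (h * x * h⁻¹)⁻¹ := by rw [hd, h2]
  generalize h * x * h⁻¹ = z at h3
  have h4 : z⁻¹ * w * v p q = v p q * (z⁻¹ * w) := by
    have h5 : w * v p q = z * v p q * z⁻¹ * w := by rw [← h3]; group
    calc z⁻¹ * w * v p q = z⁻¹ * (w * v p q) := by group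
      _ = z⁻¹ * (z * v p q * z⁻¹ * w) := by rw [h5]
      _ = v p q * (z⁻¹ * w) := by group
  exact h4.symm

/-- `U = U₁^n₂ C_U(V)` -/
theorem cover_U [Finite F] (hU : ¬ rc (UU V R i₁) n₂ ≤ centralizer (V : Set G)) {u : G} (hu : u ∈ U) :
    ∃ x ∈ rc (UU V R i₁) n₂, x⁻¹ * u ∈ U ∧ x⁻¹ * u ∈ centralizer (V : Set G) := by
  obtain ⟨k, hk⟩ := D.bt.perm u (D.nod.B_V (D.nod.U_le hu)) i₂
  have hk1 : k ≠ i₁ := by
    rintro rfl
    have h2 := cj_eq_self_iff.2 (D.nod.B_R (D.nod.U_le hu))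
    exact E.ne (D.bt.R_index (cj_injective (h2.trans hk.symm)))
  obtain ⟨w, hw, e⟩ := D.bt.trans i₁ (Ne.symm E.ne) hk1
  obtain ⟨x, hx, hxw⟩ := D.cover₁ E hU hw
  have hxU : x ∈ U := D.nod.W_le (D.U₁_n₂_le E hx)
  refine ⟨x, hx, mul_mem (inv_mem hxU) hu, ?_⟩
  have h1 : w⁻¹ * u ∈ U := mul_mem (inv_mem (D.nod.W_le hw)) hu
  have h2 : w⁻¹ * u ∈ centralizer (V : Set G) := by
    refine D.nod.cen_of_fix D.bt h1 (Ne.symm E.ne) ?_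
    rw [cj_mul, hk, ← e, cj_inv_cj]
  have := mul_mem (UU_le_cen i₁ hxw) h2
  have e : x⁻¹ * w * (w⁻¹ * u) = x⁻¹ * u := by group
  rwa [e] at this

/-- the action of `n₁` on `V` -/
theorem n₁_act {v : F → F → G} {w1 w2 : F → G} (c : Coord V R i₁ i₂ v w1 w2) {b : G} {p s : F}
    (hact : ∀ x y, b * v x y * b⁻¹ = v (p * x) (s * y)) (x y : F) :
    n₁ * b * n₁⁻¹ * v x y * (n₁ * b * n₁⁻¹)⁻¹ = v (s * x) (p * y) := by
  -- `n₁ = z u`, `z ∈ X`, and `U` acts as `W₁`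
  have hXU : ∀ g ∈ XX V R ⊔ U, ∃ A, ActV v g A := by
    intro g hg
    have hn : U ≤ normalizer (XX V R : Set G) := D.nod.U_le.trans (D.nod.B_X D.bt)
    rw [sup_comm] at hg
    obtain ⟨z, hz, u, hu, rfl⟩ := Solvable.Glauberman.exists_mul_of_mem_sup U (XX V R) hn hg
    obtain ⟨A, hA⟩ := c.exists_actV D.bt hz
    -- `u = w c`
    obtain ⟨k, hk⟩ := D.bt.perm u (D.nod.B_V (D.nod.U_le hu)) i₂
    have hk1 : k ≠ i₁ := by
      rintro rfl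
      have h2 := cj_eq_self_iff.2 (D.nod.B_R (D.nod.U_le hu))
      exact E.ne (D.bt.R_index (cj_injective (h2.trans hk.symm)))
    obtain ⟨w, hw, e⟩ := D.bt.trans i₁ (Ne.symm E.ne) hk1
    have h1 : w⁻¹ * u ∈ U := mul_mem (inv_mem (D.nod.W_le hw)) hu
    have h2 : w⁻¹ * u ∈ centralizer (V : Set G) := by
      refine D.nod.cen_of_fix D.bt h1 (Ne.symm E.ne) ?_
      rw [cj_mul, hk, ← e, cj_inv_cj]
    obtain ⟨A', hA'⟩ := c.exists_actV D.bt (W_le_X V R i₁ hw)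
    have h3 : ActV v (w⁻¹ * u) 1 := (c.actV_one_iff).2 h2
    have h4 := hA'.mul h3
    rw [mul_inv_cancel_left] at h4
    exact ⟨_, hA.mul h4⟩
  obtain ⟨A, hA⟩ := hXU n₁ E.n₁_XU
  have h1 : cj n₁ (R i₁) = R i₂ := cj_eq_iff_rc.2 E.n₁_2
  have h2 : cj n₁ (R i₂) = R i₁ := cj_eq_iff_rc.2 E.n₁_1
  have h00 : ent A 0 0 = 0 := by
    have h3 : n₁ * v 1 0 * n₁⁻¹ ∈ R i₂ := by rw [← h1]; exact conj_mem_cj ((c.mem_R1 _).2 ⟨1, rfl⟩)
    rw [hA, mul_one, mul_zero, add_zero, mul_one, mul_zero, add_zero] at h3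
    obtain ⟨d, hd⟩ := (c.mem_R2 _).1 h3
    exact (c.v_inj hd).1.symm
  have h11 : ent A 1 1 = 0 := by
    have h3 : n₁ * v 0 1 * n₁⁻¹ ∈ R i₁ := by rw [← h2]; exact conj_mem_cj ((c.mem_R2 _).2 ⟨1, rfl⟩)
    rw [hA, mul_one, mul_zero, zero_add, mul_one, mul_zero, zero_add] at h3
    obtain ⟨d, hd⟩ := (c.mem_R1 _).1 h3
    exact (c.v_inj hd).2.symm
  have hdet := det_eq A
  rw [h00, zero_mul, zero_sub] at hdet
  have hinv := hA.inv x y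
  rw [ent_inv A, mk_00, mk_01, mk_10, mk_11, h00, h11] at hinv
  have e : n₁ * b * n₁⁻¹ * v x y * (n₁ * b * n₁⁻¹)⁻¹ = n₁ * (b * (n₁⁻¹ * v x y * n₁⁻¹⁻¹) * b⁻¹) * n₁⁻¹ := by group
  rw [e, hinv, hact, hA, h00, h11]
  congr 1
  · linear_combination s * x * hdet
  · linear_combination p * y * hdet

end Base

end Cfsg.Agent.Omega.HOne.End

end

section


/-!
# II.0h1, END: the pair (node of `V`, node `j`), residue of type A2

`PairA`: `M` is a subgroup of order `q³` of `D`, invariant under both minimal parabolic subgroups, `V` and its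
conjugates under `P₂` are its lines through `R i₁`.
-/

set_option autoImplicit false
set_option linter.unusedSectionVars false

namespace Cfsg.Agent.Omega.HOne.End

open Subgroup Cfsg.Agent.Omega.BTwo Cfsg.Agent.RankTwoClose
open Cfsg.Agent.ParSys (Qk FpfG SepG Polygon mem_Qk Qk_le Qk_conj Qk_conj')
open Cfsg.Agent.ParSys.Hall (HallData)
open Cfsg.Agent.ParSys.Hall.HallData (PTr)
open scoped commutatorElement

variable {G : Type*} [Group G] {ι : Type*}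

/-- the elements `m` of `N(Z)` with `[q, m] ∈ Z` -/
def CZ (q : G) (Z : Subgroup G) : Subgroup G where
  carrier := {m | m ∈ normalizer (Z : Set G) ∧ q * m * q⁻¹ * m⁻¹ ∈ Z}
  one_mem' := ⟨one_mem _, by
    have : q * 1 * q⁻¹ * 1⁻¹ = 1 := by group
    rw [this]; exact one_mem _⟩
  mul_mem' := by
    rintro a b ⟨ha, ha'⟩ ⟨hb, hb'⟩
    refine ⟨mul_mem ha hb, ?_⟩
    have h1 := mul_mem ha' (BTwo.conj_mem_of_normalizer ha hb')
    have e : q * a * q⁻¹ * a⁻¹ * (a * (q * b * q⁻¹ * b⁻¹) * a⁻¹) = q * (a * b) * q⁻¹ * (a * b)⁻¹ := by group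
    rwa [e] at h1
  inv_mem' := by
    rintro a ⟨ha, ha'⟩
    refine ⟨inv_mem ha, ?_⟩
    have h1 := conj_inv_mem_of_normalizer ha (inv_mem ha')
    have e : a⁻¹ * (q * a * q⁻¹ * a⁻¹)⁻¹ * a = q * a⁻¹ * q⁻¹ * a⁻¹⁻¹ := by group
    rwa [e] at h1

theorem mem_CZ {q m : G} {Z : Subgroup G} :
    m ∈ CZ q Z ↔ m ∈ normalizer (Z : Set G) ∧ q * m * q⁻¹ * m⁻¹ ∈ Z := Iff.rfl

/-- **The pair (node of `V`, node `j`), residue of type A2.** -/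
structure PairA (F : Type*) [Field F] (V : Subgroup G) (R : ι → Subgroup G) (U B H P₂ M : Subgroup G)
    (i₁ : ι) : Prop extends Base F V R U B H P₂ i₁ where
  V_M : V ≤ M
  M_D : M ≤ DD V R
  P₂_M : P₂ ≤ normalizer (M : Set G)
  /-- the conjugates of `V` are the lines of `M` through `R i₁` -/
  span : ∀ k ∈ P₂, k ∉ B → M ≤ V ⊔ cj k V
  meet : ∀ k ∈ P₂, k ∉ B → V ⊓ cj k V ≤ R i₁
  U₁_M : ¬ UU V R i₁ ≤ centralizer (M : Set G)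
  /-- `Y` is transitive on the lines `≠ V` -/
  cov₂ : ∀ u ∈ U, ∃ x ∈ YY V R, x⁻¹ * u ∈ Qk B P₂

/-- the normaliser condition of `Base` -/
theorem NV₂_of {V : Subgroup G} {R : ι → Subgroup G} {B P₂ M : Subgroup G} {i₁ : ι} (b : BT V R)
    (span : ∀ k ∈ P₂, k ∉ B → M ≤ V ⊔ cj k V) (U₁_M : ¬ UU V R i₁ ≤ centralizer (M : Set G)) :
    P₂ ⊓ normalizer (V : Set G) ≤ B := by
  have _ := b
  rintro k ⟨hk, hkV⟩
  by_contra hkB
  have h1 := span k hk hkB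
  rw [cj_eq_self_iff.2 hkV, sup_idem] at h1
  exact U₁_M ((UU_le_cen i₁).trans (centralizer_le h1))

namespace PairA

variable {F : Type*} [Field F] {V : Subgroup G} {R : ι → Subgroup G} {U B H P₂ M : Subgroup G} {i₁ : ι}
  (D : PairA F V R U B H P₂ M i₁)
include D

theorem M_comm {a b : G} (ha : a ∈ M) (hb : b ∈ M) : a * b = b * a := D.bt.D_comm (D.M_D ha) (D.M_D hb)

theorem X_M : XX V R ≤ normalizer (M : Set G) :=
  le_normalizer_of fun x hx m hm => by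
    have h1 := D.V_M (D.bt.XD hx (D.M_D hm))
    have := mul_mem h1 hm
    rwa [inv_mul_cancel_right] at this

theorem P₁_M : XX V R ⊔ B ≤ normalizer (M : Set G) := sup_le D.X_M (D.le₂.trans D.P₂_M)

theorem W_Qk : WW V (R i₁) ≤ Qk B P₂ := by
  intro w hw g hg
  exact D.nod.U_le (D.nod.W_le (conj_inv_mem_of_normalizer (normalizer_le_WW V (R i₁) (D.P₂_R hg)) hw))

theorem cov {i₂ : ι} (h12 : i₁ ≠ i₂) {u : G} (hu : u ∈ U) : ∃ x ∈ UU V R i₂, x⁻¹ * u ∈ Qk B P₂ := by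
  obtain ⟨y, hy, hq⟩ := D.cov₂ u hu
  rw [D.bt.Y_eq (Ne.symm h12)] at hy
  obtain ⟨z, hz, x, hx, rfl⟩ := Solvable.Glauberman.exists_mul_of_mem_sup (UU V R i₂) (UU V R i₁)
    ((UU_le_cen i₂).trans (D.bt.cen_le_NU i₁)) hy
  refine ⟨x, hx, ?_⟩
  have hxP : x ∈ P₂ := D.le₂ (D.nod.U_le (D.U_UU i₂ hx))
  have h1 := Qk_conj (D.W_Qk (UU_le_WW i₁ hz)) hxP
  have h2 := mul_mem h1 hq
  have e : x⁻¹ * z * x * ((z * x)⁻¹ * u) = x⁻¹ * u := by group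
  rwa [e] at h2

variable [Finite G] [Fact (Nat.Prime 2)] [CharP F 2] {i₂ : ι} {n₁ n₂ : G} (E : Fr V R U B H P₂ i₁ i₂ n₁ n₂)
include E

/-- the third point -/
theorem V_n₂ : rc V n₂ = R i₁ ⊔ rc (R i₂) n₂ := by
  have h := D.V_eq E
  conv_lhs => rw [h]
  rw [rc_sup, D.n₂_R E]

theorem M_n₂ : rc M n₂ = M := rc_eq_of_mem_normalizer (D.P₂_M E.n₂_mem)

theorem M_n₁ : rc M n₁ = M := rc_eq_of_mem_normalizer (D.P₁_M E.n₁_mem)

theorem R₃_M : rc (R i₂) n₂ ≤ M := by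
  rw [← D.M_n₂ E]
  exact rc_mono ((D.bt.R_le i₂).trans D.V_M) n₂

theorem n₂_inv_not : n₂⁻¹ ∉ B := fun h => E.n₂_not (by simpa using inv_mem h)

theorem M_le : M ≤ V ⊔ rc (R i₂) n₂ := by
  have h1 := D.span n₂⁻¹ (inv_mem E.n₂_mem) (D.n₂_inv_not E)
  rw [← rc_eq_cj, D.V_n₂ E] at h1
  refine h1.trans (sup_le le_sup_left (sup_le ((D.bt.R_le i₁).trans le_sup_left) le_sup_right))

theorem R₃_V {x : G} (hx : x ∈ V) (hx' : x ∈ rc (R i₂) n₂) : x = 1 := by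
  have h1 := D.meet n₂⁻¹ (inv_mem E.n₂_mem) (D.n₂_inv_not E)
  rw [← rc_eq_cj] at h1
  have h2 : x ∈ R i₁ := h1 ⟨hx, rc_mono (D.bt.R_le i₂) n₂ hx'⟩
  rw [← D.n₂_R E, mem_rc] at h2
  rw [mem_rc] at hx'
  have h3 := D.bt.eq_one E.ne h2 hx'
  have e : x = n₂⁻¹ * (n₂ * x * n₂⁻¹) * n₂ := by group
  rw [e, h3]; group

/-- `U ∩ Qk` acts trivially on `M / R i₁` -/
theorem Qk_M {q m : G} (hq : q ∈ U) (hqQ : q ∈ Qk B P₂) (hm : m ∈ M) : q * m * q⁻¹ * m⁻¹ ∈ R i₁ := by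
  have hR : M ≤ normalizer (R i₁ : Set G) := le_normalizer_of fun x hx y hy => by
    rw [D.M_comm hx (D.V_M (D.bt.R_le i₁ hy)), mul_inv_cancel_right]
    exact hy
  have h1 : V ≤ CZ q (R i₁) := fun v hv => ⟨hR (D.V_M hv), D.nod.UV q hq v hv⟩
  have h2 : rc (R i₂) n₂ ≤ CZ q (R i₁) := by
    intro r hr
    refine ⟨hR (D.R₃_M E hr), ?_⟩
    have h3 : n₂ * q * n₂⁻¹ ∈ U := by
      have h4 : n₂⁻¹⁻¹ * q * n₂⁻¹ ∈ U := D.two_elt hq (Qk_le _ _ (Qk_conj hqQ (inv_mem E.n₂_mem)))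
      rwa [inv_inv] at h4
    have h4 := D.nod.UV _ h3 _ (D.bt.R_le i₂ (mem_rc.1 hr))
    have h5 : q * r * q⁻¹ * r⁻¹ ∈ rc (R i₁) n₂ := by
      rw [mem_rc]
      have e : n₂ * (q * r * q⁻¹ * r⁻¹) * n₂⁻¹ =
          n₂ * q * n₂⁻¹ * (n₂ * r * n₂⁻¹) * (n₂ * q * n₂⁻¹)⁻¹ * (n₂ * r * n₂⁻¹)⁻¹ := by group
      rwa [e]
    rwa [D.n₂_R E] at h5
  exact ((D.M_le E).trans (sup_le h1 h2) hm).2

/-- `[M, U] ≤ V` -/
theorem U_M {u m : G} (hu : u ∈ U) (hm : m ∈ M) : u * m * u⁻¹ * m⁻¹ ∈ V := by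
  obtain ⟨x, hx, hq⟩ := D.cov E.ne hu
  have hxX : x ∈ XX V R := YY_le_XX (UU_le_YY i₂ hx)
  have h1 := D.bt.XD hxX (D.M_D hm)
  have h2 := D.bt.R_le i₁ (D.Qk_M E (mul_mem (inv_mem (D.U_UU i₂ hx)) hu) hq hm)
  have h3 := mul_mem (BTwo.conj_mem_of_normalizer (D.bt.X_le_NV hxX) h2) h1
  have e : x * (x⁻¹ * u * m * (x⁻¹ * u)⁻¹ * m⁻¹) * x⁻¹ * (x * m * x⁻¹ * m⁻¹) = u * m * u⁻¹ * m⁻¹ := by group
  rwa [e] at h3

/-- an `H`-invariant subgroup of `M` which meets `V` trivially is in `R₃` -/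
theorem le_R₃ {K : Subgroup G} (hK : K ≤ M) (hH : ∀ h ∈ H, rc K h = K) (hV : ∀ x ∈ K, x ∈ V → x = 1) :
    K ≤ rc (R i₂) n₂ := by
  obtain ⟨v, w1, w2, c⟩ := D.coord i₂ E.ne
  obtain ⟨a, ha, ha1⟩ := D.big
  obtain ⟨h, hh', hact, u, hu, huV, e⟩ := D.exists_tor E.ne E.H_R c ha
  have h1 : ∀ m ∈ M, h * m * h⁻¹ * m⁻¹ ∈ V := by
    intro m hm
    have h2 := D.bt.XD (c.hh_mem_X D.bt a) (D.M_D hm)
    have h3 := D.U_M E (inv_mem hu) hm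
    have h4 := mul_mem (conj_inv_mem_of_normalizer (cen_le_NV V huV) h2) h3
    have e2 : u⁻¹ * (hh w1 w2 a * m * (hh w1 w2 a)⁻¹ * m⁻¹) * u * (u⁻¹ * m * u⁻¹⁻¹ * m⁻¹) =
        h * m * h⁻¹ * m⁻¹ := by rw [e]; group
    rwa [e2] at h4
  intro r hr
  have hrM := hK hr
  -- `r` commutes with `h`
  have h2 : h * r * h⁻¹ = r := by
    have h3 : h * r * h⁻¹ ∈ K := by
      have := hH h⁻¹ (inv_mem hh')
      rw [← this, mem_rc]
      have e3 : h⁻¹ * (h * r * h⁻¹) * h⁻¹⁻¹ = r := by group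
      rwa [e3]
    exact mul_inv_eq_one.1 (hV _ (mul_mem h3 (inv_mem hr)) (h1 r hrM))
  -- decompose
  have hn : rc (R i₂) n₂ ≤ normalizer (V : Set G) := le_normalizer_of fun x hx y hy => by
    rw [D.M_comm (D.R₃_M E hx) (D.V_M hy), mul_inv_cancel_right]
    exact hy
  have h3 := D.M_le E hrM
  rw [sup_comm] at h3
  obtain ⟨x, hx, s, hs, rfl⟩ := Solvable.Glauberman.exists_mul_of_mem_sup _ V hn h3
  have h4 : h * s * h⁻¹ = s := by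
    have h5 : h * s * h⁻¹ ∈ rc (R i₂) n₂ := by
      rw [mem_rc]
      have h6 : n₂ * h * n₂⁻¹ ∈ H := BTwo.conj_mem_of_normalizer E.n₂_H hh'
      have h7 := BTwo.conj_mem_of_normalizer (E.H_R h6) (mem_rc.1 hs)
      have e3 : n₂ * h * n₂⁻¹ * (n₂ * s * n₂⁻¹) * (n₂ * h * n₂⁻¹)⁻¹ = n₂ * (h * s * h⁻¹) * n₂⁻¹ := by group
      rwa [e3] at h7
    exact mul_inv_eq_one.1 (D.R₃_V E (h1 s (D.R₃_M E hs)) (mul_mem h5 (inv_mem hs)))
  have h5 : h * x * h⁻¹ = x := by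
    have h6 : h * x * h⁻¹ * (h * s * h⁻¹) = x * s := by
      rw [← h2]; group
    rw [h4] at h6
    exact mul_right_cancel h6
  obtain ⟨p, q, rfl⟩ := (c.mem_V x).1 hx
  rw [hact] at h5
  obtain ⟨h6, h7⟩ := c.v_inj h5
  have hp : p = 0 := by
    have : (a - 1) * p = 0 := by rw [sub_mul, h6, one_mul, sub_self]
    exact (mul_eq_zero.1 this).resolve_left (sub_ne_zero.2 ha1)
  have hq : q = 0 := by
    have : (a⁻¹ - 1) * q = 0 := by rw [sub_mul, h7, one_mul, sub_self]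
    refine (mul_eq_zero.1 this).resolve_left (sub_ne_zero.2 fun h => ha1 ?_)
    rw [← inv_inv a, h, inv_one]
  rw [hp, hq, c.v_zero, one_mul]
  exact hs

theorem R₃_H {h : G} (hh : h ∈ H) : rc (rc (R i₂) n₂) h = rc (R i₂) n₂ := by
  have h1 : n₂ * h * n₂⁻¹ ∈ H := BTwo.conj_mem_of_normalizer E.n₂_H hh
  have h2 := rc_eq_of_mem_normalizer (E.H_R h1)
  have e : n₂ * h = (n₂ * h * n₂⁻¹) * n₂ := by group
  rw [rc_rc, e, ← rc_rc, h2]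

theorem R₃_n₁_le {n : G} (hn : n ∈ XX V R ⊔ B) (hnH : n ∈ normalizer (H : Set G)) :
    rc (rc (R i₂) n₂) n ≤ rc (R i₂) n₂ := by
  have hnV := D.nod.P_V D.bt hn
  refine D.le_R₃ E ?_ ?_ ?_
  · rw [← rc_eq_of_mem_normalizer (D.P₁_M hn)]
    exact rc_mono (D.R₃_M E) n
  · intro h hh
    have h1 : n * h * n⁻¹ ∈ H := BTwo.conj_mem_of_normalizer hnH hh
    have e : n * h = (n * h * n⁻¹) * n := by group
    rw [rc_rc, e, ← rc_rc, D.R₃_H E h1]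
  · intro x hx hxV
    rw [mem_rc] at hx
    have h1 := D.R₃_V E (BTwo.conj_mem_of_normalizer hnV hxV) hx
    have e : x = n⁻¹ * (n * x * n⁻¹) * n := by group
    rw [e, h1]; group

/-- `n₁` normalises `R₃` -/
theorem R₃_n₁ : rc (rc (R i₂) n₂) n₁ = rc (R i₂) n₂ := by
  apply le_antisymm (D.R₃_n₁_le E E.n₁_mem E.n₁_H)
  have h1 := rc_mono (D.R₃_n₁_le E (inv_mem E.n₁_mem) (inv_mem E.n₁_H)) n₁
  rwa [rc_rc, inv_mul_cancel, rc_one] at h1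

theorem R₃_n₂ : rc (rc (R i₂) n₂) n₂ = R i₂ := by
  rw [rc_rc]
  refine rc_eq_of_mem_normalizer (cj_eq_self_iff.1 ?_)
  exact D.norm_R₂ E (D.n₂_sq E) (mul_mem E.n₂_H E.n₂_H)

theorem R₃_bot : rc (R i₂) n₂ ≠ ⊥ := by
  intro h
  apply D.bt.R_ne i₂
  rw [← rc_bot n₂] at h
  exact rc_inj h

theorem U₁_V : ¬ rc (UU V R i₁) n₂ ≤ centralizer (V : Set G) := by
  intro h
  apply D.U₁_M
  -- `U₁` centralises `V` and `rc V n₂⁻¹`
  have h1 : ∀ u ∈ UU V R i₁, Ce (rc V n₂⁻¹) u := by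
    intro u hu
    have h2 : Ce V (n₂⁻¹ * u * n₂) := by
      intro r hr
      exact (mem_centralizer_iff.1 (h (mem_rc_conj hu)) r hr).symm
    have h3 := h2.conj n₂⁻¹
    have e : n₂⁻¹⁻¹ * (n₂⁻¹ * u * n₂) * n₂⁻¹ = u := by group
    rwa [e] at h3
  have h2 : M ≤ V ⊔ cj n₂ V := D.span n₂ E.n₂_mem E.n₂_not
  rw [← rc_inv_eq_cj] at h2
  intro u hu
  have h3 : V ⊔ rc V n₂⁻¹ ≤ centralizer {u} := by
    refine sup_le (fun v hv => ?_) (fun v hv => ?_)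
    · rw [mem_centralizer_singleton_iff]
      exact mem_centralizer_iff.1 (UU_le_cen i₁ hu) v hv
    · rw [mem_centralizer_singleton_iff]
      exact (h1 u hu v hv).symm
  rw [mem_centralizer_iff]
  exact fun m hm => mem_centralizer_singleton_iff.1 (h3 (h2 hm))

/-- `U₂` consists of elations -/
theorem U₂_Mv {L : Subgroup G} (hL : XX V R ≤ L) {u : G} (hu : u ∈ UU V R i₂) :
    Mv L (R i₂) (rc (R i₂) n₂) (R i₁) u where
  mem := hL (YY_le_XX (UU_le_YY i₂ hu))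
  fixA := fun r hr => (mem_centralizer_iff.1 (UU_le_cen i₂ hu) r (D.bt.R_le i₂ hr)).symm
  fixD := fun r hr => (mem_centralizer_iff.1 (UU_le_cen i₂ hu) r (D.bt.R_le i₁ hr)).symm
  move := by
    intro r hr
    -- `r⁻¹ u⁻¹ r u = [r⁻¹, u⁻¹]`
    have h1 := D.bt.DU (inv_mem (D.M_D (D.R₃_M E hr))) (inv_mem hu)
    have e : r⁻¹ * u⁻¹ * r⁻¹⁻¹ * u⁻¹⁻¹ = r⁻¹ * (u⁻¹ * r * u) := by group
    rwa [e] at h1

/-- the elements of `B` fixing the frame -/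
def Bf (_ : PairA F V R U B H P₂ M i₁) (_ : Fr V R U B H P₂ i₁ i₂ n₁ n₂) : Subgroup G :=
  B ⊓ (normalizer (R i₂ : Set G) ⊓ normalizer ((rc (R i₂) n₂ : Subgroup G) : Set G))

theorem mem_Bf {x : G} : x ∈ D.Bf E ↔ x ∈ B ∧ rc (R i₂) x = R i₂ ∧ rc (rc (R i₂) n₂) x = rc (R i₂) n₂ := by
  rw [Bf, mem_inf, mem_inf]
  refine and_congr_right fun _ => and_congr ⟨rc_eq_of_mem_normalizer, mem_normalizer_of_rc_eq⟩
    ⟨rc_eq_of_mem_normalizer, mem_normalizer_of_rc_eq⟩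

theorem Bf_n₁ {n : G} (hn : n ∈ XX V R ⊔ B) (h12 : rc (R i₁) n = R i₂) (h21 : rc (R i₂) n = R i₁)
    (h3 : rc (rc (R i₂) n₂) n = rc (R i₂) n₂) {x : G} (hx : x ∈ D.Bf E) : n⁻¹ * x * n ∈ D.Bf E := by
  rw [D.mem_Bf E] at hx ⊢
  obtain ⟨hB, h2, h3'⟩ := hx
  have hP : n⁻¹ * x * n ∈ XX V R ⊔ B := mul_mem (mul_mem (inv_mem hn) (mem_sup_right hB)) hn
  have i12 : rc (R i₂) n⁻¹ = R i₁ := by rw [← h12, rc_rc, mul_inv_cancel, rc_one]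
  have i21 : rc (R i₁) n⁻¹ = R i₂ := by rw [← h21, rc_rc, mul_inv_cancel, rc_one]
  have i3 : rc (rc (R i₂) n₂) n⁻¹ = rc (R i₂) n₂ := by
    conv_lhs => rw [← h3]
    rw [rc_rc, mul_inv_cancel, rc_one]
  have h1 : rc (R i₁) x = R i₁ := rc_eq_of_mem_normalizer (D.nod.B_R hB)
  refine ⟨?_, ?_, ?_⟩
  · rw [D.nod.mem_B_iff D.bt hP, cj_eq_iff_rc, ← rc_rc, ← rc_rc, i21, h2, h21]
  · rw [← rc_rc, ← rc_rc, i12, h1, h12]
  · rw [← rc_rc, ← rc_rc, i3, h3', h3]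

theorem Bf_n₂ {n : G} (hn : n ∈ P₂) (h2 : rc (R i₂) n = rc (R i₂) n₂) (h3 : rc (rc (R i₂) n₂) n = R i₂)
    {x : G} (hx : x ∈ D.Bf E) : n⁻¹ * x * n ∈ D.Bf E := by
  rw [D.mem_Bf E] at hx ⊢
  obtain ⟨hB, h2', h3'⟩ := hx
  have i23 : rc (rc (R i₂) n₂) n⁻¹ = R i₂ := by rw [← h2, rc_rc, mul_inv_cancel, rc_one]
  have i32 : rc (R i₂) n⁻¹ = rc (R i₂) n₂ := by
    conv_lhs => rw [← h3]
    rw [rc_rc, mul_inv_cancel, rc_one]
  have k2 : rc (R i₂) (n⁻¹ * x * n) = R i₂ := by rw [← rc_rc, ← rc_rc, i32, h3', h3]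
  refine ⟨?_, k2, ?_⟩
  · refine D.NV₂ (mem_inf.2 ⟨mul_mem (mul_mem (inv_mem hn) (D.le₂ hB)) hn, mem_normalizer_of_rc_eq ?_⟩)
    have h4 : rc (R i₁) (n⁻¹ * x * n) = R i₁ :=
      rc_eq_of_mem_normalizer (D.P₂_R (mul_mem (mul_mem (inv_mem hn) (D.le₂ hB)) hn))
    rw [D.V_eq E, rc_sup, k2, h4]
  · rw [← rc_rc, ← rc_rc, i23, h2', h2]

/-- the residue as a `Duo` -/
theorem duo : Duo 2 B U H (fun i => if i then P₂ else XX V R ⊔ B) (fun i => if i then n₂ else n₁) where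
  hall := D.hall
  le i := by cases i <;> simp [D.le₂]
  ptr i := by
    cases i
    · simpa using D.ptr₁
    · simpa using D.ptr₂
  fix i := by
    cases i
    · simpa using D.fix₁
    · simpa using D.fix₂
  inf := by
    apply le_antisymm
    · intro x hx
      have hx1 : x ∈ XX V R ⊔ B := by simpa using (mem_inf.1 hx).1
      have hx2 : x ∈ P₂ := by simpa using (mem_inf.1 hx).2
      exact D.NV₂ ⟨hx2, D.nod.P_V D.bt hx1⟩
    · refine le_inf ?_ ?_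
      · simp
      · simpa using D.le₂
  n_mem i := by
    cases i
    · simpa using E.n₁_mem
    · simpa using E.n₂_mem
  n_not i := by
    cases i
    · simpa using E.n₁_not
    · simpa using E.n₂_not
  n_norm i := by
    cases i
    · simpa using E.n₁_H
    · simpa using E.n₂_H
  thick i := by
    have key : ∀ (P : Subgroup G) (n : G), B ≤ P → PTr B U P →
        (∃ x ∈ P, ∃ y ∈ P, x ∉ B ∧ y ∉ B ∧ x⁻¹ * y ∉ B) → n ∈ P → n ∉ B → ∃ b ∈ B, n * b * n⁻¹ ∉ B := by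
      intro P n hBP hptr h3 hn hnB
      by_contra hc
      push Not at hc
      have hc' : n ∈ normalizer (B : Set G) := mem_normalizer_of_conj hc
      obtain ⟨x, hx, y, hy, hxB, hyB, hxy⟩ := h3
      have hform : ∀ z ∈ P, z ∉ B → ∃ b ∈ B, z = n * b := by
        intro z hz hzB
        obtain ⟨u, hu, b, hb, e⟩ := hptr n hn hnB z hz hzB
        have h4 := conj_inv_mem_of_normalizer hc' (D.nod.U_le hu)
        exact ⟨n⁻¹ * u * n * b, mul_mem h4 hb, by rw [e]; group⟩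
      obtain ⟨b, hb, rfl⟩ := hform x hx hxB
      obtain ⟨b', hb', rfl⟩ := hform y hy hyB
      apply hxy
      have e : (n * b)⁻¹ * (n * b') = b⁻¹ * b' := by group
      rw [e]
      exact mul_mem (inv_mem hb) hb'
    cases i
    · simpa using key _ _ le_sup_right D.ptr₁ (D.nod.three D.bt) E.n₁_mem E.n₁_not
    · simpa using key _ _ D.le₂ D.ptr₂ D.three₂ E.n₂_mem E.n₂_not

theorem fixPart : FixPart (D.duo E).frame (D.Bf E) where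
  le := inf_le_left
  norm i := by
    have key : ∀ n, (∀ x ∈ D.Bf E, n⁻¹ * x * n ∈ D.Bf E) → n ∈ normalizer (D.Bf E : Set G) := by
      intro n hn
      have : n⁻¹ ∈ normalizer (D.Bf E : Set G) := mem_normalizer_of_conj fun x hx => by
        rw [inv_inv]; exact hn x hx
      simpa using inv_mem this
    cases i
    · exact key n₁ fun x hx => D.Bf_n₁ E E.n₁_mem E.n₁_1 E.n₁_2 (D.R₃_n₁ E) hx
    · exact key n₂ fun x hx => D.Bf_n₂ E E.n₂_mem rfl (D.R₃_n₂ E) hx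

/-- `U₁^n₂` centralises `R₃` -/
theorem X1_R₃ : rc (UU V R i₁) n₂ ≤ centralizer (rc (R i₂) n₂ : Set G) := by
  intro x hx
  have h1 : Ce V (n₂ * x * n₂⁻¹) := fun r hr => (mem_centralizer_iff.1 (UU_le_cen i₁ (mem_rc.1 hx)) r hr).symm
  have h2 := h1.conj n₂
  have e : n₂⁻¹ * (n₂ * x * n₂⁻¹) * n₂ = x := by group
  rw [e] at h2
  rw [mem_centralizer_iff]
  exact fun r hr => (h2 r (rc_mono (D.bt.R_le i₂) n₂ hr)).symm

theorem X2_R₃ : rc (UU V R i₁) (n₂ * n₁) ≤ centralizer (rc (R i₂) n₂ : Set G) := by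
  intro x hx
  rw [← rc_rc, mem_rc] at hx
  have h1 : Ce (rc (R i₂) n₂) (n₁ * x * n₁⁻¹) := fun r hr =>
    (mem_centralizer_iff.1 (D.X1_R₃ E hx) r hr).symm
  have h2 := h1.conj n₁
  have e : n₁⁻¹ * (n₁ * x * n₁⁻¹) * n₁ = x := by group
  rw [e, D.R₃_n₁ E] at h2
  rw [mem_centralizer_iff]
  exact fun r hr => (h2 r hr).symm

/-- coordinates with root groups in `⟨U₁^n₂, U₁^(n₂ n₁)⟩` -/
theorem exists_coord [Finite F] : ∃ (v : F → F → G) (x1 x2 : F → G), Coord V R i₁ i₂ v x1 x2 ∧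
    (∀ a, x1 a ∈ rc (UU V R i₁) n₂) ∧ ∀ a, x2 a ∈ rc (UU V R i₁) (n₂ * n₁) := by
  obtain ⟨v, w1, w2, c⟩ := D.coord i₂ E.ne
  -- the action does not change
  have act : ∀ {w x : G}, x⁻¹ * w ∈ centralizer (V : Set G) → ∀ p q, x * v p q * x⁻¹ = w * v p q * w⁻¹ := by
    intro w x h p q
    have h1 := mem_centralizer_iff.1 h _ (c.v_mem p q)
    calc x * v p q * x⁻¹ = x * (v p q * (x⁻¹ * w)) * w⁻¹ := by group
      _ = x * (x⁻¹ * w * v p q) * w⁻¹ := by rw [h1]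
      _ = w * v p q * w⁻¹ := by group
  have h1 : ∀ a, ∃ x ∈ rc (UU V R i₁) n₂, ∀ p q, x * v p q * x⁻¹ = v (p + a * q) q := by
    intro a
    obtain ⟨x, hx, hxw⟩ := D.cover₁ E (D.U₁_V E) (c.w1_mem a)
    exact ⟨x, hx, fun p q => by rw [act (UU_le_cen i₁ hxw), c.w1_act]⟩
  have h2 : ∀ a, ∃ x ∈ rc (UU V R i₁) (n₂ * n₁), ∀ p q, x * v p q * x⁻¹ = v p (q + a * p) := by
    intro a
    have h3 : n₁ * w2 a * n₁⁻¹ ∈ WW V (R i₁) := by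
      rw [← mem_rc, D.W₁_n₁ E]; exact c.w2_mem a
    obtain ⟨x, hx, hxw⟩ := D.cover₁ E (D.U₁_V E) h3
    refine ⟨n₁⁻¹ * x * n₁, ?_, fun p q => ?_⟩
    · rw [← rc_rc]; exact mem_rc_conj hx
    · have h4 := mem_rc_conj (g := n₁) hxw
      rw [D.U₁_n₁ E] at h4
      have e : n₁⁻¹ * (x⁻¹ * (n₁ * w2 a * n₁⁻¹)) * n₁ = (n₁⁻¹ * x * n₁)⁻¹ * w2 a := by group
      rw [e] at h4
      rw [act (UU_le_cen i₂ h4), c.w2_act]
  choose x1 h1m h1a using h1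
  choose x2 h2m h2a using h2
  have h2W : ∀ a, x2 a ∈ WW V (R i₂) := by
    intro a
    rw [← D.W₁_n₁ E]
    have := h2m a
    rw [← rc_rc] at this
    exact rc_mono (D.U₁_n₂_le E) n₁ this
  exact ⟨v, x1, x2, { c with
    w1_mem := fun a => D.U₁_n₂_le E (h1m a)
    w2_mem := h2W
    w1_act := fun a p q => h1a a p q
    w2_act := fun a p q => h2a a p q }, h1m, h2m⟩

/-- `U₁` is determined by the flag `(R i₁, V)` -/
theorem norm_U₁ {g : G} (h1 : rc (R i₁) g = R i₁) (h2 : rc (R i₂) g = R i₂) : rc (UU V R i₁) g = UU V R i₁ := by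
  have hV : g ∈ normalizer (V : Set G) := by
    apply mem_normalizer_of_rc_eq
    rw [D.V_eq E, rc_sup, h1, h2]
  refine rc_eq_of_mem_normalizer (cj_eq_self_iff.1 (D.bt.cj_UU hV ?_))
  exact cj_eq_self_iff.2 (mem_normalizer_of_rc_eq h1)

/-- `w = n₂ n₁` maps `⟨U₁^n₂, U₁^(n₂ n₁)⟩` to `⟨U₂, U₂^n₂⟩` -/
theorem conj_w {x : G} (hx : x ∈ rc (UU V R i₁) n₂ ⊔ rc (UU V R i₁) (n₂ * n₁)) :
    (n₂ * n₁)⁻¹ * x * (n₂ * n₁) ∈ UU V R i₂ ⊔ rc (UU V R i₂) n₂ := by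
  have e1 : rc (UU V R i₁) (n₂ * (n₂ * n₁)) = UU V R i₂ := by
    rw [← mul_assoc, ← rc_rc, D.U₁_sq E, D.U₁_n₁ E]
  have e2 : rc (UU V R i₁) (n₂ * n₁ * (n₂ * n₁)) = rc (UU V R i₂) n₂ := by
    have k1 : rc (R i₁) (n₂ * n₁ * (n₂ * n₁)) = rc (R i₂) n₂ := by
      simp only [← rc_rc]
      rw [D.n₂_R E, E.n₁_1, D.R₃_n₁ E]
    have k2 : rc (R i₁) (n₁ * n₂) = rc (R i₂) n₂ := by rw [← rc_rc, E.n₁_1]
    have k3 : rc (R i₂) (n₂ * n₁ * (n₂ * n₁)) = R i₁ := by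
      simp only [← rc_rc]
      rw [D.R₃_n₁ E, D.R₃_n₂ E, E.n₁_2]
    have k4 : rc (R i₂) (n₁ * n₂) = R i₁ := by rw [← rc_rc, E.n₁_2, D.n₂_R E]
    have k : ∀ {A A' : Subgroup G}, rc A (n₂ * n₁ * (n₂ * n₁)) = A' → rc A (n₁ * n₂) = A' →
        rc A (n₂ * n₁ * (n₂ * n₁) * (n₁ * n₂)⁻¹) = A := by
      intro A A' h h'
      rw [← rc_rc, h, ← h', rc_rc, mul_inv_cancel, rc_one]
    have h := D.norm_U₁ E (k k1 k2) (k k3 k4)
    have h2 := congrArg (fun A => rc A (n₁ * n₂)) h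
    simp only [rc_rc, inv_mul_cancel_right] at h2
    rw [h2, ← rc_rc, D.U₁_n₁ E]
  have key : rc (UU V R i₁) n₂ ⊔ rc (UU V R i₁) (n₂ * n₁) ≤ rc (UU V R i₂ ⊔ rc (UU V R i₂) n₂) (n₂ * n₁)⁻¹ := by
    refine sup_le (fun y hy => ?_) (fun y hy => ?_)
    · rw [mem_rc, inv_inv]
      have := mem_rc_conj (g := n₂ * n₁) hy
      rw [rc_rc, e1] at this
      exact mem_sup_left this
    · rw [mem_rc, inv_inv]
      have := mem_rc_conj (g := n₂ * n₁) hy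
      rw [rc_rc, e2] at this
      exact mem_sup_right this
  have := key hx
  rwa [mem_rc, inv_inv] at this

/-- **BRAID** -/
theorem braid [Finite F] : (D.duo E).frame.Braid 3 := by
  obtain ⟨v, x1, x2, c, hx1, hx2⟩ := D.exists_coord E
  set l := nn x1 x2 (1 : F) with hl
  have hlX : l ∈ rc (UU V R i₁) n₂ ⊔ rc (UU V R i₁) (n₂ * n₁) :=
    mul_mem (mul_mem (mem_sup_left (hx1 _)) (mem_sup_right (hx2 _))) (mem_sup_left (hx1 _))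
  have hl1 : cj l (R i₁) = R i₂ := c.nn_R1 D.bt one_ne_zero
  have hl2 : cj l (R i₂) = R i₁ := c.nn_R2 D.bt one_ne_zero
  have hlXX : l ∈ XX V R := c.nn_mem_X D.bt 1
  have hX3 : rc (UU V R i₁) n₂ ⊔ rc (UU V R i₁) (n₂ * n₁) ≤ centralizer (rc (R i₂) n₂ : Set G) :=
    sup_le (D.X1_R₃ E) (D.X2_R₃ E)
  have hl3 : rc (rc (R i₂) n₂) l = rc (R i₂) n₂ := by
    refine Ce.rc_eq fun r hr => ?_
    exact (mem_centralizer_iff.1 (hX3 hlX) r hr).symm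
  have hn₁P := E.n₁_mem
  have hb : n₁⁻¹ * l ∈ D.Bf E := by
    rw [D.mem_Bf E]
    have hP : n₁⁻¹ * l ∈ XX V R ⊔ B := mul_mem (inv_mem hn₁P) (mem_sup_left hlXX)
    refine ⟨?_, ?_, ?_⟩
    · rw [D.nod.mem_B_iff D.bt hP, cj_mul, hl1, ← rc_eq_cj, E.n₁_2]
    · rw [← rc_rc, D.n₁_2' E]
      exact cj_eq_iff_rc.1 hl2
    · have : rc (rc (R i₂) n₂) n₁⁻¹ = rc (R i₂) n₂ := by
        conv_lhs => rw [← D.R₃_n₁ E]
        rw [rc_rc, mul_inv_cancel, rc_one]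
      rw [← rc_rc, this, hl3]
  have hU₂P : UU V R i₂ ≤ P₂ := (D.U_UU i₂).trans (D.nod.U_le.trans D.le₂)
  have h1 : (n₂ * n₁)⁻¹ * l * (n₂ * n₁) ∈ P₂ := by
    refine (sup_le hU₂P ?_) (D.conj_w E hlX)
    intro y hy
    have := mul_mem (mul_mem (inv_mem E.n₂_mem) (hU₂P (mem_rc.1 hy))) E.n₂_mem
    have e : n₂⁻¹ * (n₂ * y * n₂⁻¹) * n₂ = y := by group
    rwa [e] at this
  have hf := D.fixPart E
  have h2 : (n₂ * n₁)⁻¹ * (n₁⁻¹ * l) * (n₂ * n₁) ∈ P₂ := by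
    have h3 : n₁⁻¹ * (n₂⁻¹ * (n₁⁻¹ * l) * n₂) * n₁ ∈ D.Bf E := hf.conj' false (hf.conj' true hb)
    have e : n₁⁻¹ * (n₂⁻¹ * (n₁⁻¹ * l) * n₂) * n₁ = (n₂ * n₁)⁻¹ * (n₁⁻¹ * l) * (n₂ * n₁) := by group
    rw [e] at h3
    exact D.le₂ (hf.le h3)
  refine braid_of_conj _ (m := 2) (i := false) ?_
  have hw : RankTwoClose.alt (D.duo E).frame.n (!false) 2 = n₂ * n₁ := by
    simp [RankTwoClose.alt_succ]
  have hnxt : RankTwoClose.nxt (!false) 2 = true := by simp [RankTwoClose.nxt]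
  rw [hnxt, hw]
  show (n₂ * n₁)⁻¹ * n₁ * (n₂ * n₁) ∈ P₂
  have := mul_mem h1 (inv_mem h2)
  have e : (n₂ * n₁)⁻¹ * l * (n₂ * n₁) * ((n₂ * n₁)⁻¹ * (n₁⁻¹ * l) * (n₂ * n₁))⁻¹ =
      (n₂ * n₁)⁻¹ * n₁ * (n₂ * n₁) := by group
  rwa [e] at this

/-- **PATH** -/
theorem path [Finite F] : ∀ k < 3, (D.duo E).frame.PathTo k := by
  refine path_three (F := (D.duo E).frame) (U₁ := UU V R i₁) (U₂ := UU V R i₂) false (D.U₁_n₁ E) (D.U₂_n₁ E)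
    ((D.U_UU i₁).trans D.nod.U_le) ((D.U_UU i₂).trans D.nod.U_le) ?_ ?_ ?_ ?_
  · intro x hx
    have h1 : n₂ * x * n₂⁻¹ ∈ WW V (R i₁) :=
      BTwo.conj_mem_of_normalizer (normalizer_le_WW V (R i₁) (D.P₂_R E.n₂_mem)) (UU_le_WW i₁ hx)
    exact D.nod.U_le (D.nod.W_le h1)
  · exact (D.U₁_n₂_le E).trans (D.nod.W_le.trans D.nod.U_le)
  · intro b hb
    obtain ⟨u, hu, h, hh, rfl⟩ := D.exists_uh hb
    obtain ⟨x, hx, hxu, hxV⟩ := D.cover_U E (D.U₁_V E) hu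
    refine ⟨x, hx, x⁻¹ * u * h, mul_mem (D.nod.U_le hxu) (D.hall.H_le hh), by group, ?_⟩
    have h1 : n₁⁻¹ * (x⁻¹ * u) * n₁ ∈ B := D.nod.cen_Qk D.bt (D.nod.U_le hxu) hxV n₁ E.n₁_mem
    have h2 : n₁⁻¹ * h * n₁ ∈ B := D.hall.H_le (conj_inv_mem_of_normalizer E.n₁_H hh)
    have e : n₁⁻¹ * (x⁻¹ * u * h) * n₁ = n₁⁻¹ * (x⁻¹ * u) * n₁ * (n₁⁻¹ * h * n₁) := by group
    show n₁⁻¹ * (x⁻¹ * u * h) * n₁ ∈ B
    rw [e]
    exact mul_mem h1 h2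
  · intro b hb
    obtain ⟨u, hu, h, hh, rfl⟩ := D.exists_uh hb
    obtain ⟨x, hx, hq⟩ := D.cov E.ne hu
    have hxu : x⁻¹ * u ∈ B := Qk_le _ _ hq
    refine ⟨x, hx, x⁻¹ * u * h, mul_mem hxu (D.hall.H_le hh), by group, ?_⟩
    have h1 : n₂⁻¹ * (x⁻¹ * u) * n₂ ∈ B := hq n₂ E.n₂_mem
    have h2 : n₂⁻¹ * h * n₂ ∈ B := D.hall.H_le (conj_inv_mem_of_normalizer E.n₂_H hh)
    have e : n₂⁻¹ * (x⁻¹ * u * h) * n₂ = n₂⁻¹ * (x⁻¹ * u) * n₂ * (n₂⁻¹ * h * n₂) := by group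
    show n₂⁻¹ * (x⁻¹ * u * h) * n₂ ∈ B
    rw [e]
    exact mul_mem h1 h2

omit E in
/-- **The residue of type A2 is a generalised polygon.** -/
theorem polygon [Finite F] {I : Type*} {Q : I → Subgroup G} {x y : I} (hx : Q x = XX V R ⊔ B) (hy : Q y = P₂) :
    ∃ k, 3 ≤ k ∧ Polygon B Q x y k := by
  obtain ⟨i₂, n₁, n₂, E⟩ := D.exists_fr
  obtain ⟨k, -, h, h3⟩ := (D.duo E).exists_polygon (D.braid E) (by norm_num) (D.path E) (R := Q) (a := x) (b := y)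
    (by simpa using hx) (by simpa using hy)
  refine ⟨k, h3.2 ?_, h⟩
  intro hB
  have h1 : cj (n₁ * n₂ * n₁⁻¹ * n₂⁻¹) (R i₁) = R i₁ := cj_eq_self_iff.2 (D.nod.B_R hB)
  rw [cj_mul, cj_mul, cj_mul, cj_eq_self_iff.2 (inv_mem (D.P₂_R E.n₂_mem)), ← rc_eq_cj, E.n₁_1, ← rc_inv_eq_cj,
    ← rc_inv_eq_cj] at h1
  -- `n₁ (n₂ R₂) = R₁`
  have h2 : rc (R i₂) n₂⁻¹ = rc (R i₂) n₂ := by
    conv_lhs => rw [← D.R₃_n₂ E]
    rw [rc_rc, mul_inv_cancel, rc_one]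
  have h3 : rc (rc (R i₂) n₂) n₁⁻¹ = rc (R i₂) n₂ := by
    conv_lhs => rw [← D.R₃_n₁ E]
    rw [rc_rc, mul_inv_cancel, rc_one]
  rw [h2, h3] at h1
  apply D.R₃_bot E
  rw [eq_bot_iff_forall]
  intro z hz
  exact D.R₃_V E (D.bt.R_le i₁ (h1 ▸ hz)) hz

end PairA

end Cfsg.Agent.Omega.HOne.End

end

section


/-!
# II.0h1, END: residue of type A2: the fields `frat` and `sep`
-/

set_option autoImplicit false
set_option linter.unusedSectionVars false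

namespace Cfsg.Agent.Omega.HOne.End

open Subgroup Cfsg.Agent.Omega.BTwo Cfsg.Agent.RankTwoClose
open Cfsg.Agent.ParSys (Qk FpfG SepG Polygon mem_Qk Qk_le Qk_conj Qk_conj')
open Cfsg.Agent.ParSys.Hall (HallData)
open Cfsg.Agent.ParSys.Hall.HallData (PTr)
open scoped commutatorElement

variable {G : Type*} [Group G] {ι : Type*}

namespace PairA

variable {F : Type*} [Field F] {V : Subgroup G} {R : ι → Subgroup G} {U B H P₂ M : Subgroup G} {i₁ : ι}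
  (D : PairA F V R U B H P₂ M i₁)
variable [Finite G] [Fact (Nat.Prime 2)] [CharP F 2]
include D

/-- the elements of `B` centralising `M` act trivially on the residue -/
theorem cen_le_Qk : B ⊓ centralizer (M : Set G) ≤ Qk B ((XX V R ⊔ B) ⊔ P₂) := by
  have hV : centralizer (M : Set G) ≤ centralizer (V : Set G) := centralizer_le D.V_M
  have h1 : XX V R ⊔ B ≤ normalizer ((B ⊓ centralizer (M : Set G) : Subgroup G) : Set G) := by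
    intro g hg
    refine mem_normalizer_of_conj fun c hc => ?_
    obtain ⟨hcB, hcM⟩ := mem_inf.1 hc
    refine mem_inf.2 ⟨Qk_le _ _ (Qk_conj' (D.nod.cen_Qk D.bt hcB (hV hcM)) hg), ?_⟩
    exact BTwo.conj_mem_of_normalizer (normalizer_le_normalizer_centralizer M (D.P₁_M hg)) hcM
  have h2 : P₂ ≤ normalizer ((B ⊓ centralizer (M : Set G) : Subgroup G) : Set G) := by
    intro g hg
    refine mem_normalizer_of_conj fun c hc => ?_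
    obtain ⟨hcB, hcM⟩ := mem_inf.1 hc
    have h3 := BTwo.conj_mem_of_normalizer (normalizer_le_normalizer_centralizer M (D.P₂_M hg)) hcM
    exact mem_inf.2 ⟨D.NV₂ (mem_inf.2 ⟨mul_mem (mul_mem hg (D.le₂ hcB)) (inv_mem hg), cen_le_NV V (hV h3)⟩), h3⟩
  intro c hc g hg
  exact (mem_inf.1 (conj_inv_mem_of_normalizer (sup_le h1 h2 hg) hc)).1

/-- `U₁` and `U` commute on `M` -/
theorem U_U₁ {x z : G} (hx : x ∈ U) (hz : z ∈ UU V R i₁) {i₂ : ι} {n₁ n₂ : G} (E : Fr V R U B H P₂ i₁ i₂ n₁ n₂) :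
    x * z * x⁻¹ * z⁻¹ ∈ centralizer (M : Set G) := by
  have hxM := D.P₁_M (mem_sup_right (D.nod.U_le hx))
  have hzM := D.X_M (YY_le_XX (UU_le_YY i₁ hz))
  have key : ∀ m ∈ M, x * z * m * (x * z)⁻¹ = z * x * m * (z * x)⁻¹ := by
    intro m hm
    have h1 : z * m * z⁻¹ * m⁻¹ ∈ R i₁ := by
      have := inv_mem (D.bt.DU (D.M_D hm) hz)
      have e : (m * z * m⁻¹ * z⁻¹)⁻¹ = z * m * z⁻¹ * m⁻¹ := by group
      rwa [e] at this
    have h2 := D.U_M E hx hm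
    set r := z * m * z⁻¹ * m⁻¹ with hr
    set v := x * m * x⁻¹ * m⁻¹ with hv
    have hxr := D.nod.UR x hx r h1
    have hzv : z * v * z⁻¹ = v := by
      rw [← mem_centralizer_iff.1 (UU_le_cen i₁ hz) v h2, mul_inv_cancel_right]
    have hrv := D.bt.V_comm r (D.bt.R_le i₁ h1) v h2
    calc x * z * m * (x * z)⁻¹ = x * (r * m) * x⁻¹ := by rw [hr]; group
      _ = (x * r * x⁻¹) * (v * m) := by rw [hv]; group
      _ = r * v * m := by rw [hxr]; group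
      _ = v * (r * m) := by rw [hrv]; group
      _ = (z * v * z⁻¹) * (z * m * z⁻¹) := by rw [hzv, hr]; group
      _ = z * x * m * (z * x)⁻¹ := by rw [hv]; group
  rw [mem_centralizer_iff]
  intro m' hm'
  have h1 := key _ (conj_inv_mem_of_normalizer (mul_mem hzM hxM) hm')
  have e1 : z * x * ((z * x)⁻¹ * m' * (z * x)) * (z * x)⁻¹ = m' := by group
  rw [e1] at h1
  have e2 : x * z * ((z * x)⁻¹ * m' * (z * x)) * (x * z)⁻¹ =
      x * z * x⁻¹ * z⁻¹ * m' * (x * z * x⁻¹ * z⁻¹)⁻¹ := by group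
  rw [e2, mul_inv_eq_iff_eq_mul] at h1
  exact h1.symm

variable {i₂ : ι} {n₁ n₂ : G} (E : Fr V R U B H P₂ i₁ i₂ n₁ n₂)
include E

/-- `U ∩ Qk ∩ Qk = U₁ C_U(M)` -/
theorem dec [Finite F] {u : G} (hu : u ∈ U) (h1 : u ∈ Qk B (XX V R ⊔ B)) (h2 : u ∈ Qk B P₂) :
    ∃ z ∈ UU V R i₁, z⁻¹ * u ∈ centralizer (M : Set G) := by
  have huV := (D.nod.mem_Qk_iff_cen D.bt hu).1 h1
  have hu' : n₂ * u * n₂⁻¹ ∈ U := by
    have h4 : n₂⁻¹⁻¹ * u * n₂⁻¹ ∈ U := D.two_elt hu (Qk_le _ _ (Qk_conj h2 (inv_mem E.n₂_mem)))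
    rwa [inv_inv] at h4
  obtain ⟨x, hx, -, hxc⟩ := D.cover_U E (D.U₁_V E) hu'
  have hz : n₂⁻¹ * x * n₂ ∈ UU V R i₁ := by
    have := mem_rc_conj (g := n₂) hx
    rwa [rc_rc, D.U₁_sq E] at this
  refine ⟨_, hz, ?_⟩
  have e : (n₂⁻¹ * x * n₂)⁻¹ * u = n₂⁻¹ * (x⁻¹ * (n₂ * u * n₂⁻¹)) * n₂ := by group
  have h3 : (n₂⁻¹ * x * n₂)⁻¹ * u ∈ centralizer (V : Set G) := mul_mem (inv_mem (UU_le_cen i₁ hz)) huV
  have h4 : Ce (rc V n₂) ((n₂⁻¹ * x * n₂)⁻¹ * u) := by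
    rw [e]
    exact Ce.conj (fun r hr => (mem_centralizer_iff.1 hxc r hr).symm) n₂
  generalize (n₂⁻¹ * x * n₂)⁻¹ * u = y at h3 h4
  have h5 : M ≤ centralizer {y} := by
    refine (D.M_le E).trans (sup_le ?_ ?_)
    · exact fun r hr => mem_centralizer_singleton_iff.2 (mem_centralizer_iff.1 h3 r hr)
    · exact fun r hr => mem_centralizer_singleton_iff.2 (h4 r (rc_mono (D.bt.R_le i₂) n₂ hr)).symm
  rw [mem_centralizer_iff]
  exact fun m hm => mem_centralizer_singleton_iff.1 (h5 hm)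

/-- `(U ∩ Qk ∩ Qk) / C_U(M)` is central in `U / C_U(M)` -/
theorem cenMod_Q [Finite F] : CenMod U (U ⊓ (Qk B (XX V R ⊔ B) ⊓ Qk B P₂)) (U ⊓ centralizer (M : Set G)) where
  C_le := inf_le_left
  J_le := inf_le_left
  J_norm x hx c hc := by
    obtain ⟨h1, h2⟩ := mem_inf.1 hc
    exact mem_inf.2 ⟨mul_mem (mul_mem hx h1) (inv_mem hx), BTwo.conj_mem_of_normalizer
      (normalizer_le_normalizer_centralizer M (D.P₁_M (mem_sup_right (D.nod.U_le hx)))) h2⟩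
  comm x hx c hc := by
    obtain ⟨h1, h2⟩ := mem_inf.1 hc
    obtain ⟨h2, h3⟩ := mem_inf.1 h2
    obtain ⟨z, hz, hk⟩ := D.dec E h1 h2 h3
    have hzU := D.U_UU i₁ hz
    have hxM := normalizer_le_normalizer_centralizer M (D.P₁_M (mem_sup_right (D.nod.U_le hx)))
    have hzM := normalizer_le_normalizer_centralizer M (D.X_M (YY_le_XX (UU_le_YY i₁ hz)))
    refine mem_inf.2 ⟨mul_mem (mul_mem (mul_mem hx h1) (inv_mem hx)) (inv_mem h1), ?_⟩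
    have h4 := D.U_U₁ hx hz E
    have h5 := mul_mem (BTwo.conj_mem_of_normalizer hxM hk) (inv_mem hk)
    have h6 := BTwo.conj_mem_of_normalizer hzM h5
    have h7 := mul_mem h4 h6
    have e : x * z * x⁻¹ * z⁻¹ * (z * (x * (z⁻¹ * c) * x⁻¹ * (z⁻¹ * c)⁻¹) * z⁻¹) = x * c * x⁻¹ * c⁻¹ := by group
    rwa [e] at h7

omit E in
/-- **The field `frat`.** -/
theorem frat [Finite F] (T : Subgroup G) (hT : T ≤ U)
    (hcov : ∀ u ∈ U, ∃ t ∈ T, t⁻¹ * u ∈ Qk B (XX V R ⊔ B) ∧ t⁻¹ * u ∈ Qk B P₂) :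
    ∀ u ∈ U, ∃ t ∈ T, t⁻¹ * u ∈ Qk B ((XX V R ⊔ B) ⊔ P₂) := by
  obtain ⟨i₂, n₁, n₂, E⟩ := D.exists_fr
  have hK : U ⊓ centralizer (M : Set G) ≤ Qk B ((XX V R ⊔ B) ⊔ P₂) :=
    (inf_le_inf_right _ D.nod.U_le).trans D.cen_le_Qk
  have C := D.cenMod_Q E
  have hUM : ∀ x ∈ U, ∀ c ∈ U ⊓ centralizer (M : Set G), x⁻¹ * c * x ∈ U ⊓ centralizer (M : Set G) :=
    fun x hx c hc => C.norm' hx hc
  -- `T` covers `U₁`
  have key : ∀ z ∈ UU V R i₁, ∃ t ∈ T, t⁻¹ * z ∈ U ⊓ centralizer (M : Set G) := by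
    intro z hz
    obtain ⟨w, hw, hwV⟩ := Set.not_subset.1 (D.U₁_V E)
    have hwW : w ∈ WW V (R i₁) := D.U₁_n₂_le E hw
    have hwU : w ∈ U := D.nod.W_le hwW
    have hw' : w ∉ UU V R i₁ := fun h => hwV (UU_le_cen i₁ h)
    obtain ⟨u, hu, hd⟩ := D.bt.surj (Ne.symm E.ne) hwW hw' hz
    have huU := D.U_UU i₂ hu
    obtain ⟨t₁, ht₁, a1, a2⟩ := hcov w hwU
    obtain ⟨t₂, ht₂, b1, b2⟩ := hcov u huU
    have hq : ∀ {x t : G}, x ∈ U → t ∈ T → t⁻¹ * x ∈ Qk B (XX V R ⊔ B) → t⁻¹ * x ∈ Qk B P₂ →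
        x * t⁻¹ ∈ U ⊓ (Qk B (XX V R ⊔ B) ⊓ Qk B P₂) := by
      intro x t hx ht h1 h2
      have htB := D.nod.U_le (hT ht)
      have k1 := Qk_conj' h1 (mem_sup_right htB : t ∈ XX V R ⊔ B)
      have k2 := Qk_conj' h2 (D.le₂ htB)
      have e : t * (t⁻¹ * x) * t⁻¹ = x * t⁻¹ := by group
      rw [e] at k1 k2
      exact mem_inf.2 ⟨mul_mem hx (inv_mem (hT ht)), mem_inf.2 ⟨k1, k2⟩⟩
    have h1 := C.commutator_mul (hq hwU ht₁ a1 a2) (hq huU ht₂ b1 b2) (hT ht₁) (hT ht₂)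
    rw [inv_mul_cancel_right, inv_mul_cancel_right] at h1
    refine ⟨⁅t₁, t₂⁆, ?_, ?_⟩
    · rw [commutatorElement_def]
      exact mul_mem (mul_mem (mul_mem ht₁ ht₂) (inv_mem ht₁)) (inv_mem ht₂)
    · have ht : ⁅t₁, t₂⁆ ∈ U := by
        rw [commutatorElement_def]
        exact mul_mem (mul_mem (mul_mem (hT ht₁) (hT ht₂)) (inv_mem (hT ht₁))) (inv_mem (hT ht₂))
      have h2 := hUM _ ht _ h1
      have h3 : (⁅w, u⁆)⁻¹ * z ∈ U ⊓ centralizer (M : Set G) := by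
        rw [commutatorElement_def]
        refine mem_inf.2 ⟨D.U_UU i₁ (D.bt.D_le_U i₁ hd), ?_⟩
        rw [mem_centralizer_iff]
        exact fun m hm => D.bt.D_comm (D.M_D hm) hd
      have h4 := mul_mem h2 h3
      have e : (⁅t₁, t₂⁆)⁻¹ * (⁅w, u⁆ * (⁅t₁, t₂⁆)⁻¹) * ⁅t₁, t₂⁆ * ((⁅w, u⁆)⁻¹ * z) = (⁅t₁, t₂⁆)⁻¹ * z := by group
      rwa [e] at h4
  intro u hu
  obtain ⟨t, ht, h1, h2⟩ := hcov u hu
  have hqU : t⁻¹ * u ∈ U := mul_mem (inv_mem (hT ht)) hu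
  obtain ⟨z, hz, hk⟩ := D.dec E hqU h1 h2
  obtain ⟨t', ht', hk'⟩ := key z hz
  refine ⟨t * t', mul_mem ht ht', hK ?_⟩
  have hkU : z⁻¹ * (t⁻¹ * u) ∈ U ⊓ centralizer (M : Set G) :=
    mem_inf.2 ⟨mul_mem (inv_mem (D.U_UU i₁ hz)) hqU, hk⟩
  have h3 := mul_mem hk' hkU
  have e : t'⁻¹ * z * (z⁻¹ * (t⁻¹ * u)) = (t * t')⁻¹ * u := by group
  rwa [e] at h3

/-! ### the torus -/

/-- an element of `U₂` which centralises `R₃` acts trivially on the panel -/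
theorem Qk_of_R₃ {y : G} (hy : y ∈ UU V R i₂) (h : ∀ r ∈ rc (R i₂) n₂, y * r * y⁻¹ = r) : y ∈ Qk B P₂ := by
  have hyU := D.U_UU i₂ hy
  refine D.reg₂ y hyU n₂⁻¹ (inv_mem E.n₂_mem) (D.n₂_inv_not E) ?_
  rw [inv_inv]
  refine D.NV₂ (mem_inf.2 ⟨mul_mem (mul_mem E.n₂_mem (D.le₂ (D.nod.U_le hyU))) (inv_mem E.n₂_mem),
    mem_normalizer_of_rc_eq ?_⟩)
  have h1 : rc (rc V n₂) y = rc V n₂ := by
    rw [D.V_n₂ E, rc_sup]
    congr 1
    · refine Ce.rc_eq fun r hr => ?_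
      exact (mem_centralizer_iff.1 (UU_le_cen i₂ hy) r (D.bt.R_le i₁ hr)).symm
    · refine Ce.rc_eq fun r hr => ?_
      rw [← mul_inv_eq_iff_eq_mul, h r hr]
  rw [← rc_rc, ← rc_rc]
  have h2 : rc (rc (rc V n₂) y) n₂⁻¹ = V := by rw [h1, rc_rc, mul_inv_cancel, rc_one]
  have h3 : rc V n₂ = rc (rc V (n₂ * y * n₂⁻¹)) n₂ := by
    rw [rc_rc, inv_mul_cancel_right, ← rc_rc, h1]
  have h4 := rc_inj h3
  rw [← rc_rc, ← rc_rc] at h4
  exact h4.symm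

/-- `n₁` acts trivially on `M / V`, so `n₁ b n₁⁻¹` acts on `R₃` as `b` -/
theorem n₁_act₃ {b : G} (hb : b ∈ H) {r : G}
    (hr : r ∈ rc (R i₂) n₂) : n₁ * b * n₁⁻¹ * r * (n₁ * b * n₁⁻¹)⁻¹ = b * r * b⁻¹ := by
  have hrM := D.R₃_M E hr
  have hyV : n₁ ∈ normalizer (V : Set G) := D.n₁_V E
  have hyM : n₁ ∈ normalizer (M : Set G) := D.P₁_M E.n₁_mem
  have hy1 : ∀ m ∈ M, n₁ * m * n₁⁻¹ * m⁻¹ ∈ V := by
    intro m hm
    have hn : U ≤ normalizer (XX V R : Set G) := D.nod.U_le.trans (D.nod.B_X D.bt)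
    have h0 := E.n₁_XU
    rw [sup_comm] at h0
    obtain ⟨x, hx, u, hu, e⟩ := Solvable.Glauberman.exists_mul_of_mem_sup U (XX V R) hn h0
    have h1 := D.U_M E hu hm
    have h2 := BTwo.conj_mem_of_normalizer (D.P₁_M (mem_sup_right (D.nod.U_le hu))) hm
    have h3 := D.bt.XD hx (D.M_D h2)
    have h4 := mul_mem h3 h1
    have e2 : x * (u * m * u⁻¹) * x⁻¹ * (u * m * u⁻¹)⁻¹ * (u * m * u⁻¹ * m⁻¹) = n₁ * m * n₁⁻¹ * m⁻¹ := by
      rw [e]; group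
    rwa [e2] at h4
  have hbV := D.nod.B_V (D.hall.H_le hb)
  have hbM := D.P₁_M (mem_sup_right (D.hall.H_le hb))
  -- modulo `V`
  have h1 : n₁ * b * n₁⁻¹ * r * (n₁ * b * n₁⁻¹)⁻¹ * (b * r * b⁻¹)⁻¹ ∈ V := by
    have k1 := hy1 _ (BTwo.conj_mem_of_normalizer hbM (conj_inv_mem_of_normalizer hyM hrM))
    have k2 := BTwo.conj_mem_of_normalizer hbV (inv_mem (hy1 _ (conj_inv_mem_of_normalizer hyM hrM)))
    have k3 := mul_mem k1 k2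
    have e2 : n₁ * (b * (n₁⁻¹ * r * n₁) * b⁻¹) * n₁⁻¹ * (b * (n₁⁻¹ * r * n₁) * b⁻¹)⁻¹ *
        (b * (n₁ * (n₁⁻¹ * r * n₁) * n₁⁻¹ * (n₁⁻¹ * r * n₁)⁻¹)⁻¹ * b⁻¹) =
        n₁ * b * n₁⁻¹ * r * (n₁ * b * n₁⁻¹)⁻¹ * (b * r * b⁻¹)⁻¹ := by group
    rwa [e2] at k3
  have hb' : n₁ * b * n₁⁻¹ ∈ H := BTwo.conj_mem_of_normalizer E.n₁_H hb
  have h2 : ∀ {b : G}, b ∈ H → b * r * b⁻¹ ∈ rc (R i₂) n₂ := by
    intro b hb
    rw [← D.R₃_H E (inv_mem hb), mem_rc]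
    have e : b⁻¹ * (b * r * b⁻¹) * b⁻¹⁻¹ = r := by group
    rwa [e]
  exact mul_inv_eq_one.1 (D.R₃_V E h1 (mul_mem (h2 hb') (inv_mem (h2 hb))))

/-- the elements of the torus of `X` act trivially on `R₃` -/
theorem tor_R₃ {v : F → F → G} {w1 w2 : F → G} (c : Coord V R i₁ i₂ v w1 w2) {a : F}
    {h u : G} (hh' : h ∈ H) (hu : u ∈ U) (huV : u ∈ centralizer (V : Set G)) (e : hh w1 w2 a = u * h)
    {r : G} (hr : r ∈ rc (R i₂) n₂) : h * r * h⁻¹ = r := by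
  have h1 : ∀ m ∈ M, h * m * h⁻¹ * m⁻¹ ∈ V := by
    intro m hm
    have h2 := D.bt.XD (c.hh_mem_X D.bt a) (D.M_D hm)
    have h3 := D.U_M E (inv_mem hu) hm
    have h4 := mul_mem (conj_inv_mem_of_normalizer (cen_le_NV V huV) h2) h3
    have e2 : u⁻¹ * (hh w1 w2 a * m * (hh w1 w2 a)⁻¹ * m⁻¹) * u * (u⁻¹ * m * u⁻¹⁻¹ * m⁻¹) =
        h * m * h⁻¹ * m⁻¹ := by rw [e]; group
    rwa [e2] at h4
  have h3 : h * r * h⁻¹ ∈ rc (R i₂) n₂ := by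
    rw [← D.R₃_H E (inv_mem hh'), mem_rc]
    have e3 : h⁻¹ * (h * r * h⁻¹) * h⁻¹⁻¹ = r := by group
    rwa [e3]
  exact mul_inv_eq_one.1 (D.R₃_V E (h1 r (D.R₃_M E hr)) (mul_mem h3 (inv_mem hr)))

omit E in
/-- **The field `torus`.** -/
theorem sepG [Finite F] (hC : P₂ ≤ (P₂ ⊓ centralizer (R i₁ : Set G)) ⊔ B)
    (hF : ∃ a : F, a ≠ 0 ∧ a ^ 3 ≠ 1) : SepG 2 B U P₂ (XX V R ⊔ B) := by
  obtain ⟨i₂, n₁, n₂, E, hn₂C⟩ := D.exists_fr_cen hC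
  obtain ⟨a, ha, ha3⟩ := hF
  obtain ⟨v, w1, w2, c⟩ := D.coord i₂ E.ne
  obtain ⟨t, ht, hact, u, hu, huV, e⟩ := D.exists_tor E.ne E.H_R c ha
  have ht3 : ∀ r ∈ rc (R i₂) n₂, t * r * t⁻¹ = r := fun r hr => D.tor_R₃ E c ht hu huV e hr
  set s := n₂⁻¹ * t * n₂ with hs
  have hsH : s ∈ H := conj_inv_mem_of_normalizer E.n₂_H ht
  have htR1 : ∀ x, t * v x 0 * t⁻¹ = v (a * x) 0 := fun x => by rw [hact, mul_zero]
  have htR2 : ∀ y, t * v 0 y * t⁻¹ = v 0 (a⁻¹ * y) := fun y => by rw [hact, mul_zero]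
  -- the action of `s`
  have hsR1 : ∀ x, s * v x 0 * s⁻¹ = v (a * x) 0 := by
    intro x
    have h1 : ∀ y, n₂ * v y 0 * n₂⁻¹ = v y 0 := fun y => by
      rw [← mem_centralizer_iff.1 hn₂C _ ((c.mem_R1 _).2 ⟨y, rfl⟩), mul_inv_cancel_right]
    have h2 : n₂⁻¹ * v (a * x) 0 * n₂ = v (a * x) 0 := by
      conv_lhs => rw [← h1 (a * x)]
      group
    have e3 : s * v x 0 * s⁻¹ = n₂⁻¹ * (t * (n₂ * v x 0 * n₂⁻¹) * t⁻¹) * n₂ := by rw [hs]; group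
    rw [e3, h1, htR1, h2]
  have hn₂R2 : rc (R i₂) n₂⁻¹ = rc (R i₂) n₂ := by
    conv_lhs => rw [← D.R₃_n₂ E]
    rw [rc_rc, mul_inv_cancel, rc_one]
  have hsR2 : ∀ r ∈ R i₂, s * r * s⁻¹ = r := by
    intro r hr
    have h1 : n₂ * r * n₂⁻¹ ∈ rc (R i₂) n₂ := by
      rw [← hn₂R2, mem_rc]
      have e3 : n₂⁻¹ * (n₂ * r * n₂⁻¹) * n₂⁻¹⁻¹ = r := by group
      rwa [e3]
    have h2 := ht3 _ h1
    have e3 : s * r * s⁻¹ = n₂⁻¹ * (t * (n₂ * r * n₂⁻¹) * t⁻¹) * n₂ := by rw [hs]; group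
    rw [e3, h2]; group
  set b := t * s with hb
  have hbH : b ∈ H := mul_mem ht hsH
  have hbR1 : ∀ x, b * v x 0 * b⁻¹ = v (a * a * x) 0 := by
    intro x
    have e3 : b * v x 0 * b⁻¹ = t * (s * v x 0 * s⁻¹) * t⁻¹ := by rw [hb]; group
    rw [e3, hsR1, htR1, mul_assoc]
  have hbR2 : ∀ y, b * v 0 y * b⁻¹ = v 0 (a⁻¹ * y) := by
    intro y
    have e3 : b * v 0 y * b⁻¹ = t * (s * v 0 y * s⁻¹) * t⁻¹ := by rw [hb]; group
    rw [e3, hsR2 _ ((c.mem_R2 _).2 ⟨y, rfl⟩), htR2]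
  have hbact : ∀ x y, b * v x y * b⁻¹ = v (a * a * x) (a⁻¹ * y) := by
    intro x y
    have h1 := c.v_add x 0 0 y
    rw [add_zero, zero_add] at h1
    have h2 := c.v_add (a * a * x) 0 0 (a⁻¹ * y)
    rw [add_zero, zero_add] at h2
    rw [h1, h2, ← hbR1, ← hbR2]; group
  -- `b₁ = n₁ b n₁⁻¹`
  have hb₁H : n₁ * b * n₁⁻¹ ∈ H := BTwo.conj_mem_of_normalizer E.n₁_H hbH
  have hb₁ := D.n₁_act E c hbact
  have hb₁3 : ∀ r ∈ rc (R i₂) n₂, n₁ * b * n₁⁻¹ * r * (n₁ * b * n₁⁻¹)⁻¹ = s * r * s⁻¹ := by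
    intro r hr
    rw [D.n₁_act₃ E hbH hr]
    have hsr : s * r * s⁻¹ ∈ rc (R i₂) n₂ := by
      rw [← D.R₃_H E (inv_mem hsH), mem_rc]
      have e3 : s⁻¹ * (s * r * s⁻¹) * s⁻¹⁻¹ = r := by group
      rwa [e3]
    have e3 : b * r * b⁻¹ = t * (s * r * s⁻¹) * t⁻¹ := by rw [hb]; group
    rw [e3, ht3 _ hsr]
  set g := n₂ * n₁ with hg
  -- `g b g⁻¹` acts on `V` as the scalar `a⁻¹`
  have hgb : g * b * g⁻¹ = n₂ * (n₁ * b * n₁⁻¹) * n₂⁻¹ := by rw [hg]; group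
  have hg1 : ∀ x, g * b * g⁻¹ * v x 0 * (g * b * g⁻¹)⁻¹ = v (a⁻¹ * x) 0 := by
    intro x
    have h1 : ∀ y, n₂ * v y 0 * n₂⁻¹ = v y 0 := fun y => by
      rw [← mem_centralizer_iff.1 hn₂C _ ((c.mem_R1 _).2 ⟨y, rfl⟩), mul_inv_cancel_right]
    have h2 : n₂⁻¹ * v x 0 * n₂ = v x 0 := by
      conv_lhs => rw [← h1 x]
      group
    have e3 : g * b * g⁻¹ * v x 0 * (g * b * g⁻¹)⁻¹ =
        n₂ * (n₁ * b * n₁⁻¹ * (n₂⁻¹ * v x 0 * n₂) * (n₁ * b * n₁⁻¹)⁻¹) * n₂⁻¹ := by rw [hgb]; group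
    rw [e3, h2, hb₁, mul_zero, h1]
  have hg2 : ∀ y, g * b * g⁻¹ * v 0 y * (g * b * g⁻¹)⁻¹ = v 0 (a⁻¹ * y) := by
    intro y
    have h1 : n₂⁻¹ * v 0 y * n₂ ∈ rc (R i₂) n₂ := mem_rc_conj ((c.mem_R2 _).2 ⟨y, rfl⟩)
    have h2 := hb₁3 _ h1
    have e3 : g * b * g⁻¹ * v 0 y * (g * b * g⁻¹)⁻¹ =
        n₂ * (n₁ * b * n₁⁻¹ * (n₂⁻¹ * v 0 y * n₂) * (n₁ * b * n₁⁻¹)⁻¹) * n₂⁻¹ := by rw [hgb]; group
    have e4 : n₂ * (s * (n₂⁻¹ * v 0 y * n₂) * s⁻¹) * n₂⁻¹ = t * v 0 y * t⁻¹ := by rw [hs]; group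
    rw [e3, h2, e4, htR2]
  have hgact : ∀ x y, g * b * g⁻¹ * v x y * (g * b * g⁻¹)⁻¹ = v (a⁻¹ * x) (a⁻¹ * y) := by
    intro x y
    have h1 := c.v_add x 0 0 y
    rw [add_zero, zero_add] at h1
    have h2 := c.v_add (a⁻¹ * x) 0 0 (a⁻¹ * y)
    rw [add_zero, zero_add] at h2
    rw [h1, h2, ← hg1, ← hg2]; group
  -- points
  have hR3g : rc (R i₂) g = rc (R i₂) n₂ := by rw [hg, ← rc_rc, D.R₃_n₁ E]
  have hW : ∀ x ∈ UU V R i₂, g * x * g⁻¹ ∈ WW V (R i₁) := by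
    intro x hx
    rw [← mem_rc, hg, ← rc_rc, D.W₁_n₂ E, D.W₁_n₁ E]
    exact UU_le_WW i₂ hx
  -- `b` commutes with the action of `U₂` on `R₂ R₃`
  have hbx : ∀ x ∈ UU V R i₂, ∀ r ∈ rc (R i₂) n₂,
      b * x * b⁻¹ * x⁻¹ * r * (b * x * b⁻¹ * x⁻¹)⁻¹ = r := by
    intro x hx r hr
    have hr' : g * r * g⁻¹ ∈ R i₂ := by rw [← mem_rc, hR3g]; exact hr
    obtain ⟨y, hy⟩ := (c.mem_R2 _).1 hr'
    obtain ⟨d, hd⟩ := c.W1_act _ (hW x hx)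
    have hdinv : ∀ p q, (g * x * g⁻¹)⁻¹ * v p q * (g * x * g⁻¹) = v (p - d * q) q := by
      intro p q
      have := hd (p - d * q) q
      rw [sub_add_cancel] at this
      rw [← this]; group
    have hginv : ∀ p q, (g * b * g⁻¹)⁻¹ * v p q * (g * b * g⁻¹) = v (a * p) (a * q) := by
      intro p q
      have h5 : ∀ z : F, a⁻¹ * (a * z) = z := fun z => by rw [← mul_assoc, inv_mul_cancel₀ ha, one_mul]
      have := hgact (a * p) (a * q)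
      rw [h5, h5] at this
      rw [← this]; group
    have e3 : g * (b * x * b⁻¹ * x⁻¹ * r * (b * x * b⁻¹ * x⁻¹)⁻¹) * g⁻¹ =
        g * b * g⁻¹ * ((g * x * g⁻¹) * ((g * b * g⁻¹)⁻¹ * ((g * x * g⁻¹)⁻¹ * (g * r * g⁻¹) * (g * x * g⁻¹)) *
          (g * b * g⁻¹)) * (g * x * g⁻¹)⁻¹) * (g * b * g⁻¹)⁻¹ := by group
    have h1 : g * (b * x * b⁻¹ * x⁻¹ * r * (b * x * b⁻¹ * x⁻¹)⁻¹) * g⁻¹ = g * r * g⁻¹ := by
      rw [e3, ← hy, hdinv, hginv, hd, hgact]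
      congr 1
      · ring
      · rw [← mul_assoc, inv_mul_cancel₀ ha, one_mul]
    have e4 : ∀ z : G, g⁻¹ * (g * z * g⁻¹) * g = z := fun z => by group
    rw [← e4 (b * x * b⁻¹ * x⁻¹ * r * (b * x * b⁻¹ * x⁻¹)⁻¹), h1, e4]
  have hbB := D.hall.H_le hbH
  refine D.nod.sepG D.bt E.ne hbB ⟨Nat.card H, ?_, ?_⟩ (cj_eq_self_iff.2 (E.H_R hbH)) ?_ ?_
  · exact D.hall.H_cop
  · exact ParSys.Hall.pow_card_of_mem hbH
  · refine fun k hk => D.fix_two' E.ne c ?_ hbact k hk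
    intro h
    apply ha3
    calc a ^ 3 = a * a * a := by ring
      _ = a⁻¹ * a := by rw [h]
      _ = 1 := inv_mul_cancel₀ ha
  · intro y hy
    obtain ⟨x, hx, hq⟩ := D.cov E.ne hy
    have hxU := D.U_UU i₂ hx
    have hbx2 : b * x * b⁻¹ * x⁻¹ ∈ UU V R i₂ := by
      have h1 : cj b (UU V R i₂) = UU V R i₂ :=
        D.bt.cj_UU (D.nod.B_V hbB) (cj_eq_self_iff.2 (E.H_R hbH))
      have h2 : b * x * b⁻¹ ∈ UU V R i₂ := by rw [← h1]; exact conj_mem_cj hx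
      exact mul_mem h2 (inv_mem hx)
    have h1 := D.Qk_of_R₃ E hbx2 (hbx x hx)
    have h2 : b * (x⁻¹ * y) * b⁻¹ * (x⁻¹ * y)⁻¹ ∈ Qk B P₂ :=
      mul_mem (Qk_conj' hq (D.le₂ hbB)) (inv_mem hq)
    have h3 := Qk_conj' h2 (D.le₂ (D.nod.U_le hxU))
    have h4 := mul_mem h1 h3
    have e3 : b * x * b⁻¹ * x⁻¹ * (x * (b * (x⁻¹ * y) * b⁻¹ * (x⁻¹ * y)⁻¹) * x⁻¹) = b * y * b⁻¹ * y⁻¹ := by group
    rwa [e3] at h4

end PairA

end Cfsg.Agent.Omega.HOne.End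

end
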