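import Cfsg.Agent.Mrg.ParSys.FrontSys
import Cfsg.Agent.Mrg.Omega.BTwo.Split


/-!
# II.0h1, END: the node of `V = N`

`Nod V R U B i₁ i₂`: `U ≤ B` fix the point `R i₁`, `XX V R ⊔ B` is the minimal parabolic subgroup of the node of `V`.
The fields `three`, `ptr`, `reg`, `fpf` of `Front.sys` for this node, and `SepG` against another node.
-/

set_option autoImplicit false

namespace Cfsg.Agent.Omega.HOne.End

open Subgroup Cfsg.Agent.Omega.BTwo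
open Cfsg.Agent.ParSys (Qk FpfG SepG mem_Qk Qk_le)

variable {G : Type*} [Group G] {ι : Type*}

/-- The node of `V`: `U ≤ B` fix the point `R i₁`. -/
structure Nod (V : Subgroup G) (R : ι → Subgroup G) (U B : Subgroup G) (i₁ : ι) : Prop where
  U_le : U ≤ B
  W_le : WW V (R i₁) ≤ U
  B_V : B ≤ normalizer (V : Set G)
  B_R : B ≤ normalizer (R i₁ : Set G)
  /-- `U` centralises `R i₁` -/
  UR : ∀ u ∈ U, ∀ a ∈ R i₁, u * a * u⁻¹ = a
  /-- `[V, U] ≤ R i₁` -/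
  UV : ∀ u ∈ U, ∀ v ∈ V, u * v * u⁻¹ * v⁻¹ ∈ R i₁
  /-- the stabiliser of `R i₁` in `X` -/
  X_B : XX V R ⊓ normalizer (R i₁ : Set G) ≤ B

namespace Nod

variable {V : Subgroup G} {R : ι → Subgroup G} {U B : Subgroup G} {i₁ : ι}

/-- an element of `N(V)` which fixes all points -/
def Fx (R : ι → Subgroup G) : Subgroup G := ⨅ k, normalizer (R k : Set G)

theorem mem_Fx {x : G} : x ∈ Fx R ↔ ∀ k, cj x (R k) = R k := by
  rw [Fx, Subgroup.mem_iInf]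
  exact forall_congr' fun k => cj_eq_self_iff.symm

variable (b : BT V R) (D : Nod V R U B i₁)
include b D

theorem B_X : B ≤ normalizer (XX V R : Set G) := D.B_V.trans b.NV_le_NX

theorem mem_P {g : G} (hg : g ∈ XX V R ⊔ B) : ∃ x ∈ XX V R, ∃ c ∈ B, g = x * c := by
  rw [sup_comm] at hg
  obtain ⟨x, hx, c, hc, rfl⟩ := Solvable.Glauberman.exists_mul_of_mem_sup B (XX V R) (D.B_X b) hg
  exact ⟨x, hx, c, hc, rfl⟩

/-- `P ∩ N(R i₁) = B` -/
theorem mem_B_iff {g : G} (hg : g ∈ XX V R ⊔ B) : g ∈ B ↔ cj g (R i₁) = R i₁ := by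
  constructor
  · exact fun h => cj_eq_self_iff.2 (D.B_R h)
  · intro h
    obtain ⟨x, hx, c, hc, rfl⟩ := D.mem_P b hg
    rw [cj_mul, cj_eq_self_iff.2 (D.B_R hc), cj_eq_self_iff] at h
    exact mul_mem (D.X_B ⟨hx, h⟩) hc

theorem P_V : XX V R ⊔ B ≤ normalizer (V : Set G) := sup_le b.X_le_NV D.B_V

/-- two elements of `P` with the same image of `R i₁` are in the same coset -/
theorem coset {g h : G} (hg : g ∈ XX V R ⊔ B) (hh : h ∈ XX V R ⊔ B) :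
    g⁻¹ * h ∈ B ↔ cj g (R i₁) = cj h (R i₁) := by
  rw [D.mem_B_iff b (mul_mem (inv_mem hg) hh), cj_mul]
  constructor
  · intro h1
    have := congrArg (cj g) h1
    rwa [cj_cj_inv, eq_comm] at this
  · intro h1
    rw [← h1, cj_inv_cj]

theorem exists_k {g : G} (hg : g ∈ XX V R ⊔ B) : ∃ k, cj g (R i₁) = R k := b.perm g (D.P_V b hg) i₁

/-- the kernel of the panel -/
theorem mem_Qk_iff {x : G} : x ∈ Qk B (XX V R ⊔ B) ↔ x ∈ B ∧ ∀ k, cj x (R k) = R k := by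
  constructor
  · intro hx
    refine ⟨Qk_le _ _ hx, fun k => ?_⟩
    obtain ⟨g, hg, e⟩ := b.trans_X_one i₁ k
    have hg' : g ∈ XX V R ⊔ B := mem_sup_left hg
    have h1 := cj_eq_self_iff.2 (D.B_R (hx g hg'))
    rw [cj_mul, cj_mul, e] at h1
    have := congrArg (cj g) h1
    rwa [cj_cj_inv, e] at this
  · rintro ⟨hxB, hx⟩ g hg
    have hxP : x ∈ XX V R ⊔ B := mem_sup_right hxB
    rw [D.mem_B_iff b (mul_mem (mul_mem (inv_mem hg) hxP) hg), cj_mul, cj_mul]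
    obtain ⟨k, hk⟩ := D.exists_k b hg
    rw [hk, hx k, ← hk, cj_inv_cj]

/-- an element of `U` which fixes a second point centralises `V` -/
theorem cen_of_fix {u : G} (hu : u ∈ U) {k : ι} (hk : k ≠ i₁) (h : cj u (R k) = R k) :
    u ∈ centralizer (V : Set G) := by
  have h1 : R k ≤ centralizer {u} := by
    intro v hv
    rw [mem_centralizer_singleton_iff]
    have h2 : u * v * u⁻¹ ∈ R k := by rw [← h]; exact conj_mem_cj hv
    have h3 := D.UV u hu v (b.R_le k hv)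
    have h4 := b.eq_one hk (mul_mem h2 (inv_mem hv)) h3
    rw [mul_inv_eq_one, mul_inv_eq_iff_eq_mul] at h4
    exact h4.symm
  have h2 : R i₁ ≤ centralizer {u} := by
    intro v hv
    rw [mem_centralizer_singleton_iff]
    have := D.UR u hu v hv
    rw [mul_inv_eq_iff_eq_mul] at this
    exact this.symm
  have h3 : V ≤ centralizer {u} := by
    rw [← b.R_sup k i₁ hk]
    exact sup_le h1 h2
  rw [mem_centralizer_iff]
  exact fun v hv => mem_centralizer_singleton_iff.1 (h3 hv)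

theorem cen_Qk {u : G} (hu : u ∈ B) (h : u ∈ centralizer (V : Set G)) : u ∈ Qk B (XX V R ⊔ B) :=
  (D.mem_Qk_iff b).2 ⟨hu, fun k => cj_eq_self_iff.2 (b.cen_le_N k h)⟩

/-- `U ∩ Qk = C_U(V)` -/
theorem mem_Qk_iff_cen {u : G} (hu : u ∈ U) : u ∈ Qk B (XX V R ⊔ B) ↔ u ∈ centralizer (V : Set G) := by
  refine ⟨fun h => ?_, D.cen_Qk b (D.U_le hu)⟩
  obtain ⟨k, hk, -⟩ := b.third i₁ i₁
  exact D.cen_of_fix b hu hk (((D.mem_Qk_iff b).1 h).2 k)

theorem three : ∃ x ∈ XX V R ⊔ B, ∃ y ∈ XX V R ⊔ B, x ∉ B ∧ y ∉ B ∧ x⁻¹ * y ∉ B := by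
  obtain ⟨k, hk, -⟩ := b.third i₁ i₁
  obtain ⟨l, hl, hlk⟩ := b.third i₁ k
  obtain ⟨x, hx, ex⟩ := b.trans_X_one i₁ k
  obtain ⟨y, hy, ey⟩ := b.trans_X_one i₁ l
  have hx' : x ∈ XX V R ⊔ B := mem_sup_left hx
  have hy' : y ∈ XX V R ⊔ B := mem_sup_left hy
  refine ⟨x, hx', y, hy', ?_, ?_, ?_⟩
  · rw [D.mem_B_iff b hx', ex]
    exact fun h => hk (b.R_index h)
  · rw [D.mem_B_iff b hy', ey]
    exact fun h => hl (b.R_index h)
  · rw [D.coset b hx' hy', ex, ey]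
    exact fun h => hlk (b.R_index h).symm

theorem ptr : ParSys.Hall.HallData.PTr B U (XX V R ⊔ B) := by
  intro g hg hgB g' hg' hgB'
  obtain ⟨k, hk⟩ := D.exists_k b hg
  obtain ⟨l, hl⟩ := D.exists_k b hg'
  have hk1 : k ≠ i₁ := by
    rintro rfl
    exact hgB ((D.mem_B_iff b hg).2 hk)
  have hl1 : l ≠ i₁ := by
    rintro rfl
    exact hgB' ((D.mem_B_iff b hg').2 hl)
  obtain ⟨w, hw, e⟩ := b.trans i₁ hk1 hl1
  refine ⟨w, D.W_le hw, (w * g)⁻¹ * g', ?_, by group⟩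
  have hwP : w ∈ XX V R ⊔ B := mem_sup_left (W_le_X V R i₁ hw)
  rw [D.coset b (mul_mem hwP hg) hg', cj_mul, hk, hl, e]

theorem reg : ∀ u ∈ U, ∀ g ∈ XX V R ⊔ B, g ∉ B → g⁻¹ * u * g ∈ B → u ∈ Qk B (XX V R ⊔ B) := by
  intro u hu g hg hgB h
  obtain ⟨k, hk⟩ := D.exists_k b hg
  have hk1 : k ≠ i₁ := by
    rintro rfl
    exact hgB ((D.mem_B_iff b hg).2 hk)
  have h1 := cj_eq_self_iff.2 (D.B_R h)
  rw [cj_mul, cj_mul, hk] at h1
  have h2 := congrArg (cj g) h1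
  rw [cj_cj_inv, hk] at h2
  exact D.cen_Qk b (D.U_le hu) (D.cen_of_fix b hu hk1 h2)

/-- An element which fixes only the points `R i₁`, `R i₂` is fixed-point-free on `U / Qk`. -/
theorem fpf_of {i₂ : ι} (h12 : i₁ ≠ i₂) {t : G} (ht2 : cj t (R i₂) = R i₂)
    (hfix : ∀ k, cj t (R k) = R k → k = i₁ ∨ k = i₂) :
    ∀ u ∈ U, t * u * t⁻¹ * u⁻¹ ∈ Qk B (XX V R ⊔ B) → u ∈ Qk B (XX V R ⊔ B) := by
  intro u hu h
  have h1 := ((D.mem_Qk_iff b).1 h).2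
  have huP : u ∈ XX V R ⊔ B := mem_sup_right (D.U_le hu)
  obtain ⟨k, hk⟩ := b.perm u (D.P_V b huP) i₂
  have h2 := h1 k
  have ht2' : cj t⁻¹ (R i₂) = R i₂ := by
    conv_lhs => rw [← ht2]
    rw [cj_inv_cj]
  have hk' : cj u⁻¹ (R k) = R i₂ := by rw [← hk, cj_inv_cj]
  rw [cj_mul, cj_mul, cj_mul, hk', ht2', hk] at h2
  rcases hfix k h2 with rfl | rfl
  · exfalso
    apply h12
    have h3 := cj_eq_self_iff.2 (D.B_R (D.U_le hu))
    exact b.R_index (cj_injective (h3.trans hk.symm))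
  · exact D.cen_Qk b (D.U_le hu) (D.cen_of_fix b hu h12.symm hk)

/-- `FpfG` for the node of `V` -/
theorem fpfG {i₂ : ι} (h12 : i₁ ≠ i₂) {t : G} (ht : t ∈ B) (hodd : ∃ k : ℕ, Nat.Coprime 2 k ∧ t ^ k = 1)
    (ht2 : cj t (R i₂) = R i₂) (hfix : ∀ k, cj t (R k) = R k → k = i₁ ∨ k = i₂) :
    FpfG 2 B U (XX V R ⊔ B) :=
  ⟨t, ht, hodd, D.fpf_of b h12 ht2 hfix⟩

/-- `SepG` for another node `P'` and the node of `V` -/
theorem sepG {i₂ : ι} (h12 : i₁ ≠ i₂) {P' : Subgroup G} {t : G} (ht : t ∈ B)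
    (hodd : ∃ k : ℕ, Nat.Coprime 2 k ∧ t ^ k = 1)
    (ht2 : cj t (R i₂) = R i₂) (hfix : ∀ k, cj t (R k) = R k → k = i₁ ∨ k = i₂)
    (hP' : ∀ u ∈ U, t * u * t⁻¹ * u⁻¹ ∈ Qk B P') : SepG 2 B U P' (XX V R ⊔ B) :=
  ⟨t, ht, hodd, hP', D.fpf_of b h12 ht2 hfix⟩

end Nod

end Cfsg.Agent.Omega.HOne.End
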