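import Cfsg.Agent.Mrg.Omega.HOne.TvOpp


/-!
# II.0h1, `q = 2`, case (beta): (D) of #17185 (helper202), `e ≥ 2` is dead

`TvE2.eleven (h : TvH M r t Q N) (g1 : G1 M r t Q) : JEleven M r t Q N` : if all pairs of different lines on a
point are opposite, there are exactly three lines on a point.  Nothing about the constant `c_0` is used.
-/

set_option autoImplicit false
set_option linter.unusedSectionVars false

namespace Cfsg.Agent.Omega.HOne.TvE2

open Subgroup Cfsg.Agent.Omega.HOne.TvDef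

variable {G : Type*} [Group G] {M : Subgroup G} {r t : G} {Q N : G → Subgroup G}

/-- `n ∈ K_t` acting trivially on `Q r / Z(Q r)` lies in `Q r` -/
def G1 (M : Subgroup G) (r t : G) (Q : G → Subgroup G) : Prop :=
  ∀ n ∈ UU M r, n ∈ ZC Q t → (∀ q ∈ Q r, q * n * q⁻¹ * n⁻¹ ∈ ZC Q r) → n ∈ Q r

/-! ### a calculus in elementary abelian groups -/

/-- `∈ F` is an equivalence modulo `F` -/
theorem five {C : Type*} [CommGroup C] (sq : ∀ a : C, a * a = 1) (F : Subgroup C) {A B e D E d f : C}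
    (h1 : A * B ∈ F) (h2 : B * e ∈ F) (h3 : A * D * E ∈ F) (h4 : D * d ∈ F) (h5 : E * f ∈ F) :
    d * e * f ∈ F := by
  have sq' : ∀ a b : C, a * (a * b) = b := fun a b => by rw [← mul_assoc, sq, one_mul]
  have h6 : d * e * f = (A * B) * (B * e) * (A * D * E) * (D * d) * (E * f) := by
    have : (A * B) * (B * e) * (A * D * E) * (D * d) * (E * f)
      = (A * A) * (B * B) * (D * D) * (E * E) * (d * e * f) := by
      simp only [mul_comm, mul_left_comm]
    rw [this, sq A, sq B, sq D, sq E]; simp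
  rw [h6]
  exact F.mul_mem (F.mul_mem (F.mul_mem (F.mul_mem h1 h2) h3) h4) h5

section base

variable (h : TvH M r t Q N)
include h

theorem UConj {g u : G} (hg : g ∈ M) (hu : u ∈ UU M r) : g * u * g⁻¹ ∈ UU M r := UU_conj hg hu

/-- additivity of the commutator on `U` -/
theorem cmul {g u v : G} (hg : g ∈ M) (hu : u ∈ UU M r) (hv : v ∈ UU M r) :
    g * (u * v) * g⁻¹ * (u * v)⁻¹ = (g * u * g⁻¹ * u⁻¹) * (g * v * g⁻¹ * v⁻¹) := by
  have h1 := UU_comm_mem hg hv
  calc g * (u * v) * g⁻¹ * (u * v)⁻¹ = (g * u * g⁻¹) * (g * v * g⁻¹ * v⁻¹) * u⁻¹ := by group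
    _ = (g * u * g⁻¹) * (u⁻¹ * (g * v * g⁻¹ * v⁻¹)) := by
        rw [mul_assoc, h.UU_comm (inv_mem hu) h1]
    _ = _ := by group

/-- `F_y` : the elements of `U` centralised modulo `Z(Q s)` by `N y` -/
def FF {s y : G} (a : Adj M r t s y) : Subgroup G where
  carrier := {u | u ∈ UU M r ∧ ∀ n ∈ N y, n * u * n⁻¹ * u⁻¹ ∈ ZC Q s}
  one_mem' := ⟨(UU M r).one_mem, fun n _ => by
    have : n * 1 * n⁻¹ * (1 : G)⁻¹ = 1 := by group
    rw [this]; exact one_mem _⟩
  mul_mem' := by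
    rintro u v ⟨hu, hu'⟩ ⟨hv, hv'⟩
    refine ⟨mul_mem hu hv, fun n hn => ?_⟩
    rw [cmul h (h.N_le_M (h.Adj_right a) hn) hu hv]
    exact mul_mem (hu' n hn) (hv' n hn)
  inv_mem' := by
    rintro u ⟨hu, hu'⟩
    rw [h.UU_inv hu]
    exact ⟨hu, hu'⟩

theorem mem_FF {s y : G} (a : Adj M r t s y) {u : G} :
    u ∈ FF h a ↔ u ∈ UU M r ∧ ∀ n ∈ N y, n * u * n⁻¹ * u⁻¹ ∈ ZC Q s := Iff.rfl

/-- `K_s ≤ F_y` -/
theorem K_FF {s y : G} (a : Adj M r t s y) {u : G} (hu : u ∈ UU M r) (hz : u ∈ ZC Q s) : u ∈ FF h a := by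
  refine ⟨hu, fun n hn => ?_⟩
  exact mul_mem ((h.ZC_fix (h.N_comm a hn)).2 hz) (inv_mem hz)

/-- `K_y ≤ F_y` -/
theorem Ky_FF {s y : G} (a : Adj M r t s y) {u : G} (hu : u ∈ UU M r) (hz : u ∈ Q y) : u ∈ FF h a := by
  refine ⟨hu, fun n hn => ?_⟩
  have h1 := h.ZC_comm (h.N_le_ZC (h.Adj_right a) hn) hz
  rw [h1]
  have : u * n * n⁻¹ * u⁻¹ = 1 := by group
  rw [this]; exact one_mem _

theorem y_FF {s y : G} (a : Adj M r t s y) : y ∈ FF h a :=
  Ky_FF h a (h.Adj_UU a) (h.mem_Q (h.Adj_right a))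

/-- `K_{sy} ≤ F_y` -/
theorem Ksy_FF {s y : G} (a : Adj M r t s y) {u : G} (hu : u ∈ UU M r) (hz : u ∈ ZC Q (s * y)) : u ∈ FF h a := by
  refine ⟨hu, fun n hn => ?_⟩
  have hy := h.Adj_right a
  have hnM := h.N_le_M hy hn
  have hns : n * (s * y) = (s * y) * n := by
    have h1 := h.N_comm a hn
    have h2 := h.N_self hy hn
    calc n * (s * y) = (n * s) * y := by group
      _ = s * (n * y) := by rw [h1]; group
      _ = _ := by rw [h2]; group
  have h1 : n * u * n⁻¹ * u⁻¹ ∈ ZC Q (s * y) := mul_mem ((h.ZC_fix hns).2 hz) (inv_mem hz)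
  have h2 : n * u * n⁻¹ * u⁻¹ ∈ ZC Q y := by
    have hc : u * y = y * u := h.UU_comm hu (h.Adj_UU a)
    have e : n * u * n⁻¹ * u⁻¹ = n * (u * n⁻¹ * u⁻¹) := by group
    rw [e]
    exact mul_mem (h.N_le_ZC hy hn) ((h.ZC_fix hc).2 (inv_mem (h.N_le_ZC hy hn)))
  have h3 := h.Adj_CV (h.Adj_mul' a) h2 h1
  have e : y * (s * y) = s := by
    rw [← h.Adj_comm (h.Adj_symm a), ← mul_assoc, h.Om_sq hy, one_mul]
  rwa [e] at h3

/-- the elements of `Q s` move `x` to `x` or `s x` -/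
theorem Qs_act {s x w : G} (a : Adj M r t s x) (hw : w ∈ Q s) :
    w * x = x * w ∨ w * x * w⁻¹ = s * x := by
  rcases h.comm_Q a.left hw (h.Adj_mem a) with h1 | h1
  · left
    calc w * x = (w * x * w⁻¹ * x⁻¹) * x * w := by group
      _ = x * w := by rw [h1]; group
  · right
    calc w * x * w⁻¹ = (w * x * w⁻¹ * x⁻¹) * x := by group
      _ = s * x := by rw [h1]

/-- `[Q s, K_y] ≤ F_y` -/
theorem star {s y : G} (a : Adj M r t s y) {k w : G} (hk : k ∈ UU M r) (hz : k ∈ ZC Q y) (hw : w ∈ Q s) :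
    w * k * w⁻¹ * k⁻¹ ∈ FF h a := by
  have hwM := h.Q_le_M a.left hw
  have hk' := UConj h hwM hk
  have hy := h.Adj_right a
  refine mul_mem ?_ (inv_mem (Ky_FF h a hk (h.ZC_le_Q hy hz)))
  have h1 := (h.ZC_conj (g := w)).2 hz
  rcases Qs_act h a hw with h2 | h2
  · have e : w * y * w⁻¹ = y := by rw [h2]; group
    rw [e] at h1
    exact Ky_FF h a hk' (h.ZC_le_Q hy h1)
  · rw [h2] at h1
    exact Ksy_FF h a hk' h1

/-- separation of two lines by `Q s` -/
theorem exists_w {s x y : G} (hx : Adj M r t s x) (hy : Adj M r t s y) (h1 : y ≠ x) (h2 : y ≠ s * x) :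
    ∃ w ∈ Q s, w * y * w⁻¹ = s * y ∧ w * x = x * w := by
  by_contra hcon
  push Not at hcon
  have key : ∀ w ∈ Q s, w * x = x * w → w * y = y * w := by
    intro w hw hwx
    rcases Qs_act h hy hw with h3 | h3
    · exact h3
    · exact absurd hwx (hcon w hw h3)
  obtain ⟨w1, hw1, e1⟩ := h.Adj_q hy
  have e1' : w1 * x * w1⁻¹ = s * x := (Qs_act h hx hw1).resolve_left (hcon w1 hw1 e1)
  have hss : ∀ w ∈ Q s, w * s = s * w := fun w hw => (h.ZC_comm (h.mem_ZC hx.left) hw).symm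
  have hs2 := h.Om_sq hx.left
  have hxy : x * y ∈ ZC Q s := by
    rw [Subgroup.mem_centralizer_iff]
    intro w hw
    rcases Qs_act h hx hw with h3 | h3
    · have h4 := key w hw h3
      calc w * (x * y) = (w * x) * y := by group
        _ = x * (w * y) := by rw [h3]; group
        _ = x * y * w := by rw [h4]; group
    · have h5 : w1 * w * x = x * (w1 * w) := by
        have : w1 * w * x * (w1 * w)⁻¹ = x := by
          calc w1 * w * x * (w1 * w)⁻¹ = w1 * (w * x * w⁻¹) * w1⁻¹ := by group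
            _ = (w1 * s * w1⁻¹) * (w1 * x * w1⁻¹) := by rw [h3]; group
            _ = s * (s * x) := by rw [hss w1 hw1, mul_inv_cancel_right, e1']
            _ = x := by rw [← mul_assoc, hs2, one_mul]
        calc w1 * w * x = (w1 * w * x * (w1 * w)⁻¹) * (w1 * w) := by group
          _ = _ := by rw [this]
      have h6 := key _ (mul_mem hw1 hw) h5
      have h7 : w * y * w⁻¹ = s * y := by
        have : w1 * (w * y * w⁻¹) * w1⁻¹ = y := by
          calc w1 * (w * y * w⁻¹) * w1⁻¹ = (w1 * w * y) * (w1 * w)⁻¹ := by group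
            _ = y := by rw [h6, mul_inv_cancel_right]
        have h8 : w1 * (s * y) * w1⁻¹ = y := by
          calc w1 * (s * y) * w1⁻¹ = (w1 * s * w1⁻¹) * (w1 * y * w1⁻¹) := by group
            _ = s * (s * y) := by rw [hss w1 hw1, mul_inv_cancel_right, e1]
            _ = y := by rw [← mul_assoc, hs2, one_mul]
        calc w * y * w⁻¹ = w1⁻¹ * (w1 * (w * y * w⁻¹) * w1⁻¹) * w1 := by group
          _ = w1⁻¹ * (w1 * (s * y) * w1⁻¹) * w1 := by rw [this, h8]
          _ = s * y := by group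
      have h9 : w * (x * y) * w⁻¹ = x * y := by
        have hxs : x * s = s * x := h.UU_comm (h.Adj_UU hx) (Om_le_UU hx.left)
        calc w * (x * y) * w⁻¹ = (w * x * w⁻¹) * (w * y * w⁻¹) := by group
          _ = s * (x * s) * y := by rw [h3, h7]; group
          _ = (s * s) * (x * y) := by rw [hxs]; group
          _ = x * y := by rw [hs2, one_mul]
      calc w * (x * y) = (w * (x * y) * w⁻¹) * w := by group
        _ = _ := by rw [h9]
  rcases h.noPar_at hx hy hxy with h3 | h3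
  · exact h1 h3
  · exact h2 h3

/-! ### the element `d = n n' n_s` -/

/-- the properties of `d` for `n ∈ K_x` -/
structure IsD (M : Subgroup G) (r : G) (Q : G → Subgroup G) (s x n q n' d : G) : Prop where
  qQ : q ∈ Q s
  qx : q * x * q⁻¹ = s * x
  n'def : n' = q * n * q⁻¹
  n'Z : n' ∈ ZC Q (s * x)
  dU : d ∈ UU M r
  ds : d ∈ Q s
  dx : d ∈ Q x
  dn : n * n' * d ∈ ZC Q s

theorem exists_d {s x n : G} (a : Adj M r t s x) (hn : n ∈ UU M r) (hz : n ∈ ZC Q x) :
    ∃ q n' d, IsD M r Q s x n q n' d := by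
  obtain ⟨q, hq, e1⟩ := h.Adj_q a
  obtain ⟨p, hp, e2⟩ := h.Adj_q (h.Adj_symm a)
  have hs := a.left
  have hx := h.Adj_right a
  have hsU := Om_le_UU hs
  have hxU := Om_le_UU hx
  have hqM := h.Q_le_M hs hq
  have hpM := h.Q_le_M hx hp
  have hn'U : q * n * q⁻¹ ∈ UU M r := UConj h hqM hn
  have hn'Z : q * n * q⁻¹ ∈ ZC Q (s * x) := by
    have := (h.ZC_conj (g := q)).2 hz
    rwa [e1] at this
  have hpx : p * x * p⁻¹ = x := by
    have := h.ZC_comm (h.mem_ZC hx) hp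
    rw [← this]; group
  have e3 : p * (s * x) * p⁻¹ = s := by
    calc p * (s * x) * p⁻¹ = (p * s * p⁻¹) * (p * x * p⁻¹) := by group
      _ = x * s * x := by rw [e2, hpx]
      _ = s := h.UU_cancel hxU hsU
  have hmU : p * (q * n * q⁻¹) * p⁻¹ ∈ UU M r := UConj h hpM hn'U
  have hmZ : p * (q * n * q⁻¹) * p⁻¹ ∈ ZC Q s := by
    have := (h.ZC_conj (g := p)).2 hn'Z
    rwa [e3] at this
  refine ⟨q, q * n * q⁻¹, n * (q * n * q⁻¹) * (p * (q * n * q⁻¹) * p⁻¹), hq, e1, rfl, hn'Z,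
    mul_mem (mul_mem hn hn'U) hmU, ?_, ?_, ?_⟩
  · refine mul_mem ?_ (h.ZC_le_Q hs hmZ)
    have hns : n * s = s * n := h.UU_comm hn hsU
    have e : n * (q * n * q⁻¹) = (n * q * n⁻¹) * q⁻¹ := by
      calc n * (q * n * q⁻¹) = n * q * n * q⁻¹ := by group
        _ = n * q * n⁻¹ * q⁻¹ := by rw [h.UU_inv hn]
        _ = _ := by group
    rw [e]
    exact mul_mem ((h.Q_fix hns).2 hq) (inv_mem hq)
  · have hnx : (q * n * q⁻¹) * x = x * (q * n * q⁻¹) := h.UU_comm hn'U hxU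
    have e : n * (q * n * q⁻¹) * (p * (q * n * q⁻¹) * p⁻¹)
        = n * (((q * n * q⁻¹) * p * (q * n * q⁻¹)⁻¹) * p⁻¹) := by
      rw [h.UU_inv hn'U]; group
    rw [e]
    exact mul_mem (h.ZC_le_Q hx hz) (mul_mem ((h.Q_fix hnx).2 hp) (inv_mem hp))
  · have e : n * (q * n * q⁻¹) * (n * (q * n * q⁻¹) * (p * (q * n * q⁻¹) * p⁻¹))
        = p * (q * n * q⁻¹) * p⁻¹ := by
      have := h.UU_sq (mul_mem hn hn'U)
      rw [← mul_assoc, this, one_mul]
    rw [e]; exact hmZ

/-- (f4) -/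
theorem f4 {s x n v : G} (a : Adj M r t s x) (hn : n ∈ UU M r) (hz : n ∈ ZC Q x) (hv : v ∈ Q s)
    (hvx : v * x = x * v) :
    v * n * v⁻¹ * n⁻¹ ∈ UU M r ∧ v * n * v⁻¹ * n⁻¹ ∈ ZC Q x ∧
      (v * n * v⁻¹ * n⁻¹ ∈ ZC Q s ∨ x * (v * n * v⁻¹ * n⁻¹) ∈ ZC Q s) := by
  have h1 : v * n * v⁻¹ * n⁻¹ ∈ ZC Q x := mul_mem ((h.ZC_fix hvx).2 hz) (inv_mem hz)
  have h2 : v * n * v⁻¹ * n⁻¹ ∈ Q s := by
    have hns : n * s = s * n := h.UU_comm hn (Om_le_UU a.left)
    have e : v * n * v⁻¹ * n⁻¹ = v * (n * v⁻¹ * n⁻¹) := by group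
    rw [e]
    exact mul_mem hv ((h.Q_fix hns).2 (inv_mem hv))
  exact ⟨UU_comm_mem (h.Q_le_M a.left hv) hn, h1, h.Adj_ZQ (h.Adj_symm a) h1 h2⟩

/-- `Q s` acts trivially modulo `s` on `U ∩ Q s` -/
theorem Qs_triv {s w u : G} (hs : s ∈ Om M r) (hw : w ∈ Q s) (hu : u ∈ Q s) :
    w * u * w⁻¹ = u ∨ w * u * w⁻¹ = s * u := by
  rcases h.comm_Q hs hw hu with h1 | h1
  · left
    calc w * u * w⁻¹ = (w * u * w⁻¹ * u⁻¹) * u := by group
      _ = u := by rw [h1, one_mul]
  · right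
    calc w * u * w⁻¹ = (w * u * w⁻¹ * u⁻¹) * u := by group
      _ = s * u := by rw [h1]

/-- (f5) -/
theorem f5 {s x n q n' d w : G} (a : Adj M r t s x) (hn : n ∈ UU M r) (hz : n ∈ ZC Q x)
    (D : IsD M r Q s x n q n' d) (hw : w ∈ Q s) (hwx : w * x * w⁻¹ = s * x) :
    (w * n * w⁻¹ * n⁻¹) * d ∈ ZC Q s ∨ (w * n * w⁻¹ * n⁻¹) * d * x ∈ ZC Q s := by
  have hs := a.left
  have hx := h.Adj_right a
  have hsU := Om_le_UU hs
  have hxU := Om_le_UU hx
  have hqM := h.Q_le_M hs D.qQ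
  have hn'U : n' ∈ UU M r := by rw [D.n'def]; exact UConj h hqM hn
  have hv : q⁻¹ * w ∈ Q s := mul_mem (inv_mem D.qQ) hw
  have hvx : q⁻¹ * w * x = x * (q⁻¹ * w) := by
    have e1 : q⁻¹ * (w * x * w⁻¹) * q = x := by
      rw [hwx, ← D.qx]; group
    calc q⁻¹ * w * x = (q⁻¹ * (w * x * w⁻¹) * q) * (q⁻¹ * w) := by group
      _ = _ := by rw [e1]
  obtain ⟨g1, -, g3⟩ := f4 h a hn hz hv hvx
  set v := q⁻¹ * w with hvdef
  have hwv : w = q * v := by rw [hvdef]; group
  have e2 : w * n * w⁻¹ * n⁻¹ = q * (v * n * v⁻¹ * n⁻¹) * q⁻¹ * (n' * n) := by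
    rw [hwv, D.n'def]
    calc q * v * n * (q * v)⁻¹ * n⁻¹ = q * (v * n * v⁻¹ * n⁻¹) * q⁻¹ * (q * n * q⁻¹ * n⁻¹) := by group
      _ = _ := by rw [h.UU_inv hn]
  have hqs : q * s = s * q := (h.ZC_comm (h.mem_ZC hs) D.qQ).symm
  have hE := UConj h hqM g1
  have e3 : n' * n = n * n' := h.UU_comm hn'U hn
  rcases g3 with g3 | g3
  · left
    rw [e2, e3, mul_assoc]
    exact mul_mem ((h.ZC_fix hqs).2 g3) D.dn
  · right
    have h4 := (h.ZC_fix hqs).2 g3
    have e4 : q * (x * (v * n * v⁻¹ * n⁻¹)) * q⁻¹ = s * x * (q * (v * n * v⁻¹ * n⁻¹) * q⁻¹) := by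
      calc q * (x * (v * n * v⁻¹ * n⁻¹)) * q⁻¹ = (q * x * q⁻¹) * (q * (v * n * v⁻¹ * n⁻¹) * q⁻¹) := by group
        _ = _ := by rw [D.qx]
    rw [e4] at h4
    have h5 : x * (q * (v * n * v⁻¹ * n⁻¹) * q⁻¹) ∈ ZC Q s := by
      have := mul_mem (h.mem_ZC hs) h4
      have e5 : s * (s * x * (q * (v * n * v⁻¹ * n⁻¹) * q⁻¹)) = (s * s) * (x * (q * (v * n * v⁻¹ * n⁻¹) * q⁻¹)) := by
        group
      rwa [e5, h.Om_sq hs, one_mul] at this
    have h6 := mul_mem h5 D.dn
    have e6 : w * n * w⁻¹ * n⁻¹ * d * x = x * (q * (v * n * v⁻¹ * n⁻¹) * q⁻¹) * (n * n' * d) := by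
      rw [e2, e3]
      have e7 := h.UU_comm (mul_mem hE (mul_mem (mul_mem hn hn'U) D.dU)) hxU
      calc q * (v * n * v⁻¹ * n⁻¹) * q⁻¹ * (n * n') * d * x
          = (q * (v * n * v⁻¹ * n⁻¹) * q⁻¹) * (n * n' * d) * x := by group
        _ = x * ((q * (v * n * v⁻¹ * n⁻¹) * q⁻¹) * (n * n' * d)) := e7
        _ = _ := by group
    rw [e6]
    exact h6

/-- (f6) -/
theorem f6 {s x n q n' d v : G} (a : Adj M r t s x) (hn : n ∈ UU M r) (hz : n ∈ ZC Q x)
    (D : IsD M r Q s x n q n' d) (hv : v ∈ Q s) (hvx : v * x = x * v) (hvd : v * d = d * v) :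
    v * n * v⁻¹ * n⁻¹ ∈ ZC Q s := by
  have hs := a.left
  have hx := h.Adj_right a
  have hvM := h.Q_le_M hs hv
  have hqM := h.Q_le_M hs D.qQ
  have hn'U : n' ∈ UU M r := by rw [D.n'def]; exact UConj h hqM hn
  have hvs : v * s = s * v := (h.ZC_comm (h.mem_ZC hs) hv).symm
  have hvsx : v * (s * x) = (s * x) * v := by
    calc v * (s * x) = (v * s) * x := by group
      _ = s * (v * x) := by rw [hvs]; group
      _ = _ := by rw [hvx]; group
  have g1 := (f4 h a hn hz hv hvx).2.1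
  have g2 : v * n' * v⁻¹ * n'⁻¹ ∈ ZC Q (s * x) := mul_mem ((h.ZC_fix hvsx).2 D.n'Z) (inv_mem D.n'Z)
  -- `[v, n n' d] = 1`, `[v, d] = 1`
  have g3 : v * (n * n' * d) * v⁻¹ * (n * n' * d)⁻¹ = 1 := by
    rw [← h.ZC_comm D.dn hv]; group
  rw [cmul h hvM (mul_mem hn hn'U) D.dU, cmul h hvM hn hn'U] at g3
  have g4 : v * d * v⁻¹ * d⁻¹ = 1 := by rw [hvd]; group
  rw [g4, mul_one] at g3
  have g5 : v * n * v⁻¹ * n⁻¹ = (v * n' * v⁻¹ * n'⁻¹)⁻¹ := eq_inv_of_mul_eq_one_left g3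
  have g6 : v * n * v⁻¹ * n⁻¹ ∈ ZC Q (s * x) := by rw [g5]; exact inv_mem g2
  have g7 := h.Adj_CV (h.Adj_mul' a) g1 g6
  have e : x * (s * x) = s := by
    rw [← h.Adj_comm (h.Adj_symm a), ← mul_assoc, h.Om_sq hx, one_mul]
  rwa [e] at g7

/-- if `d` is trivial modulo `⟨x⟩ Z(Q s)` then `[Q s, n] ≤ Z(Q s)` -/
theorem f7 {s x n q n' d : G} (a : Adj M r t s x) (hn : n ∈ UU M r) (hz : n ∈ ZC Q x)
    (D : IsD M r Q s x n q n' d) (hd : d ∈ ZC Q s ∨ x * d ∈ ZC Q s) :
    ∀ w ∈ Q s, w * n * w⁻¹ * n⁻¹ ∈ ZC Q s := by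
  have hs := a.left
  have hx := h.Adj_right a
  have hsU := Om_le_UU hs
  have hxU := Om_le_UU hx
  have hqM := h.Q_le_M hs D.qQ
  have hn'U : n' ∈ UU M r := by rw [D.n'def]; exact UConj h hqM hn
  have hqs : q * s = s * q := (h.ZC_comm (h.mem_ZC hs) D.qQ).symm
  have key : ∀ v ∈ Q s, v * x = x * v → v * n * v⁻¹ * n⁻¹ ∈ ZC Q s := by
    intro v hv hvx
    refine f6 h a hn hz D hv hvx ?_
    rcases hd with hd | hd
    · exact (h.ZC_comm hd hv).symm
    · have h1 := h.ZC_comm hd hv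
      have e : d = x * (x * d) := by rw [← mul_assoc, h.UU_sq hxU, one_mul]
      calc v * d = v * (x * (x * d)) := by rw [← e]
        _ = (v * x) * (x * d) := by group
        _ = x * (v * (x * d)) := by rw [hvx]; group
        _ = x * (x * d) * v := by rw [← h1]; group
        _ = d * v := by rw [← e]
  -- `[q, n n'] = 1`
  have hq2 : q * (n * n') = (n * n') * q := by
    have h1 : q * n' * q⁻¹ = n := by
      rw [D.n'def]
      have e : q * (q * n * q⁻¹) * q⁻¹ = (q * q) * n * (q * q)⁻¹ := by group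
      rw [e]
      rcases h.sq_Q hs D.qQ with h2 | h2
      · rw [h2]; group
      · rw [h2, h.UU_comm hsU hn]; group
    calc q * (n * n') = (q * n * q⁻¹) * (q * n' * q⁻¹) * q := by group
      _ = n' * n * q := by rw [h1, ← D.n'def]
      _ = _ := by rw [h.UU_comm hn'U hn]
  have hnn : n * n' ∈ ZC Q s := by
    rcases hd with hd | hd
    · exact (mul_mem_cancel_right hd).1 D.dn
    · exfalso
      have h1 : n * n' * x ∈ ZC Q s := by
        have h2 := mul_mem D.dn (inv_mem hd)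
        have e : n * n' * d * (x * d)⁻¹ = n * n' * x := by
          rw [mul_inv_rev, h.UU_inv D.dU, h.UU_inv hxU]
          calc n * n' * d * (d * x) = n * n' * (d * d) * x := by group
            _ = _ := by rw [h.UU_sq D.dU]; group
        rwa [e] at h2
      have h3 := h.ZC_comm h1 D.qQ
      have h4 : x * q = q * x := by
        have h5 : (n * n') * (x * q) = (n * n') * (q * x) := by
          calc (n * n') * (x * q) = n * n' * x * q := by group
            _ = (q * (n * n')) * x := by rw [h3]; group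
            _ = _ := by rw [hq2]; group
        exact mul_left_cancel h5
      have h6 := D.qx
      rw [← h4] at h6
      apply h.Om_ne hs
      have : s * x = x := by rw [← h6]; group
      exact mul_eq_right.1 this
  have hqn : q * n * q⁻¹ * n⁻¹ ∈ ZC Q s := by
    rw [← D.n'def, h.UU_inv hn, h.UU_comm hn'U hn]; exact hnn
  intro w hw
  rcases Qs_act h a hw with h1 | h1
  · exact key w hw h1
  · have hv : q⁻¹ * w ∈ Q s := mul_mem (inv_mem D.qQ) hw
    have hvx : q⁻¹ * w * x = x * (q⁻¹ * w) := by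
      have e1 : q⁻¹ * (w * x * w⁻¹) * q = x := by
        rw [h1, ← D.qx]; group
      calc q⁻¹ * w * x = (q⁻¹ * (w * x * w⁻¹) * q) * (q⁻¹ * w) := by group
        _ = _ := by rw [e1]
    have h2 := key _ hv hvx
    have e : w * n * w⁻¹ * n⁻¹ =
        q * (q⁻¹ * w * n * (q⁻¹ * w)⁻¹ * n⁻¹) * q⁻¹ * (q * n * q⁻¹ * n⁻¹) := by group
    rw [e]
    exact mul_mem ((h.ZC_fix hqs).2 h2) hqn

/-! ### Step A -/

/-- `n ∈ K_x`, `d` as above, `y` another line: `d` or `d x` is centralised by `N y` modulo `Z(Q s)` -/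
theorem stepA {s x y n q n' d : G} (hx : Adj M r t s x) (hy : Adj M r t s y) (ho : Opp M r t N s y x)
    (hn : n ∈ UU M r) (hz : n ∈ ZC Q x) (D : IsD M r Q s x n q n' d) :
    d ∈ FF h hy ∨ d * x ∈ FF h hy := by
  obtain ⟨-, -, m, hm, hmx⟩ := ho
  have hs := hx.left
  have hsU := Om_le_UU hs
  have hxO := h.Adj_right hx
  have hyO := h.Adj_right hy
  have hxU := h.Adj_UU hx
  have hyU := h.Adj_UU hy
  have hmM := h.N_le_M hyO hm
  have hms := h.N_comm hy hm
  -- the lines are different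
  have h1 : y ≠ x := by
    rintro rfl
    exact hmx (h.N_fix_self hyO hm)
  have h2 : y ≠ s * x := by
    intro e
    apply hmx
    have hmy := h.N_fix_self hyO hm
    have hmss := h.N_fix_s hy hm
    have e1 : x = s * y := by rw [e, ← mul_assoc, h.Om_sq hs, one_mul]
    calc m * x * m⁻¹ = (m * s * m⁻¹) * (m * y * m⁻¹) := by rw [e1]; group
      _ = x := by rw [hmss, hmy, ← e1]
  obtain ⟨w, hw, hwy, hwx⟩ := exists_w h hx hy h1 h2
  obtain ⟨c, hcU, hcs, hcy, hmxc⟩ := h.mv_c hy hx hm hmx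
  have hwM := h.Q_le_M hs hw
  -- k = [m, n]
  have hkU : m * n * m⁻¹ * n⁻¹ ∈ UU M r := UU_comm_mem hmM hn
  have hkZ : m * n * m⁻¹ * n⁻¹ ∈ ZC Q y := by
    have hc : n * y = y * n := h.UU_comm hn hyU
    have e : m * n * m⁻¹ * n⁻¹ = m * (n * m⁻¹ * n⁻¹) := by group
    rw [e]
    exact mul_mem (h.N_le_ZC hyO hm) ((h.ZC_fix hc).2 (inv_mem (h.N_le_ZC hyO hm)))
  have hst := star h hy hkU hkZ hw
  have hmn : m * n * m⁻¹ ∈ UU M r := UConj h hmM hn
  rw [cmul h hwM hmn (inv_mem hn)] at hst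
  -- w' = m⁻¹ w m
  have hms' : m⁻¹ * s = s * m⁻¹ := h.inv_comm hms
  have hw' : m⁻¹ * w * m ∈ Q s := by
    have := (h.Q_fix hms').2 hw
    simpa using this
  have hmx' : m * x * m⁻¹ = y * x * c := hmxc
  have hw'x : m⁻¹ * w * m * x * (m⁻¹ * w * m)⁻¹ = s * x := by
    have e1 : m⁻¹ * w * m * x * (m⁻¹ * w * m)⁻¹ = m⁻¹ * (w * (m * x * m⁻¹) * w⁻¹) * m := by group
    have e2 : w * (y * x * c) * w⁻¹ = s * (y * x * c) := by
      calc w * (y * x * c) * w⁻¹ = (w * y * w⁻¹) * (w * x) * (c * w⁻¹) := by group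
        _ = s * y * x * (w * c) * w⁻¹ := by rw [hwy, hwx]; group
        _ = s * (y * x * c) := by rw [← h.ZC_comm hcs hw]; group
    have e3 : m⁻¹ * s * m = s := by rw [hms']; group
    rw [e1, hmx', e2, ← hmx']
    calc m⁻¹ * (s * (m * x * m⁻¹)) * m = (m⁻¹ * s * m) * x := by group
      _ = s * x := by rw [e3]
  have hf5 := f5 h hx hn hz D hw' hw'x
  have hf4 := f4 h hx hn hz hw hwx
  -- the five elements
  set A := m * (m⁻¹ * w * m * n * (m⁻¹ * w * m)⁻¹ * n⁻¹) * m⁻¹ with hA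
  have hAe : A = w * (m * n * m⁻¹) * w⁻¹ * (m * n * m⁻¹)⁻¹ := by rw [hA]; group
  set B := w * n⁻¹ * w⁻¹ * n⁻¹⁻¹ with hB
  have hBe : B = w * n * w⁻¹ * n⁻¹ := by rw [hB, inv_inv, h.UU_inv hn]
  have hAU : A ∈ UU M r := by rw [hAe]; exact UU_comm_mem hwM hmn
  have hBU : B ∈ UU M r := by rw [hBe]; exact UU_comm_mem hwM hn
  have hAB : A * B ∈ FF h hy := by rw [hAe]; exact hst
  have hdU := D.dU
  have hDU : m * d * m⁻¹ ∈ UU M r := UConj h hmM hdU
  -- D d ∈ F
  have hDd : m * d * m⁻¹ * d ∈ FF h hy := by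
    have h3 := h.cm hy hdU D.ds hm
    have e : m * d * m⁻¹ * d = m * d * m⁻¹ * d⁻¹ := by rw [h.UU_inv hdU]
    rw [e]
    rcases h3.2.2 with h4 | h4
    · exact K_FF h hy h3.1 h4
    · have h5 := K_FF h hy (mul_mem hyU h3.1) h4
      exact (mul_mem_cancel_left (y_FF h hy)).1 h5
  -- E e ∈ F for e = x
  have hEx : m * x * m⁻¹ * x ∈ FF h hy := by
    rw [hmx']
    have e : y * x * c * x = y * c := by
      calc y * x * c * x = y * (x * c * x) := by group
        _ = y * c := by rw [h.UU_cancel hxU hcU]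
    rw [e]
    exact mul_mem (y_FF h hy) (K_FF h hy hcU hcs)
  have hEU : m * x * m⁻¹ ∈ UU M r := UConj h hmM hxU
  -- generic
  have gen : ∀ e ∈ UU M r, ∀ f ∈ UU M r, ∀ E ∈ UU M r, B * e ∈ FF h hy →
      A * (m * d * m⁻¹) * E ∈ FF h hy → E * f ∈ FF h hy → d * e * f ∈ FF h hy := by
    intro e he f hf E hE g1 g2 g3
    let _ : CommGroup (UU M r) :=
      { (inferInstance : Group (UU M r)) with mul_comm := fun a b => Subtype.ext (h.UU_comm a.2 b.2) }
    have := five (C := UU M r) (fun a => Subtype.ext (h.UU_sq a.2)) ((FF h hy).subgroupOf (UU M r))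
      (A := ⟨A, hAU⟩) (B := ⟨B, hBU⟩) (e := ⟨e, he⟩) (D := ⟨_, hDU⟩) (E := ⟨E, hE⟩) (d := ⟨d, hdU⟩)
      (f := ⟨f, hf⟩) hAB g1 g2 hDd g3
    exact this
  -- B e ∈ F
  have hBe' : B ∈ FF h hy ∨ B * x ∈ FF h hy := by
    rw [hBe]
    rcases hf4.2.2 with h3 | h3
    · exact Or.inl (K_FF h hy hf4.1 h3)
    · right
      rw [h.UU_comm hf4.1 hxU]
      exact K_FF h hy (mul_mem hxU hf4.1) h3
  -- A D E ∈ F
  have hAD : A * (m * d * m⁻¹) ∈ FF h hy ∨ A * (m * d * m⁻¹) * (m * x * m⁻¹) ∈ FF h hy := by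
    rcases hf5 with h3 | h3
    · left
      have h4 := (h.ZC_fix hms).2 h3
      have e : m * (m⁻¹ * w * m * n * (m⁻¹ * w * m)⁻¹ * n⁻¹ * d) * m⁻¹ = A * (m * d * m⁻¹) := by
        rw [hA]; group
      rw [e] at h4
      exact K_FF h hy (mul_mem hAU hDU) h4
    · right
      have h4 := (h.ZC_fix hms).2 h3
      have e : m * (m⁻¹ * w * m * n * (m⁻¹ * w * m)⁻¹ * n⁻¹ * d * x) * m⁻¹
          = A * (m * d * m⁻¹) * (m * x * m⁻¹) := by
        rw [hA]; group
      rw [e] at h4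
      exact K_FF h hy (mul_mem (mul_mem hAU hDU) hEU) h4
  have h1U := (UU M r).one_mem
  rcases hBe' with g1 | g1 <;> rcases hAD with g2 | g2
  · left
    have := gen 1 h1U 1 h1U 1 h1U (by rwa [mul_one]) (by rwa [mul_one]) (by rw [mul_one]; exact one_mem _)
    simpa using this
  · right
    have := gen 1 h1U x hxU _ hEU (by rwa [mul_one]) g2 hEx
    simpa using this
  · right
    have := gen x hxU 1 h1U 1 h1U g1 (by rwa [mul_one]) (by rw [mul_one]; exact one_mem _)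
    simpa using this
  · left
    have := gen x hxU x hxU _ hEU g1 g2 hEx
    rwa [mul_assoc, h.UU_sq hxU, mul_one] at this

/-! ### Step B -/

/-- transport of `F_y` -/
theorem FF_conj {s y g u : G} (hy : Adj M r t s y) (hg : g ∈ M) (hgs : g * s = s * g)
    (hy' : Adj M r t s (g * y * g⁻¹)) (hu : u ∈ FF h hy) : g * u * g⁻¹ ∈ FF h hy' := by
  refine ⟨UConj h hg hu.1, fun n hn => ?_⟩
  have h1 : g⁻¹ * n * g ∈ N y := by
    have := h.Nc g⁻¹ _ _ hn
    have e : g⁻¹ * (g * y * g⁻¹) * g⁻¹⁻¹ = y := by group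
    rw [e] at this
    simpa using this
  have h2 := (h.ZC_fix hgs).2 (hu.2 _ h1)
  have e : g * (g⁻¹ * n * g * u * (g⁻¹ * n * g)⁻¹ * u⁻¹) * g⁻¹ = n * (g * u * g⁻¹) * n⁻¹ * (g * u * g⁻¹)⁻¹ := by
    group
  rwa [e] at h2

/-- `x ∉ F_y` for opposite lines -/
theorem not_FF {s x y : G} (hx : Adj M r t s x) (hy : Adj M r t s y) (ho : Opp M r t N s y x) :
    x ∉ FF h hy := by
  rintro ⟨-, h1⟩
  obtain ⟨-, -, m, hm, hmx⟩ := ho
  exact hmx (h.fix_of hy hx hm (h1 m hm))

/-- independence of three lines on `s` -/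
def Ind (Q : G → Subgroup G) (s x y w : G) : Prop :=
  x * y ∉ ZC Q s ∧ x * w ∉ ZC Q s ∧ y * w ∉ ZC Q s ∧ x * y * w ∉ ZC Q s

theorem opp_of (hall : AllOpp M r t N) {s x y : G} (hx : Adj M r t s x) (hy : Adj M r t s y)
    (hxy : x * y ∉ ZC Q s) : Opp M r t N s x y := by
  refine hall s x y hx hy ?_ ?_
  · rintro rfl
    exact hxy (by rw [h.UU_sq (h.Adj_UU hx)]; exact one_mem _)
  · rintro rfl
    apply hxy
    rw [← mul_assoc, h.UU_comm (h.Adj_UU hx) (Om_le_UU hx.left), mul_assoc, h.UU_sq (h.Adj_UU hx), mul_one]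
    exact h.mem_ZC hx.left

/-- an element of `N w` moving `y` and fixing `x` -/
theorem exists_m (hO : JOpp M r t Q N) (hall : AllOpp M r t N) {s x y w : G} (hx : Adj M r t s x)
    (hy : Adj M r t s y) (hw : Adj M r t s w) (hi : Ind Q s x y w) :
    ∃ m ∈ N w, m * x * m⁻¹ = x ∧ m * y * m⁻¹ ≠ y := by
  obtain ⟨i1, i2, i3, i4⟩ := hi
  have hxU := h.Adj_UU hx
  have hyU := h.Adj_UU hy
  have hwU := h.Adj_UU hw
  have hwO := h.Adj_right hw
  have owy : Opp M r t N s w y := opp_of h hall hw hy (by rw [h.UU_comm hwU hyU]; exact i3)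
  have owx : Opp M r t N s w x := opp_of h hall hw hx (by rw [h.UU_comm hwU hxU]; exact i2)
  have oxy : Opp M r t N s x y := opp_of h hall hx hy i1
  by_contra hcon
  push Not at hcon
  -- the third line of x, y
  obtain ⟨-, -, -, -, -, c, -, hcU, hcs, -, -, -, hthird, -, -⟩ := hO s x y oxy
  obtain ⟨-, -, m0, hm0, hm0y⟩ := owy
  have hm0x : m0 * x * m0⁻¹ ≠ x := fun e => hm0y (hcon m0 hm0 e)
  -- every m in N w fixes the third line
  have key : ∀ m ∈ N w, m * (x * y * c) * m⁻¹ * (x * y * c)⁻¹ ∈ ZC Q s := by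
    intro m hm
    have hmM := h.N_le_M hwO hm
    have hms := h.N_comm hw hm
    have hc' : m * c * m⁻¹ * c⁻¹ ∈ ZC Q s := mul_mem ((h.ZC_fix hms).2 hcs) (inv_mem hcs)
    rw [cmul h hmM (mul_mem hxU hyU) hcU, cmul h hmM hxU hyU]
    refine mul_mem ?_ hc'
    by_cases hmx : m * x * m⁻¹ = x
    · rw [hmx, hcon m hm hmx]
      simp only [mul_inv_cancel, one_mul]; exact one_mem _
    · have hmy : m * y * m⁻¹ ≠ y := by
        intro e
        -- m0 m fixes x, hence y, so m0 fixes y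
        have h1 : m0 * m * x * (m0 * m)⁻¹ = x := by
          obtain ⟨c1, hc1U, hc1s, hc1w, e1⟩ := h.mv_c hw hx hm hmx
          rcases h.mv_uniq hw hx hm hm0 hc1U hc1s e1 with e2 | e2
          · exact absurd e2 hm0x
          · calc m0 * m * x * (m0 * m)⁻¹ = m0 * (m * x * m⁻¹) * m0⁻¹ := by group
              _ = (m0 * w * m0⁻¹) * (m0 * x * m0⁻¹) * (m0 * c1 * m0⁻¹) := by rw [e1]; group
              _ = w * (w * x * c1) * c1 := by
                  rw [h.N_fix_self hwO hm0, e2, h.N_ZC hwO hm0 hc1w]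
              _ = (w * w) * x * (c1 * c1) := by group
              _ = x := by rw [h.UU_sq hwU, h.UU_sq hc1U, one_mul, mul_one]
        have h2 := hcon _ (mul_mem hm0 hm) h1
        apply hm0y
        calc m0 * y * m0⁻¹ = m0 * (m * y * m⁻¹) * m0⁻¹ := by rw [e]
          _ = m0 * m * y * (m0 * m)⁻¹ := by group
          _ = y := h2
      obtain ⟨c1, hc1U, hc1s, hc1w, e1⟩ := h.mv_c hw hx hm hmx
      obtain ⟨c2, hc2U, hc2s, hc2w, e2⟩ := h.mv_c hw hy hm hmy
      have e3 : m * x * m⁻¹ * x⁻¹ * (m * y * m⁻¹ * y⁻¹) = c1 * c2 := by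
        rw [e1, e2, h.UU_inv hxU, h.UU_inv hyU]
        calc w * x * c1 * x * (w * y * c2 * y) = w * (x * c1 * x) * w * (y * c2 * y) := by group
          _ = (w * c1 * w) * c2 := by rw [h.UU_cancel hxU hc1U, h.UU_cancel hyU hc2U]
          _ = c1 * c2 := by rw [h.UU_cancel hwU hc1U]
      rw [e3]
      exact mul_mem hc1s hc2s
  have hxyU : x * y * c ∈ UU M r := mul_mem (mul_mem hxU hyU) hcU
  have ho : Opp M r t N s w (x * y * c) := by
    apply opp_of h hall hw hthird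
    intro e
    apply i4
    have e1 : w * (x * y * c) = (x * y * w) * c := by
      rw [h.UU_comm hwU hxyU]
      calc x * y * c * w = x * y * (c * w) := by group
        _ = _ := by rw [h.UU_comm hcU hwU]; group
    rw [e1] at e
    exact (mul_mem_cancel_right hcs).1 e
  exact not_FF h hthird hw ho ⟨hxyU, key⟩

theorem FF_congr {s y y' : G} (e : y = y') (a : Adj M r t s y) (a' : Adj M r t s y') : FF h a = FF h a' := by
  subst e; rfl

/-- the step of (D): `ε_y = ε_w` for independent lines; `e` is `d` or `d x` -/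
theorem stepB1 (hO : JOpp M r t Q N) (hall : AllOpp M r t N) {s x y w d : G} (hx : Adj M r t s x)
    (hy : Adj M r t s y) (hw : Adj M r t s w) (hi : Ind Q s x y w) (hd : d ∈ FF h hy)
    (hdx : d * x ∈ FF h hw) : False := by
  have hxU := h.Adj_UU hx
  have hyU := h.Adj_UU hy
  have hwU := h.Adj_UU hw
  have hwO := h.Adj_right hw
  have hyO := h.Adj_right hy
  obtain ⟨i1, i2, i3, i4⟩ := hi
  obtain ⟨m, hm, hmx, hmy⟩ := exists_m h hO hall hx hy hw ⟨i1, i2, i3, i4⟩
  have i4' : x * w * y ∉ ZC Q s := by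
    rw [mul_assoc, h.UU_comm hwU hyU, ← mul_assoc]; exact i4
  obtain ⟨k, hk, hkx, hkw⟩ := exists_m h hO hall hx hw hy ⟨i2, i1, by rw [h.UU_comm hwU hyU]; exact i3, i4'⟩
  have oyw : Opp M r t N s y w := ⟨hy, hw, k, hk, hkw⟩
  obtain ⟨-, -, -, -, -, c, -, hcU, hcs, -, -, -, hthird, g1, g2⟩ := hO s y w oyw
  have hkw' : k * w * k⁻¹ = y * w * c := (g1 k hk).resolve_left hkw
  have hmy' : m * y * m⁻¹ = y * w * c := (g2 m hm).resolve_left hmy
  have hmM := h.N_le_M hwO hm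
  have hms := h.N_comm hw hm
  have hkM := h.N_le_M hyO hk
  have hks := h.N_comm hy hk
  have hdU := hd.1
  have a1 : Adj M r t s (m * y * m⁻¹) := by rw [hmy']; exact hthird
  have a2 : Adj M r t s (k * w * k⁻¹) := by rw [hkw']; exact hthird
  -- d ∈ F_z
  have b1 : m * d * m⁻¹ ∈ FF h hthird := by
    have := FF_conj h hy hmM hms a1 hd
    rwa [FF_congr h hmy' a1 hthird] at this
  have b2 : m * d * m⁻¹ * d⁻¹ ∈ FF h hthird := by
    have h1 := hdx.2 m hm
    rw [cmul h hmM hdU hxU, hmx, mul_inv_cancel, mul_one] at h1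
    exact K_FF h hthird (UU_comm_mem hmM hdU) h1
  have b3 : d ∈ FF h hthird := by
    have h1 := mul_mem (inv_mem b2) b1
    have e : (m * d * m⁻¹ * d⁻¹)⁻¹ * (m * d * m⁻¹) = d := by group
    rwa [e] at h1
  -- d x ∈ F_z
  have b4 : k * (d * x) * k⁻¹ ∈ FF h hthird := by
    have := FF_conj h hw hkM hks a2 hdx
    rwa [FF_congr h hkw' a2 hthird] at this
  have b5 : k * (d * x) * k⁻¹ * (d * x)⁻¹ ∈ FF h hthird := by
    have h1 := hd.2 k hk
    rw [cmul h hkM hdU hxU, hkx, mul_inv_cancel, mul_one]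
    exact K_FF h hthird (UU_comm_mem hkM hdU) h1
  have b6 : d * x ∈ FF h hthird := by
    have h1 := mul_mem (inv_mem b5) b4
    have e : (k * (d * x) * k⁻¹ * (d * x)⁻¹)⁻¹ * (k * (d * x) * k⁻¹) = d * x := by group
    rwa [e] at h1
  have b7 : x ∈ FF h hthird := (mul_mem_cancel_left b3).1 b6
  have ho : Opp M r t N s (y * w * c) x := by
    apply opp_of h hall hthird hx
    intro e
    apply i4
    have e1 : y * w * c * x = x * y * w * c := by
      rw [h.UU_comm (mul_mem (mul_mem hyU hwU) hcU) hxU]; group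
    rw [e1] at e
    exact (mul_mem_cancel_right hcs).1 e
  exact not_FF h hx hthird ho b7

/-- a line outside the span of two lines, if there are three independent lines -/
theorem exists_out {s a b c : G} (ha : Adj M r t s a) (hb : Adj M r t s b) (hc : Adj M r t s c)
    (hi : Ind Q s a b c) {x y : G} (hx : Adj M r t s x) (hy : Adj M r t s y) :
    ∃ v, Adj M r t s v ∧ x * v ∉ ZC Q s ∧ y * v ∉ ZC Q s ∧ x * y * v ∉ ZC Q s := by
  by_contra hcon
  push Not at hcon
  obtain ⟨i1, i2, i3, i4⟩ := hi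
  have haU := h.Adj_UU ha
  have hbU := h.Adj_UU hb
  have hcU := h.Adj_UU hc
  have hxU := h.Adj_UU hx
  have hyU := h.Adj_UU hy
  have key : ∀ v, Adj M r t s v → x * v ∈ ZC Q s ∨ y * v ∈ ZC Q s ∨ x * y * v ∈ ZC Q s := by
    intro v hv
    by_cases h1 : x * v ∈ ZC Q s
    · exact Or.inl h1
    by_cases h2 : y * v ∈ ZC Q s
    · exact Or.inr (Or.inl h2)
    exact Or.inr (Or.inr (hcon v hv h1 h2))
  -- generic
  have gen : ∀ (F : Subgroup G), F ≤ UU M r → ∀ p ∈ UU M r, ∀ q ∈ UU M r, ∀ p' ∈ UU M r,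
      p' * p ∈ F → p' * q ∈ F → p * q ∈ F := by
    intro F hF p hp q hq p' hp' g1 g2
    have e : p * q = (p' * p) * (p' * q) := by
      have h3 := h.UU_comm hp' hp
      calc p * q = (p * (p' * p')) * q := by rw [h.UU_sq hp', mul_one]
        _ = (p * p') * (p' * q) := by group
        _ = _ := by rw [← h3]
    rw [e]
    exact mul_mem g1 g2
  have gen' : ∀ p ∈ UU M r, ∀ q ∈ UU M r, ∀ p' ∈ UU M r,
      p' * p ∈ ZC Q s → p' * q ∈ ZC Q s → p * q ∈ ZC Q s := by
    intro p hp q hq p' hp' g1 g2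
    exact (gen (ZC Q s ⊓ UU M r) inf_le_right p hp q hq p' hp' ⟨g1, mul_mem hp' hp⟩ ⟨g2, mul_mem hp' hq⟩).1
  have gen3 : ∀ p ∈ UU M r, ∀ q ∈ UU M r, ∀ l ∈ UU M r,
      x * p ∈ ZC Q s → y * q ∈ ZC Q s → x * y * l ∈ ZC Q s → p * q * l ∈ ZC Q s := by
    intro p hp q hq l hl g1 g2 g3
    have e : p * q * l = (x * p) * (y * q) * (x * y * l) := by
      have e1 := h.UU_comm hxU hp
      have e2 := h.UU_comm hyU hq
      have e3 := h.UU_comm hq hxU
      calc p * q * l = p * (x * x) * q * (y * y) * l := by rw [h.UU_sq hxU, h.UU_sq hyU, mul_one, mul_one]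
        _ = (p * x) * (x * q) * y * (y * l) := by group
        _ = (x * p) * (q * x) * y * (y * l) := by rw [e1, e3]
        _ = (x * p) * q * (x * y) * y * l := by group
        _ = (x * p) * q * (y * x) * y * l := by rw [h.UU_comm hxU hyU]
        _ = (x * p) * (q * y) * (x * y * l) := by group
        _ = _ := by rw [← e2]
    rw [e]
    exact mul_mem (mul_mem g1 g2) g3
  have hxyU := mul_mem hxU hyU
  have cab := h.UU_comm haU hbU
  have cac := h.UU_comm haU hcU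
  have cbc := h.UU_comm hbU hcU
  rcases key a ha with g1 | g1 | g1 <;> rcases key b hb with g2 | g2 | g2 <;>
    rcases key c hc with g3 | g3 | g3 <;>
    first
      | exact i1 (gen' a haU b hbU _ hxU g1 g2)
      | exact i1 (gen' a haU b hbU _ hyU g1 g2)
      | exact i1 (gen' a haU b hbU _ hxyU g1 g2)
      | exact i2 (gen' a haU c hcU _ hxU g1 g3)
      | exact i2 (gen' a haU c hcU _ hyU g1 g3)
      | exact i2 (gen' a haU c hcU _ hxyU g1 g3)
      | exact i3 (gen' b hbU c hcU _ hxU g2 g3)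
      | exact i3 (gen' b hbU c hcU _ hyU g2 g3)
      | exact i3 (gen' b hbU c hcU _ hxyU g2 g3)
      | exact i4 (gen3 a haU b hbU c hcU g1 g2 g3)
      | (apply i4; have := gen3 a haU c hcU b hbU g1 g3 g2; rwa [mul_assoc, ← cbc, ← mul_assoc] at this)
      | (apply i4; have := gen3 b hbU a haU c hcU g2 g1 g3; rwa [← cab] at this)
      | (apply i4; have := gen3 b hbU c hcU a haU g2 g3 g1
         have e : b * c * a = a * b * c := by rw [← h.UU_comm haU (mul_mem hbU hcU), mul_assoc]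
         rwa [e] at this)
      | (apply i4; have := gen3 c hcU a haU b hbU g3 g1 g2
         have e : c * a * b = a * b * c := by rw [mul_assoc, ← h.UU_comm (mul_mem haU hbU) hcU]
         rwa [e] at this)
      | (apply i4; have := gen3 c hcU b hbU a haU g3 g2 g1
         have e : c * b * a = a * b * c := by
           rw [← cbc, ← h.UU_comm haU (mul_mem hbU hcU), mul_assoc]
         rwa [e] at this)

/-- `F_{sy} = F_y` on `U ∩ Q s` -/
theorem FF_sy {s y u : G} (hy : Adj M r t s y) (hy' : Adj M r t s (s * y)) (hus : u ∈ Q s)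
    (hu : u ∈ FF h hy) : u ∈ FF h hy' := by
  refine ⟨hu.1, fun n hn => ?_⟩
  obtain ⟨q, hq, hqy⟩ := h.Adj_q hy
  have hs := hy.left
  have hsU := Om_le_UU hs
  have hqs : q * s = s * q := (h.ZC_comm (h.mem_ZC hs) hq).symm
  have hn' : q⁻¹ * n * q ∈ N y := by
    have := h.Nc q⁻¹ _ _ hn
    rw [← hqy] at this
    have e : q⁻¹ * (q * y * q⁻¹) * q⁻¹⁻¹ = y := by group
    rw [e] at this
    simpa using this
  have h1 := hu.2 _ hn'
  have h2 : q⁻¹ * n * q * (q⁻¹ * u * q) * (q⁻¹ * n * q)⁻¹ * (q⁻¹ * u * q)⁻¹ ∈ ZC Q s := by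
    rcases Qs_triv h hs (inv_mem hq) hus with h3 | h3
    · rw [inv_inv] at h3
      rw [h3]; exact h1
    · rw [inv_inv] at h3
      rw [h3]
      have hm := h.N_comm hy hn'
      have e : q⁻¹ * n * q * (s * u) * (q⁻¹ * n * q)⁻¹ * (s * u)⁻¹
          = s * (q⁻¹ * n * q * u * (q⁻¹ * n * q)⁻¹ * u⁻¹) * s⁻¹ := by
        calc q⁻¹ * n * q * (s * u) * (q⁻¹ * n * q)⁻¹ * (s * u)⁻¹
            = (q⁻¹ * n * q * s) * u * (q⁻¹ * n * q)⁻¹ * u⁻¹ * s⁻¹ := by group
          _ = _ := by rw [hm]; group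
      rw [e]
      exact (h.ZC_fix rfl).2 h1
  have h3 := (h.ZC_fix hqs).2 h2
  have e : q * (q⁻¹ * n * q * (q⁻¹ * u * q) * (q⁻¹ * n * q)⁻¹ * (q⁻¹ * u * q)⁻¹) * q⁻¹ = n * u * n⁻¹ * u⁻¹ := by
    group
  rwa [e] at h3

/-- `ε` is constant -/
theorem stepB2 (hO : JOpp M r t Q N) (hall : AllOpp M r t N) {s a b c : G} (ha : Adj M r t s a)
    (hb : Adj M r t s b) (hc : Adj M r t s c) (hi : Ind Q s a b c) {x y w d : G} (hx : Adj M r t s x)
    (hy : Adj M r t s y) (hw : Adj M r t s w) (hxy : x * y ∉ ZC Q s) (hxw : x * w ∉ ZC Q s)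
    (hA : ∀ (v : G) (hv : Adj M r t s v), x * v ∉ ZC Q s → d ∈ FF h hv ∨ d * x ∈ FF h hv)
    (hds : d ∈ Q s) (hd : d ∈ FF h hy) : d ∈ FF h hw := by
  have hxU := h.Adj_UU hx
  have hyU := h.Adj_UU hy
  have hwU := h.Adj_UU hw
  -- independent case
  have step : ∀ (u v : G) (hu : Adj M r t s u) (hv : Adj M r t s v), Ind Q s x u v → d ∈ FF h hu → d ∈ FF h hv := by
    intro u v hu hv hi' hdu
    rcases hA v hv hi'.2.1 with h1 | h1
    · exact h1
    · exact (stepB1 h hO hall hx hu hv hi' hdu h1).elim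
  by_cases h1 : y * w ∈ ZC Q s
  · rcases h.noPar_at hy hw h1 with h2 | h2
    · subst h2; exact hd
    · subst h2; exact FF_sy h hy hw hds hd
  by_cases h2 : x * y * w ∈ ZC Q s
  · obtain ⟨v, hv, v1, v2, v3⟩ := exists_out h ha hb hc hi hx hy
    have h3 : d ∈ FF h hv := step y v hy hv ⟨hxy, v1, v2, v3⟩ hd
    have hvU := h.Adj_UU hv
    refine step v w hv hw ⟨v1, hxw, ?_, ?_⟩ h3
    · intro e
      -- v ≡ w ≡ x y
      apply v3
      have e1 : x * y * v = (x * y * w) * (v * w) := by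
        calc x * y * v = x * y * (w * w) * v := by rw [h.UU_sq hwU, mul_one]
          _ = (x * y * w) * (w * v) := by group
          _ = _ := by rw [h.UU_comm hwU hvU]
      rw [e1]
      exact mul_mem h2 e
    · intro e
      apply v2
      have e1 : y * v = (x * y * w) * (x * v * w) := by
        have c1 := h.UU_comm hwU (mul_mem hxU hvU)
        calc y * v = (x * x) * (y * v) * (w * w) := by rw [h.UU_sq hwU, h.UU_sq hxU, mul_one, one_mul]
          _ = x * (x * y) * v * w * w := by group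
          _ = x * (y * x) * v * w * w := by rw [h.UU_comm hxU hyU]
          _ = x * y * (x * v * w) * w := by group
          _ = x * y * (w * (x * v)) * w := by rw [c1]
          _ = _ := by group
      rw [e1]
      exact mul_mem h2 e
  · exact step y w hy hw ⟨hxy, hxw, h1, h2⟩ hd

/-- `d e` is centralised by all `N y` modulo `Z(Q s)`, for `e = 1` or `e = x` -/
theorem stepB (hO : JOpp M r t Q N) (hall : AllOpp M r t N) {s a b c : G} (ha : Adj M r t s a)
    (hb : Adj M r t s b) (hc : Adj M r t s c) (hi : Ind Q s a b c) {x d : G} (hx : Adj M r t s x)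
    (hds : d ∈ Q s) (hdx : d ∈ Q x) (hdU : d ∈ UU M r)
    (hA : ∀ (v : G) (hv : Adj M r t s v), x * v ∉ ZC Q s → d ∈ FF h hv ∨ d * x ∈ FF h hv) :
    ∃ e, (e = 1 ∨ e = x) ∧ ∀ (v : G) (hv : Adj M r t s v), d * e ∈ FF h hv := by
  have hxU := h.Adj_UU hx
  have hsx := h.Adj_mul hx
  have hdxx : d * x ∈ Q x := mul_mem hdx (h.mem_Q (h.Adj_right hx))
  have hdxs : d * x ∈ Q s := mul_mem hds (h.Adj_mem hx)
  -- on the line of x everything is fine
  have hline : ∀ e, (e = 1 ∨ e = x) → ∀ (v : G) (hv : Adj M r t s v), x * v ∈ ZC Q s → d * e ∈ FF h hv := by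
    intro e he v hv hz
    have hde : d * e ∈ Q x ∧ d * e ∈ Q s ∧ d * e ∈ UU M r := by
      rcases he with rfl | rfl
      · simpa using ⟨hdx, hds, hdU⟩
      · exact ⟨hdxx, hdxs, mul_mem hdU hxU⟩
    have h1 := Ky_FF h hx hde.2.2 hde.1
    rcases h.noPar_at hx hv hz with h2 | h2
    · subst h2; exact h1
    · subst h2; exact FF_sy h hx hv hde.2.1 h1
  obtain ⟨y, hy, hxy, -, -⟩ := exists_out h ha hb hc hi hx hx
  rcases hA y hy hxy with h1 | h1
  · refine ⟨1, Or.inl rfl, fun v hv => ?_⟩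
    by_cases h2 : x * v ∈ ZC Q s
    · exact hline 1 (Or.inl rfl) v hv h2
    · rw [mul_one]
      exact stepB2 h hO hall ha hb hc hi hx hy hv hxy h2 hA hds h1
  · refine ⟨x, Or.inr rfl, fun v hv => ?_⟩
    by_cases h2 : x * v ∈ ZC Q s
    · exact hline x (Or.inr rfl) v hv h2
    · refine stepB2 h hO hall ha hb hc hi hx hy hv hxy h2 ?_ hdxs h1
      intro u hu hxu
      rcases hA u hu hxu with h3 | h3
      · right
        rwa [mul_assoc, h.UU_sq hxU, mul_one]
      · exact Or.inl h3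

/-! ### Steps C and D -/

/-- **`K_x ≤ Q s`** -/
theorem stepD (g1 : G1 M r t Q) (hO : JOpp M r t Q N) (hall : AllOpp M r t N) {s a b c : G}
    (ha : Adj M r t s a) (hb : Adj M r t s b) (hc : Adj M r t s c) (hi : Ind Q s a b c) {x n : G}
    (hx : Adj M r t s x) (hn : n ∈ UU M r) (hz : n ∈ ZC Q x) : n ∈ Q s := by
  obtain ⟨q, n', d, D⟩ := exists_d h hx hn hz
  have hs := hx.left
  have hxO := h.Adj_right hx
  have hsU := Om_le_UU hs
  have hxU := h.Adj_UU hx
  have hA : ∀ (v : G) (hv : Adj M r t s v), x * v ∉ ZC Q s → d ∈ FF h hv ∨ d * x ∈ FF h hv := by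
    intro v hv hxv
    exact stepA h hx hv (opp_of h hall hv hx (by rw [h.UU_comm (h.Adj_UU hv) hxU]; exact hxv)) hn hz D
  obtain ⟨e, he, hB⟩ := stepB h hO hall ha hb hc hi hx D.ds D.dx D.dU hA
  obtain ⟨y, hy, hxy, -, -⟩ := exists_out h ha hb hc hi hx hx
  have oyx : Opp M r t N s y x := opp_of h hall hy hx (by rw [h.UU_comm (h.Adj_UU hy) hxU]; exact hxy)
  -- Step C
  have hC : ∀ g ∈ Q x, g * s = s * g → g * d = d * g := by
    intro g hg hgs
    have hgM := h.Q_le_M hxO hg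
    have hgx : g * x = x * g := (h.ZC_comm (h.mem_ZC hxO) hg).symm
    rcases h.comm_Q hxO hg D.dx with h1 | h1
    · calc g * d = (g * d * g⁻¹ * d⁻¹) * d * g := by group
        _ = d * g := by rw [h1, one_mul]
    · exfalso
      -- y' = g⁻¹ y g
      have hgs' : g⁻¹ * s = s * g⁻¹ := h.inv_comm hgs
      have hy' : Adj M r t s (g⁻¹ * y * g⁻¹⁻¹) := by
        have := hy.conj (M.inv_mem hgM)
        have e1 : g⁻¹ * s * g⁻¹⁻¹ = s := by rw [hgs']; group
        rwa [e1] at this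
      have hy'' : Adj M r t s (g * (g⁻¹ * y * g⁻¹⁻¹) * g⁻¹) := by
        have e1 : g * (g⁻¹ * y * g⁻¹⁻¹) * g⁻¹ = y := by group
        rw [e1]; exact hy
      have h2 := FF_conj h hy' hgM hgs hy'' (hB _ hy')
      have e1 : g * (g⁻¹ * y * g⁻¹⁻¹) * g⁻¹ = y := by group
      rw [FF_congr h e1 hy'' hy] at h2
      have h3 : g * (d * e) * g⁻¹ * (d * e)⁻¹ ∈ FF h hy := mul_mem h2 (inv_mem (hB _ hy))
      have heU : e ∈ UU M r := by
        rcases he with rfl | rfl
        · exact one_mem _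
        · exact hxU
      rw [cmul h hgM D.dU heU, h1] at h3
      have h4 : g * e * g⁻¹ * e⁻¹ = 1 := by
        rcases he with rfl | rfl
        · group
        · rw [hgx]; group
      rw [h4, mul_one] at h3
      exact not_FF h hx hy oyx h3
  -- nondegeneracy of `Q x`
  have hnd : d ∈ ZC Q x ∨ s * d ∈ ZC Q x := by
    obtain ⟨p, hp, e2⟩ := h.Adj_q (h.Adj_symm hx)
    have hps : p * s * p⁻¹ = x * s := e2
    have hxx := h.Om_sq hxO
    have gen : ∀ u ∈ UU M r, u * s = s * u → p * u = u * p →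
        (∀ g ∈ Q x, g * s = s * g → g * u = u * g) → u ∈ ZC Q x := by
      intro u hu hus hpu hgu
      rw [Subgroup.mem_centralizer_iff]
      intro g hg
      rcases Qs_act h (h.Adj_symm hx) hg with h1 | h1
      · exact hgu g hg h1
      · have h2 : p⁻¹ * g * s = s * (p⁻¹ * g) := by
          have e3 : p⁻¹ * (g * s * g⁻¹) * p = s := by rw [h1, ← hps]; group
          calc p⁻¹ * g * s = (p⁻¹ * (g * s * g⁻¹) * p) * (p⁻¹ * g) := by group
            _ = _ := by rw [e3]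
        have h3 := hgu _ (mul_mem (inv_mem hp) hg) h2
        calc g * u = p * (p⁻¹ * g * u) := by group
          _ = (p * u) * (p⁻¹ * g) := by rw [h3]; group
          _ = u * g := by rw [hpu]; group
    have hds : d * s = s * d := h.UU_comm D.dU hsU
    rcases h.comm_Q hxO hp D.dx with h1 | h1
    · left
      refine gen d D.dU hds ?_ hC
      calc p * d = (p * d * p⁻¹ * d⁻¹) * d * p := by group
        _ = _ := by rw [h1, one_mul]
    · right
      refine gen (s * d) (mul_mem hsU D.dU) (by rw [mul_assoc, hds]) ?_ ?_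
      · have e3 : p * (s * d) * p⁻¹ = s * d := by
          calc p * (s * d) * p⁻¹ = (p * s * p⁻¹) * ((p * d * p⁻¹ * d⁻¹) * d) := by group
            _ = x * s * (x * d) := by rw [hps, h1]
            _ = (x * s * x) * d := by group
            _ = s * d := by rw [h.UU_cancel hxU hsU]
        calc p * (s * d) = (p * (s * d) * p⁻¹) * p := by group
          _ = _ := by rw [e3]
      · intro g hg hgs
        have := hC g hg hgs
        calc g * (s * d) = (g * s) * d := by group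
          _ = s * (g * d) := by rw [hgs]; group
          _ = _ := by rw [this]; group
  -- so `d ∈ ⟨x⟩ Z(Q s)`
  have hd : d ∈ ZC Q s ∨ x * d ∈ ZC Q s := by
    rcases hnd with h1 | h1
    · exact h.Adj_ZQ (h.Adj_symm hx) h1 D.ds
    · have h2 := h.Adj_ZQ (h.Adj_symm hx) h1 (mul_mem (h.mem_Q hs) D.ds)
      rcases h2 with h3 | h3
      · left
        exact (mul_mem_cancel_left (h.mem_ZC hs)).1 h3
      · right
        have e3 : x * (s * d) = s * (x * d) := by
          rw [← mul_assoc, h.UU_comm hxU hsU, mul_assoc]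
        rw [e3] at h3
        exact (mul_mem_cancel_left (h.mem_ZC hs)).1 h3
  have h7 := f7 h hx hn hz D hd
  -- G1 at the pair (s, x)
  obtain ⟨m, hm, rfl, rfl⟩ := hx
  have h8 : m⁻¹ * n * m ∈ Q r := by
    apply g1
    · have := UU_conj (r := r) (M.inv_mem hm) hn
      simpa using this
    · have := (h.ZC_conj (g := m⁻¹)).2 hz
      simpa [mul_assoc] using this
    · intro w hw
      have h9 := h7 _ (h.Qc m _ _ hw)
      have h10 := (h.ZC_conj (g := m⁻¹)).2 h9
      have e1 : m⁻¹ * (m * w * m⁻¹ * n * (m * w * m⁻¹)⁻¹ * n⁻¹) * m⁻¹⁻¹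
          = w * (m⁻¹ * n * m) * w⁻¹ * (m⁻¹ * n * m)⁻¹ := by group
      have e2 : m⁻¹ * (m * r * m⁻¹) * m⁻¹⁻¹ = r := by group
      rwa [e1, e2] at h10
  have := h.Qc m _ _ h8
  simpa [mul_assoc] using this

/-! ### Step E = (11) -/

/-- `Ind` is invariant -/
theorem Ind.conj {s a b c g : G} (hi : Ind Q s a b c) :
    Ind Q (g * s * g⁻¹) (g * a * g⁻¹) (g * b * g⁻¹) (g * c * g⁻¹) := by
  obtain ⟨i1, i2, i3, i4⟩ := hi
  have key : ∀ u, u ∉ ZC Q s → ∀ v, v = g * u * g⁻¹ → v ∉ ZC Q (g * s * g⁻¹) := by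
    rintro u hu v rfl h1
    exact hu (h.ZC_conj.1 h1)
  exact ⟨key _ i1 _ (by group), key _ i2 _ (by group), key _ i3 _ (by group), key _ i4 _ (by group)⟩

/-- (E1) -/
theorem stepE1 (g1 : G1 M r t Q) (hO : JOpp M r t Q N) (hall : AllOpp M r t N) {p x b c v y : G}
    (hx : Adj M r t p x) (hb : Adj M r t p b) (hc : Adj M r t p c) (hi : Ind Q p x b c)
    (hv : Adj M r t x v) (hy : y ∈ Q p) (hyx : y * x = x * y) :
    y * v * y⁻¹ * v⁻¹ ∈ ZC Q p ∨ x * (y * v * y⁻¹ * v⁻¹) ∈ ZC Q p := by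
  have hp := hx.left
  have hpU := Om_le_UU hp
  have hxO := h.Adj_right hx
  have hxU := h.Adj_UU hx
  have hvU := h.Adj_UU hv
  have hxp := h.Adj_symm hx
  have hyM := h.Q_le_M hp hy
  have hv' : Adj M r t x (y * v * y⁻¹) := by
    have := hv.conj hyM
    have e : y * x * y⁻¹ = x := by rw [hyx]; group
    rwa [e] at this
  have hv'U := h.Adj_UU hv'
  have hvi := h.UU_inv hvU
  rw [hvi]
  by_cases h1 : v * (y * v * y⁻¹) ∈ ZC Q x
  · rcases h.noPar_at hv hv' h1 with h2 | h2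
    · left; rw [h2, h.UU_sq hvU]; exact one_mem _
    · right
      have e : x * (x * v * v) = 1 := by
        rw [mul_assoc, h.UU_sq hvU, mul_one, h.UU_sq hxU]
      rw [h2, e]; exact one_mem _
  · have ho := opp_of h hall hv hv' h1
    obtain ⟨-, -, -, -, -, c', -, hcU, hcx, -, -, -, hthird, -, -⟩ := hO x v _ ho
    have hcomm : y * v * y⁻¹ * v = v * (y * v * y⁻¹) := h.UU_comm hv'U hvU
    have hQp : v * (y * v * y⁻¹) ∈ Q p := by
      have hvp : v * p = p * v := h.UU_comm hvU hpU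
      have e : v * (y * v * y⁻¹) = (v * y * v⁻¹) * y⁻¹ := by rw [hvi]; group
      rw [e]
      exact mul_mem ((h.Q_fix hvp).2 hy) (inv_mem hy)
    have hF : v * (y * v * y⁻¹) * c' ∈ FF h hxp :=
      mul_mem (Ky_FF h hxp (mul_mem hvU hv'U) hQp) (K_FF h hxp hcU hcx)
    have h2 : p * (v * (y * v * y⁻¹) * c') ∈ ZC Q x := by
      by_contra h3
      exact not_FF h hthird hxp (opp_of h hall hxp hthird h3) hF
    have hcp : c' ∈ Q p := stepD h g1 hO hall hx hb hc hi hx hcU hcx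
    have h3 := h.Adj_ZQ hxp hcx hcp
    -- v v' = p c' or x p c'
    have h4 : v * (y * v * y⁻¹) = p * c' ∨ v * (y * v * y⁻¹) = x * (p * c') := by
      have hcc := h.UU_sq hcU
      rcases h.noPar_at hxp hthird h2 with h5 | h5
      · left
        calc v * (y * v * y⁻¹) = v * (y * v * y⁻¹) * c' * c' := by rw [mul_assoc _ c' c', hcc, mul_one]
          _ = _ := by rw [h5]
      · right
        calc v * (y * v * y⁻¹) = v * (y * v * y⁻¹) * c' * c' := by rw [mul_assoc _ c' c', hcc, mul_one]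
          _ = _ := by rw [h5]; group
    rw [hcomm]
    have hpz := h.mem_ZC hp
    rcases h4 with h4 | h4 <;> rw [h4] <;> rcases h3 with h3 | h3
    · left; exact mul_mem hpz h3
    · right
      have e : x * (p * c') = p * (x * c') := by rw [← mul_assoc, h.UU_comm hxU hpU, mul_assoc]
      rw [e]; exact mul_mem hpz h3
    · right
      rw [← mul_assoc, h.UU_sq hxU, one_mul]; exact mul_mem hpz h3
    · left
      have e : x * (p * c') = p * (x * c') := by rw [← mul_assoc, h.UU_comm hxU hpU, mul_assoc]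
      rw [e]; exact mul_mem hpz h3

/-- (E2): `v` does not act trivially -/
theorem stepE2 (hall : AllOpp M r t N) {p x v : G} (hx : Adj M r t p x) (hv : Adj M r t x v)
    (hpv : p * v ∉ ZC Q x) (htriv : ∀ y ∈ Q p, y * x = x * y → y * v * y⁻¹ * v⁻¹ ∈ ZC Q p) : False := by
  have hp := hx.left
  have hpU := Om_le_UU hp
  have hxO := h.Adj_right hx
  have hxU := h.Adj_UU hx
  have hvU := h.Adj_UU hv
  obtain ⟨q, hq, hqx⟩ := h.Adj_q hx
  have hqM := h.Q_le_M hp hq
  have hvp : v * p = p * v := h.UU_comm hvU hpU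
  set j := q⁻¹ * (v * q * v⁻¹) with hj
  have hjU : j ∈ UU M r := by
    have e : j = (q⁻¹ * v * q⁻¹⁻¹) * v⁻¹ := by rw [hj]; group
    rw [e]; exact mul_mem (UConj h (inv_mem hqM) hvU) (inv_mem hvU)
  have hjQ : j ∈ Q p := mul_mem (inv_mem hq) ((h.Q_fix hvp).2 hq)
  have hvq : v * q * v⁻¹ = q * j := by rw [hj]; group
  have hjj := h.UU_sq hjU
  -- j commutes with C_{Q p}(x)
  have k1 : ∀ y ∈ Q p, y * x = x * y → j * y = y * j := by
    intro y hy hyx
    have hyx' : y⁻¹ * x = x * y⁻¹ := h.inv_comm hyx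
    have h1 := htriv _ (inv_mem hy) hyx'
    rw [inv_inv] at h1
    set k := y⁻¹ * v * y * v⁻¹ with hk
    have hvy : v * y * v⁻¹ = y * k := by rw [hk]; group
    have h2 : v * (q * y * q⁻¹ * y⁻¹) * v⁻¹ = q * y * q⁻¹ * y⁻¹ := by
      rcases h.comm_Q hp hq hy with h3 | h3
      · rw [h3]; group
      · rw [h3, hvp]; group
    have h3 : v * (q * y * q⁻¹ * y⁻¹) * v⁻¹ = (q * j) * (y * k) * (q * j)⁻¹ * (y * k)⁻¹ := by
      rw [← hvq, ← hvy]; group
    have h4 : (q * j) * (y * k) * (q * j)⁻¹ * (y * k)⁻¹ = (q * j) * y * (q * j)⁻¹ * y⁻¹ := by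
      have h5 := h.ZC_comm h1 (inv_mem (mul_mem hq hjQ))
      calc (q * j) * (y * k) * (q * j)⁻¹ * (y * k)⁻¹ = (q * j) * y * (k * (q * j)⁻¹) * k⁻¹ * y⁻¹ := by group
        _ = _ := by rw [h5]; group
    rw [h4] at h3
    rw [h2] at h3
    have h6 : j * y * j⁻¹ * y⁻¹ = 1 := by
      have e : j * y * j⁻¹ * y⁻¹ = q⁻¹ * ((q * j) * y * (q * j)⁻¹ * y⁻¹) * (y * q * y⁻¹) := by group
      rw [e, ← h3]; group
    calc j * y = (j * y * j⁻¹ * y⁻¹) * y * j := by group
      _ = _ := by rw [h6, one_mul]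
  have k2 : j * q = q * j := by
    have h2 : (q * j) * (q * j) = q * q := by
      have e : (q * j) * (q * j) = v * (q * q) * v⁻¹ := by rw [← hvq]; group
      rw [e]
      rcases h.sq_Q hp hq with h3 | h3
      · rw [h3]; group
      · rw [h3, hvp]; group
    have h3 : j * q * j = q := by
      have e : j * q * j = q⁻¹ * ((q * j) * (q * j)) := by group
      rw [e, h2]; group
    calc j * q = j * q * (j * j) := by rw [hjj, mul_one]
      _ = (j * q * j) * j := by group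
      _ = q * j := by rw [h3]
  have hjZ : j ∈ ZC Q p := by
    rw [Subgroup.mem_centralizer_iff]
    intro w hw
    rcases Qs_act h hx hw with h1 | h1
    · exact (k1 w hw h1).symm
    · have hvx : q⁻¹ * w * x = x * (q⁻¹ * w) := by
        have e1 : q⁻¹ * (w * x * w⁻¹) * q = x := by
          rw [h1, ← hqx]; group
        calc q⁻¹ * w * x = (q⁻¹ * (w * x * w⁻¹) * q) * (q⁻¹ * w) := by group
          _ = _ := by rw [e1]
      have h2 := k1 _ (mul_mem (inv_mem hq) hw) hvx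
      calc w * j = q * (q⁻¹ * w * j) := by group
        _ = (q * j) * (q⁻¹ * w) := by rw [← h2]; group
        _ = j * w := by rw [← k2]; group
  -- i = [q, v] = j
  have hi : q * v * q⁻¹ * v⁻¹ = j := by
    have e : q * v * q⁻¹ * v⁻¹ = q * (v * q * v⁻¹)⁻¹ := by group
    rw [e, hvq]
    calc q * (q * j)⁻¹ = q * j⁻¹ * q⁻¹ := by group
      _ = j * q * q⁻¹ := by rw [h.UU_inv hjU, k2]
      _ = j := by group
  -- the swap
  have hxp := h.Adj_symm hx
  have hpx := h.Adj_mul hx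
  obtain ⟨g, hg, hgp⟩ := h.Adj_q (h.Adj_symm hpx)
  have hcpx : p * x = x * p := h.UU_comm hpU hxU
  have hpp := h.UU_sq hpU
  have hxx := h.UU_sq hxU
  have hpxO := h.Adj_right hpx
  have hpxU := h.Adj_UU hpx
  have hgM := h.Q_le_M hpxO hg
  have hgp' : g * p * g⁻¹ = x := by
    rw [hgp, mul_assoc, ← hcpx, ← mul_assoc, hpp, one_mul]
  have hgpx : g * (p * x) * g⁻¹ = p * x := by
    have := h.ZC_comm (h.mem_ZC hpxO) hg
    rw [← this]; group
  have hgx : g * x * g⁻¹ = p := by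
    have e : g * x * g⁻¹ = (g * p * g⁻¹) * (g * (p * x) * g⁻¹) := by
      calc g * x * g⁻¹ = g * (p * p * x) * g⁻¹ := by rw [hpp, one_mul]
        _ = _ := by group
    rw [e, hgp', hgpx, hcpx, ← mul_assoc, hxx, one_mul]
  have hrx : Adj M r t p (g * v * g⁻¹) := by
    have := hv.conj hgM
    rwa [hgx] at this
  have hrxU := h.Adj_UU hrx
  have m1 : v * (g * v * g⁻¹) ∈ Q (p * x) := by
    have hc : v * (p * x) = (p * x) * v := h.UU_comm hvU hpxU
    have e : v * (g * v * g⁻¹) = (v * g * v⁻¹) * g⁻¹ := by rw [h.UU_inv hvU]; group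
    rw [e]
    exact mul_mem ((h.Q_fix hc).2 hg) (inv_mem hg)
  have m2 : q * v * q⁻¹ ∈ Q (p * x) := by
    have := h.Qc q _ _ (h.Adj_mem hv)
    rwa [hqx] at this
  have m3 : j * (g * v * g⁻¹) ∈ Q (p * x) := by
    have := mul_mem m2 m1
    have e : q * v * q⁻¹ * (v * (g * v * g⁻¹)) = j * (g * v * g⁻¹) := by
      rw [← hi, h.UU_inv hvU]; group
    rwa [e] at this
  have m4 : g * v * g⁻¹ ∈ FF h hpx :=
    (mul_mem_cancel_left (K_FF h hpx hjU hjZ)).1 (Ky_FF h hpx (mul_mem hjU hrxU) m3)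
  have m5 : (p * x) * (g * v * g⁻¹) ∈ ZC Q p := by
    by_contra h3
    exact not_FF h hrx hpx (opp_of h hall hpx hrx h3) m4
  apply hpv
  rcases h.noPar_at hpx hrx m5 with h3 | h3
  · have hv1 : v = p * x := by
      calc v = g⁻¹ * (g * v * g⁻¹) * g := by group
        _ = g⁻¹ * (g * (p * x) * g⁻¹) * g := by rw [h3, hgpx]
        _ = p * x := by group
    rw [hv1, ← mul_assoc, hpp, one_mul]
    exact h.mem_ZC hxO
  · have hv1 : v = p := by
      rw [← mul_assoc, hpp, one_mul] at h3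
      calc v = g⁻¹ * (g * v * g⁻¹) * g := by group
        _ = g⁻¹ * (g * p * g⁻¹) * g := by rw [h3, hgp']
        _ = p := by group
    rw [hv1, hpp]
    exact one_mem _

/-- (E3): three independent lines do not exist -/
theorem stepE (g1 : G1 M r t Q) (hO : JOpp M r t Q N) (hall : AllOpp M r t N) {p x b c : G}
    (hx : Adj M r t p x) (hb : Adj M r t p b) (hc : Adj M r t p c) (hi : Ind Q p x b c) : False := by
  have hp := hx.left
  have hpU := Om_le_UU hp
  have hxO := h.Adj_right hx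
  have hxU := h.Adj_UU hx
  have hxp := h.Adj_symm hx
  have hpz := h.mem_ZC hp
  -- the line ⟨x, v⟩
  obtain ⟨v, hv, hpv, -, -⟩ : ∃ v, Adj M r t x v ∧ p * v ∉ ZC Q x ∧ p * v ∉ ZC Q x ∧ p * p * v ∉ ZC Q x := by
    obtain ⟨m, hm, hm'⟩ := hp
    obtain ⟨m', hm1, hm2⟩ := hxO
    have e : (m' * m⁻¹) * p * (m' * m⁻¹)⁻¹ = x := by
      rw [← hm', ← hm2]; group
    have hg : m' * m⁻¹ ∈ M := mul_mem hm1 (inv_mem hm)
    have a1 := hx.conj hg
    have a2 := hb.conj hg
    have a3 := hc.conj hg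
    have hi' := Ind.conj h (g := m' * m⁻¹) hi
    rw [e] at a1 a2 a3 hi'
    exact exists_out h a1 a2 a3 hi' hxp hxp
  have hvU := h.Adj_UU hv
  by_cases htriv : ∀ y ∈ Q p, y * x = x * y → y * v * y⁻¹ * v⁻¹ ∈ ZC Q p
  · exact stepE2 h hall hx hv hpv htriv
  push Not at htriv
  obtain ⟨y0, hy0, hy0x, hy0v⟩ := htriv
  have E1 := fun (y : G) (hy : y ∈ Q p) (hyx : y * x = x * y) => stepE1 h g1 hO hall hx hb hc hi hv hy hyx
  have hy0t := (E1 y0 hy0 hy0x).resolve_left hy0v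
  obtain ⟨q, hq, hqx⟩ := h.Adj_q hx
  have hqM := h.Q_le_M hp hq
  have hqp : q * p = p * q := (h.ZC_comm (h.mem_ZC hp) hq).symm
  have hiU : q * v * q⁻¹ * v⁻¹ ∈ UU M r := UU_comm_mem hqM hvU
  set i := q * v * q⁻¹ * v⁻¹ with hidef
  -- every w in Q p moving x
  have hmov : ∀ w ∈ Q p, w * x * w⁻¹ = p * x → (w * v * w⁻¹ * v⁻¹) * i ∈ ZC Q p ∨
      x * ((w * v * w⁻¹ * v⁻¹) * i) ∈ ZC Q p := by
    intro w hw hwx
    have hvx : q⁻¹ * w * x = x * (q⁻¹ * w) := by
      have e1 : q⁻¹ * (w * x * w⁻¹) * q = x := by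
        rw [hwx, ← hqx]; group
      calc q⁻¹ * w * x = (q⁻¹ * (w * x * w⁻¹) * q) * (q⁻¹ * w) := by group
        _ = _ := by rw [e1]
    have hw' : q⁻¹ * w ∈ Q p := mul_mem (inv_mem hq) hw
    have h1 := E1 _ hw' hvx
    set l := q⁻¹ * w * v * (q⁻¹ * w)⁻¹ * v⁻¹ with hl
    have e2 : w * v * w⁻¹ * v⁻¹ = q * l * q⁻¹ * i := by rw [hl, hidef]; group
    have e3 : (w * v * w⁻¹ * v⁻¹) * i = q * l * q⁻¹ := by
      rw [e2, mul_assoc, h.UU_sq hiU, mul_one]
    rw [e3]
    rcases h1 with h1 | h1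
    · left; exact (h.ZC_fix hqp).2 h1
    · right
      have h2 := (h.ZC_fix hqp).2 h1
      have e4 : q * (x * l) * q⁻¹ = p * (x * (q * l * q⁻¹)) := by
        calc q * (x * l) * q⁻¹ = (q * x * q⁻¹) * (q * l * q⁻¹) := by group
          _ = _ := by rw [hqx]; group
      rw [e4] at h2
      exact (mul_mem_cancel_left hpz).1 h2
  -- the claim
  have claim : ∀ w, Adj M r t p w → x * w ∉ ZC Q p → w * i ∈ ZC Q p ∨ x * (w * i) ∈ ZC Q p := by
    intro w hw hxw
    have hwU := h.Adj_UU hw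
    have hwO := h.Adj_right hw
    have howx : Opp M r t N p w x := opp_of h hall hw hx (by rw [h.UU_comm hwU hxU]; exact hxw)
    obtain ⟨-, -, m, hm, hmx⟩ := howx
    obtain ⟨c', hcU, hcp, hcw, hmx'⟩ := h.mv_c hw hx hm hmx
    have hmM := h.N_le_M hwO hm
    have hmp := h.N_comm hw hm
    -- k = [m, v]
    have hkU : m * v * m⁻¹ * v⁻¹ ∈ UU M r := UU_comm_mem hmM hvU
    have hkw : m * v * m⁻¹ * v⁻¹ ∈ ZC Q w := by
      have hcvw : v * w = w * v := h.UU_comm hvU hwU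
      have e : m * v * m⁻¹ * v⁻¹ = m * (v * m⁻¹ * v⁻¹) := by group
      rw [e]
      exact mul_mem (h.N_le_ZC hwO hm) ((h.ZC_fix hcvw).2 (inv_mem (h.N_le_ZC hwO hm)))
    have hkQ : m * v * m⁻¹ * v⁻¹ ∈ Q p := stepD h g1 hO hall hx hb hc hi hw hkU hkw
    set k := m * v * m⁻¹ * v⁻¹ with hk
    have hmv : m * v * m⁻¹ = k * v := by rw [hk]; group
    have hy' : m * y0 * m⁻¹ ∈ Q p := (h.Q_fix hmp).2 hy0
    have hy'M := h.Q_le_M hp hy'
    set y' := m * y0 * m⁻¹ with hy'def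
    have h1 := (h.ZC_fix hmp).2 hy0t
    have e1 : m * (x * (y0 * v * y0⁻¹ * v⁻¹)) * m⁻¹ = (m * x * m⁻¹) * (y' * (m * v * m⁻¹) * y'⁻¹ * (m * v * m⁻¹)⁻¹) := by
      rw [hy'def]; group
    rw [e1, hmx', hmv, cmul h hy'M hkU hvU] at h1
    have hyk : y' * k * y'⁻¹ * k⁻¹ ∈ ZC Q p := by
      rcases h.comm_Q hp hy' hkQ with h2 | h2
      · rw [h2]; exact one_mem _
      · rw [h2]; exact hpz
    have hykU : y' * k * y'⁻¹ * k⁻¹ ∈ UU M r := UU_comm_mem hy'M hkU
    have hyvU : y' * v * y'⁻¹ * v⁻¹ ∈ UU M r := UU_comm_mem hy'M hvU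
    set l := y' * v * y'⁻¹ * v⁻¹ with hl
    -- w x l ∈ ZC
    have h2 : w * x * l ∈ ZC Q p := by
      have e2 : w * x * c' * (y' * k * y'⁻¹ * k⁻¹ * l) = (c' * (y' * k * y'⁻¹ * k⁻¹)) * (w * x * l) := by
        have c1 := h.UU_comm (mul_mem hwU hxU) (mul_mem hcU hykU)
        calc w * x * c' * (y' * k * y'⁻¹ * k⁻¹ * l) = ((w * x) * (c' * (y' * k * y'⁻¹ * k⁻¹))) * l := by group
          _ = ((c' * (y' * k * y'⁻¹ * k⁻¹)) * (w * x)) * l := by rw [c1]
          _ = _ := by group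
      rw [e2] at h1
      exact (mul_mem_cancel_left (mul_mem hcp hyk)).1 h1
    have hwx : w * x ∉ ZC Q p := by rw [h.UU_comm hwU hxU]; exact hxw
    rcases Qs_act h hx hy' with h3 | h3
    · exfalso
      rcases E1 y' hy' h3 with h4 | h4
      · exact hwx ((mul_mem_cancel_right h4).1 h2)
      · have e3 : w * x * l = w * (x * l) := by group
        rw [e3] at h2
        exact h.Adj_not_mem hw ((mul_mem_cancel_right h4).1 h2)
    · have hcxl : x * l = l * x := h.UU_comm hxU hyvU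
      rcases hmov y' hy' h3 with h4 | h4
      · -- l i ∈ ZC, w x l ∈ ZC → x w i ∈ ZC
        right
        have e3 : x * (w * i) = (w * x * l) * (l * i) := by
          calc x * (w * i) = (x * w) * (l * l) * i := by rw [h.UU_sq hyvU, mul_one]; group
            _ = (w * x) * (l * l) * i := by rw [h.UU_comm hxU hwU]
            _ = _ := by group
        rw [e3]
        exact mul_mem h2 h4
      · left
        have e3 : w * i = (w * x * l) * (x * (l * i)) := by
          calc w * i = w * (l * l) * i := by rw [h.UU_sq hyvU, mul_one]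
            _ = w * (x * x) * (l * l) * i := by rw [h.UU_sq hxU, mul_one]
            _ = w * x * (x * l) * l * i := by group
            _ = w * x * (l * x) * l * i := by rw [hcxl]
            _ = _ := by group
        rw [e3]
        exact mul_mem h2 h4
  obtain ⟨i1, i2, i3, i4⟩ := hi
  have hbU := h.Adj_UU hb
  have hcU := h.Adj_UU hc
  have hii := h.UU_sq hiU
  have cb := claim b hb i1
  have cc := claim c hc i2
  have e0 : b * c = (b * i) * (c * i) := by
    calc b * c = b * (i * i) * c := by rw [hii, mul_one]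
      _ = (b * i) * (i * c) := by group
      _ = _ := by rw [h.UU_comm hiU hcU]
  rcases cb with cb | cb <;> rcases cc with cc | cc
  · apply i3
    rw [e0]; exact mul_mem cb cc
  · apply i4
    have e1 : x * b * c = (b * i) * (x * (c * i)) := by
      have c1 := h.UU_comm hxU (mul_mem hbU hiU)
      calc x * b * c = x * (b * c) := by group
        _ = (x * (b * i)) * (c * i) := by rw [e0]; group
        _ = (b * i) * x * (c * i) := by rw [c1]
        _ = _ := by group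
    rw [e1]; exact mul_mem cb cc
  · apply i4
    have e1 : x * b * c = (x * (b * i)) * (c * i) := by
      calc x * b * c = x * (b * c) := by group
        _ = _ := by rw [e0]; group
    rw [e1]; exact mul_mem cb cc
  · apply i3
    have e1 : b * c = (x * (b * i)) * (x * (c * i)) := by
      have c1 := h.UU_comm hxU (mul_mem hbU hiU)
      calc b * c = (b * i) * (c * i) := e0
        _ = (b * i) * (x * x) * (c * i) := by rw [h.UU_sq hxU, mul_one]
        _ = ((b * i) * x) * (x * (c * i)) := by group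
        _ = _ := by rw [← c1]
    rw [e1]; exact mul_mem cb cc

/-- **(D) of #17185 = (11) of #15959 with variable `c`.** -/
theorem eleven_of (g1 : G1 M r t Q) (hO : JOpp M r t Q N) : JEleven M r t Q N := by
  intro hall s a b c hab hc
  by_contra hcon
  push Not at hcon
  obtain ⟨n1, n2, n3, n4, n5⟩ := hcon
  obtain ⟨-, -, -, b1, b2, -⟩ := hO s a b hab
  have ha := hab.1
  have hb := hab.2.1
  refine stepE h g1 hO hall ha hb hc ⟨?_, ?_, ?_, n5⟩
  · intro e
    rcases h.noPar_at ha hb e with h1 | h1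
    · exact b1 h1
    · exact b2 h1
  · intro e
    rcases h.noPar_at ha hc e with h1 | h1
    · exact n1 h1
    · exact n2 h1
  · intro e
    rcases h.noPar_at hb hc e with h1 | h1
    · exact n3 h1
    · exact n4 h1

end base

/-- **(D) of #17185.** -/
theorem eleven [Finite G] (h : TvH M r t Q N) (g1 : G1 M r t Q) : JEleven M r t Q N :=
  eleven_of h g1 h.jOpp

end Cfsg.Agent.Omega.HOne.TvE2
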