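import Cfsg.Agent.Mrg.Omega.HOne.Cut
import Cfsg.Agent.Mrg.Omega.HTwo.TSMain
import Cfsg.Agent.Mrg.Omega.HTwo.SevenMain
import Cfsg.Agent.Mrg.Omega.HOneTwo.MoreMain
import Cfsg.Agent.Mrg.Omega.HOneEnd.Known


/-!
# Leaf II.0h1: the end, the exit `Pos`, and the leaf from `StFour`

* `endL : FFThm.Stmt → EndL`;
* `known_of_pos` : **the exit `Pos`** for all leaves (from `FFThm.Stmt` only);
* `leafH1_of : FFThm.Stmt → St1740 → StFour K → LeafH1 K`; without `StFour` in `HOne/FinalH1.lean`.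
-/

set_option autoImplicit false

namespace Cfsg.Agent.Omega.HOne.Final

open Subgroup Cfsg Cfsg.Agent.ZN Cfsg.Agent.Omega.MinPar Cfsg.Agent.Omega.Frame
open Cfsg.Agent.Omega.FrameFF Cfsg.Agent.Omega.HOne.Main Cfsg.Agent.Omega.HOne.Cut
open Cfsg.Agent.Omega.HTwo.Entry (Pos)
open Cfsg.Agent.Omega.FrameLE (AllIn)

universe u v

/-- **the END** -/
theorem endL (hFF : FFThm.Stmt.{u}) : EndL.{u} := by
  intro G _ _ hG S hF hI G₀ U R v h
  have := hG.simple
  exact h.known hFF hG.char2 hF hI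

/-- the position `Pos` gives `EndIn` -/
theorem ends_of_pos {G : Type u} [Group G] [Finite G] {S : Sylow 2 G} {P V : Subgroup G} {ι : Type v}
    {R : ι → Subgroup G} {o : ι} {r z : G} (p : Pos S P V R o r z) : Ends (S : Subgroup G) V (R o) :=
  Cut.ends_of_pos HTwo.TSMain.ts0 HTwo.Seven.three0 HOneTwo.Trans.more0 p

/-- **The exit `Pos`.** -/
theorem known_of_pos (hFF : FFThm.Stmt.{u}) {G : Type u} [Group G]
    [Finite G] (hG : Ctx G) {S : Sylow 2 G} (hF : Full (S : Subgroup G)) (hI : AllIn (S : Subgroup G))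
    {P V : Subgroup G} {ι : Type v} {R : ι → Subgroup G} {o : ι} {r z : G} (p : Pos S P V R o r z) :
    IsKnownSimple' G :=
  Cut.known_of_pos HTwo.TSMain.ts0 HTwo.Seven.three0 HOneTwo.Trans.more0 (endL hFF) hG hF hI p

/-- Leaf II.0h1 from `StFour`. -/
theorem leafH1_of {K : Cls.{u}} (hFF : FFThm.Stmt.{u}) (h40 : Outputs.St1740.{u}) (h4 : StFour K) : LeafH1 K :=
  Cut.leafH1_of' h40 h4 HTwo.TSMain.ts0 HTwo.Seven.three0 HOneTwo.Trans.more0 (stEnd_of (endL hFF))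

end Cfsg.Agent.Omega.HOne.Final
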