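import Cfsg.Agent.Mrg.Omega.Lie.End.Zero
import Cfsg.Agent.Mrg.Omega.BTwo.QuadGrp
import Cfsg.Agent.Mrg.Omega.BTwo.Mod
import Cfsg.Agent.Mrg.Omega.Lie.LemNS
import Cfsg.Agent.Mrg.Omega.Lie.LemmaTComp
import Cfsg.Agent.Mrg.Omega.BTwo.CoordNat
import Mathlib

section


/-!
# `W i / Z(W i)` as a module for `N(R i) / O₂(N(R i))` (II.a, II.0h1)

`MZ V R i M p`: `p : G → M` induces `W i / Z(W i) ≅ M`; `HQ (R i) = N(R i)/O₂(N(R i))` acts on `M`.
`MZ.exists_form`: the `F`-valued commutator form; `MZ.exists_fq`: the `F`-structure.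
-/

set_option autoImplicit false
set_option linter.unusedSectionVars false

namespace Cfsg.Agent.Omega.HOne.ModZ

open Subgroup Cfsg.Agent.Omega.BTwo Cfsg.Agent.Omega.Lie Cfsg.Agent.Omega.Lie.Quot

universe u v w

variable {G : Type u} [Group G] {ι : Type w}

/-- the module `W i / Z(W i)` -/
structure MZ (V : Subgroup G) (R : ι → Subgroup G) (i : ι) (M : Type u) [AddCommGroup M]
    [DistribMulAction (HQ (R i)) M] (p : G → M) : Prop where
  p_mul : ∀ x ∈ WW V (R i), ∀ y ∈ WW V (R i), p (x * y) = p x + p y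
  p_ker : ∀ x ∈ WW V (R i), (p x = 0 ↔ x ∈ ZZ V R i)
  p_surj : ∀ m, ∃ x ∈ WW V (R i), p x = m
  p_act : ∀ (h : G) (hh : h ∈ normalizer (R i : Set G)), ∀ x ∈ WW V (R i),
    pr (R i) ⟨h, hh⟩ • p x = p (h * x * h⁻¹)

section exist

variable {V : Subgroup G} {R : ι → Subgroup G}

theorem exists_MZ (b : BT V R) (i : ι) :
    ∃ (M : Type u) (_ : AddCommGroup M) (_ : DistribMulAction (HQ (R i)) M) (p : G → M), MZ V R i M p := by
  classical
  set W := WW V (R i) with hW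
  have hRZ : R i ≤ ZZ V R i := b.R_le_Z i
  have hZc : ∀ x ∈ ZZ V R i, ∀ w ∈ W, w * x = x * w := fun x hx w hw => mem_centralizer_iff.1 hx.2 w hw
  set R' := (ZZ V R i).subgroupOf W with hR'
  have hN : R'.Normal := ⟨by
    rintro ⟨x, hx⟩ hx' ⟨w, hw⟩
    change w * x * w⁻¹ ∈ ZZ V R i
    have hx'' : x ∈ ZZ V R i := hx'
    rw [hZc x hx'' w hw, mul_inv_cancel_right]
    exact hx''⟩
  have hmk : ∀ a c : W, (QuotientGroup.mk a : W ⧸ R') = QuotientGroup.mk c ↔ (a : G)⁻¹ * c ∈ ZZ V R i := by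
    intro a c
    rw [QuotientGroup.eq]
    rfl
  let cM : CommGroup (W ⧸ R') :=
    { (inferInstance : Group (W ⧸ R')) with
      mul_comm := by
        intro x y
        induction x using QuotientGroup.induction_on with
        | H x =>
          induction y using QuotientGroup.induction_on with
          | H y =>
            change (QuotientGroup.mk (x * y) : W ⧸ R') = QuotientGroup.mk (y * x)
            rw [hmk]
            have h1 := b.WW_comm i (inv_mem y.2) (inv_mem x.2)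
            have e : ((x * y : W) : G)⁻¹ * (y * x : W) = (y : G)⁻¹ * (x : G)⁻¹ * (y : G)⁻¹⁻¹ * (x : G)⁻¹⁻¹ := by
              push_cast; group
            rw [e]
            exact hRZ h1 }
  have hNW : NR R i ≤ normalizer (W : Set G) := normalizer_le_WW V (R i)
  let φ : NR R i → (W ⧸ R') →* (W ⧸ R') := fun n => QuotientGroup.map R' R' (conjHom hNW n) (by
    rintro ⟨x, hx⟩ hx'
    exact conj_mem_of_normalizer (N_le_NZ i n.2) hx')
  have hφ : ∀ (n : NR R i) (x : W), φ n (QuotientGroup.mk x) = QuotientGroup.mk (conjHom hNW n x) :=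
    fun n x => rfl
  let ψ : NR R i →* AddMonoid.End (Additive (W ⧸ R')) :=
    { toFun := fun n => MonoidHom.toAdditive (φ n)
      map_one' := by
        apply AddMonoidHom.ext
        intro m
        change Additive.ofMul (φ 1 m.toMul) = m
        have key : ∀ m : W ⧸ R', φ 1 m = m := by
          intro m
          induction m using QuotientGroup.induction_on with
          | H x =>
            rw [hφ]
            congr 1
            apply Subtype.ext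
            change (1 : G) * x * (1 : G)⁻¹ = x
            group
        rw [key]
        rfl
      map_mul' := by
        intro n n'
        apply AddMonoidHom.ext
        intro m
        change Additive.ofMul (φ (n * n') m.toMul) = Additive.ofMul (φ n (φ n' m.toMul))
        have key : ∀ m : W ⧸ R', φ (n * n') m = φ n (φ n' m) := by
          intro m
          induction m using QuotientGroup.induction_on with
          | H x =>
            rw [hφ, hφ, hφ]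
            congr 1
            apply Subtype.ext
            change ((n * n' : NR R i) : G) * x * ((n * n' : NR R i) : G)⁻¹ =
              n * (n' * x * (n' : G)⁻¹) * (n : G)⁻¹
            push_cast
            group
        rw [key] }
  have hker : ∀ n ∈ pCore 2 (NR R i), ψ n = 1 := by
    intro n hn
    have hnQ : (n : G) ∈ QQ (R i) := ⟨n, hn, rfl⟩
    apply AddMonoidHom.ext
    intro m
    change Additive.ofMul (φ n m.toMul) = m
    have key : ∀ m : W ⧸ R', φ n m = m := by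
      intro m
      induction m using QuotientGroup.induction_on with
      | H x =>
        rw [hφ, hmk]
        change ((n : G) * x * (n : G)⁻¹)⁻¹ * x ∈ ZZ V R i
        have h1 := b.WQ i (inv_mem hnQ) (inv_mem x.2)
        have h2 := hRZ (inv_mem (b.WQ i hnQ x.2))
        have h3 := N_le_NZ (V := V) (R := R) i (b.W_le_N i x.2)
        have h4 := conj_inv_mem_of_normalizer h3 h2
        have e : ((n : G) * x * (n : G)⁻¹)⁻¹ * x =
            (x : G)⁻¹ * (((n : G) * x * (n : G)⁻¹ * (x : G)⁻¹)⁻¹) * x := by group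
        rw [e]
        exact h4
    rw [key]
    rfl
  let Ψ : HQ (R i) →* AddMonoid.End (Additive (W ⧸ R')) := QuotientGroup.lift (pCore 2 (NR R i)) ψ hker
  have hΨ : ∀ (h : G) (hh : h ∈ normalizer (R i : Set G)), Ψ (pr (R i) ⟨h, hh⟩) = ψ ⟨h, hh⟩ := fun h hh => rfl
  let aM : DistribMulAction (HQ (R i)) (Additive (W ⧸ R')) := DistribMulAction.compHom _ Ψ
  let p : G → Additive (W ⧸ R') := fun g => if h : g ∈ W then Additive.ofMul (QuotientGroup.mk ⟨g, h⟩) else 0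
  have hp : ∀ (x : G) (hx : x ∈ W), p x = Additive.ofMul (QuotientGroup.mk ⟨x, hx⟩) := fun x hx => dif_pos hx
  refine ⟨Additive (W ⧸ R'), inferInstance, aM, p, ?_⟩
  refine
    { p_mul := fun x hx y hy => ?_
      p_ker := fun x hx => ?_
      p_surj := fun m => ?_
      p_act := fun h hh x hx => ?_ }
  · rw [hp _ (mul_mem hx hy), hp _ hx, hp _ hy]; rfl
  · rw [hp _ hx]
    change (QuotientGroup.mk ⟨x, hx⟩ : W ⧸ R') = 1 ↔ _
    rw [QuotientGroup.eq_one_iff]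
    rfl
  · obtain ⟨⟨x, hx⟩, h⟩ := QuotientGroup.mk_surjective m.toMul
    refine ⟨x, hx, ?_⟩
    rw [hp _ hx, h]
    rfl
  · have h1 : h * x * h⁻¹ ∈ W := conj_mem_of_normalizer (hNW hh) hx
    rw [hp _ hx, hp _ h1]
    change Ψ (pr (R i) ⟨h, hh⟩) (Additive.ofMul (QuotientGroup.mk ⟨x, hx⟩)) = _
    rw [hΨ]
    rfl

end exist

namespace MZ

variable {V : Subgroup G} {R : ι → Subgroup G} {i : ι} {M : Type u} [AddCommGroup M]
  [DistribMulAction (HQ (R i)) M] {p : G → M}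

section basic

variable (m : MZ V R i M p)
include m

theorem p_one : p 1 = 0 := by
  have := m.p_mul 1 (one_mem _) 1 (one_mem _)
  rw [mul_one] at this
  exact left_eq_add.1 this

theorem p_inv {x : G} (hx : x ∈ WW V (R i)) : p x⁻¹ = - p x := by
  rw [eq_neg_iff_add_eq_zero, ← m.p_mul _ (inv_mem hx) _ hx, inv_mul_cancel, m.p_one]

theorem p_eq_iff {x y : G} (hx : x ∈ WW V (R i)) (hy : y ∈ WW V (R i)) : p x = p y ↔ x * y⁻¹ ∈ ZZ V R i := by
  rw [← m.p_ker _ (mul_mem hx (inv_mem hy)), m.p_mul _ hx _ (inv_mem hy), m.p_inv hy, ← sub_eq_add_neg,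
    sub_eq_zero]

/-- the image of a subgroup `X` of `W i` -/
def sb (X : Subgroup G) : AddSubgroup M where
  carrier := {a | ∃ x ∈ X, x ∈ WW V (R i) ∧ p x = a}
  zero_mem' := ⟨1, one_mem _, one_mem _, m.p_one⟩
  add_mem' := by
    rintro _ _ ⟨x, hx, hx', rfl⟩ ⟨y, hy, hy', rfl⟩
    exact ⟨x * y, mul_mem hx hy, mul_mem hx' hy', m.p_mul x hx' y hy'⟩
  neg_mem' := by
    rintro _ ⟨x, hx, hx', rfl⟩
    exact ⟨x⁻¹, inv_mem hx, inv_mem hx', m.p_inv hx'⟩

theorem mem_sb {X : Subgroup G} {a : M} : a ∈ m.sb X ↔ ∃ x ∈ X, x ∈ WW V (R i) ∧ p x = a := Iff.rfl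

theorem p_mem {X : Subgroup G} {x : G} (hx : x ∈ WW V (R i)) (h : x ∈ X) : p x ∈ m.sb X := ⟨x, h, hx, rfl⟩

theorem p_mem_iff {X : Subgroup G} {x : G} (hx : x ∈ WW V (R i)) (hR : ZZ V R i ≤ X) :
    p x ∈ m.sb X ↔ x ∈ X := by
  refine ⟨?_, m.p_mem hx⟩
  rintro ⟨y, hy, hy', e⟩
  have h1 := hR ((m.p_eq_iff hy' hx).1 e)
  have e2 : x = (y * x⁻¹)⁻¹ * y := by group
  rw [e2]
  exact mul_mem (inv_mem h1) hy

theorem sb_mono {X X' : Subgroup G} (h : X ≤ X') : m.sb X ≤ m.sb X' := by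
  rintro _ ⟨x, hx, hx', rfl⟩
  exact ⟨x, h hx, hx', rfl⟩

theorem sb_smul {X : Subgroup G} {h : G} (hh : h ∈ normalizer (R i : Set G))
    (hX : h ∈ normalizer (X : Set G)) {a : M} (ha : a ∈ m.sb X) : pr (R i) ⟨h, hh⟩ • a ∈ m.sb X := by
  obtain ⟨x, hx, hx', rfl⟩ := ha
  rw [m.p_act h hh x hx']
  exact ⟨_, conj_mem_of_normalizer hX hx, conj_mem_of_normalizer (normalizer_le_WW V (R i) hh) hx', rfl⟩

theorem smul_sub {h : G} (hh : h ∈ normalizer (R i : Set G)) {x : G} (hx : x ∈ WW V (R i)) :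
    pr (R i) ⟨h, hh⟩ • p x - p x = p (h * x * h⁻¹ * x⁻¹) := by
  have h1 := conj_mem_of_normalizer (normalizer_le_WW V (R i) hh) hx
  rw [m.p_act h hh x hx, m.p_mul _ h1 _ (inv_mem hx), m.p_inv hx, sub_eq_add_neg]

omit m in
theorem comm_mem_W {h : G} (hh : h ∈ normalizer (R i : Set G)) {x : G} (hx : x ∈ WW V (R i)) :
    h * x * h⁻¹ * x⁻¹ ∈ WW V (R i) :=
  mul_mem (conj_mem_of_normalizer (normalizer_le_WW V (R i) hh) hx) (inv_mem hx)

/-- `M = ⟨e^H⟩` -/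
theorem gen {S : AddSubgroup M} (hS : ∀ (h : HQ (R i)), ∀ a ∈ m.sb V, h • a ∈ S) : S = ⊤ := by
  rw [eq_top_iff]
  intro a _
  obtain ⟨x, hx, rfl⟩ := m.p_surj a
  let T : Subgroup G :=
    { carrier := {x | x ∈ WW V (R i) ∧ p x ∈ S}
      one_mem' := ⟨one_mem _, by rw [m.p_one]; exact zero_mem _⟩
      mul_mem' := by
        rintro x y ⟨hx, hx'⟩ ⟨hy, hy'⟩
        exact ⟨mul_mem hx hy, by rw [m.p_mul x hx y hy]; exact add_mem hx' hy'⟩
      inv_mem' := by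
        rintro x ⟨hx, hx'⟩
        exact ⟨inv_mem hx, by rw [m.p_inv hx]; exact neg_mem hx'⟩ }
  have hT : WW V (R i) ≤ T := by
    refine iSup_le fun h => ?_
    rintro _ ⟨v, hv, rfl⟩
    change (h : G) * v * (h : G)⁻¹ ∈ T
    have hvW := V_le_WW V (R i) hv
    refine ⟨cj_le_WW h.2 (conj_mem_cj hv), ?_⟩
    rw [← m.p_act h h.2 v hvW]
    exact hS _ _ ⟨v, hv, hvW, rfl⟩
  exact (hT hx).2

theorem finite_M [Finite G] : Finite M := by
  refine Finite.of_surjective (fun x : WW V (R i) => p x) fun a => ?_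
  obtain ⟨x, hx, rfl⟩ := m.p_surj a
  exact ⟨⟨x, hx⟩, rfl⟩

end basic

section facts

variable (m : MZ V R i M p) (b : BT V R)
include m b

theorem two (a : M) : a + a = 0 := by
  obtain ⟨x, hx, rfl⟩ := m.p_surj a
  rw [← m.p_mul x hx x hx, m.p_ker _ (mul_mem hx hx)]
  exact b.R_le_Z i (b.W_sq i hx)

theorem p_R {x : G} (hx : x ∈ R i) : p x = 0 :=
  (m.p_ker x (b.R_le_W i i hx)).2 (b.R_le_Z i hx)

end facts

section form

variable {j : ι} {F : Type v} [Field F] {v : F → F → G} {w1 w2 : F → G}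
variable (m : MZ V R i M p) (b : BT V R) (c : Coord V R i j v w1 w2)
include m b c

/-- the commutator form -/
theorem exists_form : ∃ f : M →+ M →+ F,
    ∀ x ∈ WW V (R i), ∀ y ∈ WW V (R i), x * y * x⁻¹ * y⁻¹ = v (f (p x) (p y)) 0 := by
  have hcong : ∀ x ∈ WW V (R i), ∀ x' ∈ WW V (R i), ∀ y ∈ WW V (R i), ∀ y' ∈ WW V (R i),
      p x = p x' → p y = p y' → x * y * x⁻¹ * y⁻¹ = x' * y' * x'⁻¹ * y'⁻¹ := by
    intro x hx x' hx' y hy y' hy' h1 h2
    have k1 := (m.p_eq_iff hx hx').1 h1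
    have k2 := (m.p_eq_iff hy hy').1 h2
    set z := x * x'⁻¹ with hz
    set z' := y * y'⁻¹ with hz'
    have ex : x = z * x' := by rw [hz]; group
    have ey : y = z' * y' := by rw [hz']; group
    have c1 : Commute z' x' := (mem_centralizer_iff.1 k2.2 x' hx').symm
    have c2 : Commute z y' := (mem_centralizer_iff.1 k1.2 y' hy').symm
    have c3 : Commute z z' := (mem_centralizer_iff.1 k1.2 z' k2.1).symm
    have c4 : Commute z x' := (mem_centralizer_iff.1 k1.2 x' hx').symm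
    have c5 : Commute z' y' := (mem_centralizer_iff.1 k2.2 y' hy').symm
    have g1 : Commute z (x' * (z' * y') * x'⁻¹) := (c4.mul_right (c3.mul_right c2)).mul_right c4.inv_right
    have g2 : Commute z' (x' * y' * x'⁻¹) := (c1.mul_right c5).mul_right c1.inv_right
    rw [ex, ey]
    calc z * x' * (z' * y') * (z * x')⁻¹ * (z' * y')⁻¹
        = (z * (x' * (z' * y') * x'⁻¹)) * z⁻¹ * (z' * y')⁻¹ := by group
      _ = x' * (z' * y') * x'⁻¹ * (z' * y')⁻¹ := by rw [g1.eq]; group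
      _ = (x' * z') * y' * x'⁻¹ * (z' * y')⁻¹ := by group
      _ = (z' * (x' * y' * x'⁻¹)) * (z' * y')⁻¹ := by rw [← c1.eq]; group
      _ = (x' * y' * x'⁻¹) * (z' * (z' * y')⁻¹) := by rw [g2.eq]; group
      _ = (x' * y' * x'⁻¹) * y'⁻¹ := by
          rw [mul_inv_rev, ← mul_assoc z', (c5.inv_right).eq]
          group
  have key : ∀ a a' : M, ∃ s : F, ∀ x ∈ WW V (R i), ∀ y ∈ WW V (R i), p x = a → p y = a' →
      x * y * x⁻¹ * y⁻¹ = v s 0 := by
    intro a a'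
    obtain ⟨x, hx, rfl⟩ := m.p_surj a
    obtain ⟨y, hy, rfl⟩ := m.p_surj a'
    obtain ⟨s, hs⟩ := (c.mem_R1 _).1 (b.WW_comm i hx hy)
    refine ⟨s, fun x' hx' y' hy' h1 h2 => ?_⟩
    rw [hs]
    exact hcong x' hx' x hx y' hy' y hy h1 h2
  choose f0 hf0 using key
  have hf : ∀ x ∈ WW V (R i), ∀ y ∈ WW V (R i), x * y * x⁻¹ * y⁻¹ = v (f0 (p x) (p y)) 0 :=
    fun x hx y hy => hf0 _ _ x hx y hy rfl rfl
  have hv : ∀ s s', v s 0 = v s' 0 → s = s' := fun s s' h => (c.v_inj h).1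
  have hva : ∀ s s', v (s + s') 0 = v s 0 * v s' 0 := fun s s' => by
    have h := c.v_add s 0 s' 0
    rwa [add_zero] at h
  have hadd2 : ∀ a a' a'', f0 a (a' + a'') = f0 a a' + f0 a a'' := by
    intro a a' a''
    obtain ⟨x, hx, rfl⟩ := m.p_surj a
    obtain ⟨y, hy, rfl⟩ := m.p_surj a'
    obtain ⟨y', hy', rfl⟩ := m.p_surj a''
    apply hv
    rw [hva, ← m.p_mul y hy y' hy', ← hf x hx _ (mul_mem hy hy'), ← hf x hx y hy, ← hf x hx y' hy']
    have h1 := b.conj_R (b.W_le_Q i hy) (b.WW_comm i hx hy')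
    calc x * (y * y') * x⁻¹ * (y * y')⁻¹
        = x * y * x⁻¹ * y⁻¹ * (y * (x * y' * x⁻¹ * y'⁻¹) * y⁻¹) := by group
      _ = _ := by rw [h1]
  have hadd1 : ∀ a a' a'', f0 (a + a') a'' = f0 a a'' + f0 a' a'' := by
    intro a a' a''
    obtain ⟨x, hx, rfl⟩ := m.p_surj a
    obtain ⟨x', hx', rfl⟩ := m.p_surj a'
    obtain ⟨y, hy, rfl⟩ := m.p_surj a''
    apply hv
    rw [hva, ← m.p_mul x hx x' hx', ← hf _ (mul_mem hx hx') y hy, ← hf x hx y hy, ← hf x' hx' y hy]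
    have h1 := b.conj_R (b.W_le_Q i hx) (b.WW_comm i hx' hy)
    have h2 := b.R_comm i _ (b.WW_comm i hx' hy) _ (b.WW_comm i hx hy)
    calc x * x' * y * (x * x')⁻¹ * y⁻¹
        = (x * (x' * y * x'⁻¹ * y⁻¹) * x⁻¹) * (x * y * x⁻¹ * y⁻¹) := by group
      _ = (x' * y * x'⁻¹ * y⁻¹) * (x * y * x⁻¹ * y⁻¹) := by rw [h1]
      _ = _ := h2
  let f : M →+ M →+ F := AddMonoidHom.mk' (fun a => AddMonoidHom.mk' (f0 a) (hadd2 a)) (by
    intro a a'
    apply AddMonoidHom.ext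
    intro a''
    exact hadd1 a a' a'')
  exact ⟨f, hf⟩

end form

end MZ

/-- `M = W i / Z(W i)` as a space over `F`, with the `F`-bilinear form `f`, `e : F → M` the line `V / R i`, `ω` the coordinate
of `M / e^⊥`; `h ∈ HQ (R i)` acts `σ h`-semilinearly, on `R i = F` as `κ h * σ h` -/
structure Fq (V : Subgroup G) (R : ι → Subgroup G) (i : ι) {F : Type v} [Field F] (v : F → F → G)
    (M : Type u) [AddCommGroup M] [Module F M] [DistribMulAction (HQ (R i)) M] (p : G → M)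
    (f : M →ₗ[F] M →ₗ[F] F) (e : F →ₗ[F] M) (ω : M →ₗ[F] F) (σ : HQ (R i) →* RingAut F)
    (κ : HQ (R i) → F) : Prop extends MZ V R i M p where
  f_eq : ∀ x ∈ WW V (R i), ∀ y ∈ WW V (R i), x * y * x⁻¹ * y⁻¹ = v (f (p x) (p y)) 0
  e_eq : ∀ β γ, p (v β γ) = e γ
  ω_eq : ∀ x ∈ WW V (R i), ∀ β γ, x * v β γ * x⁻¹ = v (β + ω (p x) * γ) γ
  fe : ∀ x γ, f x (e γ) = ω x * γ
  symm : ∀ x y, f x y = f y x
  alt : ∀ x, f x x = 0
  nd : ∀ x, (∀ y, f x y = 0) → x = 0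
  semi : ∀ h (a : F) (x : M), h • (a • x) = σ h a • (h • x)
  act : ∀ h x y, f (h • x) (h • y) = κ h * σ h (f x y)
  R_act : ∀ (g : G) (hg : g ∈ normalizer (R i : Set G)) (β : F),
    g * v β 0 * g⁻¹ = v (κ (pr (R i) ⟨g, hg⟩) * σ (pr (R i) ⟨g, hg⟩) β) 0
  κne : ∀ h, κ h ≠ 0

section fq

variable {V : Subgroup G} {R : ι → Subgroup G} {i j : ι} {M : Type u} [AddCommGroup M]
  [DistribMulAction (HQ (R i)) M] {p : G → M} {F : Type v} [Field F] {v : F → F → G} {w1 w2 : F → G} {t : F → G}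

/-- the action of `H` on `R i = F` -/
theorem exists_rho (b : BT V R) (c : Coord V R i j v w1 w2) : ∃ ρ : HQ (R i) → F ≃+ F,
    (∀ β, ρ 1 β = β) ∧ (∀ h h' β, ρ (h * h') β = ρ h (ρ h' β)) ∧
    ∀ (g : G) (hg : g ∈ normalizer (R i : Set G)) (β : F), g * v β 0 * g⁻¹ = v (ρ (pr (R i) ⟨g, hg⟩) β) 0 := by
  have hv : ∀ s s', v s 0 = v s' 0 → s = s' := fun s s' h => (c.v_inj h).1
  have hva : ∀ s s', v (s + s') 0 = v s 0 * v s' 0 := fun s s' => by
    have h := c.v_add s 0 s' 0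
    rwa [add_zero] at h
  have hR : ∀ s, v s 0 ∈ R i := fun s => (c.mem_R1 _).2 ⟨s, rfl⟩
  have key : ∀ g ∈ normalizer (R i : Set G), ∀ s, ∃ s', g * v s 0 * g⁻¹ = v s' 0 := by
    intro g hg s
    obtain ⟨s', hs'⟩ := (c.mem_R1 _).1 (conj_mem_of_normalizer hg (hR s))
    exact ⟨s', hs'.symm⟩
  choose! φ hφ using key
  have hcong : ∀ g (hg : g ∈ normalizer (R i : Set G)) g' (hg' : g' ∈ normalizer (R i : Set G)),
      pr (R i) ⟨g, hg⟩ = pr (R i) ⟨g', hg'⟩ → ∀ s, φ g s = φ g' s := by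
    intro g hg g' hg' h s
    apply hv
    rw [← hφ g hg s, ← hφ g' hg' s]
    have h1 := (pr_eq_pr hg hg').1 h
    have h2 := b.conj_R h1 (hR s)
    calc g * v s 0 * g⁻¹ = g * (g⁻¹ * g' * v s 0 * (g⁻¹ * g')⁻¹) * g⁻¹ := by rw [h2]
      _ = _ := by group
  have hmul : ∀ g ∈ normalizer (R i : Set G), ∀ g' ∈ normalizer (R i : Set G), ∀ s,
      φ (g * g') s = φ g (φ g' s) := by
    intro g hg g' hg' s
    apply hv
    rw [← hφ _ (mul_mem hg hg') s, ← hφ g hg, ← hφ g' hg']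
    group
  have hone : ∀ s, φ 1 s = s := by
    intro s
    apply hv
    rw [← hφ 1 (one_mem _) s]
    group
  have hadd : ∀ g ∈ normalizer (R i : Set G), ∀ s s', φ g (s + s') = φ g s + φ g s' := by
    intro g hg s s'
    apply hv
    rw [hva, ← hφ g hg, ← hφ g hg, ← hφ g hg, hva]
    group
  let Φ : ∀ g, g ∈ normalizer (R i : Set G) → (F ≃+ F) := fun g hg =>
    { toFun := φ g
      invFun := φ g⁻¹
      left_inv := fun s => by rw [← hmul g⁻¹ (inv_mem hg) g hg, inv_mul_cancel, hone]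
      right_inv := fun s => by rw [← hmul g hg g⁻¹ (inv_mem hg), mul_inv_cancel, hone]
      map_add' := hadd g hg }
  have hex : ∀ h : HQ (R i), ∃ ψ : F ≃+ F, ∀ g (hg : g ∈ normalizer (R i : Set G)), pr (R i) ⟨g, hg⟩ = h →
      ∀ s, φ g s = ψ s := by
    intro h
    obtain ⟨g0, hg0, rfl⟩ := exists_pr h
    exact ⟨Φ g0 hg0, fun g hg h s => hcong g hg g0 hg0 h s⟩
  choose ρ hρ using hex
  refine ⟨ρ, fun β => ?_, fun h h' β => ?_, fun g hg β => ?_⟩
  · rw [← hρ 1 1 (one_mem _) (map_one (pr (R i))), hone]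
  · obtain ⟨g, hg, rfl⟩ := exists_pr h
    obtain ⟨g', hg', rfl⟩ := exists_pr h'
    rw [← hρ _ g hg rfl, ← hρ _ g' hg' rfl, ← hmul g hg g' hg']
    exact (hρ _ (g * g') (mul_mem hg hg') (map_mul (pr (R i)) ⟨g, hg⟩ ⟨g', hg'⟩) β).symm
  · rw [hφ g hg, hρ _ g hg rfl]

/-- **the `F`-structure on `W i / Z(W i)`** -/
theorem MZ.exists_fq [Finite G] [Finite F] (hF : ∃ a : F, a ≠ 0 ∧ a ≠ 1) (m : MZ V R i M p) (b : BT V R)
    (c : Coord V R i j v w1 w2) (τ : TorD V R i j v t) :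
    ∃ (_ : Module F M) (f : M →ₗ[F] M →ₗ[F] F) (e : F →ₗ[F] M) (ω : M →ₗ[F] F) (σ : HQ (R i) →* RingAut F)
      (κ : HQ (R i) → F), Fq V R i v M p f e ω σ κ := by
  obtain ⟨ρ, ρ1, ρm, hρ⟩ := exists_rho b c
  obtain ⟨f, hf⟩ := m.exists_form b c
  have h2F : ∀ a : F, a + a = 0 := fun a => by
    have h := b.V_sq _ (c.v_mem a 0)
    have h1 := c.v_add a 0 a 0
    rw [h] at h1
    exact (c.v_one _ _ h1).1
  have hv : ∀ s s', v s 0 = v s' 0 → s = s' := fun s s' h => (c.v_inj h).1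
  have hva : ∀ s s', v (s + s') 0 = v s 0 * v s' 0 := fun s s' => by
    have h := c.v_add s 0 s' 0
    rwa [add_zero] at h
  have hvW : ∀ β γ, v β γ ∈ WW V (R i) := fun β γ => V_le_WW V (R i) (c.v_mem β γ)
  have hR : ∀ s, v s 0 ∈ R i := fun s => (c.mem_R1 _).2 ⟨s, rfl⟩
  -- the line
  let e : F →+ M :=
    { toFun := fun γ => p (v 0 γ)
      map_zero' := by rw [c.v_zero, m.p_one]
      map_add' := fun γ γ' => by
        have h := c.v_add 0 γ 0 γ'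
        rw [add_zero] at h
        rw [h, m.p_mul _ (hvW 0 γ) _ (hvW 0 γ')] }
  have he : ∀ γ, e γ = p (v 0 γ) := fun γ => rfl
  have he' : ∀ β γ, p (v β γ) = e γ := by
    intro β γ
    have h := c.v_add β 0 0 γ
    rw [add_zero, zero_add] at h
    rw [h, m.p_mul _ (hvW β 0) _ (hvW 0 γ), m.p_R b (hR β), zero_add]
    rfl
  -- `ω`
  have hω0 : ∀ a : M, ∃ s : F, ∀ x ∈ WW V (R i), p x = a → ∀ β γ, x * v β γ * x⁻¹ = v (β + s * γ) γ := by
    intro a
    obtain ⟨x, hx, rfl⟩ := m.p_surj a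
    obtain ⟨s, hs⟩ := c.W1_act x hx
    refine ⟨s, fun x' hx' h β γ => ?_⟩
    have k1 := (m.p_eq_iff hx' hx).1 h
    have k2 : Commute (x' * x⁻¹) (v (β + s * γ) γ) := (mem_centralizer_iff.1 k1.2 _ (hvW _ _)).symm
    calc x' * v β γ * x'⁻¹ = (x' * x⁻¹) * (x * v β γ * x⁻¹) * (x' * x⁻¹)⁻¹ := by group
      _ = v (β + s * γ) γ := by rw [hs, k2.eq, mul_inv_cancel_right]
  choose ω0 hω0 using hω0
  have hω : ∀ x ∈ WW V (R i), ∀ β γ, x * v β γ * x⁻¹ = v (β + ω0 (p x) * γ) γ := fun x hx => hω0 _ x hx rfl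
  have hωu : ∀ x ∈ WW V (R i), ∀ s, (x * v 0 1 * x⁻¹ = v s 1) → ω0 (p x) = s := by
    intro x hx s h
    rw [hω x hx, zero_add, mul_one] at h
    exact (c.v_inj h).1
  let ω : M →+ F := AddMonoidHom.mk' ω0 (by
    intro a a'
    obtain ⟨x, hx, rfl⟩ := m.p_surj a
    obtain ⟨y, hy, rfl⟩ := m.p_surj a'
    rw [← m.p_mul x hx y hy]
    apply hωu _ (mul_mem hx hy)
    calc x * y * v 0 1 * (x * y)⁻¹ = x * (y * v 0 1 * y⁻¹) * x⁻¹ := by group
      _ = _ := by rw [hω y hy, hω x hx]; congr 1; ring)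
  have hωω : ∀ a, ω a = ω0 a := fun a => rfl
  have fe : ∀ x γ, f x (e γ) = ω x * γ := by
    intro a γ
    obtain ⟨x, hx, rfl⟩ := m.p_surj a
    apply hv
    rw [he, ← hf x hx _ (hvW 0 γ), hω x hx, zero_add, hωω]
    have h := c.v_add (ω0 (p x) * γ) 0 0 γ
    rw [add_zero, zero_add] at h
    rw [h, mul_inv_cancel_right]
  have falt : ∀ a, f a a = 0 := by
    intro a
    obtain ⟨x, hx, rfl⟩ := m.p_surj a
    apply hv
    rw [← hf x hx x hx, c.v_zero]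
    group
  have fsymm : ∀ a a', f a a' = f a' a := by
    intro a a'
    have h := falt (a + a')
    rw [map_add, map_add, AddMonoidHom.add_apply, AddMonoidHom.add_apply, falt, falt, zero_add, add_zero] at h
    have h2 := h2F (f a a')
    rw [← h2] at h
    exact (add_right_cancel h).symm
  have fnd : ∀ a, (∀ a', f a a' = 0) → a = 0 := by
    intro a h
    obtain ⟨x, hx, rfl⟩ := m.p_surj a
    rw [m.p_ker x hx]
    refine mem_inf.2 ⟨hx, ?_⟩
    rw [mem_centralizer_iff]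
    intro w hw
    have h1 := hf x hx w hw
    rw [h, c.v_zero, mul_inv_eq_one, mul_inv_eq_iff_eq_mul] at h1
    exact h1.symm
  have fact : ∀ (h : HQ (R i)) a a', f (h • a) (h • a') = ρ h (f a a') := by
    intro h a a'
    obtain ⟨g, hg, rfl⟩ := exists_pr h
    obtain ⟨x, hx, rfl⟩ := m.p_surj a
    obtain ⟨y, hy, rfl⟩ := m.p_surj a'
    have hN := normalizer_le_WW V (R i) hg
    apply hv
    rw [m.p_act g hg x hx, m.p_act g hg y hy,
      ← hf _ (conj_mem_of_normalizer hN hx) _ (conj_mem_of_normalizer hN hy), ← hρ g hg, ← hf x hx y hy]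
    group
  let T : Fˣ → HQ (R i) := fun a => pr (R i) ⟨t a, τ.normR a.ne_zero⟩
  have hTv : ∀ (a : Fˣ) β γ, t a * v β γ * (t a)⁻¹ = v ((a : F) * β) ((a : F)⁻¹ * γ) :=
    fun a β γ => τ.act _ _ _ a.ne_zero
  let A : Set (HQ (R i)) := {h | ∃ u ∈ UU V R j, ∃ hu : u ∈ normalizer (R i : Set G), pr (R i) ⟨u, hu⟩ = h}
  have hd : FqMod.Dat ρ f e ω T A (m.sb (DD V R)) :=
    { ρone := ρ1
      ρmul := ρm
      symm := fsymm
      nd := fnd
      act := fact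
      fe := fe
      span := by
        intro L hL
        apply m.gen
        rintro h _ ⟨x, hx, hxW, rfl⟩
        obtain ⟨β, γ, rfl⟩ := (c.mem_V x).1 hx
        rw [he']
        exact hL h γ
      ωne := by
        refine ⟨p (w1 1), ?_⟩
        have h1 : ω (p (w1 1)) = 1 := by
          apply hωu _ (c.w1_mem 1)
          rw [c.w1_act, zero_add, mul_one]
        rw [h1]
        exact one_ne_zero
      tρ := by
        intro a β
        apply hv
        rw [← hρ _ (τ.normR a.ne_zero), hTv, mul_zero]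
      te := by
        intro a γ
        refine ⟨(a : F)⁻¹ * γ, ?_⟩
        rw [he, he, m.p_act _ _ _ (hvW 0 γ), hTv, mul_zero]
      tD := by
        rintro a _ ⟨d, hd, hdW, rfl⟩
        rw [m.smul_sub _ hdW]
        obtain ⟨β, γ, h⟩ := (c.mem_V _).1 (b.XD (τ.memX _ a.ne_zero) hd)
        refine ⟨γ, ?_⟩
        rw [← h, he']
      Aρ := by
        rintro _ ⟨u, hu, huN, rfl⟩ β
        apply hv
        rw [← hρ u huN, ← mem_centralizer_iff.1 (UU_le_cen j hu) _ (c.v_mem β 0), mul_inv_cancel_right]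
      surj := by
        intro a ha a' ha'
        obtain ⟨x, hx, rfl⟩ := m.p_surj a
        obtain ⟨y, hy, rfl⟩ := m.p_surj a'
        have hxU : x ∉ UU V R i := by
          intro h
          apply ha
          apply hωu x hx
          rw [← mem_centralizer_iff.1 (UU_le_cen i h) _ (c.v_mem 0 1), mul_inv_cancel_right]
        have hyU : y ∈ UU V R i := by
          refine mem_inf.2 ⟨hy, ?_⟩
          rw [mem_centralizer_iff]
          intro z hz
          obtain ⟨β, γ, rfl⟩ := (c.mem_V z).1 hz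
          have h1 := hω y hy β γ
          rw [← hωω, ha', zero_mul, add_zero, mul_inv_eq_iff_eq_mul] at h1
          exact h1.symm
        obtain ⟨u, hu, huD⟩ := b.surj (Ne.symm c.ne) hx hxU (inv_mem hyU)
        have huN := b.cen_le_N i (UU_le_cen j hu)
        refine ⟨pr (R i) ⟨u, huN⟩, ⟨u, hu, huN, rfl⟩, ?_⟩
        have hcW := MZ.comm_mem_W (V := V) huN hx
        rw [m.smul_sub huN hx, ← neg_sub, sub_eq_add_neg, ← m.p_inv hy, ← m.p_mul _ hcW _ (inv_mem hy)]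
        refine neg_mem (m.p_mem (mul_mem hcW (inv_mem hy)) ?_)
        have e1 : (u * x * u⁻¹ * x⁻¹) * y⁻¹ = (x * u * x⁻¹ * u⁻¹)⁻¹ * y⁻¹ := by group
        rw [e1]
        exact huD }
  obtain ⟨md, σ, g1, g2, g3, g4, g5, g6, -, -⟩ := hd.exists_module hF
  let fl : M →ₗ[F] M →ₗ[F] F := LinearMap.mk₂ F (fun x y => f x y)
    (fun x x' y => by rw [map_add]; rfl) (fun a x y => g1 a x y) (fun x y y' => map_add _ _ _)
    (fun a x y => g2 a x y)
  let el : F →ₗ[F] M := { e with map_smul' := fun a γ => g5 a γ }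
  let ωl : M →ₗ[F] F := { ω with map_smul' := fun a x => g6 a x }
  have hρσ : ∀ h β, ρ h β = ρ h 1 * σ h β := by
    intro h β
    have h1 := g3 h β 1
    rw [mul_one] at h1
    rw [h1, mul_comm]
  refine ⟨md, fl, el, ωl, σ, fun h => ρ h 1, ?_⟩
  exact
    { toMZ := m
      f_eq := hf
      e_eq := he'
      ω_eq := hω
      fe := fe
      symm := fsymm
      alt := falt
      nd := fnd
      semi := g4
      act := fun h x y => (fact h x y).trans (hρσ h _)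
      R_act := fun g hg β => (hρ g hg β).trans (by rw [hρσ])
      κne := fun h h0 => one_ne_zero ((ρ h).map_eq_zero_iff.1 h0) }

end fq

end Cfsg.Agent.Omega.HOne.ModZ

end

section


/-!
# The `F`-space `M = W i / Z(W i)`: flag `e ≤ D' ≤ P`, the group `A`, the torus (II.a, II.0h1, all `q ≥ 4`)
-/

set_option autoImplicit false
set_option linter.unusedSectionVars false

namespace Cfsg.Agent.Omega.HOne.ModZ

open Subgroup Cfsg.Agent.Omega.BTwo Cfsg.Agent.Omega.Lie Cfsg.Agent.Omega.Lie.Quot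

universe u v w

variable {G : Type u} [Group G] {ι : Type w} {V : Subgroup G} {R : ι → Subgroup G} {i j : ι}
  {F : Type v} [Field F] {v : F → F → G} {w1 w2 t : F → G}

/-! ### Facts on `Y / D` -/

section Y

variable {N : Type u} [AddCommGroup N] [Module F N] {P1 P2 : G → N}

theorem char_of (b : BT V R) (c : Coord V R i j v w1 w2) : CharP F 2 := by
  have h2F : ∀ a : F, a + a = 0 := fun a => by
    have h := b.V_sq _ (c.v_mem a 0)
    have h1 := c.v_add a 0 a 0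
    rw [h] at h1
    exact (c.v_one _ _ h1).1
  have h : (2 : F) = 0 := by
    have := h2F 1
    rwa [one_add_one_eq_two] at this
  exact CharTwo.of_one_ne_zero_of_two_eq_zero one_ne_zero h

/-- `t a` acts on `Y / D` as `diag(a, a⁻¹)` -/
theorem t_Y [Finite F] [CharP F 2] (b : BT V R) (c : Coord V R i j v w1 w2) (τ : TorD V R i j v t)
    (y : YPair V R i j w1 w2 N P1 P2) {a : F} (ha : a ≠ 0) {x : G} (hx : x ∈ YY V R) :
    P1 (t a * x * (t a)⁻¹) = a • P1 x ∧ P2 (t a * x * (t a)⁻¹) = a⁻¹ • P2 x := by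
  obtain ⟨M', _, _, p1, p2, ym⟩ := c.exists_yMod b
  have hX : (hh w1 w2 a)⁻¹ * t a ∈ XX V R := mul_mem (inv_mem (c.hh_mem_X b a)) (τ.memX a ha)
  have hC : (hh w1 w2 a)⁻¹ * t a ∈ centralizer (V : Set G) := by
    rw [mem_centralizer_iff]
    intro z hz
    obtain ⟨β, γ, rfl⟩ := (c.mem_V z).1 hz
    have h1 := c.hh_act_inv ha (a * β) (a⁻¹ * γ)
    rw [inv_mul_cancel_left₀ ha, mul_inv_cancel_left₀ ha] at h1
    have h2 := τ.act a β γ ha
    have h3 : (hh w1 w2 a)⁻¹ * t a * v β γ * ((hh w1 w2 a)⁻¹ * t a)⁻¹ = v β γ := by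
      calc (hh w1 w2 a)⁻¹ * t a * v β γ * ((hh w1 w2 a)⁻¹ * t a)⁻¹
          = (hh w1 w2 a)⁻¹ * (t a * v β γ * (t a)⁻¹) * hh w1 w2 a := by group
        _ = _ := by rw [h2, h1]
    rw [mul_inv_eq_iff_eq_mul] at h3
    exact h3.symm
  have hcen := cen_Y b (Crd.of_coord c) ym hX hC hx
  set x0 := (hh w1 w2 a)⁻¹ * t a with hx0
  have hY := y.X_Y b c hX hx
  have h1 : P1 (x0 * x * x0⁻¹) = P1 x ∧ P2 (x0 * x * x0⁻¹) = P2 x := by
    have hcY := b.D_le_Y hcen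
    have hz := (y.mem_D _ hcY).1 hcen
    have e : x0 * x * x0⁻¹ = (x0 * x * x0⁻¹ * x⁻¹) * x := by group
    rw [e, y.mul1 _ hcY _ hx, y.mul2 _ hcY _ hx, hz.1, hz.2, zero_add, zero_add]
    exact ⟨rfl, rfl⟩
  have h2 := y.hh1 b c ha hY
  have e : t a * x * (t a)⁻¹ = hh w1 w2 a * (x0 * x * x0⁻¹) * (hh w1 w2 a)⁻¹ := by rw [hx0]; group
  rw [e, h2.1, h2.2, h1.1, h1.2]
  exact ⟨rfl, rfl⟩

/-- the subspace `Z(W i) D / D` of `U i / D` -/
def N0 [CharP F 2] (b : BT V R) (c : Coord V R i j v w1 w2) (y : YPair V R i j w1 w2 N P1 P2) : Submodule F N where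
  carrier := {n | ∃ z ∈ ZZ V R i, P1 z = n}
  zero_mem' := ⟨1, one_mem _, y.one1⟩
  add_mem' := by
    rintro _ _ ⟨z, hz, rfl⟩ ⟨z', hz', rfl⟩
    exact ⟨z * z', mul_mem hz hz', y.mul1 _ (UU_le_YY i (zU_le i hz)) _ (UU_le_YY i (zU_le i hz'))⟩
  smul_mem' := by
    rintro a _ ⟨z, hz, rfl⟩
    by_cases ha : a = 0
    · exact ⟨1, one_mem _, by rw [ha, zero_smul, y.one1]⟩
    · refine ⟨hh w1 w2 a * z * (hh w1 w2 a)⁻¹, ?_, (y.hh1 b c ha (UU_le_YY i (zU_le i hz))).1⟩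
      rw [← b.cj_ZZ (c.hh_R1 b ha)]
      exact conj_mem_cj hz

theorem mem_N0 [CharP F 2] {b : BT V R} {c : Coord V R i j v w1 w2} {y : YPair V R i j w1 w2 N P1 P2} {n : N} :
    n ∈ N0 b c y ↔ ∃ z ∈ ZZ V R i, P1 z = n := Iff.rfl

/-- `P2 (Z(W j)) = N₀` -/
theorem mem_N0' [CharP F 2] {b : BT V R} {c : Coord V R i j v w1 w2} {y : YPair V R i j w1 w2 N P1 P2} {n : N} :
    n ∈ N0 b c y ↔ ∃ z ∈ ZZ V R j, P2 z = n := by
  constructor
  · rintro ⟨z, hz, rfl⟩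
    refine ⟨nn w1 w2 1 * z * (nn w1 w2 1)⁻¹, ?_, ?_⟩
    · rw [← b.cj_ZZ (c.nn_R1 b one_ne_zero)]
      exact conj_mem_cj hz
    · rw [(y.nn1 b c one_ne_zero (UU_le_YY i (zU_le i hz))).2, inv_one, one_smul]
  · rintro ⟨z, hz, rfl⟩
    refine ⟨nn w1 w2 1 * z * (nn w1 w2 1)⁻¹, ?_, ?_⟩
    · rw [← b.cj_ZZ (c.nn_R2 b one_ne_zero)]
      exact conj_mem_cj hz
    · rw [(y.nn1 b c one_ne_zero (UU_le_YY j (zU_le j hz))).1, one_smul]

/-- `λ_d` kills `N₀` -/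
theorem lam_N0 [CharP F 2] (b : BT V R) (c : Coord V R i j v w1 w2) (y : YPair V R i j w1 w2 N P1 P2) {d : G}
    (hd : d ∈ DD V R) {n : N} (hn : n ∈ N0 b c y) : y.lam b c d n = 0 := by
  obtain ⟨z, hz, rfl⟩ := hn
  have h1 := y.lam_spec b c hd (UU_le_YY i (zU_le i hz))
  have h2 := z_comm hz (D_le_W V R i hd)
  rw [(y.mem_U1 z (UU_le_YY i (zU_le i hz))).1 (zU_le i hz), map_zero] at h1
  have h3 : d * z * d⁻¹ * z⁻¹ = 1 := by rw [← h2]; group
  rw [h3] at h1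
  exact (c.v_one _ _ h1.symm).1

/-- `[w, u] = ω(w) P2(u)` modulo `D` -/
theorem P1_comm [CharP F 2] (b : BT V R) (c : Coord V R i j v w1 w2) (y : YPair V R i j w1 w2 N P1 P2) {u x : G}
    (hu' : u ∈ UU V R j) (hx : x ∈ WW V (R i)) {s : F} (hs : ∀ β γ, x * v β γ * x⁻¹ = v (β + s * γ) γ) :
    u * x * u⁻¹ * x⁻¹ ∈ UU V R i ∧ P1 (u * x * u⁻¹ * x⁻¹) = s • P2 u := by
  have hu := UU_le_YY j hu'
  have hcm : u * x * u⁻¹ * x⁻¹ ∈ UU V R i := by
    have e : u * x * u⁻¹ * x⁻¹ = (x * u * x⁻¹ * u⁻¹)⁻¹ := by group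
    rw [e]
    exact inv_mem (b.WU' hx hu')
  refine ⟨hcm, ?_⟩
  have hxu : x * u⁻¹ * x⁻¹ ∈ YY V R := y.X_Y b c (W_le_X V R i hx) (inv_mem hu)
  have e : u * x * u⁻¹ * x⁻¹ = u * (x * u⁻¹ * x⁻¹) := by group
  have h3 : P1 (x * u⁻¹ * x⁻¹) = P1 (w1 s * u⁻¹ * (w1 s)⁻¹) := by
    have h4 := b.same hx (c.w1_mem s) (fun z hz => by
      obtain ⟨β, γ, rfl⟩ := (c.mem_V z).1 hz
      rw [hs, c.w1_act]) (inv_mem hu)
    have hwu : w1 s * u⁻¹ * (w1 s)⁻¹ ∈ YY V R := y.X_Y b c (W_le_X V R i (c.w1_mem s)) (inv_mem hu)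
    have h5 := ((y.mem_D _ (mul_mem hxu (inv_mem hwu))).1 h4).1
    rw [y.mul1 _ hxu _ (inv_mem hwu), y.inv1 hwu, ← sub_eq_add_neg, sub_eq_zero] at h5
    exact h5
  have hP1 : P1 u = 0 := (y.mem_U2 _ hu).1 hu'
  rw [e, y.mul1 _ hu _ hxu, hP1, zero_add, h3, y.w11 s _ (inv_mem hu), y.inv1 hu, y.inv2 hu, hP1, neg_zero,
    zero_add, smul_neg]
  have h6 : s • P2 u + s • P2 u = 0 := by
    rw [← two_smul F, CharTwo.two_eq_zero, zero_smul]
  exact neg_eq_of_add_eq_zero_left h6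

end Y

namespace Fq

variable {M : Type u} [AddCommGroup M] [Module F M] [DistribMulAction (HQ (R i)) M] {p : G → M}
  {f : M →ₗ[F] M →ₗ[F] F} {e : F →ₗ[F] M} {ω : M →ₗ[F] F} {σ : HQ (R i) →* RingAut F} {κ : HQ (R i) → F}

section one

variable (q : Fq V R i v M p f e ω σ κ) (c : Coord V R i j v w1 w2)
include q c

theorem hvW (β γ : F) : v β γ ∈ WW V (R i) := by
  have _ := q
  exact V_le_WW V (R i) (c.v_mem β γ)

theorem κ_unique {g : G} (hg : g ∈ normalizer (R i : Set G)) {a : F}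
    (h : ∀ β, g * v β 0 * g⁻¹ = v (a * β) 0) : κ (pr (R i) ⟨g, hg⟩) = a ∧ σ (pr (R i) ⟨g, hg⟩) = 1 := by
  have h1 : ∀ β, κ (pr (R i) ⟨g, hg⟩) * σ (pr (R i) ⟨g, hg⟩) β = a * β := fun β => by
    have h2 := q.R_act g hg β
    rw [h] at h2
    exact (c.v_inj h2).1.symm
  have h2 : κ (pr (R i) ⟨g, hg⟩) = a := by
    have := h1 1
    rwa [map_one, mul_one, mul_one] at this
  refine ⟨h2, RingEquiv.ext fun β => ?_⟩
  have h3 := h1 β
  rw [h2] at h3
  exact mul_left_cancel₀ (by rw [← h2]; exact q.κne _) h3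

/-- `C(R i)` acts `F`-linearly and isometrically -/
theorem H0_fix {h : HQ (R i)} (hh : h ∈ H0 R i) : κ h = 1 ∧ σ h = 1 := by
  obtain ⟨g, hg, hgC, rfl⟩ := mem_im.1 hh
  apply q.κ_unique c hg
  intro β
  rw [← mem_centralizer_iff.1 hgC _ ((c.mem_R1 _).2 ⟨β, rfl⟩), mul_inv_cancel_right, one_mul]

theorem H0_smul {h : HQ (R i)} (hh : h ∈ H0 R i) (a : F) (x : M) : h • (a • x) = a • (h • x) := by
  rw [q.semi, (q.H0_fix c hh).2]; rfl

theorem H0_isom {h : HQ (R i)} (hh : h ∈ H0 R i) (x x' : M) : f (h • x) (h • x') = f x x' := by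
  rw [q.act, (q.H0_fix c hh).2, (q.H0_fix c hh).1, one_mul]; rfl

theorem e_inj (b : BT V R) : Function.Injective e := by
  rw [injective_iff_map_eq_zero]
  intro γ h
  rw [← q.e_eq 0 γ, q.p_ker _ (q.hvW c 0 γ)] at h
  have h1 := b.cen_VW (c.v_mem 0 γ) h.2
  obtain ⟨β, hβ⟩ := (c.mem_R1 _).1 h1
  exact (c.v_inj hβ).2.symm

theorem mem_e {x : M} : x ∈ LinearMap.range e ↔ x ∈ q.toMZ.sb V := by
  constructor
  · rintro ⟨γ, rfl⟩
    rw [← q.e_eq 0 γ]
    exact q.toMZ.p_mem (q.hvW c 0 γ) (c.v_mem 0 γ)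
  · rintro ⟨z, hz, hzW, rfl⟩
    obtain ⟨β, γ, rfl⟩ := (c.mem_V z).1 hz
    exact ⟨γ, (q.e_eq β γ).symm⟩

theorem ω_w1 (s : F) : ω (p (w1 s)) = s := by
  have h := q.ω_eq _ (c.w1_mem s) 0 1
  rw [c.w1_act] at h
  have h1 := (c.v_inj h).1
  rw [mul_one, mul_one, zero_add, zero_add] at h1
  exact h1.symm

theorem mem_P {x : G} (hx : x ∈ WW V (R i)) : ω (p x) = 0 ↔ x ∈ UU V R i := by
  constructor
  · intro h
    refine mem_inf.2 ⟨hx, ?_⟩
    rw [mem_centralizer_iff]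
    intro z hz
    obtain ⟨β, γ, rfl⟩ := (c.mem_V z).1 hz
    have h1 := q.ω_eq x hx β γ
    rw [h, zero_mul, add_zero, mul_inv_eq_iff_eq_mul] at h1
    exact h1.symm
  · intro h
    have h1 := q.ω_eq x hx 0 1
    rw [← mem_centralizer_iff.1 (UU_le_cen i h) _ (c.v_mem 0 1), mul_inv_cancel_right] at h1
    have h2 := (c.v_inj h1).1
    rw [mul_one, zero_add] at h2
    exact h2.symm

theorem mem_P' {x : M} : ω x = 0 ↔ x ∈ q.toMZ.sb (UU V R i) := by
  obtain ⟨g, hg, rfl⟩ := q.p_surj x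
  rw [q.mem_P c hg, q.toMZ.p_mem_iff hg (zU_le i)]

theorem ωe (γ : F) : ω (e γ) = 0 := by
  rw [← q.e_eq 0 γ, q.mem_P c (q.hvW c 0 γ)]
  refine mem_inf.2 ⟨q.hvW c 0 γ, ?_⟩
  rw [mem_centralizer_iff]
  intro z hz
  obtain ⟨β', γ', rfl⟩ := (c.mem_V z).1 hz
  rw [← c.v_add, ← c.v_add, add_comm β', add_comm γ']

/-- elements of `C(V)` fix `e` and `ω` -/
theorem cenV_e {g : G} (hg : g ∈ normalizer (R i : Set G)) (h : g ∈ centralizer (V : Set G)) (γ : F) :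
    pr (R i) ⟨g, hg⟩ • e γ = e γ := by
  rw [← q.e_eq 0 γ, q.p_act g hg _ (q.hvW c 0 γ), ← mem_centralizer_iff.1 h _ (c.v_mem 0 γ), mul_inv_cancel_right]

theorem cenV_H0 {g : G} (hg : g ∈ normalizer (R i : Set G)) (h : g ∈ centralizer (V : Set G)) :
    pr (R i) ⟨g, hg⟩ ∈ H0 R i := by
  have _ := q
  refine mem_im.2 ⟨g, hg, ?_, rfl⟩
  rw [mem_centralizer_iff]
  intro z hz
  obtain ⟨β, rfl⟩ := (c.mem_R1 z).1 hz
  exact mem_centralizer_iff.1 h _ (c.v_mem β 0)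

theorem cenV_ω {g : G} (hg : g ∈ normalizer (R i : Set G)) (h : g ∈ centralizer (V : Set G)) (x : M) :
    ω (pr (R i) ⟨g, hg⟩ • x) = ω x := by
  have h1 := q.H0_isom c (q.cenV_H0 c hg h) x (e 1)
  rw [q.cenV_e c hg h, q.fe, q.fe, mul_one, mul_one] at h1
  exact h1

end one

section tor

variable (q : Fq V R i v M p f e ω σ κ) (c : Coord V R i j v w1 w2) (τ : TorD V R i j v t)
include q c τ

theorem t_fix (a : Fˣ) : κ (pr (R i) ⟨t a, τ.normR a.ne_zero⟩) = a ∧ σ (pr (R i) ⟨t a, τ.normR a.ne_zero⟩) = 1 := by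
  apply q.κ_unique c
  intro β
  rw [τ.act _ _ _ a.ne_zero, mul_zero]

theorem t_smul (a : Fˣ) (s : F) (x : M) :
    pr (R i) ⟨t a, τ.normR a.ne_zero⟩ • (s • x) = s • (pr (R i) ⟨t a, τ.normR a.ne_zero⟩ • x) := by
  rw [q.semi, (q.t_fix c τ a).2]; rfl

theorem t_f (a : Fˣ) (x x' : M) :
    f (pr (R i) ⟨t a, τ.normR a.ne_zero⟩ • x) (pr (R i) ⟨t a, τ.normR a.ne_zero⟩ • x') = a * f x x' := by
  rw [q.act, (q.t_fix c τ a).2, (q.t_fix c τ a).1]; rfl

theorem t_e (a : Fˣ) (γ : F) : pr (R i) ⟨t a, τ.normR a.ne_zero⟩ • e γ = (a : F)⁻¹ • e γ := by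
  rw [← LinearMap.map_smul e, ← q.e_eq 0 γ, q.p_act _ _ _ (q.hvW c 0 γ), τ.act _ _ _ a.ne_zero, mul_zero, q.e_eq, smul_eq_mul]

theorem t_ω (a : Fˣ) (x : M) : ω (pr (R i) ⟨t a, τ.normR a.ne_zero⟩ • x) = (a : F) ^ 2 * ω x := by
  have h1 := q.t_f c τ a x (e 1)
  rw [q.t_e c τ, map_smul, smul_eq_mul, q.fe, q.fe, mul_one, mul_one] at h1
  have h2 : ω (pr (R i) ⟨t a, τ.normR a.ne_zero⟩ • x) =
      (a : F) * ((a : F)⁻¹ * ω (pr (R i) ⟨t a, τ.normR a.ne_zero⟩ • x)) := by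
    rw [mul_inv_cancel_left₀ a.ne_zero]
  rw [h2, h1]
  ring

end tor

section flag

variable {N : Type u} [AddCommGroup N] [Module F N] {P1 P2 : G → N}
variable (q : Fq V R i v M p f e ω σ κ) (b : BT V R) (c : Coord V R i j v w1 w2) (τ : TorD V R i j v t)
  (y : YPair V R i j w1 w2 N P1 P2)
include q b c τ y

theorem t_D (a : Fˣ) {x : M} (hx : x ∈ q.toMZ.sb (DD V R)) :
    pr (R i) ⟨t a, τ.normR a.ne_zero⟩ • x - x ∈ LinearMap.range e := by
  obtain ⟨d, hd, hdW, rfl⟩ := hx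
  rw [q.toMZ.smul_sub _ hdW, q.mem_e c]
  exact q.toMZ.p_mem (MZ.comm_mem_W (τ.normR a.ne_zero) hdW) (b.XD (τ.memX _ a.ne_zero) hd)

/-- `x ∈ P`, `[x, t] ∈ e` ⟹ `x ∈ D'` -/
theorem mem_D_of [Finite F] [CharP F 2] {a : Fˣ} (ha : (a : F) ≠ 1) {x : M} (hx : ω x = 0)
    (h : pr (R i) ⟨t a, τ.normR a.ne_zero⟩ • x - x ∈ LinearMap.range e) : x ∈ q.toMZ.sb (DD V R) := by
  obtain ⟨u, hu, huW, rfl⟩ := (q.mem_P' c).1 hx
  obtain ⟨γ, hγ⟩ := h
  have huY := UU_le_YY i hu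
  rw [q.toMZ.smul_sub _ huW, ← q.e_eq 0 γ, q.toMZ.p_eq_iff (q.hvW c 0 γ) (MZ.comm_mem_W (τ.normR a.ne_zero) huW)] at hγ
  set z := v 0 γ * (t a * u * (t a)⁻¹ * u⁻¹)⁻¹ with hz
  have hV : v 0 γ ∈ DD V R := V_le_D V R (c.v_mem 0 γ)
  have e1 : t a * u * (t a)⁻¹ = z⁻¹ * v 0 γ * u := by rw [hz]; group
  have hzY : z⁻¹ ∈ YY V R := UU_le_YY i (zU_le i (inv_mem hγ))
  have hP := congrArg P1 e1
  rw [y.mul1 _ (mul_mem hzY (b.D_le_Y hV)) _ huY, y.mul1 _ hzY _ (b.D_le_Y hV),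
    ((y.mem_D _ (b.D_le_Y hV)).1 hV).1, add_zero, (t_Y b c τ y a.ne_zero huY).1] at hP
  have h2 : ((a : F) - 1) • P1 u ∈ N0 b c y := by
    rw [sub_smul, one_smul, hP, add_sub_cancel_right]
    exact ⟨_, inv_mem hγ, rfl⟩
  have h3 : P1 u ∈ N0 b c y := by
    have h4 := (N0 b c y).smul_mem ((a : F) - 1)⁻¹ h2
    rwa [smul_smul, inv_mul_cancel₀ (sub_ne_zero.2 ha), one_smul] at h4
  obtain ⟨z', hz', h5⟩ := h3
  have hz'U := zU_le i hz'
  have h6 : u * z'⁻¹ ∈ DD V R := by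
    rw [y.mem_D _ (mul_mem huY (inv_mem (UU_le_YY i hz'U))), y.mul1 _ huY _ (inv_mem (UU_le_YY i hz'U)),
      y.mul2 _ huY _ (inv_mem (UU_le_YY i hz'U)), y.inv1 (UU_le_YY i hz'U), y.inv2 (UU_le_YY i hz'U), h5,
      (y.mem_U1 _ huY).1 hu, (y.mem_U1 _ (UU_le_YY i hz'U)).1 hz'U]
    simp
  refine ⟨u * z'⁻¹, h6, D_le_W V R i h6, ?_⟩
  rw [q.toMZ.p_eq_iff (D_le_W V R i h6) huW]
  have e2 : u * z'⁻¹ * u⁻¹ = z'⁻¹ := by
    have h7 : Commute u z'⁻¹ := (mem_centralizer_iff.1 (inv_mem hz'.2 : z'⁻¹ ∈ centralizer (WW V (R i) : Set G)) u huW).symm.symm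
    rw [h7.eq, mul_inv_cancel_right]
  rw [e2]
  exact inv_mem hz'

end flag

section DS

variable {N : Type u} [AddCommGroup N] [Module F N] {P1 P2 : G → N} [Finite F] [CharP F 2]
variable (q : Fq V R i v M p f e ω σ κ) (b : BT V R) (c : Coord V R i j v w1 w2) (τ : TorD V R i j v t)
  (y : YPair V R i j w1 w2 N P1 P2) (hF : ∃ a : F, a ≠ 0 ∧ a ≠ 1)

/-- the subspace `D' = D Z(W i) / Z(W i)` -/
def DS : Submodule F M where
  carrier := {x | x ∈ q.toMZ.sb (DD V R)}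
  zero_mem' := (q.toMZ.sb (DD V R)).zero_mem
  add_mem' := fun h h' => (q.toMZ.sb (DD V R)).add_mem h h'
  smul_mem' := by
    intro s x hx
    obtain ⟨a, ha, ha1⟩ := hF
    refine q.mem_D_of b c τ y (a := Units.mk0 a ha) ha1 ?_ ?_
    · obtain ⟨d, hd, hdW, rfl⟩ := hx
      rw [map_smul, (q.mem_P c hdW).2 (b.D_le_U i hd), smul_zero]
    · obtain ⟨γ, hγ⟩ := q.t_D b c τ y (Units.mk0 a ha) hx
      refine ⟨s * γ, ?_⟩
      rw [q.t_smul c τ, ← smul_sub, ← hγ, ← smul_eq_mul, LinearMap.map_smul]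

theorem mem_DS {x : M} : x ∈ q.DS b c τ y hF ↔ x ∈ q.toMZ.sb (DD V R) := Iff.rfl

theorem e_mem_DS (γ : F) : e γ ∈ q.DS b c τ y hF := by
  rw [mem_DS, ← q.e_eq 0 γ]
  exact q.toMZ.p_mem (q.hvW c 0 γ) (V_le_D V R (c.v_mem 0 γ))

theorem DS_le {x : M} (hx : x ∈ q.DS b c τ y hF) : ω x = 0 := by
  obtain ⟨d, hd, hdW, rfl⟩ := hx
  exact (q.mem_P c hdW).2 (b.D_le_U i hd)

theorem DS_iff {a : Fˣ} (ha : (a : F) ≠ 1) {x : M} (hx : ω x = 0) : x ∈ q.DS b c τ y hF ↔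
    pr (R i) ⟨t a, τ.normR a.ne_zero⟩ • x - x ∈ LinearMap.range e :=
  ⟨fun h => q.t_D b c τ y a h, fun h => q.mem_D_of b c τ y ha hx h⟩

/-- the coordinate of `P / D'` -/
theorem exists_pi : ∃ π : LinearMap.ker ω →ₗ[F] (N ⧸ N0 b c y), Function.Surjective π ∧
    (∀ x : LinearMap.ker ω, π x = 0 ↔ (x : M) ∈ q.DS b c τ y hF) ∧
    (∀ u (hu : u ∈ UU V R i) (h : ω (p u) = 0), π ⟨p u, h⟩ = (N0 b c y).mkQ (P1 u)) ∧
    (∀ u (hu : u ∈ UU V R j) (x : M) (h : ω (pr (R i) ⟨u, b.cen_le_N i (UU_le_cen j hu)⟩ • x - x) = 0),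
      π ⟨_, h⟩ = ω x • (N0 b c y).mkQ (P2 u)) ∧
    ∀ (a : Fˣ) (x : LinearMap.ker ω) (h : ω (pr (R i) ⟨t a, τ.normR a.ne_zero⟩ • (x : M)) = 0),
      π ⟨_, h⟩ = (a : F) • π x := by
  have hU : ∀ u ∈ UU V R i, ω (p u) = 0 := fun u hu => (q.mem_P c (UU_le_WW i hu)).2 hu
  have hwd : ∀ u ∈ UU V R i, ∀ u' ∈ UU V R i, p u = p u' → (N0 b c y).mkQ (P1 u) = (N0 b c y).mkQ (P1 u') := by
    intro u hu u' hu' h
    have h1 := (q.toMZ.p_eq_iff (UU_le_WW i hu) (UU_le_WW i hu')).1 h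
    have hY := UU_le_YY i hu
    have hY' := UU_le_YY i hu'
    rw [Submodule.mkQ_apply, Submodule.mkQ_apply, Submodule.Quotient.eq]
    refine ⟨_, h1, ?_⟩
    rw [y.mul1 _ hY _ (inv_mem hY'), y.inv1 hY', sub_eq_add_neg]
  have key : ∀ x : LinearMap.ker ω, ∃ n : N ⧸ N0 b c y, ∀ u ∈ UU V R i, p u = x → (N0 b c y).mkQ (P1 u) = n := by
    rintro ⟨x, hx⟩
    obtain ⟨u, hu, huW, rfl⟩ := (q.mem_P' c).1 hx
    exact ⟨_, fun u' hu' h => hwd u' hu' u hu h⟩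
  choose π0 hπ0 using key
  have hadd : ∀ x x', π0 (x + x') = π0 x + π0 x' := by
    rintro ⟨x, hx⟩ ⟨x', hx'⟩
    obtain ⟨u, hu, huW, rfl⟩ := (q.mem_P' c).1 hx
    obtain ⟨u', hu', huW', rfl⟩ := (q.mem_P' c).1 hx'
    rw [← hπ0 ⟨p u, hx⟩ u hu rfl, ← hπ0 ⟨p u', hx'⟩ u' hu' rfl, ← map_add,
      ← y.mul1 u (UU_le_YY i hu) u' (UU_le_YY i hu')]
    refine (hπ0 _ _ (mul_mem hu hu') ?_).symm
    exact q.p_mul u huW u' huW'
  have hker : ∀ x : LinearMap.ker ω, π0 x = 0 ↔ (x : M) ∈ q.DS b c τ y hF := by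
    rintro ⟨x, hx⟩
    obtain ⟨u, hu, huW, rfl⟩ := (q.mem_P' c).1 hx
    rw [← hπ0 ⟨p u, hx⟩ u hu rfl, Submodule.mkQ_apply, Submodule.Quotient.mk_eq_zero]
    constructor
    · rintro ⟨z, hz, hz'⟩
      have hzU := zU_le i hz
      have hzY := UU_le_YY i hzU
      have huY := UU_le_YY i hu
      have h6 : u * z⁻¹ ∈ DD V R := by
        rw [y.mem_D _ (mul_mem huY (inv_mem hzY)), y.mul1 _ huY _ (inv_mem hzY),
          y.mul2 _ huY _ (inv_mem hzY), y.inv1 hzY, y.inv2 hzY, hz',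
          (y.mem_U1 _ huY).1 hu, (y.mem_U1 _ hzY).1 hzU]
        simp
      refine ⟨u * z⁻¹, h6, D_le_W V R i h6, ?_⟩
      rw [q.toMZ.p_eq_iff (D_le_W V R i h6) huW]
      have h7 : Commute u z⁻¹ := (mem_centralizer_iff.1 (inv_mem hz.2 : z⁻¹ ∈ centralizer (WW V (R i) : Set G)) u huW)
      rw [h7.eq, mul_inv_cancel_right]
      exact inv_mem hz
    · rintro ⟨d, hd, hdW, h⟩
      have h1 := (q.toMZ.p_eq_iff huW hdW).1 h.symm
      refine ⟨_, h1, ?_⟩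
      have hdY := b.D_le_Y hd
      rw [y.mul1 _ (UU_le_YY i hu) _ (inv_mem hdY), y.inv1 hdY, ((y.mem_D _ hdY).1 hd).1, neg_zero, add_zero]
  have hA : ∀ u (hu : u ∈ UU V R j) (x : M)
      (h : ω (pr (R i) ⟨u, b.cen_le_N i (UU_le_cen j hu)⟩ • x - x) = 0),
      π0 ⟨_, h⟩ = ω x • (N0 b c y).mkQ (P2 u) := by
    intro u hu x h
    obtain ⟨g, hg, rfl⟩ := q.p_surj x
    obtain ⟨h1, h2⟩ := P1_comm b c y hu hg (q.ω_eq g hg)
    rw [← map_smul, ← h2]
    exact (hπ0 _ _ h1 (q.toMZ.smul_sub _ hg).symm).symm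
  have hsurj : Function.Surjective π0 := by
    intro n
    obtain ⟨n, rfl⟩ := (N0 b c y).mkQ_surjective n
    obtain ⟨u, hu, h1, h2⟩ := y.surj n 0
    have hu' := (y.mem_U1 u hu).2 h2
    exact ⟨⟨p u, hU u hu'⟩, by rw [← hπ0 _ u hu' rfl, h1]⟩
  have hz0 : π0 0 = 0 := by
    have := hadd 0 0
    rw [add_zero] at this
    exact left_eq_add.1 this
  have hneg : ∀ x, π0 (-x) = - π0 x := fun x => by
    rw [eq_neg_iff_add_eq_zero, ← hadd, neg_add_cancel, hz0]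
  -- linearity
  have hsm : ∀ (s : F) (x : LinearMap.ker ω), π0 (s • x) = s • π0 x := by
    intro s x
    obtain ⟨n, hn⟩ := (N0 b c y).mkQ_surjective (π0 x)
    obtain ⟨u, huY, hu1, hu2⟩ := y.surj 0 n
    have hu := (y.mem_U2 u huY).2 hu1
    set g := pr (R i) ⟨u, b.cen_le_N i (UU_le_cen j hu)⟩ with hg
    have hgH : g ∈ H0 R i := q.cenV_H0 c _ (UU_le_cen j hu)
    have hgω : ∀ m, ω (g • m - m) = 0 := fun m => by
      rw [map_sub, q.cenV_ω c _ (UU_le_cen j hu), sub_self]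
    have h1 := hA u hu (p (w1 1)) (hgω _)
    rw [q.ω_w1 c, one_smul, hu2, hn] at h1
    have h2 := hA u hu (s • p (w1 1)) (hgω _)
    rw [map_smul, q.ω_w1 c, smul_eq_mul, mul_one, hu2, hn] at h2
    have h3 : ((x - ⟨_, hgω (p (w1 1))⟩ : LinearMap.ker ω) : M) ∈ q.DS b c τ y hF := by
      rw [← hker, sub_eq_add_neg, hadd, hneg, h1, add_neg_cancel]
    have h4 := (q.DS b c τ y hF).smul_mem s h3
    have h5 : π0 (s • (x - ⟨_, hgω (p (w1 1))⟩)) = 0 := by rw [hker]; exact h4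
    rw [smul_sub, sub_eq_add_neg, hadd, hneg] at h5
    have h6 : s • (⟨_, hgω (p (w1 1))⟩ : LinearMap.ker ω) = ⟨_, hgω (s • p (w1 1))⟩ := by
      apply Subtype.ext
      change s • (g • p (w1 1) - p (w1 1)) = g • (s • p (w1 1)) - s • p (w1 1)
      rw [q.H0_smul c hgH, smul_sub]
    rw [h6, h2, add_neg_eq_zero] at h5
    exact h5
  refine ⟨{ toFun := π0, map_add' := hadd, map_smul' := hsm }, hsurj, hker, fun u hu h => (hπ0 _ u hu rfl).symm, hA, ?_⟩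
  rintro a ⟨x, hx⟩ h
  change π0 _ = (a : F) • π0 _
  obtain ⟨u, hu, huW, rfl⟩ := (q.mem_P' c).1 hx
  have h1 : t a * u * (t a)⁻¹ ∈ UU V R i := by
    rw [← b.cj_UU (b.X_le_NV (τ.memX _ a.ne_zero)) (cj_eq_self_iff.2 (τ.normR a.ne_zero))]
    exact conj_mem_cj hu
  rw [← hπ0 ⟨p u, hx⟩ u hu rfl, ← map_smul, ← (t_Y b c τ y a.ne_zero (UU_le_YY i hu)).1]
  refine (hπ0 _ _ h1 ?_).symm
  exact (q.p_act _ _ _ huW).symm

end DS

section lam

variable {N : Type u} [AddCommGroup N] [Module F N] {P1 P2 : G → N} [Finite F] [CharP F 2]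
variable (q : Fq V R i v M p f e ω σ κ) (b : BTS V R) (c : Coord V R i j v w1 w2) (τ : TorD V R i j v t)
  (y : YPair V R i j w1 w2 N P1 P2) (hF : ∃ a : F, a ≠ 0 ∧ a ≠ 1)

include q b c y in
theorem lam_wd {d d' : G} (hd : d ∈ DD V R) (hd' : d' ∈ DD V R) (h : p d = p d') :
    y.lam b.toBT c d = y.lam b.toBT c d' := by
  have h1 := (q.toMZ.p_eq_iff (D_le_W V R i hd) (D_le_W V R i hd')).1 h
  have h2 : y.lam b.toBT c (d * d'⁻¹) = 0 := by
    rw [y.lam_eq_zero b.toBT c (mul_mem hd (inv_mem hd'))]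
    obtain ⟨a, ha, h3⟩ := b.cen_DW (mul_mem hd (inv_mem hd')) h1.2
    have h4 : a⁻¹ ∈ centralizer (YY V R : Set G) := by
      rw [mem_centralizer_iff]
      intro z hz
      exact (mem_centralizer_iff.1 (YY_le_cen hz) _ (inv_mem (b.R_le i ha))).symm
    have h5 : a * (d * d'⁻¹) ∈ centralizer (YY V R : Set G) := by
      rw [mem_centralizer_iff]
      intro z hz
      exact mem_centralizer_iff.1 h3.2 z (YY_le_XX hz)
    have h6 := mul_mem h4 h5
    rwa [inv_mul_cancel_left] at h6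
  have e1 : d = (d * d'⁻¹) * d' := by group
  rw [e1, y.lam_mul b.toBT c (mul_mem hd (inv_mem hd')) hd', h2, zero_add]

/-- `λ : D' → N*` -/
theorem exists_lam : ∃ Λ : q.DS b.toBT c τ y hF →ₗ[F] (N →ₗ[F] F),
    (∀ d (hd : d ∈ DD V R) (h : p d ∈ q.DS b.toBT c τ y hF), Λ ⟨p d, h⟩ = y.lam b.toBT c d) ∧
    (∀ x n, n ∈ N0 b.toBT c y → Λ x n = 0) ∧
    (∀ x, Λ x = 0 ↔ (x : M) ∈ LinearMap.range e) ∧
    (∀ u (hu : u ∈ UU V R j) (x : q.DS b.toBT c τ y hF),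
      pr (R i) ⟨u, b.cen_le_N i (UU_le_cen j hu)⟩ • (x : M) - x = e (Λ x (P2 u))) ∧
    (∀ (x : q.DS b.toBT c τ y hF) (x' : M) (u : G), u ∈ UU V R i → p u = x' → f x x' = Λ x (P1 u)) := by
  have key : ∀ x : q.DS b.toBT c τ y hF, ∃ l : N →ₗ[F] F, ∀ d ∈ DD V R, p d = x → y.lam b.toBT c d = l := by
    rintro ⟨x, d, hd, hdW, rfl⟩
    exact ⟨_, fun d' hd' h => q.lam_wd b c y hd' hd h⟩
  choose Λ hΛ using key
  have hadd : ∀ x x', Λ (x + x') = Λ x + Λ x' := by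
    rintro ⟨_, d, hd, hdW, rfl⟩ ⟨_, d', hd', hdW', rfl⟩
    rw [← hΛ ⟨p d, d, hd, hdW, rfl⟩ d hd rfl, ← hΛ ⟨p d', d', hd', hdW', rfl⟩ d' hd' rfl,
      ← y.lam_mul b.toBT c hd hd']
    exact (hΛ _ _ (mul_mem hd hd') (q.p_mul d hdW d' hdW')).symm
  have hA : ∀ u (hu : u ∈ UU V R j) (x : q.DS b.toBT c τ y hF),
      pr (R i) ⟨u, b.cen_le_N i (UU_le_cen j hu)⟩ • (x : M) - x = e (Λ x (P2 u)) := by
    rintro u hu ⟨_, d, hd, hdW, rfl⟩
    have huY := UU_le_YY j hu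
    rw [← hΛ ⟨p d, d, hd, hdW, rfl⟩ d hd rfl]
    change pr (R i) _ • p d - p d = _
    rw [q.toMZ.smul_sub _ hdW]
    have hP1 : P1 u = 0 := (y.mem_U2 _ huY).1 hu
    have h1 := y.lam_spec b.toBT c hd huY
    rw [hP1, map_zero] at h1
    have e1 : u * d * u⁻¹ * d⁻¹ = (d * u * d⁻¹ * u⁻¹)⁻¹ := by group
    rw [e1, h1, b.inv_eq (c.v_mem _ _), q.e_eq]
  have hsm : ∀ (s : F) x, Λ (s • x) = s • Λ x := by
    intro s x
    ext n
    obtain ⟨u, huY, hu1, hu2⟩ := y.surj 0 n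
    have hu := (y.mem_U2 u huY).2 hu1
    have h1 := hA u hu x
    have h2 := hA u hu (s • x)
    rw [hu2] at h1 h2
    apply q.e_inj c b.toBT
    rw [← h2, LinearMap.smul_apply, LinearMap.map_smul, ← h1]
    change pr (R i) _ • (s • (x : M)) - s • (x : M) = _
    rw [q.H0_smul c (q.cenV_H0 c _ (UU_le_cen j hu)), smul_sub]
  refine ⟨{ toFun := Λ, map_add' := hadd, map_smul' := hsm }, fun d hd h => (hΛ _ d hd rfl).symm, ?_, ?_, hA, ?_⟩
  · rintro ⟨x, d, hd, hdW, rfl⟩ n hn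
    change Λ _ n = 0
    rw [← hΛ ⟨p d, d, hd, hdW, rfl⟩ d hd rfl]
    exact lam_N0 b.toBT c y hd hn
  · rintro ⟨x, d, hd, hdW, rfl⟩
    change Λ _ = 0 ↔ p d ∈ LinearMap.range e
    rw [← hΛ ⟨p d, d, hd, hdW, rfl⟩ d hd rfl, y.lam_eq_zero b.toBT c hd, q.mem_e c]
    constructor
    · intro h
      obtain ⟨v', hv', h1⟩ := b.lam_inj hd (fun z hz => by
        rw [← mem_centralizer_iff.1 h z hz, mul_inv_cancel_right, mul_inv_cancel])
      refine ⟨v'⁻¹, inv_mem hv', V_le_WW V (R i) (inv_mem hv'), ?_⟩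
      rw [q.toMZ.p_eq_iff (V_le_WW V (R i) (inv_mem hv')) hdW]
      have h2 : (v'⁻¹ * d⁻¹)⁻¹ ∈ ZZ V R i := by
        have h3 : d * v' = v' * d := (mem_centralizer_iff.1 (b.D_le_cen hd) v' hv').symm
        rw [mul_inv_rev, inv_inv, inv_inv, h3]
        exact mem_inf.2 ⟨D_le_W V R i h1.1, cen_X_le i h1.2⟩
      have := inv_mem h2
      rwa [inv_inv] at this
    · rintro ⟨v', hv', hvW, h⟩
      have h1 := q.lam_wd b c y (V_le_D V R hv') hd h
      rw [y.lam_V b.toBT c hv'] at h1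
      exact (y.lam_eq_zero b.toBT c hd).1 h1.symm
  · rintro ⟨x, d, hd, hdW, rfl⟩ x' u hu rfl
    have huY := UU_le_YY i hu
    change f (p d) (p u) = Λ _ (P1 u)
    rw [← hΛ ⟨p d, d, hd, hdW, rfl⟩ d hd rfl]
    have h1 := y.lam_spec b.toBT c hd huY
    rw [(y.mem_U1 _ huY).1 hu, map_zero, q.f_eq d hdW u (UU_le_WW i hu)] at h1
    exact (c.v_inj h1).1

end lam

end Fq

end Cfsg.Agent.Omega.HOne.ModZ

end

section


/-!
# The eigenspaces of the torus and the action of `A` on `M = W / Z(W)`, `rad` allowed (abstract form, II.a and II.0h1)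

`Pre`: `e ≤ D ≤ P = ker ω`, `π : P / D ≅ N / N₀`, `Λ : D / e → (N / N₀)*`, `A k = a_k - 1`, `T` with eigenvalues
`a⁻¹, 1, a, a²`.  `Pre.exists_eig`: `P = e ⊕ M₀ ⊕ n(N)`, `[n_g, a_k] = s(g, k) + k#(g) e`, `T(g, k, h) = f(s(g, k), n_h)`
alternating.  (II.a: `N₀ = 0`, #14331; here `n` has the kernel `N₀`.)
-/

set_option autoImplicit false

namespace Cfsg.Agent.Omega.HOne.EigAbs

variable {F : Type*} [Field F] {M : Type*} [AddCommGroup M] [Module F M] {N : Type*} [AddCommGroup N] [Module F N]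

/-- the data -/
structure Pre (f : M →ₗ[F] M →ₗ[F] F) (e : F →ₗ[F] M) (ω : M →ₗ[F] F) (T : Fˣ → M →ₗ[F] M) (D : Submodule F M)
    (N0 : Submodule F N) (π : LinearMap.ker ω →ₗ[F] N ⧸ N0) (Λ : D →ₗ[F] N →ₗ[F] F) (A : N → M →ₗ[F] M) :
    Prop where
  four : ∃ a : Fˣ, (a : F) ≠ 1
  two : (2 : F) = 0
  alt : ∀ x, f x x = 0
  symm : ∀ x y, f x y = f y x
  fe : ∀ x γ, f x (e γ) = ω x * γ
  e_inj : ∀ γ, e γ = 0 → γ = 0
  ω1 : ∃ x, ω x = 1
  Te : ∀ a γ, T a (e γ) = (a : F)⁻¹ • e γ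
  Tf : ∀ a x y, f (T a x) (T a y) = a * f x y
  Tω : ∀ a x, ω (T a x) = (a : F) ^ 2 * ω x
  TT : ∀ a b x, T a (T b x) = T b (T a x)
  Dω : ∀ x ∈ D, ω x = 0
  eD : ∀ γ, e γ ∈ D
  TD : ∀ a, ∀ x ∈ D, ∃ γ, T a x - x = e γ
  DT : ∀ a : Fˣ, (a : F) ≠ 1 → ∀ x, ω x = 0 → (∃ γ, T a x - x = e γ) → x ∈ D
  fDD : ∀ x ∈ D, ∀ y ∈ D, f x y = 0
  πs : Function.Surjective π
  πk : ∀ x, π x = 0 ↔ (x : M) ∈ D
  πT : ∀ a (x : LinearMap.ker ω) (h : ω (T a (x : M)) = 0), π ⟨_, h⟩ = (a : F) • π x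
  Λ0 : ∀ x, ∀ k ∈ N0, Λ x k = 0
  Λe : ∀ x : D, Λ x = 0 → ∃ γ, (x : M) = e γ
  fΛ : ∀ (x : D) (y : LinearMap.ker ω) k, π y = N0.mkQ k → f x y = Λ x k
  Aω : ∀ k x, ω (A k x) = 0
  Aπ : ∀ k x, π ⟨A k x, Aω k x⟩ = ω x • N0.mkQ k
  AΛ : ∀ k (x : D), A k x = e (Λ x k)
  Ae : ∀ k γ, A k (e γ) = 0
  Af : ∀ k x y, f (x + A k x) (y + A k y) = f x y
  Aadd : ∀ k k' x, A (k + k') x = A k x + A k' x + A k (A k' x)
  AT : ∀ a k x, T a (A k x) = A ((a : F)⁻¹ • k) (T a x)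

/-- the eigenspaces and the formulas -/
structure Eig (f : M →ₗ[F] M →ₗ[F] F) (e : F →ₗ[F] M) (ω : M →ₗ[F] F) (T : Fˣ → M →ₗ[F] M) (D : Submodule F M)
    (N0 : Submodule F N) (π : LinearMap.ker ω →ₗ[F] N ⧸ N0) (A : N → M →ₗ[F] M)
    (M0 : Submodule F M) (n : N →ₗ[F] M) (s : N →ₗ[F] N →ₗ[F] M) (sh : N → N →ₗ[F] F) : Prop where
  mem_M0 : ∀ x, x ∈ M0 ↔ ∀ a, T a x = x
  n_T : ∀ a g, T a (n g) = (a : F) • n g
  n_surj : ∀ a : Fˣ, (a : F) ≠ 1 → ∀ x, T a x = (a : F) • x → ω x = 0 → ∃ g, n g = x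
  n_ker : ∀ g, n g = 0 ↔ g ∈ N0
  mem_D : ∀ x, x ∈ D ↔ ∃ c : F, ∃ d ∈ M0, x = e c + d
  mem_P : ∀ x, ω x = 0 ↔ ∃ c : F, ∃ d ∈ M0, ∃ g, x = e c + d + n g
  indep : ∀ (c : F), ∀ d ∈ M0, ∀ g, e c + d + n g = 0 → c = 0 ∧ d = 0 ∧ n g = 0
  n_π : ∀ g (h : ω (n g) = 0), π ⟨n g, h⟩ = N0.mkQ g
  s_mem : ∀ g k, s g k ∈ M0
  A_e : ∀ k γ, A k (e γ) = 0
  A_0 : ∀ k, ∀ d ∈ M0, A k d = e (f d (n k))
  A_1 : ∀ k g, A k (n g) = s g k + e (sh k g)
  A_top : ∀ k x, A k x - ω x • n k ∈ D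
  f_00 : ∀ d ∈ M0, ∀ d' ∈ M0, f d d' = 0
  f_11 : ∀ g g', f (n g) (n g') = 0
  ω_0 : ∀ d ∈ M0, ω d = 0
  ω_1 : ∀ g, ω (n g) = 0
  inj : ∀ d ∈ M0, (∀ g, f d (n g) = 0) → d = 0
  s_alt : ∀ g, s g g = 0
  T_23 : ∀ g a b, f (s g a) (n b) = f (s g b) (n a)
  T_13 : ∀ g a b, f (s g a) (n b) = f (s b a) (n g)
  T_alt : ∀ g a, f (s g a) (n a) = 0
  s_N0 : ∀ g, ∀ k ∈ N0, s g k = 0
  sh_add : ∀ a b g, sh (a + b) g = sh a g + sh b g + f (s g b) (n a)
  sh_smul : ∀ (l : F) a g, sh (l • a) g = l ^ 2 * sh a g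

namespace Pre

variable {f : M →ₗ[F] M →ₗ[F] F} {e : F →ₗ[F] M} {ω : M →ₗ[F] F} {T : Fˣ → M →ₗ[F] M} {D : Submodule F M}
  {N0 : Submodule F N} {π : LinearMap.ker ω →ₗ[F] N ⧸ N0} {Λ : D →ₗ[F] N →ₗ[F] F} {A : N → M →ₗ[F] M}
  (h : Pre f e ω T D N0 π Λ A)
include h

theorem aa (x : F) : x + x = 0 := by linear_combination x * h.two

theorem sub_inv_ne {a : F} (h0 : a ≠ 0) (h1 : a ≠ 1) : a - a⁻¹ ≠ 0 := by
  intro hc
  have h2 : a * a = 1 := by
    rw [sub_eq_zero] at hc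
    nth_rewrite 2 [hc]
    exact mul_inv_cancel₀ h0
  have h3 : (a - 1) * (a - 1) = 0 := by
    linear_combination h2 + (1 - a) * h.two
  exact h1 (sub_eq_zero.1 (mul_self_eq_zero.1 h3))

theorem inv_sub_ne {a : F} (h1 : a ≠ 1) : a⁻¹ - 1 ≠ 0 := by
  have _ := h
  intro hc
  apply h1
  rw [← inv_inv a, sub_eq_zero.1 hc, inv_one]

/-- `D = e ⊕ C_D(T)` -/
theorem exists_M0 {x : M} (hx : x ∈ D) : ∃ γ : F, ∀ a, T a (x - e γ) = x - e γ := by
  choose δ hδ using fun a => h.TD a x hx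
  obtain ⟨b, hb⟩ := h.four
  have hb' := h.inv_sub_ne hb
  have hT : ∀ a, T a x = x + e (δ a) := fun a => by rw [← hδ a]; abel
  have key : ∀ a : Fˣ, δ a * ((b : F)⁻¹ - 1) = δ b * ((a : F)⁻¹ - 1) := by
    intro a
    have h1 := h.TT a b x
    rw [hT b, hT a, map_add, map_add, hT a, hT b, h.Te, h.Te, ← LinearMap.map_smul e, ← LinearMap.map_smul e] at h1
    have h2 : e (δ a + (a : F)⁻¹ • δ b - (δ b + (b : F)⁻¹ • δ a)) = 0 := by
      rw [map_sub, map_add, map_add]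
      have h3 : x + (e (δ a) + e ((a : F)⁻¹ • δ b)) = x + (e (δ b) + e ((b : F)⁻¹ • δ a)) := by
        rw [← add_assoc, h1, add_assoc]
      rw [add_left_cancel h3, sub_self]
    have h3 := h.e_inj _ h2
    rw [smul_eq_mul, smul_eq_mul] at h3
    linear_combination -h3
  refine ⟨δ b * ((b : F)⁻¹ - 1)⁻¹, fun a => ?_⟩
  have h1 : δ a = δ b * ((b : F)⁻¹ - 1)⁻¹ * ((a : F)⁻¹ - 1) := by
    have h2 := key a
    field_simp at h2 ⊢
    linear_combination h2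
  rw [map_sub, hT a, h.Te, ← LinearMap.map_smul e, h1, add_sub_assoc, ← map_sub]
  rw [sub_eq_add_neg x, ← map_neg]
  congr 2
  rw [smul_eq_mul]
  ring

theorem e_M0 {γ : F} (hγ : ∀ a, T a (e γ) = e γ) : γ = 0 := by
  obtain ⟨a, ha⟩ := h.four
  have h1 := hγ a
  rw [h.Te, ← LinearMap.map_smul e, ← sub_eq_zero, ← map_sub] at h1
  have h2 := h.e_inj _ h1
  rw [smul_eq_mul] at h2
  have h3 : ((a : F)⁻¹ - 1) * γ = 0 := by linear_combination h2
  exact (mul_eq_zero.1 h3).resolve_left (h.inv_sub_ne ha)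

/-- `C_M(T) ≤ D` -/
theorem M0_le {x : M} (hx : ∀ a, T a x = x) : x ∈ D := by
  obtain ⟨a, ha⟩ := h.four
  have h1 := h.Tω a x
  rw [hx a] at h1
  have h2 : ω x = 0 := by
    have h3 : (a : F) * (((a : F) - (a : F)⁻¹) * ω x) = 0 := by
      have h4 : (a : F) * (a : F)⁻¹ = 1 := mul_inv_cancel₀ a.ne_zero
      linear_combination -h1 - ω x * h4
    have h4 := (mul_eq_zero.1 h3).resolve_left a.ne_zero
    exact (mul_eq_zero.1 h4).resolve_left (h.sub_inv_ne a.ne_zero ha)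
  exact h.DT a ha x h2 ⟨0, by rw [hx a, sub_self, map_zero]⟩

/-- the operator `(T - a⁻¹)(T - 1)` -/
theorem exists_n : ∃ n : N →ₗ[F] M, (∀ a g, T a (n g) = (a : F) • n g) ∧ (∀ g, ω (n g) = 0) ∧
    (∀ g (hg : ω (n g) = 0), π ⟨n g, hg⟩ = N0.mkQ g) ∧ (∀ g ∈ N0, n g = 0) := by
  obtain ⟨a, ha⟩ := h.four
  set k : F := ((a : F) - (a : F)⁻¹) * ((a : F) - 1) with hk
  have hk0 : k ≠ 0 := mul_ne_zero (h.sub_inv_ne a.ne_zero ha) (sub_ne_zero.2 ha)
  let L : M →ₗ[F] M := k⁻¹ • ((T a - (a : F)⁻¹ • LinearMap.id).comp (T a - LinearMap.id))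
  have hL : ∀ x, L x = k⁻¹ • (T a (T a x - x) - (a : F)⁻¹ • (T a x - x)) := fun x => rfl
  have hLD : ∀ x ∈ D, L x = 0 := by
    intro x hx
    obtain ⟨γ, hγ⟩ := h.TD a x hx
    rw [hL, hγ, h.Te, sub_self, smul_zero]
  have hLω : ∀ x, ω x = 0 → ω (L x) = 0 := by
    intro x hx
    rw [hL]
    simp only [map_smul, map_sub, h.Tω, hx, mul_zero, sub_self, smul_zero]
  have hTω0 : ∀ b x, ω x = 0 → ω (T b x) = 0 := fun b x hx => by rw [h.Tω, hx, mul_zero]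
  -- `(T b - b) P ≤ D`
  have hTD : ∀ b x, ω x = 0 → T b x - (b : F) • x ∈ D := by
    intro b x hx
    have h0 : ω (T b x - (b : F) • x) = 0 := by rw [map_sub, map_smul, hTω0 b x hx, hx, smul_zero, sub_zero]
    have h1 : π ⟨T b x - (b : F) • x, h0⟩ = 0 := by
      have e1 : (⟨T b x - (b : F) • x, h0⟩ : LinearMap.ker ω) =
          ⟨T b x, hTω0 b x hx⟩ - (b : F) • ⟨x, hx⟩ := rfl
      rw [e1, map_sub, map_smul]
      have h2 := h.πT b ⟨x, hx⟩ (hTω0 b x hx)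
      rw [h2, sub_self]
    exact (h.πk _).1 h1
  have hLT : ∀ b x, ω x = 0 → T b (L x) = (b : F) • L x := by
    intro b x hx
    have h1 := hLD _ (hTD b x hx)
    have h2 : L (T b x) = T b (L x) := by
      simp only [hL, map_smul, map_sub, h.TT b a]
    rw [map_sub, map_smul, h2, sub_eq_zero] at h1
    exact h1
  have hLπ : ∀ x (hx : ω x = 0), π ⟨L x, hLω x hx⟩ = π ⟨x, hx⟩ := by
    intro x hx
    -- `L x - x ∈ D`
    have h1 := hTD a x hx
    set d := T a x - (a : F) • x with hd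
    have e1 : T a x = (a : F) • x + d := by rw [hd]; abel
    obtain ⟨γ, hγ⟩ := h.TD a d h1
    have e2 : T a d = d + e γ := by rw [← hγ]; abel
    have e3 : T a (T a x - x) - (a : F)⁻¹ • (T a x - x) =
        k • x + ((a : F) • d + d + e γ - d - (a : F)⁻¹ • d) := by
      rw [e1]
      simp only [map_sub, map_add, map_smul]
      rw [e1, e2, hk]
      module
    have e4 : L x - x = k⁻¹ • ((a : F) • d + d + e γ - d - (a : F)⁻¹ • d) := by
      rw [hL, e3, smul_add, smul_smul, inv_mul_cancel₀ hk0, one_smul, add_sub_cancel_left]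
    have h2 : L x - x ∈ D := by
      rw [e4]
      exact D.smul_mem _ (D.sub_mem (D.sub_mem (D.add_mem (D.add_mem (D.smul_mem _ h1) h1) (h.eD γ)) h1)
        (D.smul_mem _ h1))
    have h3 : π (⟨L x, hLω x hx⟩ - ⟨x, hx⟩) = 0 := (h.πk _).2 h2
    rw [map_sub, sub_eq_zero] at h3
    exact h3
  obtain ⟨g, hg⟩ := LinearMap.exists_rightInverse_of_surjective π (LinearMap.range_eq_top.2 h.πs)
  have hg' : ∀ z, π (g z) = z := fun z => LinearMap.congr_fun hg z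
  let n : N →ₗ[F] M := L.comp ((LinearMap.ker ω).subtype.comp (g.comp N0.mkQ))
  have hn : ∀ z, n z = L (g (N0.mkQ z) : M) := fun z => rfl
  refine ⟨n, fun b z => hLT b _ (g _).2, fun z => hLω _ (g _).2, fun z hz => ?_, fun z hz => ?_⟩
  · exact (hLπ _ (g (N0.mkQ z)).2).trans (hg' _)
  · rw [hn]
    have h1 : N0.mkQ z = 0 := by rw [Submodule.mkQ_apply, Submodule.Quotient.mk_eq_zero]; exact hz
    rw [h1, map_zero]
    exact map_zero L

/-- **existence of the frame** -/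
theorem exists_eig : ∃ (M0 : Submodule F M) (n : N →ₗ[F] M) (s : N →ₗ[F] N →ₗ[F] M) (sh : N → N →ₗ[F] F),
    Eig f e ω T D N0 π A M0 n s sh := by
  obtain ⟨a, ha⟩ := h.four
  obtain ⟨n, hnT, hnω, hnπ, hn0⟩ := h.exists_n
  obtain ⟨m0, hm0⟩ := h.ω1
  let M0 : Submodule F M :=
    { carrier := {x | ∀ a, T a x = x}
      zero_mem' := fun a => map_zero _
      add_mem' := fun {x z} hx hz a => by rw [map_add, hx a, hz a]
      smul_mem' := fun l x hx a => by rw [map_smul, hx a] }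
  have hM0 : ∀ x, x ∈ M0 ↔ ∀ a, T a x = x := fun x => Iff.rfl
  have hM0D : ∀ d ∈ M0, d ∈ D := fun d hd => h.M0_le hd
  have hai := h.inv_sub_ne ha
  have hfm : ∀ γ, f m0 (e γ) = γ := fun γ => by rw [h.fe, hm0, one_mul]
  -- the `e`-coordinate on `D`
  let ce : M →ₗ[F] F := ((a : F)⁻¹ - 1)⁻¹ • ((f m0).comp (T a - LinearMap.id))
  have hce : ∀ x, ce x = ((a : F)⁻¹ - 1)⁻¹ * f m0 (T a x - x) := fun x => rfl
  have hce1 : ∀ γ, ce (e γ) = γ := by
    intro γ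
    rw [hce, h.Te, ← LinearMap.map_smul e, ← map_sub, hfm, smul_eq_mul]
    field_simp
  have hce0 : ∀ d ∈ M0, ce d = 0 := fun d hd => by rw [hce, hd a, sub_self, map_zero, mul_zero]
  have hdec : ∀ x ∈ D, x - e (ce x) ∈ M0 := by
    intro x hx
    obtain ⟨γ, hγ⟩ := h.exists_M0 hx
    have hx' : x = (x - e γ) + e γ := by abel
    have h1 : ce x = γ := by
      rw [hx', map_add, hce1, hce0 _ hγ, zero_add]
    rw [h1]
    exact hγ
  have memD : ∀ x, x ∈ D ↔ ∃ c : F, ∃ d ∈ M0, x = e c + d := by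
    intro x
    constructor
    · intro hx
      exact ⟨ce x, _, hdec x hx, by abel⟩
    · rintro ⟨c, d, hd, rfl⟩
      exact D.add_mem (h.eD c) (hM0D d hd)
  have ω0 : ∀ d ∈ M0, ω d = 0 := fun d hd => h.Dω d (hM0D d hd)
  have hωe : ∀ γ, ω (e γ) = 0 := fun γ => h.Dω _ (h.eD γ)
  have he0 : ∀ d ∈ M0, ∀ γ, f d (e γ) = 0 := fun d hd γ => by rw [h.fe, ω0 d hd, zero_mul]
  have he1 : ∀ g γ, f (n g) (e γ) = 0 := fun g γ => by rw [h.fe, hnω, zero_mul]
  -- independence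
  have hker : ∀ g, n g = 0 ↔ g ∈ N0 := by
    intro g
    refine ⟨fun h0 => ?_, hn0 g⟩
    have h1 := hnπ g (hnω g)
    have h2 : (⟨n g, hnω g⟩ : LinearMap.ker ω) = 0 := Subtype.ext h0
    rw [h2, map_zero, eq_comm, Submodule.mkQ_apply, Submodule.Quotient.mk_eq_zero] at h1
    exact h1
  have hindep : ∀ (c : F), ∀ d ∈ M0, ∀ g, e c + d + n g = 0 → c = 0 ∧ d = 0 ∧ n g = 0 := by
    intro c d hd g h0
    have h1 : n g ∈ D := by
      have : n g = -(e c + d) := (neg_eq_of_add_eq_zero_right h0).symm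
      rw [this]
      exact D.neg_mem (D.add_mem (h.eD c) (hM0D d hd))
    have h2 : n g = 0 := by
      have h3 := (h.πk ⟨n g, hnω g⟩).2 h1
      rw [hnπ, Submodule.mkQ_apply, Submodule.Quotient.mk_eq_zero] at h3
      exact hn0 g h3
    rw [h2, add_zero] at h0
    have h3 : c = 0 := by
      have h4 := congrArg ce h0
      rw [map_add, hce1, hce0 d hd, add_zero, map_zero] at h4
      exact h4
    rw [h3, map_zero, zero_add] at h0
    exact ⟨h3, h0, h2⟩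
  -- `P = e ⊕ M0 ⊕ n N`
  have hP : ∀ x, ω x = 0 ↔ ∃ c : F, ∃ d ∈ M0, ∃ g, x = e c + d + n g := by
    intro x
    constructor
    · intro hx
      obtain ⟨g, hg⟩ := N0.mkQ_surjective (π ⟨x, hx⟩)
      have h1 : x - n g ∈ D := by
        have h2 : π (⟨x, hx⟩ - ⟨n g, hnω g⟩) = 0 := by rw [map_sub, hnπ, hg, sub_self]
        exact (h.πk _).1 h2
      obtain ⟨c, d, hd, h2⟩ := (memD _).1 h1
      exact ⟨c, d, hd, g, by rw [← h2]; abel⟩
    · rintro ⟨c, d, hd, g, rfl⟩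
      rw [map_add, map_add, hωe, ω0 d hd, hnω, add_zero, add_zero]
  -- `A` on `D`
  have hAD : ∀ d ∈ D, ∀ k, A k d = e (f d (n k)) := by
    intro d hd k
    rw [h.AΛ k ⟨d, hd⟩, ← h.fΛ ⟨d, hd⟩ ⟨n k, hnω k⟩ k (hnπ k _)]
  have hAtop : ∀ k x, A k x - ω x • n k ∈ D := by
    intro k x
    have h0 : ω (A k x - ω x • n k) = 0 := by rw [map_sub, map_smul, h.Aω, hnω, smul_zero, sub_zero]
    have h1 : π ⟨_, h0⟩ = 0 := by
      have e1 : (⟨A k x - ω x • n k, h0⟩ : LinearMap.ker ω) = ⟨A k x, h.Aω k x⟩ - ω x • ⟨n k, hnω k⟩ := rfl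
      rw [e1, map_sub, map_smul, h.Aπ, hnπ, sub_self]
    exact (h.πk _).1 h1
  have hA1D : ∀ k g, A k (n g) ∈ D := by
    intro k g
    have := hAtop k (n g)
    rwa [hnω, zero_smul, sub_zero] at this
  let sfn : N → N → M := fun g b => A b (n g) - e (ce (A b (n g)))
  have hsf0 : ∀ g b, sfn g b ∈ M0 := fun g b => hdec _ (hA1D b g)
  have hdecA : ∀ b g, A b (n g) = sfn g b + e (ce (A b (n g))) := fun b g => (sub_add_cancel _ _).symm
  have hAA : ∀ b b' g, A b (A b' (n g)) = e (f (sfn g b') (n b)) := by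
    intro b b' g
    rw [hdecA b' g, map_add, h.Ae, add_zero, hAD _ (hM0D _ (hsf0 g b'))]
  have hqadd : ∀ b b' g, ce (A (b + b') (n g)) = ce (A b (n g)) + ce (A b' (n g)) + f (sfn g b') (n b) := by
    intro b b' g
    rw [h.Aadd, map_add, map_add, hAA, hce1]
  have hsadd : ∀ b b' g, sfn g (b + b') = sfn g b + sfn g b' := by
    intro b b' g
    change A (b + b') (n g) - e (ce (A (b + b') (n g))) = _
    rw [hqadd, h.Aadd, hAA, map_add, map_add]
    change _ = A b (n g) - e (ce (A b (n g))) + (A b' (n g) - e (ce (A b' (n g))))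
    abel
  have hTs : ∀ (c : Fˣ) b g, (c : F) • sfn g ((c : F)⁻¹ • b) = sfn g b ∧
      (c : F) ^ 2 * ce (A ((c : F)⁻¹ • b) (n g)) = ce (A b (n g)) := by
    intro c b g
    have h1 := h.AT c b (n g)
    rw [hnT c, map_smul] at h1
    have k1 : T c (A b (n g)) = sfn g b + (c : F)⁻¹ • e (ce (A b (n g))) := by
      have k := congrArg (T c) (hdecA b g)
      rw [map_add, hsf0 g b c, h.Te] at k
      exact k
    rw [k1, hdecA ((c : F)⁻¹ • b) g] at h1
    set β := ce (A b (n g))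
    set β' := ce (A ((c : F)⁻¹ • b) (n g))
    set x := sfn g b
    set x' := sfn g ((c : F)⁻¹ • b)
    have h2 : e ((c : F)⁻¹ * β - c * β') + (x - (c : F) • x') + n 0 = 0 := by
      rw [map_zero, add_zero, map_sub, ← smul_eq_mul, ← smul_eq_mul, LinearMap.map_smul, LinearMap.map_smul]
      have h3 : x + (c : F)⁻¹ • e β - (c : F) • (x' + e β') = 0 := sub_eq_zero.2 h1
      rw [smul_add] at h3
      rw [← h3]
      abel
    obtain ⟨h3, h4, -⟩ := hindep _ _ (M0.sub_mem (hsf0 _ _) (M0.smul_mem _ (hsf0 _ _))) _ h2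
    refine ⟨(sub_eq_zero.1 h4).symm, ?_⟩
    have hc : (c : F) * (c : F)⁻¹ = 1 := mul_inv_cancel₀ c.ne_zero
    linear_combination (-(c : F)) * h3 + β * hc
  have hssm : ∀ (l : F) g b, sfn g (l • b) = l • sfn g b := by
    intro l g b
    by_cases hl : l = 0
    · rw [hl, zero_smul, zero_smul]
      have h1 := hsadd 0 0 g
      rw [add_zero] at h1
      exact left_eq_add.1 h1
    · have h1 := (hTs (Units.mk0 l hl) (l • b) g).1
      change l • sfn g (l⁻¹ • l • b) = _ at h1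
      rw [smul_smul, inv_mul_cancel₀ hl, one_smul] at h1
      exact h1.symm
  have hqsm : ∀ (l : F) b g, ce (A (l • b) (n g)) = l ^ 2 * ce (A b (n g)) := by
    intro l b g
    by_cases hl : l = 0
    · have h1 := hqadd 0 0 g
      have h2 : sfn g 0 = 0 := by
        have h3 := hssm 0 g 0
        rw [smul_zero, zero_smul] at h3
        exact h3
      rw [add_zero, h2, map_zero, LinearMap.zero_apply, add_zero] at h1
      rw [hl, zero_smul, left_eq_add.1 h1]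
      ring
    · have h1 := (hTs (Units.mk0 l hl) (l • b) g).2
      change l ^ 2 * ce (A (l⁻¹ • l • b) (n g)) = _ at h1
      rw [smul_smul, inv_mul_cancel₀ hl, one_smul] at h1
      exact h1.symm
  let s : N →ₗ[F] N →ₗ[F] M := LinearMap.mk₂ F sfn
    (fun g g' b => by
      change A b (n (g + g')) - e (ce (A b (n (g + g')))) =
        (A b (n g) - e (ce (A b (n g)))) + (A b (n g') - e (ce (A b (n g'))))
      rw [map_add, map_add, map_add, map_add]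
      abel)
    (fun l g b => by
      change A b (n (l • g)) - e (ce (A b (n (l • g)))) = l • (A b (n g) - e (ce (A b (n g))))
      rw [map_smul, map_smul, map_smul, map_smul, smul_sub])
    (fun g b b' => hsadd b b' g) (fun l g b => hssm l g b)
  have hsf : ∀ g b, s g b = sfn g b := fun g b => rfl
  let sh : N → N →ₗ[F] F := fun b => ce.comp ((A b).comp n)
  have hsh : ∀ b g, sh b g = ce (A b (n g)) := fun b g => rfl
  have hinj : ∀ d ∈ M0, (∀ g, f d (n g) = 0) → d = 0 := by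
    intro d hd hd0
    have h1 : Λ ⟨d, hM0D d hd⟩ = 0 := by
      ext k
      rw [← h.fΛ ⟨d, hM0D d hd⟩ ⟨n k, hnω k⟩ k (hnπ k _)]
      exact hd0 k
    obtain ⟨γ, hγ⟩ := h.Λe _ h1
    have h2 : γ = 0 := h.e_M0 (fun b => by
      have := hd b
      rw [show d = e γ from hγ] at this
      exact this)
    rw [show d = e γ from hγ, h2, map_zero]
  have h00 : ∀ d ∈ M0, ∀ d' ∈ M0, f d d' = 0 := fun d hd d' hd' => h.fDD d (hM0D d hd) d' (hM0D d' hd')
  have h11 : ∀ g g', f (n g) (n g') = 0 := by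
    intro g g'
    have h1 := h.Tf a (n g) (n g')
    rw [hnT, hnT, map_smul, map_smul, LinearMap.smul_apply, smul_eq_mul, smul_eq_mul] at h1
    have h2 := mul_left_cancel₀ a.ne_zero h1
    have h3 : ((a : F) - 1) * f (n g) (n g') = 0 := by linear_combination h2
    exact (mul_eq_zero.1 h3).resolve_left (sub_ne_zero.2 ha)
  have hT23 : ∀ g b b', f (s g b) (n b') = f (s g b') (n b) := by
    intro g b b'
    have h1 := hqadd b' b g
    have h2 := hqadd b b' g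
    rw [add_comm b' b, h2] at h1
    have h3 : f (sfn g b) (n b') = f (sfn g b') (n b) := by linear_combination -h1
    exact h3
  have hT13 : ∀ g b b', f (s g b) (n b') = f (s b' b) (n g) := by
    intro g b b'
    have h1 := h.Af b (n g) (n b')
    rw [hdecA b g, hdecA b b', h11] at h1
    simp only [map_add, LinearMap.add_apply] at h1
    rw [h11, he1, h00 _ (hsf0 g b) _ (hsf0 b' b), he0 _ (hsf0 g b), h.symm (e _) (n b'), he1,
      h.symm (e _) (sfn b' b), he0 _ (hsf0 b' b), h.fe, hωe, zero_mul] at h1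
    rw [hsf, hsf, h.symm (sfn b' b) (n g)]
    have h2 : f (n g) (sfn b' b) + f (sfn g b) (n b') = 0 := by linear_combination h1
    have h3 := h.aa (f (n g) (sfn b' b))
    linear_combination h2 - h3
  have hTalt : ∀ g b, f (s g b) (n b) = 0 := by
    intro g b
    have h1 := hqadd b b g
    have h2 : b + b = (0 : F) • b := by
      rw [← two_smul F, h.two]
    rw [h2, hqsm, h.aa, zero_add] at h1
    rw [hsf, ← h1]
    ring
  have hsalt : ∀ g, s g g = 0 := by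
    intro g
    refine hinj _ (hsf0 g g) fun b => ?_
    rw [hT13]
    exact hTalt b g
  refine ⟨M0, n, s, sh, ?_⟩
  exact
    { mem_M0 := hM0
      n_T := hnT
      n_surj := by
        intro b hb x hx hω
        obtain ⟨c, d, hd, g, rfl⟩ := (hP x).1 hω
        rw [map_add, map_add, h.Te, hd b, hnT, smul_add, smul_add] at hx
        have h1 : e (((b : F)⁻¹ - b) * c) + (1 - (b : F)) • d + n 0 = 0 := by
          rw [map_zero, add_zero, ← smul_eq_mul, LinearMap.map_smul, sub_smul, sub_smul, one_smul]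
          have h2 := sub_eq_zero.2 hx
          rw [← h2]
          abel
        obtain ⟨h2, h3, -⟩ := hindep _ _ (M0.smul_mem _ hd) _ h1
        have h4 : c = 0 := (mul_eq_zero.1 h2).resolve_left (fun h5 => h.sub_inv_ne b.ne_zero hb (by
          linear_combination -h5))
        have h5 : d = 0 := (smul_eq_zero.1 h3).resolve_left (sub_ne_zero.2 (Ne.symm hb))
        exact ⟨g, by rw [h4, h5, map_zero, zero_add, zero_add]⟩
      n_ker := hker
      mem_D := memD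
      mem_P := hP
      indep := hindep
      n_π := hnπ
      s_mem := hsf0
      A_e := h.Ae
      A_0 := fun k d hd => hAD d (hM0D d hd) k
      A_1 := fun k g => hdecA k g
      A_top := hAtop
      f_00 := h00
      f_11 := h11
      ω_0 := ω0
      ω_1 := hnω
      inj := hinj
      s_alt := hsalt
      T_23 := hT23
      T_13 := hT13
      T_alt := hTalt
      s_N0 := fun g k hk => by
        refine hinj _ (hsf0 g k) fun b => ?_
        rw [hT23, hn0 k hk, map_zero]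
      sh_add := fun a b g => hqadd a b g
      sh_smul := fun l a g => hqsm l a g }

end Pre

end Cfsg.Agent.Omega.HOne.EigAbs

end
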