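import Cfsg.Agent.Mrg.Omega.HOne.OfKD
import Cfsg.Agent.Mrg.Omega.HOne.AlphaOf
import Cfsg.Agent.Mrg.Omega.HOneQ.NodeQUse
import Cfsg.Agent.Mrg.Omega.HOneQ.SwOf
import Cfsg.Agent.Mrg.Omega.HOneQ.OneNode
import Cfsg.Agent.Mrg.Omega.Lie.End.SepLone
import Cfsg.Agent.Mrg.Omega.Lie.End.UnMov


/-!
# II.0h1, split, `q ≥ 4`: the residues `(0, x)` of the moved nodes

`SBRes` : the residue of a node of type `(σ)` or `(β)`, given `SepG` (helper976, 591, 759, 843);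
`res_of` : the residues of all moved nodes, from the trichotomy `node_all`, if there is no node of type `(γ)` (BTS level);
`resT` : the socket `ResT`.
-/

set_option autoImplicit false
set_option linter.unusedSectionVars false

namespace Cfsg.Agent.Omega.HOne.ResOf

open Subgroup Cfsg Cfsg.Agent.ParSys Cfsg.Agent.Omega.BTwo Cfsg.Agent.Omega.Lie Cfsg.Agent.Omega.Lie.Quot
open Cfsg.Agent.Omega.IIa4 Cfsg.Agent.Omega.Lie.End.OfLay Cfsg.Agent.Omega.Lie.End Cfsg.Agent.Omega.HOneQ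

universe u v w

variable {G : Type u} [Group G] {ι : Type w} {V : Subgroup G} {R : ι → Subgroup G} {F : Type v} [Field F] {i j : ι}
  {v : F → F → G} {w1 w2 : F → G} {t : F → G}

variable {S : Subgroup (HQ (R i))} {α : Type} {K : α → Subgroup (HQ (R i))} {J : α → Type}
  {P : ∀ a, J a → Subgroup (K a)} {m : ∀ a, J a → J a → ℕ}

/-- the torus lies in `B` -/
theorem t_mem_BG (τ : TorD V R i j v t) {a : F} (ha : a ≠ 0) : t a ∈ BG K (TT τ) S := by
  refine mem_up.2 ⟨τ.normR ha, ?_⟩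
  exact mem_sup_right ((mem_TT τ).2 ⟨a, ha, rfl⟩)

/-- the torus normalises `P ⊓ C(R i)` -/
theorem t_norm [Finite G] [Finite α] (τ : TorD V R i j v t) (D : RS V R i j (TT τ) S K J P m) (x : Σ a, J a) {a : F}
    (ha : a ≠ 0) : t a ∈ normalizer ((PG K (TT τ) S P x ⊓ centralizer (R i : Set G) : Subgroup G) : Set G) := by
  have h1 : t a ∈ PG K (TT τ) S P x := D.preG.le x (t_mem_BG τ ha)
  have h2 : t a ∈ normalizer (R i : Set G) := τ.normR ha
  rw [← BTwo.cj_eq_self_iff, cj_inf, BTwo.cj_eq_self_iff.2 (le_normalizer h1),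
    BTwo.cj_eq_self_iff.2 (normalizer_le_normalizer_centralizer _ h2)]

/-- **The residue of a node of type `(σ)` or `(β)`** (output of `node_all`), given `SepG` -/
def SBRes (V : Subgroup G) (R : ι → Subgroup G) (i j : ι) (v : F → F → G) (t : F → G) (B U : Subgroup G) {I : Type}
    (P : I → Subgroup G) (x : I) : Prop :=
  ∀ m p' : G, Sw V R i j t m → Sc V R i j v t (P x ⊓ centralizer (R i : Set G)) p' →
    Sc.Lin V R i (P x ⊓ centralizer (R i : Set G)) v m p' →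
    (∀ w ∈ WW V (R i), ∀ y ∈ cj p' V, ∃ n ∈ WN V (P x ⊓ centralizer (R i : Set G)), ∃ z ∈ ZZ V R i,
      w * (m⁻¹ * y * m) * w⁻¹ * (m⁻¹ * y * m)⁻¹ = n * z) →
    (∀ w ∈ W0 V R i (P x ⊓ centralizer (R i : Set G)), ∃ ρ : F, ∀ y z r s',
      Sc.KX V R (P x ⊓ centralizer (R i : Set G)) v m w (p' * v y z * p'⁻¹) r s' → s' = z * ρ) →
    (∀ w ∈ WW V (R i), (∀ y ∈ W0 V R i (P x ⊓ centralizer (R i : Set G)), w * y = y * w) →
      w ∈ WN V (P x ⊓ centralizer (R i : Set G)) ⊔ ZZ V R i) →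
    (SepG 2 B U (P x) (Zero.P0 V R B) ∨ SepG 2 B U (Zero.P0 V R B) (P x)) →
    Res0 V R B U P x 4

/-- **The residues `(0, x)`** -/
theorem res_of [Finite G] [Finite F] [CharP F 2] [Finite α] (b : BTS V R) (c : Coord V R i j v w1 w2)
    (τ : TorD V R i j v t) (h4 : 4 ≤ Nat.card F) (hF : ∃ a : F, a ≠ 0 ∧ a ≠ 1)
    (hodd : Odd ((normalizer (V : Set G)).relIndex (normalizer (R i : Set G))))
    (hz : ∃ z ∈ ZZ V R j, z ∉ DD V R) (D : RS V R i j (TT τ) S K J P m) (hone : ∀ a, OneL (K a) (J a))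
    (hNV : ∀ (g : G) (hg : g ∈ normalizer (R i : Set G)),
      pr (R i) ⟨g, hg⟩ ∈ normalizer (AA V R i j : Set (HQ (R i))) → g ∈ normalizer (V : Set G))
    (hNA : ∀ g (hg : g ∈ normalizer (R i : Set G)),
      (∀ a ∈ AA V R i j, pr (R i) ⟨g, hg⟩ * a * (pr (R i) ⟨g, hg⟩)⁻¹ ∈ AA V R i j) → g ∈ normalizer (V : Set G))
    (hdd : ∀ z ∈ ZZ V R i, (∀ u ∈ UU V R j, u * z * u⁻¹ * z⁻¹ ∈ R i) → ∀ a, a ≠ 0 → t a * z * (t a)⁻¹ * z⁻¹ ∈ R i)
    (hg : ∀ x, ¬ GamT V (PG K (TT τ) S P x))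
    (sb : ∀ x : Σ a, J a, End.Moved (S.subgroupOf (K x.1)) (Tact (TT τ) (K x.1)) (P x.1 x.2) →
      SBRes V R i j v t (BG K (TT τ) S) (UG K S) (PG K (TT τ) S P) x)
    (x : Σ a, J a) (hx : ¬ PG K (TT τ) S P x ≤ normalizer (V : Set G)) :
    ∃ m0, 3 ≤ m0 ∧ Res0 V R (BG K (TT τ) S) (UG K S) (PG K (TT τ) S P) x m0 := by
  have hij := c.ne
  have hd := RealOf.datS D hF b c τ hij rfl hNV
  have hun : ∀ (a : α) (k : J a), Unmoved (S.subgroupOf (K a)) (Tact (TT τ) (K a)) (P a k) →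
      PG K (TT τ) S P ⟨a, k⟩ ≤ normalizer (V : Set G) := fun a k hu => D.unmoved_le' b.toBT hij hNV hu
  obtain ⟨M, _, _, p, mz⟩ := ModZ.exists_MZ b.toBT i
  obtain ⟨_, f, e, ω, σ, κ, q⟩ := mz.exists_fq hF b.toBT c τ
  obtain ⟨N, _, _, P1, P2, y⟩ := c.exists_yPair b.toBT
  -- two nodes
  obtain ⟨x', hxx'⟩ : ∃ x', x ≠ x' := by
    by_contra hcon
    push Not at hcon
    exact OneNode.false_of_unique q b c τ y hF h4 hodd hz D hone hNA fun z z' => (hcon z).symm.trans (hcon z')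
  have hl : Zero.LineHyp V R i v t := SepH.lineHyp_of_fq q b c τ hF fun hg h0 =>
    NormE.normE q b.toBT c τ hF hodd hdd hg h0
  have sep := D.sep_all_un b.toBT c τ hij hF hl hd hun hg hxx' hx
  have hm : End.Moved (S.subgroupOf (K x.1)) (Tact (TT τ) (K x.1)) (P x.1 x.2) :=
    (D.moved_iff_un b.toBT hij hun).2 hx
  have nd := End.rs_nd b.toBT D hij hd.BV hm
  obtain ⟨kk, hkk, sw, -⟩ := exists_sw hF b c τ
  rcases NodeQ.node_all b c τ hF hodd nd (fun a ha => t_norm τ D x ha) sw with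
    ⟨p', hp', h1, h2, -⟩ | ⟨p', sc, lin, hK2, linJ, dc⟩ | ⟨hreg, -⟩
  · exact End.rs_res0_alpha' b c hF D hd hm hp' h1 h2 sep
  · exact ⟨4, by norm_num, sb x hm _ p' sw sc lin hK2 linJ dc sep⟩
  · -- type `(γ)`
    exfalso
    have huniq := OneNode.uniq_of_reg b.toBT τ hij h4 D hNA x hx (fun u hu g hg hgV h3 => ?_)
    · exact hxx' (huniq x x')
    · -- `g ∈ P x` is `p b`, `p ∈ C(R i)`
      obtain ⟨p', hp', z, hz', rfl⟩ := End.exists_fact (D.preG.le x) up_le (D.PG_le b.toBT x) hg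
      have hzV := hd.BV hz'
      refine hreg u hu p' hp' (fun h => hgV (mul_mem h hzV)) ?_
      have e1 : p'⁻¹ * u * p' = z * ((p' * z)⁻¹ * u * (p' * z)) * z⁻¹ := by group
      rw [e1]
      exact mul_mem (mul_mem hzV h3) (inv_mem hzV)

end Cfsg.Agent.Omega.HOne.ResOf

namespace Cfsg.Agent.Omega.HOne.TLift

open Subgroup Cfsg Cfsg.Agent.ZN Cfsg.Agent.Omega.MinPar Cfsg.Agent.Omega.Frame
open Cfsg.Agent.Omega.NatPair (NatMod)
open Cfsg.Agent.Omega.BTwo Cfsg.Agent.Omega.Lie Cfsg.Agent.Omega.Lie.Quot Cfsg.Agent.Omega.Lie.End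
open Cfsg.Agent.Omega.Lie.End.OfLay
open Cfsg.Agent.Omega.HOneQ.SylIOf (TSyl)
open Cfsg.Agent.Omega.HOneQ.ECen (SylI)
open Cfsg.Agent.Omega.HOneQ Cfsg.Agent.Omega.HOne.ResOf

universe u

/-- **The residues of types `(σ)`, `(β)`** as a socket -/
def SBT : Prop :=
  ∀ (G : Type u) [Group G] [Finite G] (T : Subgroup G) (F : Type) [Field F] [Finite F] [CharP F 2] (N : Subgroup G)
    (M : NatMod F N), SitT T M → ∀ (i j : Pt M) (v : F → F → G) (w1 w2 t : F → G), Coord N (pt M) i j v w1 w2 →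
      ∀ (τ : Lie.TorD N (pt M) i j v t) (n : ℕ) (C : Fin n → Subgroup (HQ (pt M i))) (J : Fin n → Type)
        (Q : ∀ a, J a → Subgroup (C a)) (m : ∀ a, J a → J a → ℕ) (S : Subgroup (HQ (pt M i))),
        RS N (pt M) i j (TT τ) S C J Q m → Zero.Dat N (pt M) i (BG C (TT τ) S) (UG C S) →
          ∀ x : Σ a, J a, End.Moved (S.subgroupOf (C x.1)) (Tact (TT τ) (C x.1)) (Q x.1 x.2) →
            SBRes N (pt M) i j v t (BG C (TT τ) S) (UG C S) (PG C (TT τ) S Q) x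

/-- **`ResT`** -/
theorem resT (hk : KDT.{u}) (ga : GaT.{u}) (sb : SBT.{u}) : ResT.{u} := by
  intro G _ _ T F _ _ _ N M h hl hfr hnv i j v w1 w2 t c τ hT n C J Q m hfin hne D hone x hx _
  have I := h.sylI c τ hT
  have l := hl i j v w1 w2 t c τ _ I
  obtain ⟨HE, w, k⟩ := hk G T F N M h hl i j v w1 w2 t c τ _ I
  have hUD : ¬ UU N (pt M) j ≤ DD N (pt M) := by
    obtain ⟨z, hz, h'⟩ := h.exists_ZZ' (i := i) (k := j) c.ne
    exact fun hle => h' (hle (zU_le j hz))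
  have hdd := NormV.hd h.bts h.exists_ne c τ (h.odd i) I l.innC l.odd k hUD
  have hNA : ∀ g (hg : g ∈ normalizer (pt M i : Set G)),
      (∀ a ∈ AA N (pt M) i j, pr (pt M i) ⟨g, hg⟩ * a * (pr (pt M i) ⟨g, hg⟩)⁻¹ ∈ AA N (pt M) i j) →
        g ∈ normalizer (N : Set G) := fun g hg hA =>
    NormV.normV h.bts h.exists_ne c τ (h.odd i) I l.innC l.odd k (h.exists_ZZ' c.ne) hg hA
  have hd := RealOf.datS D h.exists_ne h.bts c τ c.ne rfl (hnv i j c.ne)
  exact res_of h.bts c τ h.four h.exists_ne (h.odd i) (h.exists_ZZ' c.ne) D hone (hnv i j c.ne) hNA hdd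
    (ga G T F N M h hl hfr hnv i j v w1 w2 t c τ hT n C J Q m hfin hne D hone)
    (fun x hm => sb G T F N M h i j v w1 w2 t c τ n C J Q m _ D hd x hm) x hx

end Cfsg.Agent.Omega.HOne.TLift
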