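import Cfsg.Agent.Mrg.Omega.HOne.ResOf
import Cfsg.Agent.Mrg.Omega.HOneQ.ResE
import Cfsg.Agent.Mrg.Omega.HOneQ.AptQuad
import Cfsg.Agent.Mrg.Omega.Lie.Nodes.Res0Mov
import Cfsg.Agent.Mrg.Omega.HOneQ.ResS
import Cfsg.Agent.Mrg.Omega.HOneQ.ResSM


/-!
# II.0h1, split, `q ≥ 4`: the residue of a node of type `(σ)` or `(β)` from the pieces (helper976, 591, 759, 843)

`sbRes_of` : `SBRes` at a moved node of `RS`, from the field `frat`.
-/

set_option autoImplicit false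
set_option linter.unusedSectionVars false

namespace Cfsg.Agent.Omega.HOne.ResOf

open Subgroup Cfsg Cfsg.Agent.ParSys Cfsg.Agent.Omega.BTwo Cfsg.Agent.Omega.Lie Cfsg.Agent.Omega.Lie.Quot
open Cfsg.Agent.Omega.IIa4 Cfsg.Agent.Omega.Lie.End.OfLay Cfsg.Agent.Omega.Lie.End Cfsg.Agent.Omega.HOneQ
open Cfsg.Agent.Omega.Lie.Nodes (QPx)

universe u v w

variable {G : Type u} [Group G] {ι : Type w} {V : Subgroup G} {R : ι → Subgroup G} {F : Type v} [Field F] {i j : ι}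
  {v : F → F → G} {w1 w2 : F → G} {t : F → G}

variable {S : Subgroup (HQ (R i))} {α : Type} {K : α → Subgroup (HQ (R i))} {J : α → Type}
  {P : ∀ a, J a → Subgroup (K a)} {m : ∀ a, J a → J a → ℕ}

/-- `QPx` for `P ⊓ C(R i)` -/
theorem qpx_cen [Finite G] [Finite α] (b : BT V R) (hij : i ≠ j) {T : Subgroup (HQ (R i))} (D : RS V R i j T S K J P m)
    (hd : Zero.Dat V R i (BG K T S) (UG K S)) (x : Σ a, J a) (hx : ¬ PG K T S P x ≤ normalizer (V : Set G)) :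
    QPx V R i (BG K T S) (UG K S) (PG K T S P x) (PG K T S P x ⊓ centralizer (R i : Set G)) where
  dat := hd
  X := D.nodeX b hij hd x hx
  QP := inf_le_left
  BQ := by
    intro y hy
    have h1 : y ∈ PG K T S P x := D.preG.le x hy
    have h2 : y ∈ normalizer (R i : Set G) := up_le h1
    rw [← BTwo.cj_eq_self_iff, cj_inf, BTwo.cj_eq_self_iff.2 (le_normalizer h1),
      BTwo.cj_eq_self_iff.2 (normalizer_le_normalizer_centralizer _ h2)]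
  PQ := D.PG_le b x

/-- **`SBRes` at a moved node**, from the field `frat` -/
theorem sbRes_of [Finite G] [Finite F] [CharP F 2] [Finite α] (b : BTS V R) (c : Coord V R i j v w1 w2)
    (τ : TorD V R i j v t) (hF : ∃ a : F, a ≠ 0 ∧ a ≠ 1)
    (hodd : Odd ((normalizer (V : Set G)).relIndex (normalizer (R i : Set G))))
    (D : RS V R i j (TT τ) S K J P m) (hd : Zero.Dat V R i (BG K (TT τ) S) (UG K S)) (x : Σ a, J a)
    (hm : End.Moved (S.subgroupOf (K x.1)) (Tact (TT τ) (K x.1)) (P x.1 x.2))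
    (frat : ∀ m p' : G, Sw V R i j t m →
      Sc V R i j v t (PG K (TT τ) S P x ⊓ centralizer (R i : Set G)) p' →
      Sc.Lin V R i (PG K (TT τ) S P x ⊓ centralizer (R i : Set G)) v m p' →
      (∀ w ∈ WW V (R i), ∀ y ∈ cj p' V, ∃ n ∈ WN V (PG K (TT τ) S P x ⊓ centralizer (R i : Set G)), ∃ z ∈ ZZ V R i,
        w * (m⁻¹ * y * m) * w⁻¹ * (m⁻¹ * y * m)⁻¹ = n * z) →
      (∀ w ∈ W0 V R i (PG K (TT τ) S P x ⊓ centralizer (R i : Set G)), ∃ ρ : F, ∀ y z r s',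
        Sc.KX V R (PG K (TT τ) S P x ⊓ centralizer (R i : Set G)) v m w (p' * v y z * p'⁻¹) r s' → s' = z * ρ) →
      (∀ w ∈ WW V (R i), (∀ y ∈ W0 V R i (PG K (TT τ) S P x ⊓ centralizer (R i : Set G)), w * y = y * w) →
        w ∈ WN V (PG K (TT τ) S P x ⊓ centralizer (R i : Set G)) ⊔ ZZ V R i) →
      (∀ p ∈ PW V R i (PG K (TT τ) S P x ⊓ centralizer (R i : Set G)), ∀ y ∈ cj p' V,
        ∃ n ∈ WN V (PG K (TT τ) S P x ⊓ centralizer (R i : Set G)), ∃ z ∈ ZZ V R i,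
          p * (m⁻¹ * y * m) * p⁻¹ * (m⁻¹ * y * m)⁻¹ = n * z) →
      ∀ X ≤ UG K S, (∀ u ∈ UG K S, ∃ y ∈ X, y⁻¹ * u ∈ Qk (BG K (TT τ) S) (PG K (TT τ) S P x) ∧
          y⁻¹ * u ∈ Qk (BG K (TT τ) S) (Zero.P0 V R (BG K (TT τ) S))) →
        ∀ u ∈ UG K S, ∃ y ∈ X, y⁻¹ * u ∈ Qk (BG K (TT τ) S)
          (PG K (TT τ) S P x ⊔ Zero.P0 V R (BG K (TT τ) S))) :
    SBRes V R i j v t (BG K (TT τ) S) (UG K S) (PG K (TT τ) S P) x := by
  intro m p' sw s lin hK2 linJ dc sep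
  have hx : ¬ PG K (TT τ) S P x ≤ normalizer (V : Set G) := D.not_le_of_moved b.toBT c.ne hm
  have Kx := qpx_cen b.toBT c.ne D hd x hx
  have o := s.okh b τ c Kx hF
  have hXV : XX V R ⊓ centralizer (V : Set G) ≤ YY V R := (XV.cen_X_V hF b c).le
  obtain ⟨M, _, _, p, mz⟩ := ModZ.exists_MZ b.toBT i
  obtain ⟨_, f, e, ω, σ, κ, q⟩ := mz.exists_fq hF b.toBT c τ
  obtain ⟨N, _, _, P1, P2, y⟩ := c.exists_yPair b.toBT
  have hS : ∀ p ∈ PW V R i (PG K (TT τ) S P x ⊓ centralizer (R i : Set G)), ∀ l ∈ cj p' V,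
      p * (m⁻¹ * l * m) * p⁻¹ * (m⁻¹ * l * m)⁻¹ ∈ WW V (R i) := by
    intro p hp l hl
    refine s.toNd.step b hF c τ hodd (Sc.conj_U' b sw (s.leU hl)) (fun p hp => ?_) p hp
    exact s.cen_M b c τ sw hF hK2 p hp l hl
  have H4 : ∀ p ∈ PW V R i (PG K (TT τ) S P x ⊓ centralizer (R i : Set G)), ∀ l ∈ cj p' V,
      ∃ n ∈ WN V (PG K (TT τ) S P x ⊓ centralizer (R i : Set G)), ∃ z ∈ ZZ V R i,
        p * (m⁻¹ * l * m) * p⁻¹ * (m⁻¹ * l * m)⁻¹ = n * z := fun p hp l hl =>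
    s.l2 b τ c q y sw hF lin hXV hK2 hS (fun w hw hc => dc w hw fun z hz => (hc z hz).symm) hp hl
  obtain ⟨m0, hm0, h1, h2⟩ := s.toNd.exists_swap b.toBT s.mem
  obtain ⟨a, ha, ha1⟩ := hF
  have A := s.aptH b τ c sw y lin hXV hK2 H4 o.OP o.OK o.PO o.OT o.two o.perf (fun g hg _ h => o.lift g hg h)
    hm0 h1 h2 ha ha1
  have hQP : PW V R i (PG K (TT τ) S P x ⊓ centralizer (R i : Set G)) ≤ PG K (TT τ) S P x :=
    (s.toNd.PW_le b.toBT).trans inf_le_left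
  exact (s.quadH b τ ⟨a, ha, ha1⟩ Kx).res0 b.toBT A hQP rfl (frat m p' sw s lin hK2 linJ dc H4) sep

end Cfsg.Agent.Omega.HOne.ResOf
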