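import Cfsg.Agent.Mrg.Omega.HOne.SameOf
import Cfsg.Agent.Mrg.Omega.HOneQ.ECen
import Cfsg.Agent.Mrg.Omega.Lie.CubSQ
import Cfsg.Agent.Mrg.Omega.BTwo.CoordNat
import Cfsg.Agent.Mrg.Omega.Lie.LemmaTComp
import Cfsg.Agent.Mrg.Omega.IId.M4.Entry


/-!
# The split chain, `q ≥ 4`, over a 2-group `T` (Sylow in `N(R i)`, not in `G`)

* `exists_at`, `exists_coord` : coordinates at two points from `BT V (pt M)` alone;
* `SitT T M` : the situation; `SitT.of_sit4` (II.0h1, `Same4`: `T = S`), `SitT.of_ent` (II.d, `WrMain4`: `T = stab M i`);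
* derived: `exists_coord`, `exists_torD`, `exists_T` (every point is normalised by a conjugate of `T`, `TSyl`), `odd`,
  `exists_ZZ`, `exists_ZZ'`, `known`, `lay`.
-/

set_option autoImplicit false
set_option linter.unusedSectionVars false

namespace Cfsg.Agent.Omega.HOne.TLift

open Subgroup Cfsg Cfsg.Agent.Lib.SL2Mat Cfsg.Agent.Omega.MinPar Cfsg.Agent.ZN
open Cfsg.Agent.Omega.NatPair (NatMod Mutual exists_conj dt exists_ap)
open Cfsg.Agent.Omega.BTwo Cfsg.Agent.Omega.Lie Cfsg.Agent.Omega.Lie.Quot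
open Cfsg.Agent.Omega.Frame (Ctx Cls)
open Cfsg.Agent.Omega.HOne.SameOf (Sit4)
open Cfsg.Agent.Omega.HOneQ.SylIOf (TSyl)
open Cfsg.Agent.Omega.HOneQ.ECen (SylI)
open Cfsg.Agent.Omega.Lie.LayerMain (KRows)
open Cfsg.Agent.Omega.IIa4 (Lay)

universe u v

/-! ### Coordinates from `BT V (pt M)` -/

section coord

variable {G : Type u} [Group G] {F : Type v} [Field F] {V : Subgroup G} (M : NatMod F V)

/-- `O₂(N(R i)) ≤ N(V)` -/
theorem Q_le_NV {ι : Type*} {V : Subgroup G} {R : ι → Subgroup G} (b : BT V R) (i : ι) :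
    QQ (R i) ≤ normalizer (V : Set G) := by
  have key : ∀ g ∈ QQ (R i), ∀ v ∈ V, g * v * g⁻¹ ∈ V := by
    intro g hg v hv
    have h1 := mul_mem (b.R_le i (b.QV i g hg v hv)) hv
    rwa [inv_mul_cancel_right] at h1
  intro g hg
  rw [mem_normalizer_iff]
  intro x
  refine ⟨key g hg x, fun hx => ?_⟩
  have h1 := key g⁻¹ (inv_mem hg) _ hx
  have e : g⁻¹ * (g * x * g⁻¹) * g⁻¹⁻¹ = x := by group
  rwa [e] at h1

theorem exists_at [Finite G] (b : BT V (pt M)) (i : Pt M) : ∃ h, At V (pt M i) h := by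
  obtain ⟨h, hh, hm⟩ := b.mt i
  have hle : ∀ x ∈ normalizer (pt M i : Set G), BTwo.cj x V ≤ normalizer (V : Set G) := by
    intro x hx
    refine le_trans ?_ (Q_le_NV b i)
    have h1 := cj_mono (g := x) (b.V_Q i)
    rwa [cj_O2, ← normalizer_cj, cj_eq_self_iff.2 hx] at h1
  have hcomm : ∀ x ∈ BTwo.cj h V, ∀ y ∈ BTwo.cj h V, x * y = y * x := by
    intro x hx y hy
    rw [mem_cj] at hx hy
    have h1 := b.V_comm _ hx _ hy
    calc x * y = h * ((h⁻¹ * x * h) * (h⁻¹ * y * h)) * h⁻¹ := by group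
      _ = h * ((h⁻¹ * y * h) * (h⁻¹ * x * h)) * h⁻¹ := by rw [h1]
      _ = y * x := by group
  obtain ⟨k₁, hk₁, -⟩ := b.third i i
  refine ⟨h, hh, ⟨hle h hh, ?_, ?_⟩, ?_, b.V_Q i⟩
  · -- `V ≤ N(V^h)`
    have h1 := cj_mono (g := h) (hle h⁻¹ (inv_mem hh))
    rwa [← normalizer_cj, cj_cj_inv] at h1
  · -- `[V, V^h] ≠ 1`
    obtain ⟨k₂, hk₂, hk₂'⟩ := b.third i k₁
    obtain ⟨⟨v, hv, hvk⟩, -⟩ := hm k₁ k₂ hk₁ hk₂
    by_contra hcon
    push Not at hcon
    apply hk₂'
    have h1 : BTwo.cj (h * v * h⁻¹) (pt M k₁) = pt M k₁ := by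
      ext x
      rw [mem_cj]
      have h2 : ∀ y ∈ V, (h * v * h⁻¹)⁻¹ * y * (h * v * h⁻¹) = y := by
        intro y hy
        have := hcon y hy _ (conj_mem_cj (g := h) hv)
        calc (h * v * h⁻¹)⁻¹ * y * (h * v * h⁻¹) = (h * v * h⁻¹)⁻¹ * (y * (h * v * h⁻¹)) := by group
          _ = y := by rw [this]; group
      constructor
      · intro hx
        have h3 := h2 _ (b.R_le k₁ hx)
        have h4 : x = (h * v * h⁻¹)⁻¹ * x * (h * v * h⁻¹) := by
          have h5 : (h * v * h⁻¹) * ((h * v * h⁻¹)⁻¹ * x * (h * v * h⁻¹)) * (h * v * h⁻¹)⁻¹ =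
              (h * v * h⁻¹)⁻¹ * x * (h * v * h⁻¹) := by
            have h6 := h2 _ (b.R_le k₁ hx)
            calc (h * v * h⁻¹) * ((h * v * h⁻¹)⁻¹ * x * (h * v * h⁻¹)) * (h * v * h⁻¹)⁻¹ =
                (h * v * h⁻¹) * ((h * v * h⁻¹)⁻¹ * ((h * v * h⁻¹)⁻¹ * x * (h * v * h⁻¹)) * (h * v * h⁻¹)) *
                  (h * v * h⁻¹)⁻¹ := by rw [h6]
              _ = (h * v * h⁻¹)⁻¹ * x * (h * v * h⁻¹) := by group
          rw [← h5]; group
        rw [h4]
        exact hx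
      · intro hx
        rw [h2 x (b.R_le k₁ hx)]
        exact hx
    exact (b.R_index (h1.symm.trans hvk)).symm
  · -- `V ∩ V^h = R i`
    apply le_antisymm
    · intro x hx
      by_contra hxi
      obtain ⟨l, hl⟩ := b.R_cov x hx.1
      have hli : l ≠ i := fun e => hxi (e ▸ hl)
      obtain ⟨k, hk, hkl⟩ := b.third i l
      obtain ⟨⟨v, hv, hvk⟩, -⟩ := hm l k hli hk
      have h1 : x ∈ pt M k := by
        rw [← hvk, mem_cj]
        have h2 := hcomm x hx.2 _ (conj_mem_cj (g := h) hv)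
        have h3 : (h * v * h⁻¹)⁻¹ * x * (h * v * h⁻¹) = x := by
          calc (h * v * h⁻¹)⁻¹ * x * (h * v * h⁻¹) = (h * v * h⁻¹)⁻¹ * (x * (h * v * h⁻¹)) := by group
            _ = x := by rw [h2]; group
        rw [h3]
        exact hl
      have h2 : x ∈ pt M l ⊓ pt M k := ⟨hl, h1⟩
      rw [b.R_inf l k (Ne.symm hkl), mem_bot] at h2
      exact hxi (h2 ▸ one_mem _)
    · refine le_inf (b.R_le i) ?_
      have h1 := cj_mono (g := h) (b.R_le i)
      rwa [cj_eq_self_iff.2 hh] at h1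

variable [Finite G] [Finite F] [CharP F 2]

theorem half (b : BT V (pt M)) {w u : Fin 2 → F} (hdt : dt w u = 1) {h : G} (a : At V (M.line w) h)
    (hW : WW V (M.line w) ≤ QQ (M.line w)) (hQ : QQ (M.line w) ≤ normalizer (V : Set G)) :
    ∃ w1 : F → G, (∀ t, w1 t ∈ WW V (M.line w)) ∧
      (∀ t b c, w1 t * M.e (b • w + c • u) * (w1 t)⁻¹ = M.e ((b + t * c) • w + c • u)) ∧
      ∀ x ∈ WW V (M.line w), ∃ t : F, ∀ b c, x * M.e (b • w + c • u) * x⁻¹ = M.e ((b + t * c) • w + c • u) := by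
  have _ := b
  obtain ⟨w', hw', hl, hU, hf, -⟩ := IId.BtsOf.data M a hQ
  have hw : w ≠ 0 := by
    rintro rfl
    unfold dt at hdt
    simp at hdt
  obtain ⟨k, hk⟩ := (M.line_eq_iff hw).1 hl
  obtain ⟨k', hk'⟩ := (M.line_eq_iff hw').1 hl.symm
  have h1 : ∀ t : F, ∃ x ∈ WW V (M.line w), ∀ b c : F,
      x * M.e (b • w + c • u) * x⁻¹ = M.e ((b + t * c) • w + c • u) := by
    intro t
    obtain ⟨B, hB, hBu⟩ := exists_tv hdt t
    obtain ⟨x, hx, hxB⟩ := hf B (by rw [hk', NatPair.ap_smul, hB])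
    refine ⟨x, cj_le_WW a.norm hx, fun b c => ?_⟩
    rw [hxB, ap_comb B hB hBu]
  choose w1 hw1 hw1' using h1
  refine ⟨w1, hw1, hw1', fun x hx => ?_⟩
  obtain ⟨B, hB, hxB⟩ := hU (hW hx)
  have hBw : NatPair.ap B w = w := by rw [hk, NatPair.ap_smul, hB]
  obtain ⟨t, ht⟩ := exists_tv' hdt hBw
  refine ⟨t, fun b c => ?_⟩
  rw [hxB, ap_comb B hBw ht]

/-- **coordinates** at two points, from `BT V (pt M)` -/
theorem exists_coord (b : BT V (pt M)) {i j : Pt M} (hij : i ≠ j) :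
    ∃ w u : Fin 2 → F, dt w u = 1 ∧ pt M i = M.line w ∧ pt M j = M.line u ∧ ∃ w1 w2 : F → G,
      Coord V (pt M) i j (fun a b => M.e (a • w + b • u)) w1 w2 := by
  obtain ⟨Ri, w, hw, hi⟩ := i
  obtain ⟨Rj, u', hu', hj⟩ := j
  have h1 : dt w u' ≠ 0 := by
    intro h1
    apply hij
    apply Subtype.ext
    show Ri = Rj
    rw [hi, hj]
    exact ((BTwo.line_eq_iff_dt M hw hu').2 h1).symm
  have h2 : dt w ((dt w u')⁻¹ • u') = 1 := by rw [NatPair.dt_smul, inv_mul_cancel₀ h1]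
  have hj' : Rj = M.line ((dt w u')⁻¹ • u') := by rw [hj, M.line_smul (inv_ne_zero h1)]
  set u := (dt w u')⁻¹ • u' with hu
  refine ⟨w, u, h2, hi, hj', ?_⟩
  have hdt : dt w u = 1 := h2
  have hdt' : dt u w = 1 := by
    have h1 : dt u w = - dt w u := by unfold dt; ring
    rw [h1, hdt, CharTwo.neg_eq]
  obtain ⟨h, ha⟩ := exists_at M b ⟨Ri, w, hw, hi⟩
  obtain ⟨h', ha'⟩ := exists_at M b ⟨Rj, u', hu', hj⟩
  have hWi := b.W_le_Q ⟨Ri, w, hw, hi⟩
  have hWj := b.W_le_Q ⟨Rj, u', hu', hj⟩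
  have hQi := Q_le_NV b ⟨Ri, w, hw, hi⟩
  have hQj := Q_le_NV b ⟨Rj, u', hu', hj⟩
  have ei : pt M ⟨Ri, w, hw, hi⟩ = M.line w := hi
  have ej : pt M ⟨Rj, u', hu', hj⟩ = M.line u := hj'
  rw [ei] at ha hWi hQi
  rw [ej] at ha' hWj hQj
  obtain ⟨w1, hw1, hw1', hw1''⟩ := half M b hdt ha hWi hQi
  obtain ⟨w2, hw2, hw2', hw2''⟩ := half M b hdt' ha' hWj hQj
  have hc : ∀ a b : F, a • w + b • u = b • u + a • w := fun a b => add_comm _ _
  refine ⟨w1, w2, ?_⟩
  exact
    { ne := hij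
      v_add := fun b c b' c' => by
        rw [← M.e_add]
        congr 1
        rw [add_smul, add_smul]; abel
      v_one := fun b c h1 => by
        rw [M.e_eq_one] at h1
        constructor
        · have h2 := congrArg (dt u) h1
          rw [NatPair.dt_add, NatPair.dt_smul, NatPair.dt_smul, BTwo.dt_self, hdt', mul_zero, mul_one,
            add_zero] at h2
          rw [h2]; unfold dt; simp
        · have h2 := congrArg (dt w) h1
          rw [NatPair.dt_add, NatPair.dt_smul, NatPair.dt_smul, BTwo.dt_self, hdt, mul_zero, mul_one,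
            zero_add] at h2
          rw [h2]; unfold dt; simp
      mem_V := fun x => by
        rw [M.mem_iff]
        constructor
        · rintro ⟨y, rfl⟩
          obtain ⟨α, β, rfl⟩ := NatPair.exists_comb (by rw [hdt]; exact one_ne_zero : dt w u ≠ 0) y
          exact ⟨α, β, rfl⟩
        · rintro ⟨α, β, rfl⟩
          exact ⟨_, rfl⟩
      mem_R1 := fun x => by
        rw [ei, M.mem_line]
        simp only [zero_smul, add_zero]
      mem_R2 := fun x => by
        rw [ej, M.mem_line]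
        simp only [zero_smul, zero_add]
      w1_mem := fun a => by rw [ei]; exact hw1 a
      w2_mem := fun a => by rw [ej]; exact hw2 a
      w1_act := hw1'
      w2_act := fun a b c => by
        have := hw2' a c b
        rw [hc, this, hc]
      W1_act := fun x hx => by
        rw [ei] at hx
        exact hw1'' x hx
      W2_act := fun x hx => by
        rw [ej] at hx
        obtain ⟨a, ha⟩ := hw2'' x hx
        refine ⟨a, fun b c => ?_⟩
        rw [hc, ha, hc] }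

end coord

/-! ### The situation -/

/-- **The situation of the split chain, `q ≥ 4`**: `T ≤ N(V)` (`V = N`) is a 2-group, Sylow in `N(R i)` for a point `R i`
which it normalises; `BTS V (pt M)`; `C(X) ≠ 1`. -/
structure SitT {G : Type u} [Group G] [Finite G] (T : Subgroup G) {F : Type} [Field F] [Finite F] [CharP F 2]
    {N : Subgroup G} (M : NatMod F N) : Prop where
  ctx : Ctx G
  two : IsPGroup 2 T
  le_N : T ≤ normalizer (N : Set G)
  exists_pt : ∃ i : Pt M, T ≤ normalizer (pt M i : Set G) ∧ Odd (T.relIndex (normalizer (pt M i : Set G)))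
  bts : BTS N (pt M)
  four : 4 ≤ Nat.card F
  CenX_ne : CenX N (pt M) ≠ ⊥

theorem SitT.of_sit4 {G : Type u} [Group G] [Finite G] {S : Sylow 2 G} {P : Subgroup G} {g : G} {F : Type} [Field F]
    [Finite F] [CharP F 2] {N : Subgroup G} {M : NatMod F N} (h : Sit4 S P g M) : SitT (S : Subgroup G) M where
  ctx := h.ctx
  two := S.isPGroup'
  le_N := h.le_N
  exists_pt := by
    obtain ⟨i, hi⟩ := HOneQ.exists_pt M S h.le_N
    exact ⟨i, hi, HOneQ.odd_relIndex S hi⟩
  bts := h.bts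
  four := h.four
  CenX_ne := h.CenX_ne

open Cfsg.Agent.Omega.IId.FourSide in
theorem SitT.of_ent {K : Cls.{u}} {G : Type u} [Group G] [Finite G] {S : Sylow 2 G} {P : Subgroup G} {F : Type}
    [Field F] [Finite F] [CharP F 2] {M : FFThm.NatK F (S : Subgroup G) P (zl (S : Subgroup G) P) ⊥ 2} {i j : Fin 2}
    {N : NatMod F (IId.fac M i)} (h : Ent K S P M i j N) : SitT (IId.stab M i) N where
  ctx := h.hyp.ctx
  two := h.four.T2
  le_N := IId.stab_normalizes M i
  exists_pt := by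
    refine ⟨⟨N.line ![1, 0], _, vec_ne, rfl⟩, ?_⟩
    have h1 : pt N ⟨N.line ![1, 0], _, vec_ne, rfl⟩ = IId.line M i := h.line
    rw [h1]
    refine ⟨IId.stab_normalizes_line M h.four.le i, ?_⟩
    rw [← Nat.not_even_iff_odd, even_iff_two_dvd]
    exact h.four.syl
  bts := h.bts
  four := h.four.q4
  CenX_ne := by
    intro h0
    have h1 : IId.fac M j ≤ ⊥ := h.cen.trans h0.le
    obtain ⟨v, hv, he⟩ := IId.exists_fac M j ![1, 0]
    rw [mem_bot.1 (h1 hv)] at he
    have h2 := congrFun he 0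
    have h3 : M.e 1 j = 0 := by
      rw [IId.e_one M]
      rfl
    rw [h3] at h2
    simp at h2

namespace SitT

variable {G : Type u} [Group G] [Finite G] {T : Subgroup G} {F : Type} [Field F] [Finite F] [CharP F 2]
  {N : Subgroup G} {M : NatMod F N} (h : SitT T M)
include h

theorem bt : BT N (pt M) := h.bts.toBT

theorem exists_ne : ∃ a : F, a ≠ 0 ∧ a ≠ 1 := HOneQ.exists_ne_one h.four

/-- coordinates at two points -/
theorem exists_coord {i j : Pt M} (hij : i ≠ j) :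
    ∃ (v : F → F → G) (w1 w2 : F → G), Coord N (pt M) i j v w1 w2 := by
  obtain ⟨w, u, -, -, -, w1, w2, c⟩ := TLift.exists_coord M h.bt hij
  exact ⟨_, w1, w2, c⟩

/-- the torus at two points -/
theorem exists_torD {i j : Pt M} {v : F → F → G} {w1 w2 : F → G} (c : Coord N (pt M) i j v w1 w2) :
    ∃ t : F → G, Lie.TorD N (pt M) i j v t :=
  Lie.coord_exists_torD h.bt c (h.bts.cen_W_isPGroup i)

theorem exists_pair : ∃ i j : Pt M, i ≠ j := h.bt.exists_pair

/-- `TSyl` at a point normalised by a conjugate of `T` -/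
theorem exists_T (i : Pt M) : ∃ T₁ : Subgroup G, TSyl N (pt M) i T₁ := by
  obtain ⟨k, hk, hk'⟩ := h.exists_pt
  obtain ⟨x, hx, ex⟩ := h.bt.trans_X_one k i
  have hxN : x ∈ normalizer (N : Set G) := h.bt.X_le_NV hx
  have e1 : normalizer (N : Set G) = BTwo.cj x (normalizer (N : Set G)) := by
    rw [← normalizer_cj, cj_eq_self_iff.2 hxN]
  have e2 : normalizer (pt M i : Set G) = BTwo.cj x (normalizer (pt M k : Set G)) := by
    rw [← normalizer_cj, ex]
  have hidx : ∀ A : Subgroup G, (BTwo.cj x T).relIndex (BTwo.cj x A) = T.relIndex A := by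
    intro A
    exact relIndex_map_map_of_injective T A (MulAut.conj x).injective
  refine ⟨BTwo.cj x T, ?_, ?_, ?_, ?_⟩
  · exact isPGroup_cj h.two
  · rw [e1]; exact cj_mono h.le_N
  · rw [e2]; exact cj_mono hk
  · rw [e2, hidx]; exact hk'

/-- `|N(R i) : N(R i) ∩ N(V)|` is odd -/
theorem odd (i : Pt M) : Odd ((normalizer (N : Set G)).relIndex (normalizer (pt M i : Set G))) := by
  obtain ⟨T₁, h1⟩ := h.exists_T i
  have h3 := h1.odd
  rw [← Nat.not_even_iff_odd, even_iff_two_dvd] at h3 ⊢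
  exact fun hd => h3 (hd.trans (relIndex_dvd_of_le_left _ h1.leV))

theorem exists_ZZ {i k : Pt M} (hik : i ≠ k) : ∃ z ∈ ZZ N (pt M) i, z ∉ QQ (pt M k) := by
  obtain ⟨v, w1, w2, c⟩ := h.exists_coord hik
  obtain ⟨T₁, h1⟩ := h.exists_T i
  exact HOneQ.exists_ZZ_of_coord h.bts c h.exists_ne h1.leR h1.leV h1.odd hik h.CenX_ne

/-- the hypothesis `hZ` of `HOne/SimpleOf.lean` -/
theorem exists_ZZ' {i k : Pt M} (hik : i ≠ k) : ∃ z ∈ ZZ N (pt M) k, z ∉ DD N (pt M) := by
  obtain ⟨z, hz, hzQ⟩ := h.exists_ZZ (i := k) (k := i) (Ne.symm hik)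
  exact ⟨z, hz, fun hD => hzQ ((h.bt.W_le_Q i) (D_le_W N (pt M) i hD))⟩

/-- the components of `N(R i)/O₂(N(R i))` are known -/
theorem known (i : Pt M) (K : Subgroup (HQ (pt M i))) (hK : IsComponent K) : IsKnownSimple' (K ⧸ center K) :=
  LayerKnown.known h.ctx.kproper (HOneQ.LayI.normalizer_ne_top h.bt h.ctx.simple h.ctx.nonComm i) hK.2

/-- `SylI` at `(i, j)` -/
theorem sylI {i j : Pt M} {v : F → F → G} {w1 w2 t : F → G} (c : Coord N (pt M) i j v w1 w2)
    (τ : TorD N (pt M) i j v t) {T₁ : Subgroup G} (h1 : TSyl N (pt M) i T₁) : SylI τ (SS (pt M) i T₁) :=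
  h1.sylI h.bt τ (CrdOf.crd c) c.ne

/-- **LAYER** at `(i, j)` -/
theorem lay (KR : KRows.{u}) {i j : Pt M} {v : F → F → G} {w1 w2 t : F → G} (c : Coord N (pt M) i j v w1 w2)
    (τ : TorD N (pt M) i j v t) {S : Subgroup (HQ (pt M i))} (I : SylI τ S) : Lay N (pt M) i j (TT τ) S :=
  HOneQ.LayI.lay KR h.bts c τ (h.odd i) h.four I fun K hK _ => h.known i K hK

end SitT

end Cfsg.Agent.Omega.HOne.TLift
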